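import Groth.Agent.KRR40.LFDim
import Groth.Agent.LimTop61.LocFreeStage
import Groth.Agent.DCK91.KFlatPull

/-!
Inverse image on the Grothendieck group of finite locally free modules.
-/

set_option autoImplicit false
set_option linter.style.haveILetI false
set_option backward.isDefEq.respectTransparency.types false

noncomputable section

universe u

open CategoryTheory CategoryTheory.Limits AlgebraicGeometry
open Groth.Agent.DCK91 Groth.Agent.QC70 Groth.Agent.QCPull72

namespace Groth.Agent.KRR40

variable {X Y : Scheme.{u}}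

/-- Inverse images of finite locally free modules are finite locally free. -/
theorem vb_pullback (f : X ⟶ Y) {M : Y.Modules}
    (h : FlatMod.IsFinLocFree M) : FlatMod.IsFinLocFree ((Scheme.Modules.pullback f).obj M) := by
  have := Props58.LocFree.isQuasicoherent_of_isFinLocFree h
  have := Props58.LocFree.isFP_of_isFinLocFree h
  have := QCPull72.isQuasicoherent_pullback f M
  refine FlatMor68.LocFree.isFinLocFree_of_projective_sections _ fun x => ?_
  obtain ⟨U, hU, hxU, -⟩ :=
    exists_isAffineOpen_mem_and_subset (show f x ∈ (⊤ : Y.Opens) from trivial)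
  obtain ⟨V, hV, hxV, hVU⟩ := exists_isAffineOpen_mem_and_subset (show x ∈ f ⁻¹ᵁ U from hxU)
  refine ⟨V, hV, hxV, ?_⟩
  let _ := (f.appLE U V hVU).hom.toAlgebra
  obtain ⟨E, -⟩ := LimTop61.exists_baseChange_equiv f M hU hV hVU
  have := Props58.LocFree.projective_sections h hU
  have := Props58.LocFree.finitePresentation_sections M hU
  exact ⟨Module.Projective.of_equiv E.symm, Module.Finite.equiv E.symm⟩

/-- Exactness on stalks. -/
lemma shortExact_of_stalks (S : ShortComplex X.Modules) (h : ∀ x : X, (S.map (SP x)).ShortExact) :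
    S.ShortExact := by
  have hm : Mono S.f := by
    rw [Preadditive.mono_iff_cancel_zero]
    intro P g hg
    rw [FlatMor68.PullbackDescent.zero_iff]
    intro x z
    haveI : Mono ((SP x).map S.f) := (h x).mono_f
    have h0 : (SP x).map g = 0 := by
      rw [← cancel_mono ((SP x).map S.f), ← Functor.map_comp, hg, Functor.map_zero, zero_comp]
    rw [← SP_map_apply, h0]
    rfl
  have he : Epi S.g := by
    rw [Preadditive.epi_iff_cancel_zero]
    intro P g hg
    rw [FlatMor68.PullbackDescent.zero_iff]
    intro x z
    haveI : Epi ((SP x).map S.g) := (h x).epi_g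
    have h0 : (SP x).map g = 0 := by
      rw [← cancel_epi ((SP x).map S.g), ← Functor.map_comp, hg, Functor.map_zero, comp_zero]
    rw [← SP_map_apply, h0]
    rfl
  have hex : S.Exact := by
    rw [ShortComplex.exact_iff_isZero_homology]
    refine isZero_of_stalks fun x => ?_
    exact IsZero.of_iso ((ShortComplex.exact_iff_isZero_homology _).1 (h x).exact)
      (S.mapHomologyIso (SP x)).symm
  exact { exact := hex }

/-- A short exact sequence ending in a finite locally free module stays exact under inverse image. -/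
theorem shortExact_pullback (f : X ⟶ Y) {S : ShortComplex Y.Modules} (hS : S.ShortExact)
    (h₃ : FlatMod.IsFinLocFree S.X₃) : (S.map (Scheme.Modules.pullback f)).ShortExact := by
  refine shortExact_of_stalks _ fun x => ?_
  have hy := hS.map_of_exact (SP (f x))
  haveI : Projective (S.map (SP (f x))).X₃ :=
    (projective_iff_hasProjectiveDimensionLE_zero _).mpr (pd_zero_of_isFinLocFree h₃ (f x))
  haveI : (extF f x).Additive := (ModuleCat.extendRestrictScalarsAdj.{u, u, u} (f.stalkMap x).hom).left_adjoint_additive
  have h2 := (hy.splittingOfProjective.map (extF f x)).shortExact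
  exact ShortComplex.shortExact_of_iso (S.mapNatIso (pullStalkIso f x)) h2

/-- Inverse image on the Grothendieck group. -/
def pullK (f : X ⟶ Y) : SGA6.Kvb Y →+ SGA6.Kvb X :=
  QuotientAddGroup.lift _
    (FreeAbelianGroup.lift fun E : Subtype (KRR.vbP Y) =>
      (KRR.cl X ((Scheme.Modules.pullback f).obj E.1) : SGA6.Kvb X))
    (by
      rw [KZero.relSub, AddSubgroup.closure_le]
      rintro _ ⟨S, h₁, h₂, h₃, hS, rfl⟩
      have h := K0Res3.cls_add (P := KRR.vbP X) (S.map (Scheme.Modules.pullback f))
        (shortExact_pullback f hS h₃) (vb_pullback f h₁) (vb_pullback f h₂) (vb_pullback f h₃)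
      simp only [SetLike.mem_coe, AddMonoidHom.mem_ker, map_sub, FreeAbelianGroup.lift_apply_of]
      rw [sub_sub, sub_eq_zero]
      exact h)

lemma pullK_cl (f : X ⟶ Y) {E : Y.Modules} (hE : FlatMod.IsFinLocFree E) :
    pullK f (KRR.cl Y E) = KRR.cl X ((Scheme.Modules.pullback f).obj E) := by
  rw [KRR.cl, show KZero.clSub (KRR.vbP Y) E = _ from K0Res3.cls_eq (P := KRR.vbP Y) hE]
  exact FreeAbelianGroup.lift_apply_of _ _

lemma hom_ext_cl {A : Type*} [AddCommGroup A] {g g' : SGA6.Kvb X →+ A}
    (h : ∀ E : X.Modules, FlatMod.IsFinLocFree E → g (KRR.cl X E) = g' (KRR.cl X E)) : g = g' := by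
  refine QuotientAddGroup.addMonoidHom_ext _ (FreeAbelianGroup.lift_ext _ _ fun E => ?_)
  have h0 := h E.1 E.2
  rw [KRR.cl, show KZero.clSub (KRR.vbP X) E.1 = _ from K0Res3.cls_eq (P := KRR.vbP X) E.2] at h0
  exact h0

end Groth.Agent.KRR40
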