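import Groth.Agent.RD97.LES
import Groth.Agent.Amp73.PullTensor
import Groth.Agent.EGA73.VeryAmplePnAmple
import Groth.Agent.GSS45.SchemeSS
import Groth.Agent.DCK91.StalkTensorNat
import Groth.Agent.KRR40.Pull
import Groth.Prelude.Def_KRR
import Mathlib.RingTheory.Flat.CategoryTheory

/-!
Twists and the long exact sequence of higher direct images.
-/

set_option autoImplicit false
set_option linter.style.haveILetI false
set_option backward.isDefEq.respectTransparency.types false

noncomputable section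

universe u

open CategoryTheory CategoryTheory.Limits AlgebraicGeometry MonoidalCategory
open Groth.Agent.DCK91

namespace Groth.Agent.KRR40

variable {X : Scheme.{u}}

/-- The stalk functor of `M ⊗ -`. -/
def tensorStalkIso (M : X.Modules) (x : X) :
    SP x ⋙ (curriedTensor (ModuleCat.{u} (X.presheaf.stalk x))).obj ((SP x).obj M) ≅
      (DCoh.tensorBi.obj M) ⋙ SP x :=
  NatIso.ofComponents (fun N => asIso (tensorStalk x M N)) fun {_ _} g => tensorStalk_right x M g

/-- Tensoring with a module with flat stalks preserves short exact sequences. -/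
theorem shortExact_tensor {M : X.Modules}
    (hM : ∀ x : X, Module.Flat (X.presheaf.stalk x) (M.presheaf.stalk x)) {S : ShortComplex X.Modules}
    (hS : S.ShortExact) : (S.map (DCoh.tensorBi.obj M)).ShortExact := by
  refine shortExact_of_stalks _ fun x => ?_
  haveI : Module.Flat (X.presheaf.stalk x) ((SP x).obj M) := hM x
  have hy := hS.map_of_exact (SP x)
  haveI : PreservesFiniteLimits (tensorLeft ((SP x).obj M)) :=
    (Module.Flat.iff_preservesFiniteLimits_tensorLeft _).1 inferInstance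
  have h2 : ((S.map (SP x)).map (tensorLeft ((SP x).obj M))).ShortExact := by
    haveI : PreservesFiniteColimits (tensorLeft ((SP x).obj M)) :=
      PreservesColimitsOfSize.preservesFiniteColimits _
    exact hy.map_of_exact _
  exact ShortComplex.shortExact_of_iso (S.mapNatIso (tensorStalkIso M x)) h2

lemma tensor_obj (M N : X.Modules) : (DCoh.tensorBi.obj M).obj N = CohB1.tensorMod M N := rfl

variable (n : ℕ) (T : Scheme.{u})

lemma isInvertible_twistOver (d : ℤ) : PicF.IsInvertible (Twist.twistOver n T d) :=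
  Amp73.isInvertible_pullback _ (EGA73.isInvertible_twist
    (EGA73.ProjUniv.irrelevant_eq_span_one (EGA73.PolySym.linForm_mem n (ULift.{u} ℤ))
      (EGA73.PolySym.isSymmetricAlgebra_linForm n (ULift.{u} ℤ))) d)

lemma nonempty_twistOver_add (a b : ℤ) :
    Nonempty (CohB1.tensorMod (Twist.twistOver n T a) (Twist.twistOver n T b) ≅ Twist.twistOver n T (a + b)) := by
  have hgen := EGA73.ProjUniv.irrelevant_eq_span_one (EGA73.PolySym.linForm_mem n (ULift.{u} ℤ))
      (EGA73.PolySym.isSymmetricAlgebra_linForm n (ULift.{u} ℤ))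
  obtain ⟨e⟩ := EGA73.nonempty_twist_tensor_iso (𝒜 := CohB1.polyGrading n (ULift.{u} ℤ)) hgen a b
  haveI := Amp73.isIso_pullTensHom
    (pullback.fst (CohB1.ProjSpace.toSpec n (ULift.{u} ℤ)) (specULiftZIsTerminal.from T))
    (EGA73.isInvertible_twist (𝒜 := CohB1.polyGrading n (ULift.{u} ℤ)) hgen a)
    (EGA73.isInvertible_twist (𝒜 := CohB1.polyGrading n (ULift.{u} ℤ)) hgen b)
  exact ⟨(asIso (Amp73.pullTensHom (pullback.fst (CohB1.ProjSpace.toSpec n (ULift.{u} ℤ))
      (specULiftZIsTerminal.from T)) (Twist.twist (CohB1.polyGrading n (ULift.{u} ℤ)) a)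
      (Twist.twist (CohB1.polyGrading n (ULift.{u} ℤ)) b))).symm ≪≫
    (Scheme.Modules.pullback _).mapIso e⟩

lemma nonempty_twF_twF (a b : ℤ) (F : (KRR.PY n T).Modules) :
    Nonempty (KRR.twF n T a (KRR.twF n T b F) ≅ KRR.twF n T (a + b) F) := by
  obtain ⟨e⟩ := nonempty_twistOver_add n T a b
  exact ⟨(EGA73.tensAssoc' _ _ _).symm ≪≫ EGA73.tensIso e (Iso.refl F)⟩

lemma flat_stalk_of_isInvertible {L : X.Modules} (hL : PicF.IsInvertible L) (x : X) :
    Module.Flat (X.presheaf.stalk x) (L.presheaf.stalk x) := by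
  have hvb : FlatMod.IsFinLocFree L := fun y => by
    obtain ⟨U, hy, ⟨e⟩⟩ := hL y
    exact ⟨U, 1, hy, ⟨e ≪≫ (coproductUniqueIso (fun _ : Fin 1 => Coh.structureModule (↑U : Scheme.{u}))).symm⟩⟩
  haveI := Props58.LocFree.free_stalk_of_isFinLocFree hvb x
  infer_instance

/-- The forgetful functor to abelian sheaves. -/
abbrev abFun (X : Scheme.{u}) : X.Modules ⥤ Sheaf (Opens.grothendieckTopology X) AddCommGrpCat.{u} :=
  SheafOfModules.toSheaf X.ringCatSheaf

instance (X : Scheme.{u}) : (abFun X).Additive :=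
  inferInstanceAs (SheafOfModules.toSheaf X.ringCatSheaf).Additive

instance (X : Scheme.{u}) : PreservesFiniteLimits (abFun X) :=
  inferInstanceAs (PreservesFiniteLimits (SheafOfModules.toSheaf X.ringCatSheaf))

instance (X : Scheme.{u}) : PreservesFiniteColimits (abFun X) :=
  have := Mod48.toSheaf_preservesColimits (O := X.sheaf)
  @PreservesColimitsOfSize.preservesFiniteColimits _ _ _ _ (abFun X) this

/-- The sequence of abelian sheaves of a twisted short exact sequence. -/
def twSeq (d : ℤ) (S : ShortComplex (KRR.PY n T).Modules) :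
    ShortComplex (Sheaf (Opens.grothendieckTopology (KRR.PY n T)) AddCommGrpCat.{u}) :=
  (S.map (DCoh.tensorBi.obj (Twist.twistOver n T d))).map (abFun (KRR.PY n T))

lemma twSeq_shortExact (d : ℤ) {S : ShortComplex (KRR.PY n T).Modules} (hS : S.ShortExact) :
    (twSeq n T d S).ShortExact :=
  (shortExact_tensor (flat_stalk_of_isInvertible (isInvertible_twistOver n T d)) hS).map_of_exact
    (abFun (KRR.PY n T))

lemma isZero_twF_twF {i : ℕ} {a b c : ℤ} (h : a + b = c) (F : (KRR.PY n T).Modules)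
    (hz : IsZero ((Coh.RpushAb (KRR.pr n T) i).obj (Coh.toAb (KRR.twF n T a (KRR.twF n T b F))))) :
    IsZero ((Coh.RpushAb (KRR.pr n T) i).obj (Coh.toAb (KRR.twF n T c F))) := by
  subst h
  obtain ⟨e⟩ := nonempty_twF_twF n T a b F
  exact hz.of_iso ((Coh.RpushAb (KRR.pr n T) i).mapIso ((abFun _).mapIso e.symm))

theorem isRegSheaf_X₂ {S : ShortComplex (KRR.PY n T).Modules} (hS : S.ShortExact)
    (h₁ : KRR.IsRegSheaf n T S.X₁) (h₃ : KRR.IsRegSheaf n T S.X₃) : KRR.IsRegSheaf n T S.X₂ := by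
  intro i hi
  obtain ⟨Δ⟩ := RD97.nonempty_derivedLES (Coh.pushAb (KRR.pr n T))
  exact (Δ.exact₂ _ (twSeq_shortExact n T (-(i : ℤ)) hS) i).isZero_X₂ ((h₁ i hi).eq_of_src _ _)
    ((h₃ i hi).eq_of_tgt _ _)

theorem isRegSheaf_X₃ {S : ShortComplex (KRR.PY n T).Modules} (hS : S.ShortExact)
    (h₂ : KRR.IsRegSheaf n T S.X₂) (h₁ : KRR.IsRegSheaf n T (KRR.twF n T 1 S.X₁)) :
    KRR.IsRegSheaf n T S.X₃ := by
  intro i hi
  obtain ⟨Δ⟩ := RD97.nonempty_derivedLES (Coh.pushAb (KRR.pr n T))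
  have hz := isZero_twF_twF n T (c := -(i : ℤ)) (by push_cast; ring) S.X₁ (h₁ (i + 1) (by omega))
  exact (Δ.exact₃ _ (twSeq_shortExact n T (-(i : ℤ)) hS) i (i + 1) rfl).isZero_X₂
    ((h₂ i hi).eq_of_src _ _) (hz.eq_of_tgt _ _)

theorem isRegSheaf_twF_X₁ {S : ShortComplex (KRR.PY n T).Modules} (hS : S.ShortExact)
    (h₂ : KRR.IsRegSheaf n T (KRR.twF n T 1 S.X₂)) (h₃ : KRR.IsRegSheaf n T S.X₃)
    (hepi : Epi ((Scheme.Modules.pushforward (KRR.pr n T)).map S.g)) :
    KRR.IsRegSheaf n T (KRR.twF n T 1 S.X₁) := by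
  intro i hi
  obtain ⟨j, rfl⟩ : ∃ j, i = j + 1 := ⟨i - 1, by omega⟩
  obtain ⟨Δ⟩ := RD97.nonempty_derivedLES (Coh.pushAb (KRR.pr n T))
  obtain ⟨e⟩ := nonempty_twF_twF n T (-((j + 1 : ℕ) : ℤ)) 1 S.X₁
  refine IsZero.of_iso ?_ ((Coh.RpushAb (KRR.pr n T) (j + 1)).mapIso ((abFun _).mapIso e))
  rw [show -((j + 1 : ℕ) : ℤ) + 1 = -(j : ℤ) by push_cast; ring]
  have hS' := twSeq_shortExact n T (-(j : ℤ)) hS
  have hz : IsZero ((Coh.RpushAb (KRR.pr n T) (j + 1)).obj (twSeq n T (-(j : ℤ)) S).X₂) :=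
    isZero_twF_twF n T (by push_cast; ring) S.X₂ (h₂ (j + 1) (by omega))
  have hex := Δ.exact₁ _ hS' j (j + 1) rfl
  have hδ : Δ.δ _ hS' j (j + 1) rfl = 0 := by
    rcases j with _ | k
    · haveI : PreservesFiniteLimits (Coh.pushAb (KRR.pr n T)) :=
        haveI : (Coh.pushAb (KRR.pr n T)).IsRightAdjoint :=
          (TopCat.Sheaf.pullbackPushforwardAdjunction AddCommGrpCat.{u} (KRR.pr n T).base).isRightAdjoint
        inferInstance
      obtain ⟨e0⟩ : Nonempty (Twist.twistOver n T 0 ≅ Coh.structureModule (KRR.PY n T)) := by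
        obtain ⟨e⟩ := EGA73.nonempty_twist_zero_iso (𝒜 := CohB1.polyGrading n (ULift.{u} ℤ))
        exact ⟨(Scheme.Modules.pullback _).mapIso e ≪≫ PicLoc.pullbackStructureIso _⟩
      -- the degree zero map is an epimorphism
      haveI : Epi ((Coh.pushAb (KRR.pr n T)).map (twSeq n T (-((0 : ℕ) : ℤ)) S).g) := by
        rw [show -((0 : ℕ) : ℤ) = 0 by norm_num]
        let ε : DCoh.tensorBi.obj (Twist.twistOver n T 0) ≅ 𝟭 _ :=
          DCoh.tensorBi.mapIso e0 ≪≫ Mod48.tensUnit (O := (KRR.PY n T).sheaf)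
        have h1 : Epi ((Scheme.Modules.pushforward (KRR.pr n T)).map
            ((DCoh.tensorBi.obj (Twist.twistOver n T 0)).map S.g)) := by
          haveI := hepi
          have hn : (DCoh.tensorBi.obj (Twist.twistOver n T 0)).map S.g =
              (ε.app S.X₂).hom ≫ S.g ≫ (ε.app S.X₃).inv := by
            rw [← Category.assoc, Iso.eq_comp_inv]
            exact ε.hom.naturality S.g
          rw [hn, Functor.map_comp, Functor.map_comp]
          infer_instance
        haveI := h1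
        exact inferInstanceAs (Epi ((abFun T).map ((Scheme.Modules.pushforward (KRR.pr n T)).map
            ((DCoh.tensorBi.obj (Twist.twistOver n T 0)).map S.g))))
      haveI : Epi (((Coh.pushAb (KRR.pr n T)).rightDerived 0).map (twSeq n T (-((0 : ℕ) : ℤ)) S).g) := by
        have hn := (Coh.pushAb (KRR.pr n T)).rightDerivedZeroIsoSelf.hom.naturality
          (twSeq n T (-((0 : ℕ) : ℤ)) S).g
        haveI : Epi (((Coh.pushAb (KRR.pr n T)).rightDerived 0).map (twSeq n T (-((0 : ℕ) : ℤ)) S).g ≫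
            (Coh.pushAb (KRR.pr n T)).rightDerivedZeroIsoSelf.hom.app (twSeq n T (-((0 : ℕ) : ℤ)) S).X₃) := by
          rw [hn]
          infer_instance
        rw [show ((Coh.pushAb (KRR.pr n T)).rightDerived 0).map (twSeq n T (-((0 : ℕ) : ℤ)) S).g =
            (((Coh.pushAb (KRR.pr n T)).rightDerived 0).map (twSeq n T (-((0 : ℕ) : ℤ)) S).g ≫
              (Coh.pushAb (KRR.pr n T)).rightDerivedZeroIsoSelf.hom.app (twSeq n T (-((0 : ℕ) : ℤ)) S).X₃) ≫
              (Coh.pushAb (KRR.pr n T)).rightDerivedZeroIsoSelf.inv.app (twSeq n T (-((0 : ℕ) : ℤ)) S).X₃ from by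
          rw [Category.assoc, Iso.hom_inv_id_app, Category.comp_id]]
        infer_instance
      rw [← cancel_epi (((Coh.pushAb (KRR.pr n T)).rightDerived 0).map (twSeq n T (-((0 : ℕ) : ℤ)) S).g),
        Δ.comp_δ _ hS' 0 1 rfl, comp_zero]
    · exact ((h₃ (k + 1) (by omega)).eq_of_src _ _)
  exact hex.isZero_X₂ hδ (hz.eq_of_tgt _ _)

end Groth.Agent.KRR40
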