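import Groth.Agent.KRR40.RelCover
import Groth.Agent.KRR40.TwistLES
import Groth.Agent.Var76.RegTools

/-!
Castelnuovo–Mumford regularity relative to a projective space over a base.
-/

set_option autoImplicit false
set_option linter.style.haveILetI false
set_option backward.isDefEq.respectTransparency.types false
set_option maxSynthPendingDepth 6

noncomputable section

universe u

open CategoryTheory CategoryTheory.Limits AlgebraicGeometry TopologicalSpace Opposite
open Groth.Agent.Var76.Reg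

namespace Groth.Agent.KRR40

section Generic

variable {X S : Scheme.{u}} (f : X ⟶ S)

/-- The higher direct image, on modules. -/
abbrev RF (q : ℕ) : X.Modules ⥤ Sheaf (Opens.grothendieckTopology S) AddCommGrpCat.{u} :=
  abFun X ⋙ Coh.RpushAb f q

instance (q : ℕ) : (Coh.RpushAb f q).Additive := inferInstance

lemma isZero_RF_biproduct {r : ℕ} (q : ℕ) (G : Fin r → X.Modules) (h : ∀ i, IsZero ((RF f q).obj (G i))) :
    IsZero ((RF f q).obj (⨁ G)) := by
  rw [IsZero.iff_id_eq_zero, ← CategoryTheory.Functor.map_id, ← biproduct.total,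
    CategoryTheory.Functor.map_sum]
  refine Finset.sum_eq_zero fun i _ => ?_
  rw [CategoryTheory.Functor.map_comp, (h i).eq_of_tgt ((RF f q).map (biproduct.π G i)) 0, zero_comp]

lemma isZero_RF_X₃ {S' : ShortComplex X.Modules} (hS : S'.ShortExact) (q : ℕ)
    (h₂ : IsZero ((RF f q).obj S'.X₂)) (h₁ : IsZero ((RF f (q + 1)).obj S'.X₁)) :
    IsZero ((RF f q).obj S'.X₃) := by
  obtain ⟨Δ⟩ := RD97.nonempty_derivedLES (Coh.pushAb f)
  exact (Δ.exact₃ _ (hS.map_of_exact (abFun X)) q (q + 1) rfl).isZero_X₂ (h₂.eq_of_src _ _) (h₁.eq_of_tgt _ _)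

variable {r : ℕ} (K : KData X r) (hq : ∀ d, (K.G d).IsQuasicoherent) {B : ℕ}
  (hB : ∀ (M : X.Modules), M.IsQuasicoherent → ∀ q, B ≤ q → IsZero ((RF f q).obj M))

lemma isZero_RF_C (q : ℕ) (d : ℤ) (h : IsZero ((RF f q).obj (K.G d))) :
    ∀ j : ℕ, IsZero ((RF f q).obj (K.C j d))
  | 0 => h
  | j + 1 => isZero_RF_biproduct f q _ fun _ => isZero_RF_C q d h j

include hq hB in
theorem isZero_RF_cycles : ∀ (fuel q j : ℕ) (d e : ℤ) (h : e = d + 1), B ≤ q + fuel →
    (∀ s : ℕ, IsZero ((RF f (q + s)).obj (K.G (d - 1 - s)))) →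
      IsZero ((RF f q).obj (kernel (K.dd j d e h)))
  | 0, q, j, d, e, h, hle, _ => hB _ (K.isQuasicoherent_cycles hq j d e h) q (by omega)
  | fuel + 1, q, j, d, e, h, hle, hvan => by
    have h₁ : d = (d - 1) + 1 := by omega
    have := K.epi_lift j (d - 1) d e h₁ h
    refine isZero_RF_X₃ f (KData.kernel_shortExact (K.lift j (d - 1) d e h₁ h)) q
      (isZero_RF_C f K q (d - 1) (by simpa using hvan 0) _) ?_
    refine IsZero.of_iso (isZero_RF_cycles fuel (q + 1) (j + 1) (d - 1) d h₁ (by omega) fun s => ?_)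
      ((RF f (q + 1)).mapIso (K.kerLiftIso j (d - 1) d e h₁ h))
    have := hvan (s + 1)
    rw [show d - 1 - ((s + 1 : ℕ) : ℤ) = d - 1 - 1 - s by push_cast; omega,
      show q + (s + 1) = q + 1 + s by omega] at this
    exact this

include hq hB in
/-- Propagation of vanishing. -/
theorem isZero_RF_top (q : ℕ) (d e : ℤ) (h : e = d + 1)
    (hvan : ∀ t : ℕ, IsZero ((RF f (q + t)).obj (K.G (d - t)))) : IsZero ((RF f q).obj (K.G e)) := by
  have := K.epi_dd_zero d e h
  refine isZero_RF_X₃ f (KData.kernel_shortExact (K.dd 0 d e h)) q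
    (isZero_RF_C f K q d (by simpa using hvan 0) 1) (isZero_RF_cycles f K hq hB B (q + 1) 0 d e h (by omega) fun s => ?_)
  have := hvan (s + 1)
  rw [show d - ((s + 1 : ℕ) : ℤ) = d - 1 - s by push_cast; omega,
    show q + (s + 1) = q + 1 + s by omega] at this
  exact this

end Generic

variable (n : ℕ) (T : Scheme.{u})

/-- Multiplication by a coordinate on the twisting sheaves. -/
def cMul (l : Fin (n + 1)) (d e : ℤ) (h : e = d + 1) : Twist.twistOver n T d ⟶ Twist.twistOver n T e :=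
  (Scheme.Modules.pullback (toZ n T)).map (mulX (𝒜 := CohB1.polyGrading n (ULift.{u} ℤ)) (xVar n (ULift.{u} ℤ) l) h)

lemma cMul_comm (a b : Fin (n + 1)) (c d e : ℤ) (h₁ : d = c + 1) (h₂ : e = d + 1) :
    cMul n T a c d h₁ ≫ cMul n T b d e h₂ = cMul n T b c d h₁ ≫ cMul n T a d e h₂ := by
  exact ((Scheme.Modules.pullback (toZ n T)).map_comp _ _).symm.trans
    ((congrArg (Scheme.Modules.pullback (toZ n T)).map (mulX_comm _ _ h₁ h₂ h₁ h₂)).trans
      ((Scheme.Modules.pullback (toZ n T)).map_comp _ _))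

variable (F : (KRR.PY n T).Modules)

lemma cMul_bijective (l : Fin (n + 1)) (d e : ℤ) (h : e = d + 1) {V : (KRR.PY n T).Opens}
    (hV : V ≤ cOpen n T l) : Function.Bijective ((whiskL F (cMul n T l d e h)).app V) := by
  let g := xVar n (ULift.{u} ℤ) l
  let ψ := toZ n T
  have hd := Amp73.isFrame_pullS ψ (Var76.Reg.isInvertible_twist (n := n) (A := ULift.{u} ℤ) d)
    (isFrame_unit (𝒜 := CohB1.polyGrading n (ULift.{u} ℤ)) (gUnit g d))
  have he := Amp73.isFrame_pullS ψ (Var76.Reg.isInvertible_twist (n := n) (A := ULift.{u} ℤ) e)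
    (isFrame_unit (𝒜 := CohB1.polyGrading n (ULift.{u} ℤ)) (gUnit g e))
  have hmap : (cMul n T l d e h).app (cOpen n T l)
      (Amp73.pullS ψ (Twist.twistProjSpace n (ULift.{u} ℤ) d) (Var76.Reg.xOpen n (ULift.{u} ℤ) l) (gUnit g d).fwd) =
      Amp73.pullS ψ (Twist.twistProjSpace n (ULift.{u} ℤ) e) (Var76.Reg.xOpen n (ULift.{u} ℤ) l) (gUnit g e).fwd := by
    have hn := (Scheme.Modules.pullbackPushforwardAdjunction ψ).unit.naturality
      (mulX (𝒜 := CohB1.polyGrading n (ULift.{u} ℤ)) g h)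
    refine (ConcreteCategory.congr_hom
      (congrArg (fun a => Scheme.Modules.Hom.app a (Var76.Reg.xOpen n (ULift.{u} ℤ) l)) hn) (gUnit g d).fwd).symm.trans ?_
    exact congrArg (fun t => Amp73.pullS ψ (Twist.twistProjSpace n (ULift.{u} ℤ) e) (Var76.Reg.xOpen n (ULift.{u} ℤ) l) t)
      (mulX_gUnit g h)
  have key : ∀ m : Γ(F, V), (whiskL F (cMul n T l d e h)).app V
      (Amp73.tm F _ m (Var76.LineBundle.res (Twist.twistOver n T d) hV
        (Amp73.pullS ψ (Twist.twistProjSpace n (ULift.{u} ℤ) d) (Var76.Reg.xOpen n (ULift.{u} ℤ) l) (gUnit g d).fwd))) =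
      Amp73.tm F _ m (Var76.LineBundle.res (Twist.twistOver n T e) hV
        (Amp73.pullS ψ (Twist.twistProjSpace n (ULift.{u} ℤ) e) (Var76.Reg.xOpen n (ULift.{u} ℤ) l) (gUnit g e).fwd)) :=
    fun m => by
    refine (whiskL_tm F (cMul n T l d e h) m _).trans (congrArg (Amp73.tm F _ m) ?_)
    refine (ConcreteCategory.congr_hom ((cMul n T l d e h).mapPresheaf.naturality (homOfLE hV).op) _).trans ?_
    exact congrArg (Var76.LineBundle.res (Twist.twistOver n T e) hV) hmap
  constructor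
  · intro a b hab
    obtain ⟨m, rfl⟩ := Amp73.exists_eq_tm_frame hd hV a
    obtain ⟨m', rfl⟩ := Amp73.exists_eq_tm_frame hd hV b
    rw [Amp73.tm_frame_injective he hV m m' ((key m).symm.trans (hab.trans (key m')))]
  · intro z
    obtain ⟨m, rfl⟩ := Amp73.exists_eq_tm_frame he hV z
    exact ⟨_, key m⟩

/-- The Koszul data of a module on projective space over a base. -/
def kdT : KData (KRR.PY n T) (n + 1) where
  G d := CohB1.tensorMod F (Twist.twistOver n T d)
  m l d e h := whiskL F (cMul n T l d e h)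
  comm a b c d e h₁ h₂ := by rw [← whiskL_comp, ← whiskL_comp, cMul_comm n T a b c d e h₁ h₂]
  U := cOpen n T
  cover := exists_mem_cOpen n T
  bij l d e h _ hV := cMul_bijective n T F l d e h hV

lemma isQCoh_twistOver (d : ℤ) : Coh.IsQCoh (Twist.twistOver n T d) :=
  Mero90.isQCoh_of_isInvertible (isInvertible_twistOver n T d)

lemma isQCoh_twF (hF : Coh.IsQCoh F) (d : ℤ) : Coh.IsQCoh (KRR.twF n T d F) :=
  Amp73.isQCoh_tensorMod (isQCoh_twistOver n T d) hF

/-- `Rⁱ p_*(F(d)) = 0`. -/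
def Van (i : ℕ) (d : ℤ) : Prop := IsZero ((RF (KRR.pr n T) i).obj (KRR.twF n T d F))

/-- `m`-regularity relative to the base. -/
def RReg (m : ℤ) : Prop := ∀ i : ℕ, 1 ≤ i → Van n T F i (m - i)

lemma rReg_zero_iff : RReg n T F 0 ↔ KRR.IsRegSheaf n T F := by
  refine forall₂_congr fun i _ => ?_
  rw [zero_sub]
  exact Iff.rfl

variable {n T F}

lemma van_of_isZero_G {i : ℕ} {d : ℤ} (h : IsZero ((RF (KRR.pr n T) i).obj ((kdT n T F).G d))) : Van n T F i d :=
  h.of_iso ((RF (KRR.pr n T) i).mapIso (EGA73.tensComm _ _))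

lemma isZero_G_of_van {i : ℕ} {d : ℤ} (h : Van n T F i d) : IsZero ((RF (KRR.pr n T) i).obj ((kdT n T F).G d)) :=
  h.of_iso ((RF (KRR.pr n T) i).mapIso (EGA73.tensComm _ _))

theorem RReg.succ (hF : Coh.IsQCoh F) {m : ℤ} (h : RReg n T F m) : RReg n T F (m + 1) := fun i hi =>
  van_of_isZero_G (isZero_RF_top (KRR.pr n T) (kdT n T F)
    (fun d => Amp73.isQCoh_tensorMod hF (isQCoh_twistOver n T d))
    (fun M hM q hq => haveI := hM; isZero_RpushAb_gt n T M q hq) i (m - i) (m + 1 - i) (by omega) fun t => by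
      have := h (i + t) (by omega)
      rw [show m - ((i + t : ℕ) : ℤ) = m - i - t by push_cast; omega] at this
      exact isZero_G_of_van this)

theorem RReg.mono (hF : Coh.IsQCoh F) {m m' : ℤ} (h : RReg n T F m) (hm : m ≤ m') : RReg n T F m' := by
  obtain ⟨t, rfl⟩ := Int.le.dest hm
  induction t with
  | zero => simpa using h
  | succ t ih =>
    rw [show m + ((t + 1 : ℕ) : ℤ) = m + t + 1 by push_cast; omega]
    exact (ih (by omega)).succ hF

theorem RReg.van (hF : Coh.IsQCoh F) {m : ℤ} (h : RReg n T F m) {i : ℕ} {r : ℤ} (hi : 1 ≤ i) (hr : m - i ≤ r) :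
    Van n T F i r := by
  have := h.mono hF (m' := r + i) (by omega) i hi
  rwa [add_sub_cancel_right] at this

variable (n T F)

lemma rReg_twF_iff (d m : ℤ) : RReg n T (KRR.twF n T d F) m ↔ RReg n T F (m + d) := by
  refine forall₂_congr fun i _ => ?_
  obtain ⟨e⟩ := nonempty_twF_twF n T (m - i) d F
  rw [show m + d - (i : ℤ) = m - i + d by omega]
  exact Iso.isZero_iff ((RF (KRR.pr n T) i).mapIso e)

theorem isRegSheaf_twF_of_nonneg (hF : Coh.IsQCoh F) (hreg : KRR.IsRegSheaf n T F) {m : ℤ} (hm : 0 ≤ m) :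
    KRR.IsRegSheaf n T (KRR.twF n T m F) := by
  rw [← rReg_zero_iff, rReg_twF_iff]
  exact ((rReg_zero_iff n T F).2 hreg).mono hF (by omega)

lemma nonempty_twF_zero : Nonempty (KRR.twF n T 0 F ≅ F) := by
  obtain ⟨e⟩ := EGA73.nonempty_twist_zero_iso (𝒜 := CohB1.polyGrading n (ULift.{u} ℤ))
  exact ⟨EGA73.tensIso ((Scheme.Modules.pullback (toZ n T)).mapIso e ≪≫ PicLoc.pullbackStructureIso _) (Iso.refl F) ≪≫
    EGA73.tensUnitLeft F⟩

theorem isZero_Rpush_of_reg (hF : Coh.IsQCoh F) (hreg : KRR.IsRegSheaf n T F) (i : ℕ) (hi : 1 ≤ i) :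
    IsZero ((Coh.RpushAb (KRR.pr n T) i).obj (Coh.toAb F)) := by
  obtain ⟨e⟩ := nonempty_twF_zero n T F
  exact (((rReg_zero_iff n T F).2 hreg).van hF (r := 0) hi (by omega)).of_iso
    ((RF (KRR.pr n T) i).mapIso e.symm)

end Groth.Agent.KRR40
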