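import Groth.Agent.Csa25.TwistPull
import Groth.Agent.KRR40.RelKoszul
import Groth.Agent.Coh69.OpenSub

/-!
Projective space over an affine open of the base.
-/

set_option autoImplicit false
set_option linter.style.haveILetI false
set_option backward.isDefEq.respectTransparency.types false

noncomputable section

universe u

open CategoryTheory CategoryTheory.Limits AlgebraicGeometry TopologicalSpace Opposite HomogeneousLocalization

namespace Groth.Agent.KRR40

open Groth.Agent.Csa25 Groth.Agent.EGA73 Groth.Agent.Var76.Reg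

section LinMap

variable (n : ℕ) (A : Type u) [CommRing A] [Algebra (ULift.{u} ℤ) A]

/-- The coordinates, as forms. -/
def xForms : Fin (n + 1) → CohB1.polyGrading n A 1 := fun a => xVar n A a

theorem form_xForms (c : Fin (n + 1) → A) : (form (xForms n A) c).1 = PolySym.linForm n A c := by
  rw [form_coe]
  simp only [xForms, xVar, PolySym.linForm, Fintype.linearCombination_apply, MvPolynomial.smul_eq_C_mul,
    Algebra.algebraMap_self, RingHom.id_apply]

theorem isFormMap_xForms : IsFormMap (xForms n A) (𝟙 (CohB1.ProjSpace n A)) := by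
  refine ⟨?_, fun c => ?_, fun c c' => ?_⟩
  · rw [Category.id_comp, show CommRingCat.ofHom (algebraMap A A) = 𝟙 (CommRingCat.of A) from rfl, Spec.map_id]
    exact (Category.comp_id _).symm
  · rw [form_xForms]; rfl
  · refine (res_awayToSection_eq (𝒜 := CohB1.polyGrading n A) (Proj.basicOpen (CohB1.polyGrading n A) (form (xForms n A) c).1) (by rw [form_xForms]) le_rfl _
      ⟨1, form (xForms n A) c', form (xForms n A) c, ⟨1, pow_one _⟩⟩ ?_).trans ?_
    · show PolySym.linForm n A c' * (form (xForms n A) c).1 = (form (xForms n A) c').1 * PolySym.linForm n A c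
      rw [form_xForms, form_xForms]
    · exact congr($((Proj (CohB1.polyGrading n A)).presheaf.map_id (Opposite.op _)) _)

/-- Extension of coefficients preserves the twisting sheaves. -/
theorem nonempty_pullback_linMap_one (d : ℤ) :
    Nonempty ((Scheme.Modules.pullback (linMap (n := n) (algebraMap (ULift.{u} ℤ) A) 1 isUnit_one)).obj
      (Twist.twistProjSpace n (ULift.{u} ℤ) d) ≅ Twist.twistProjSpace n A d) := by
  have hP : ∀ x : CohB1.ProjSpace n A, ∃ a, (xForms n A a).1 ∉ x.asHomogeneousIdeal := fun x => by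
    obtain ⟨l, hl⟩ := exists_mem_xOpen n A x
    exact ⟨l, hl⟩
  obtain ⟨r, hr, hτ⟩ := exists_isFormMap (A := ULift.{u} ℤ) (xForms n A) hP
  have hl := (isFormMap_xForms n (ULift.{u} ℤ)).comp_linMap one_pos (algebraMap (ULift.{u} ℤ) A) 1 isUnit_one
    (xForms n A) (RingHom.ext fun _ => rfl) 1 isUnit_one (fun a => by
      simp only [xForms, xVar, linHom_X, linForm_one, map_one, one_mul])
  rw [Category.comp_id] at hl
  rw [IsFormMap.unique hP hl hr]
  simpa using nonempty_pullback_twist (d := (1 : ℤ)) hτ d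

end LinMap

variable (n : ℕ) (T : Scheme.{u}) {V : T.Opens} (hV : IsAffineOpen V)

/-- The algebra structure over the integers on sections. -/
abbrev zAlg (A : Type u) [CommRing A] : Algebra (ULift.{u} ℤ) A :=
  ((Int.castRingHom A).comp (ULift.ringEquiv (R := ℤ)).toRingHom).toAlgebra

/-- Projective space over the ring of an affine open, mapped to the relative projective space. -/
def affPn : CohB1.ProjSpace n Γ(T, V) ⟶ KRR.PY n T :=
  letI := zAlg Γ(T, V)
  pullback.lift (linMap (n := n) (algebraMap (ULift.{u} ℤ) Γ(T, V)) 1 isUnit_one)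
    (CohB1.ProjSpace.toSpec n Γ(T, V) ≫ hV.fromSpec)
    (by rw [linMap_toSpec, Category.assoc]; exact congrArg (_ ≫ ·) (specULiftZIsTerminal.hom_ext _ _))

lemma affPn_pr : affPn n T hV ≫ KRR.pr n T = CohB1.ProjSpace.toSpec n Γ(T, V) ≫ hV.fromSpec :=
  pullback.lift_snd _ _ _

theorem isPullback_affPn :
    IsPullback (affPn n T hV) (CohB1.ProjSpace.toSpec n Γ(T, V)) (KRR.pr n T) hV.fromSpec := by
  let _ := zAlg Γ(T, V)
  have h := isPullback_linMap_one (n := n) (R := ULift.{u} ℤ) (R' := Γ(T, V))
  have hb := IsPullback.of_hasPullback (CohB1.ProjSpace.toSpec n (ULift.{u} ℤ)) (specULiftZIsTerminal.from T)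
  rw [specULiftZIsTerminal.hom_ext (Spec.map (CommRingCat.ofHom (algebraMap (ULift.{u} ℤ) Γ(T, V))))
    (hV.fromSpec ≫ specULiftZIsTerminal.from T),
    ← (show affPn n T hV ≫ toZ n T = linMap (n := n) (algebraMap (ULift.{u} ℤ) Γ(T, V)) 1 isUnit_one from
      pullback.lift_fst _ _ _)] at h
  exact IsPullback.of_right h (affPn_pr n T hV) hb

instance isOpenImmersion_affPn : IsOpenImmersion (affPn n T hV) :=
  MorphismProperty.of_isPullback (P := @IsOpenImmersion) (isPullback_affPn n T hV).flip inferInstance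

lemma affPn_image_top : affPn n T hV ''ᵁ ⊤ = KRR.pr n T ⁻¹ᵁ V := by
  have h := IsOpenImmersion.image_preimage_eq_preimage_image_of_isPullback (isPullback_affPn n T hV).flip ⊤
  rw [Scheme.Hom.image_top_eq_opensRange hV.fromSpec, hV.opensRange_fromSpec] at h
  exact h

/-- Twists restrict to twists. -/
theorem nonempty_pullback_affPn_twist (d : ℤ) :
    Nonempty ((Scheme.Modules.pullback (affPn n T hV)).obj (Twist.twistOver n T d) ≅
      Twist.twistProjSpace n Γ(T, V) d) := by
  let _ := zAlg Γ(T, V)
  obtain ⟨e⟩ := nonempty_pullback_linMap_one n Γ(T, V) d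
  exact ⟨(Scheme.Modules.pullbackComp (affPn n T hV) (toZ n T)).app _ ≪≫
    (Scheme.Modules.pullbackCongr (pullback.lift_fst _ _ _)).app _ ≪≫ e⟩

/-- Higher direct images vanish if the cohomology vanishes over the affine opens of the base. -/
theorem isZero_RF_of_affPn (M : (KRR.PY n T).Modules) (q : ℕ)
    (h : ∀ (V : T.Opens) (hV : IsAffineOpen V),
      Subsingleton (Coh.HH (CohB1.ProjSpace n Γ(T, V)) ((Scheme.Modules.pullback (affPn n T hV)).obj M) q)) :
    IsZero ((RF (KRR.pr n T) q).obj M) :=
  Coh69.isZero_RpushAb_of_subsingleton _ _ _ fun U y hy => by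
    obtain ⟨V, hV, hyV, hVU⟩ := exists_isAffineOpen_mem_and_subset hy
    refine ⟨V, hVU, hyV, ?_⟩
    let j := affPn n T hV
    have hs : Subsingleton (Coh.HH (CohB1.ProjSpace n Γ(T, V)) (M.restrict j) q) :=
      ValVan29.subsingleton_hh_of_iso ((Scheme.Modules.restrictFunctorIsoPullback j).app M).symm q (h V hV)
    obtain ⟨e⟩ := Coh69.restr_nonempty_equiv j.isOpenEmbedding (Coh.toAb M) q (⊤ : (CohB1.ProjSpace n Γ(T, V)).Opens)
    have hU : j.isOpenEmbedding.functor.obj ⊤ = KRR.pr n T ⁻¹ᵁ V := affPn_image_top n T hV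
    rw [hU] at e
    exact (e.trans (Coh69.hhEquiv (M.restrict j) q).symm).toEquiv.subsingleton

end Groth.Agent.KRR40
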