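import Groth.Agent.KRR40.CoprodVanish
import Groth.Agent.KRR40.PnTransfer
import Groth.Agent.Desc59.QCohDesc
import Groth.Agent.H98Proj.SmoothPn
import Groth.Agent.Univ70.Sect
import Groth.Agent.Desc59.AmpleDesc

/-!
Higher direct images of twisted inverse images from the base.
-/

set_option autoImplicit false
set_option linter.style.haveILetI false
set_option backward.isDefEq.respectTransparency.types false
set_option maxSynthPendingDepth 6

noncomputable section

universe u

open CategoryTheory CategoryTheory.Limits AlgebraicGeometry TopologicalSpace Opposite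
open Groth.Agent.Var76.Reg

namespace Groth.Agent.KRR40

section Exact

variable {X Y : Scheme.{u}}

/-- Inverse image along a flat morphism is exact. -/
theorem shortExact_pullback_of_flat (f : X ⟶ Y) [Flat f] {S : ShortComplex Y.Modules} (hS : S.ShortExact) :
    (S.map (Scheme.Modules.pullback f)).ShortExact := by
  haveI := (Scheme.Modules.pullbackPushforwardAdjunction f).isLeftAdjoint
  haveI := hS.mono_f
  haveI := hS.epi_g
  exact { exact := hS.exact.map_of_epi_of_preservesCokernel _ hS.epi_g inferInstance
          mono_f := Desc59.QCohDesc.mono_pullback f S.f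
          epi_g := inferInstanceAs (Epi ((Scheme.Modules.pullback f).map S.g)) }

/-- On an affine scheme every quasi-coherent module is a quotient of a free one. -/
theorem exists_epi_free_affine [IsAffine X] {G : X.Modules} (hG : Coh.IsQCoh G) :
    ∃ (κ : Type u) (π : (∐ fun _ : κ => Coh.structureModule X) ⟶ G), Epi π := by
  refine ⟨Γ(G, ⊤), _, Amp73.epi_desc_of_span_maps hG (fun _ => Coh.structureModule X)
    (fun t => Var76.Frames.ofSection G t) fun x => ⟨⊤, fun _ => (1 : Γ(X, ⊤)), trivial, isAffineOpen_top X, ?_⟩⟩
  refine eq_top_iff.2 fun z _ => Submodule.subset_span ⟨z, ?_⟩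
  exact (Var76.Frames.val_ofSection G z ⊤).trans (Amp73.res_self G z)

end Exact

variable (n : ℕ) (A : Type u) [CommRing A]

instance flat_toSpec : Flat (CohB1.ProjSpace.toSpec n A) :=
  haveI := H98Proj.smooth_toSpec n A
  inferInstance

lemma iSup_stdU' : ⨆ i, Pn71.stdU n A i = ⊤ := Pn71.iSup_stdU n A

/-- Cohomology of twisted inverse images of quasi-coherent modules. -/
theorem subsingleton_HH_twist_pullback (d : ℤ) (hd : -(n : ℤ) ≤ d) :
    ∀ (fuel i : ℕ), 1 ≤ i → n + 1 ≤ i + fuel → ∀ (G : (Spec (CommRingCat.of A)).Modules), Coh.IsQCoh G →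
      Subsingleton (Coh.HH (CohB1.ProjSpace n A) (CohB1.tensorMod (Twist.twistProjSpace n A d)
        ((Scheme.Modules.pullback (CohB1.ProjSpace.toSpec n A)).obj G)) i)
  | 0, i, _, hle, G, hG => by
    haveI : G.IsQuasicoherent := hG
    exact subsingleton_hh_gt n A _ (Amp73.isQCoh_tensorMod (Pn71.isQCoh_twistProjSpace n A d)
      (QCPull72.isQuasicoherent_pullback _ G)) i (by omega)
  | fuel + 1, i, hi, hle, G, hG => by
    let q := CohB1.ProjSpace.toSpec n A
    let L := Twist.twistProjSpace n A d
    obtain ⟨κ, π, hπ⟩ := exists_epi_free_affine hG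
    let F0 := ∐ fun _ : κ => Coh.structureModule (Spec (CommRingCat.of A))
    have hO : ∀ _j : κ, (Coh.structureModule (Spec (CommRingCat.of A))).IsQuasicoherent := fun _ =>
      Mero90.isQCoh_of_isInvertible (
        EGA73.isInvertible_structureModule)
    have hF0 : F0.IsQuasicoherent := QC70.isQuasicoherent_coproduct _ hO
    have hK : (kernel π).IsQuasicoherent := by
      haveI := hF0
      haveI : G.IsQuasicoherent := hG
      exact QC70.isQuasicoherent_kernel π
    let S : ShortComplex (Spec (CommRingCat.of A)).Modules := ShortComplex.mk (kernel.ι π) π (kernel.condition π)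
    have hS : S.ShortExact := KData.kernel_shortExact π
    have hS' := shortExact_tensor (flat_stalk_of_isInvertible (isInvertible_twist (n := n) (A := A) d))
      (shortExact_pullback_of_flat q hS)
    refine ValVan29.subsingleton_hh_X₃ hS' i ?_ (subsingleton_HH_twist_pullback d hd fuel (i + 1) (by omega) (by omega) _ hK)
    haveI := Univ70.preservesColimits_tensorRightMod L
    haveI : PreservesColimitsOfSize.{u, u} (Scheme.Modules.pullback q) :=
      (Scheme.Modules.pullbackPushforwardAdjunction q).leftAdjoint_preservesColimits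
    let Φ := Scheme.Modules.pullback q ⋙ DCoh.tensorRightMod L
    haveI : PreservesColimitsOfSize.{u, u} Φ := comp_preservesColimits _ _
    let e : CohB1.tensorMod L ((Scheme.Modules.pullback q).obj F0) ≅ ∐ fun _ : κ => L :=
      EGA73.tensComm _ _ ≪≫ PreservesCoproduct.iso Φ (fun _ : κ => Coh.structureModule (Spec (CommRingCat.of A))) ≪≫
        Sigma.mapIso fun _ => EGA73.tensIso (PicLoc.pullbackStructureIso q) (Iso.refl L) ≪≫ EGA73.tensUnitLeft L
    refine ValVan29.subsingleton_hh_of_iso e.symm i ?_
    refine subsingleton_HH_coproduct (iSup_stdU' n A) (fun m j => Pn71.isAffineOpen_cOpen_stdU n A j) _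
      (fun _ => Pn71.isQCoh_twistProjSpace n A d) i fun _ => Pn71.subsingleton_hh n A d i (fun h => by omega) fun h => by omega

variable (T : Scheme.{u})

/-- Twisted inverse images of quasi-coherent modules from the base have no higher direct images down to degree `-n`. -/
theorem van_pullback {G : T.Modules} (hG : Coh.IsQCoh G) {i : ℕ} (hi : 1 ≤ i) {d : ℤ} (hd : -(n : ℤ) ≤ d) :
    Van n T ((Scheme.Modules.pullback (KRR.pr n T)).obj G) i d :=
  isZero_RF_of_affPn n T _ i fun V hV => by
    haveI : G.IsQuasicoherent := hG
    let j := affPn n T hV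
    have hG' : Coh.IsQCoh ((Scheme.Modules.pullback hV.fromSpec).obj G) := QCPull72.isQuasicoherent_pullback _ G
    obtain ⟨a⟩ := nonempty_pullback_affPn_twist n T hV d
    let b : (Scheme.Modules.pullback j).obj ((Scheme.Modules.pullback (KRR.pr n T)).obj G) ≅
        (Scheme.Modules.pullback (CohB1.ProjSpace.toSpec n Γ(T, V))).obj ((Scheme.Modules.pullback hV.fromSpec).obj G) :=
      (Scheme.Modules.pullbackComp j (KRR.pr n T)).app G ≪≫ (Scheme.Modules.pullbackCongr (affPn_pr n T hV)).app G ≪≫
        ((Scheme.Modules.pullbackComp _ _).app G).symm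
    refine ValVan29.subsingleton_hh_of_iso ?_ i
      (subsingleton_HH_twist_pullback n Γ(T, V) d hd (n + 1) i hi (by omega) _ hG')
    exact (Desc59.AmpleDesc.pullTensIso j (Twist.twistOver n T d) _ ≪≫ EGA73.tensIso a b).symm

/-- Twisted inverse images from the base are regular. -/
theorem isRegSheaf_pullback {G : T.Modules} (hG : Coh.IsQCoh G) :
    KRR.IsRegSheaf n T ((Scheme.Modules.pullback (KRR.pr n T)).obj G) :=
  (rReg_zero_iff n T _).1 fun i hi => by
    rcases le_or_gt i n with h | h
    · exact van_pullback n T hG hi (by omega)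
    · haveI : G.IsQuasicoherent := hG
      haveI : (KRR.twF n T (0 - (i : ℤ)) ((Scheme.Modules.pullback (KRR.pr n T)).obj G)).IsQuasicoherent :=
        isQCoh_twF n T _ (QCPull72.isQuasicoherent_pullback _ G) _
      exact isZero_RpushAb_gt n T _ i h

end Groth.Agent.KRR40
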