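import Groth.Agent.KRR40.PushCl
import Groth.Agent.ValVan29.PushTwist
import Groth.Agent.DCK91.StalkTensorNat

/-!
The projection formula for closed immersions.
-/

set_option autoImplicit false
set_option linter.style.haveILetI false
set_option backward.isDefEq.respectTransparency.types false

noncomputable section

universe u

open CategoryTheory CategoryTheory.Limits AlgebraicGeometry Opposite MonoidalCategory TensorProduct
open Groth.Agent.DCK91 Groth.Agent.QC70

namespace Groth.Agent.KRR40

variable {X Y : Scheme.{u}}

lemma tensorStalk_germ (x : X) (M N : X.Modules) {U : X.Opens} (hU : x ∈ U) (a : Γ(M, U)) (l : Γ(N, U)) :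
    tensorStalk x M N (germM M U x hU a ⊗ₜ germM N U x hU l) =
      germM (CohB1.tensorMod M N) U x hU (Amp73.tm M N a l) := by
  change stalkHom (R := X.presheaf) x (Mod48.shfU (O := X.sheaf) _)
    (theta (R := X.presheaf) _ _ x (gm (R := X.presheaf) (Mod48.pre (O := X.sheaf) M) U x hU a ⊗ₜ
      gm (R := X.presheaf) (Mod48.pre (O := X.sheaf) N) U x hU l)) = _
  change stalkHom (R := X.presheaf) x (Mod48.shfU (O := X.sheaf) _)
    (pairFun (R := X.presheaf) _ _ x (gm (R := X.presheaf) (Mod48.pre (O := X.sheaf) M) U x hU a)
      (gm (R := X.presheaf) (Mod48.pre (O := X.sheaf) N) U x hU l)) = _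
  rw [pairFun_germ, stalkHom_gm]
  rfl

variable (f : X ⟶ Y) [IsClosedImmersion f] (F : X.Modules) (N : Y.Modules)

theorem isIso_projHom_closed : IsIso (ValVan29.projHom f F N) := by
  rw [FlatMor68.PullbackDescent.isIso_iff]
  intro y
  let G := (Scheme.Modules.pushforward f).obj F
  let P := (Scheme.Modules.pullback f).obj N
  by_cases hy : y ∈ Set.range f
  swap
  · haveI := subsingleton_stalk_pushforward f F hy
    haveI : Subsingleton (((Scheme.Modules.pushforward f).obj (CohB1.tensorMod F P)).presheaf.stalk y) :=
      subsingleton_stalk_pushforward f _ hy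
    haveI : Subsingleton (G.presheaf.stalk y ⊗[Y.presheaf.stalk y] N.presheaf.stalk y) :=
      subsingleton_of_forall_eq 0 fun e => by
        induction e using TensorProduct.induction_on with
        | zero => rfl
        | tmul a b => rw [Subsingleton.elim a 0, zero_tmul]
        | add a b ha hb => rw [ha, hb, add_zero]
    haveI : Subsingleton ((CohB1.tensorMod G N).presheaf.stalk y) :=
      @Function.Surjective.subsingleton (G.presheaf.stalk y ⊗[Y.presheaf.stalk y] N.presheaf.stalk y) _ _
        inferInstance (ConcreteCategory.bijective_of_isIso (tensorStalk y G N)).2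
    exact ⟨fun a b _ => Subsingleton.elim (α := ((CohB1.tensorMod G N).presheaf.stalk y)) a b, fun b =>
      ⟨0, Subsingleton.elim (α := (((Scheme.Modules.pushforward f).obj (CohB1.tensorMod F P)).presheaf.stalk y)) _ b⟩⟩
  obtain ⟨z, rfl⟩ := hy
  let R := Y.presheaf.stalk (f z)
  let S := X.presheaf.stalk z
  letI : Algebra R S := (f.stalkMap z).hom.toAlgebra
  letI : Module R (F.presheaf.stalk z) := Module.compHom _ (f.stalkMap z).hom
  haveI : IsScalarTower R S (F.presheaf.stalk z) := IsScalarTower.of_algebraMap_smul fun _ _ => rfl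
  letI : Module R (P.presheaf.stalk z) := Module.compHom _ (f.stalkMap z).hom
  haveI : IsScalarTower R S (P.presheaf.stalk z) := IsScalarTower.of_algebraMap_smul fun _ _ => rfl
  have h : IsBaseChange S (pullη f N z) := isBaseChange_pullη f N z
  let e₁ : G.presheaf.stalk (f z) ≃ₗ[R] F.presheaf.stalk z :=
    { Equiv.ofBijective _ (bijective_pushStalk f F z) with
      map_add' := map_add _
      map_smul' := fun r e => QC70.pushStalk_smul f F z r e }
  -- the composite bijection
  let E : G.presheaf.stalk (f z) ⊗[R] N.presheaf.stalk (f z) ≃ₗ[R]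
      F.presheaf.stalk z ⊗[S] P.presheaf.stalk z :=
    (TensorProduct.congr e₁ (LinearEquiv.refl R _)).trans
      (((AlgebraTensorModule.cancelBaseChange R S S (F.presheaf.stalk z) (N.presheaf.stalk (f z))).symm.trans
        (AlgebraTensorModule.congr (LinearEquiv.refl S _) h.equiv)).restrictScalars R)
  have key : ∀ e : G.presheaf.stalk (f z) ⊗[R] N.presheaf.stalk (f z),
      QC70.pushStalk f (CohB1.tensorMod F P) z
        (stalkMapM (ValVan29.projHom f F N) (f z) (tensorStalk (f z) G N e)) =
      tensorStalk z F P (E e) := by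
    intro e
    induction e using TensorProduct.induction_on with
    | zero =>
      rw [map_zero E]
      erw [map_zero (tensorStalk (f z) G N).hom, map_zero (tensorStalk z F P).hom]
      exact (congrArg _ (map_zero (stalkLinear (ValVan29.projHom f F N) (f z)))).trans (map_zero _)
    | tmul a l =>
      have hE : E (a ⊗ₜ l) = QC70.pushStalk f F z a ⊗ₜ[S] pullη f N z l := by
        simp only [E, LinearEquiv.trans_apply, TensorProduct.congr_tmul, LinearEquiv.restrictScalars_apply,
          LinearEquiv.refl_apply, AlgebraTensorModule.cancelBaseChange_symm_tmul, AlgebraTensorModule.congr_tmul,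
          LinearEquiv.refl_apply]
        exact congrArg (e₁ a ⊗ₜ[S] ·) ((h.equiv_tmul 1 l).trans (one_smul _ _))
      rw [hE]
      obtain ⟨U, hU, a, rfl⟩ := germM_exist a
      obtain ⟨V, hV, l, rfl⟩ := germM_exist l
      have hW : f z ∈ U ⊓ V := ⟨hU, hV⟩
      rw [← germM_res (inf_le_left : U ⊓ V ≤ U) hW a, ← germM_res (inf_le_right : U ⊓ V ≤ V) hW l,
        pullη_germ, QC70.pushStalk_germ]
      erw [tensorStalk_germ (f z) G N hW, tensorStalk_germ z F P hW]
      rw [stalkMapM_germ, QC70.pushStalk_germ]
      exact congrArg (germM _ _ z hW) ((ValVan29.projPairing f F N).lift_tmul (U ⊓ V) _ _)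
    | add a b ha hb =>
      rw [map_add E]
      erw [map_add (tensorStalk (f z) G N).hom, map_add (tensorStalk z F P).hom]
      refine (congrArg _ (map_add (stalkLinear (ValVan29.projHom f F N) (f z)) _ _)).trans ?_
      exact (map_add _ _ _).trans (congrArg₂ (· + ·) ha hb)
  have hb : Function.Bijective fun e => QC70.pushStalk f (CohB1.tensorMod F P) z
      (stalkMapM (ValVan29.projHom f F N) (f z) (tensorStalk (f z) G N e)) := by
    simp only [key]
    exact (ConcreteCategory.bijective_of_isIso (tensorStalk z F P)).comp E.bijective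
  have h1 : Function.Bijective fun e => stalkMapM (ValVan29.projHom f F N) (f z) (tensorStalk (f z) G N e) :=
    (Function.Bijective.of_comp_iff' (bijective_pushStalk f (CohB1.tensorMod F P) z) _).1 hb
  exact (Function.Bijective.of_comp_iff _ (ConcreteCategory.bijective_of_isIso (tensorStalk (f z) G N))).1 h1

end Groth.Agent.KRR40
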