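import Groth.Agent.KRR40.LFDim
import Groth.Agent.CAlg1.Serre

/-!
Bounded projective dimension on a regular Noetherian scheme.
-/

set_option autoImplicit false
set_option linter.style.haveILetI false
set_option backward.isDefEq.respectTransparency.types false

noncomputable section

universe u

open CategoryTheory CategoryTheory.Limits AlgebraicGeometry
open Groth.Agent.DCK91

namespace Groth.Agent.KRR40

variable {X : Scheme.{u}} [IsLocallyNoetherian X]

omit [IsLocallyNoetherian X] in
lemma hasPD_zero_iff_free {M : X.Modules} (hM : Coh.IsCoh M) (x : X) :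
    HasProjectiveDimensionLE ((SP x).obj M) 0 ↔ Module.Free (X.presheaf.stalk x) (M.presheaf.stalk x) := by
  refine ⟨fun h => ?_, fun h => ?_⟩
  · haveI : M.IsFiniteType := hM.2
    haveI : Module.Finite (X.presheaf.stalk x) (M.presheaf.stalk x) :=
      Props58.LocFree.finite_stalk_of_isFiniteType x
    haveI : Projective ((SP x).obj M) := (projective_iff_hasProjectiveDimensionLE_zero _).mpr h
    haveI : Module.Projective (X.presheaf.stalk x) (M.presheaf.stalk x) :=
      ModuleCat.projective_of_module_projective ((SP x).obj M)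
    exact Module.free_of_flat_of_isLocalRing
  · haveI : Module.Free (X.presheaf.stalk x) ((SP x).obj M) := h
    exact (projective_iff_hasProjectiveDimensionLE_zero _).mp
      (ModuleCat.projective_of_categoryTheory_projective _)

/-- Projective dimension at most `d` at `x` spreads to a neighbourhood. -/
lemma exists_open_pd (hX : KRR.HasEnoughLocFree X) (x : X) : ∀ (d : ℕ) (F : X.Modules), Coh.IsCoh F →
    HasProjectiveDimensionLE ((SP x).obj F) d →
      ∃ U : X.Opens, x ∈ U ∧ ∀ y ∈ U, HasProjectiveDimensionLE ((SP y).obj F) d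
  | 0, F, hF, h => by
    obtain ⟨U, hU, -⟩ := Div89.exists_open_freeLocus hF
    exact ⟨U, (hU x).2 ((hasPD_zero_iff_free hF x).1 h), fun y hy => (hasPD_zero_iff_free hF y).2 ((hU y).1 hy)⟩
  | d + 1, F, hF, h => by
    obtain ⟨E, p, hE, hp⟩ := hX F hF
    have hS := K0Res3.epiSeq_shortExact p
    have hE0 := pd_mono (Nat.zero_le d) (pd_zero_of_isFinLocFree hE)
    have hK : HasProjectiveDimensionLE ((SP x).obj (kernel p)) d :=
      (hS.map_of_exact (SP x)).hasProjectiveDimensionLT_X₁ (d + 1) (hE0 x) h
    obtain ⟨U, hxU, hU⟩ := exists_open_pd hX x d (kernel p) (QC70.isCoh_kernel p (isCoh_of_vb hE) hF.1) hK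
    exact ⟨U, hxU, fun y hy => (hS.map_of_exact (SP y)).hasProjectiveDimensionLT_X₃ (d + 1) (hU y hy)
      (pd_mono (Nat.zero_le (d + 1)) (pd_zero_of_isFinLocFree hE) y)⟩

/-- On a regular Noetherian scheme the stalkwise projective dimension of a coherent module is bounded. -/
theorem exists_pd_of_regular [CompactSpace X] (hreg : ∀ x : X, IsRegularLocalRing (X.presheaf.stalk x))
    (hX : KRR.HasEnoughLocFree X) {F : X.Modules} (hF : Coh.IsCoh F) : ∃ d, PD d F := by
  choose d hd using fun x : X => show ∃ d : ℕ, HasProjectiveDimensionLE ((SP x).obj F) d from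
    haveI := hreg x
    ⟨_, CAlg1.hasPD_of_regular (X.presheaf.stalk x)
      (IsRegularLocalRing.spanFinrank_maximalIdeal (R := X.presheaf.stalk x)).symm ((SP x).obj F)⟩
  choose U hxU hU using fun x : X => exists_open_pd hX x (d x) F hF (hd x)
  obtain ⟨s, hs⟩ := isCompact_univ.elim_finite_subcover (fun x : X => ((U x : X.Opens) : Set X))
    (fun x => (U x).2) (fun x _ => Set.mem_iUnion.2 ⟨x, hxU x⟩)
  refine ⟨s.sup d, fun y => ?_⟩
  obtain ⟨x, hx, hyx⟩ := Set.mem_iUnion₂.1 (hs (Set.mem_univ y))
  haveI := hU x y hyx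
  have hle : d x ≤ s.sup d := Finset.le_sup hx
  exact hasProjectiveDimensionLT_of_ge _ (d x + 1) (s.sup d + 1) (by omega)

end Groth.Agent.KRR40
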