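import Groth.Agent.KRR40.ProjFormula
import Groth.Agent.Props58.LocFree.Basis
import Groth.Agent.DCK91.PullStalk

/-!
The projection formula for a finite locally free module.
-/

set_option autoImplicit false
set_option linter.style.haveILetI false
set_option backward.isDefEq.respectTransparency.types false
set_option maxHeartbeats 800000

noncomputable section

universe u

open CategoryTheory CategoryTheory.Limits AlgebraicGeometry TopologicalSpace Opposite TensorProduct
open Groth.Agent.QC70 Groth.Agent.Props58.LocFree Groth.Agent.DCK91 Groth.Agent.Amp73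

namespace Groth.Agent.KRR40

variable {X Y : Scheme.{u}}

/-- A local basis pulls back to a local basis. -/
theorem stalkBasis_pullS (f : X ⟶ Y) {F : Y.Modules} {U : Y.Opens} {n : ℕ}
    {s : Fin n → Γ(F, U)} (hs : StalkBasis s) : StalkBasis (fun i => pullS f F U (s i)) := by
  intro x hx
  letI := (f.stalkMap x).hom.toAlgebra
  letI := Module.compHom (((Scheme.Modules.pullback f).obj F).presheaf.stalk x) (f.stalkMap x).hom
  haveI : IsScalarTower (Y.presheaf.stalk (f x)) (X.presheaf.stalk x)
      (((Scheme.Modules.pullback f).obj F).presheaf.stalk x) :=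
    IsScalarTower.of_algebraMap_smul fun r e => rfl
  let E := (isBaseChange_pullη f F x).equiv
  let P := TensorProduct.piScalarRight (Y.presheaf.stalk (f x)) (X.presheaf.stalk x) (X.presheaf.stalk x) (Fin n)
  let L := TensorProduct.AlgebraTensorModule.congr (LinearEquiv.refl (X.presheaf.stalk x) (X.presheaf.stalk x))
    (hs.stalkEquiv (f x) hx)
  let T := P.symm.trans (L.trans E)
  have key : ∀ c, germComb (fun i => pullS f F U (s i)) x (U := f ⁻¹ᵁ U) hx c = T c := by
    intro c
    have hc : P.symm c = ∑ i, c i ⊗ₜ[Y.presheaf.stalk (f x)] Pi.single i 1 := by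
      rw [LinearEquiv.symm_apply_eq]
      funext j
      simp [P, Pi.single_apply]
    simp only [T, LinearEquiv.trans_apply, hc, map_sum, L, TensorProduct.AlgebraTensorModule.congr_tmul,
      LinearEquiv.refl_apply, E, IsBaseChange.equiv_tmul]
    refine Finset.sum_congr rfl fun i _ => ?_
    have e : hs.stalkEquiv (f x) hx (Pi.single i 1) = germM F U (f x) hx (s i) := by
      show Fintype.linearCombination _ _ (Pi.single i 1) = _
      rw [Fintype.linearCombination_apply_single, one_smul]
    rw [e]
    exact congrArg (c i • ·) (pullη_germ f F x hx (s i)).symm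
  rw [show germComb (fun i => pullS f F U (s i)) x (U := f ⁻¹ᵁ U) hx = ⇑T from funext key]
  exact T.bijective

variable {M : X.Modules} {U : X.Opens} {n : ℕ} {s : Fin n → Γ(M, U)}

lemma germM_comb (L : X.Modules) {W : X.Opens} (h : W ≤ U) (a : Fin n → Γ(L, W)) (x : X) (hx : x ∈ W) :
    germM (CohB1.tensorMod L M) W x hx (∑ i, tm L M (a i) (res M h (s i))) =
      tensorStalk x L M (∑ i, germM L W x hx (a i) ⊗ₜ germM M U x (h hx) (s i)) := by
  rw [germM_sum, map_sum]
  refine Finset.sum_congr rfl fun i _ => ?_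
  rw [← tensorStalk_germ x L M hx (a i) (res M h (s i)), germM_res]

lemma bijective_stalk_comb (hs : StalkBasis s) (L : X.Modules) (x : X) (hx : x ∈ U) :
    Function.Bijective fun c : Fin n → L.presheaf.stalk x =>
      (∑ i, c i ⊗ₜ[X.presheaf.stalk x] germM M U x hx (s i)) := by
  let e : (L.presheaf.stalk x) ⊗[X.presheaf.stalk x] (M.presheaf.stalk x) ≃ₗ[X.presheaf.stalk x]
      (Fin n → L.presheaf.stalk x) :=
    (TensorProduct.congr (LinearEquiv.refl _ _) (hs.stalkEquiv x hx).symm).trans
      (TensorProduct.piScalarRight (X.presheaf.stalk x) (X.presheaf.stalk x) (L.presheaf.stalk x) (Fin n))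
  have : (fun c : Fin n → L.presheaf.stalk x => ∑ i, c i ⊗ₜ[X.presheaf.stalk x] germM M U x hx (s i)) = ⇑e.symm := by
    funext c
    rw [LinearEquiv.eq_symm_apply, map_sum]
    funext j
    rw [Finset.sum_apply, Finset.sum_eq_single j]
    · have e1 : (hs.stalkEquiv x hx).symm (germM M U x hx (s j)) = Pi.single j 1 := by
        rw [LinearEquiv.symm_apply_eq]
        show _ = Fintype.linearCombination _ _ (Pi.single j 1)
        rw [Fintype.linearCombination_apply_single, one_smul]
      simp [e, e1]
    · intro i _ hij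
      have e1 : (hs.stalkEquiv x hx).symm (germM M U x hx (s i)) = Pi.single i 1 := by
        rw [LinearEquiv.symm_apply_eq]
        show _ = Fintype.linearCombination _ _ (Pi.single i 1)
        rw [Fintype.linearCombination_apply_single, one_smul]
      simp [e, e1, Ne.symm hij]
    · exact fun h => absurd (Finset.mem_univ j) h
  rw [this]
  exact e.symm.bijective

lemma bijective_tensorStalk_fun (x : X) (L M : X.Modules) :
    Function.Bijective fun t : (L.presheaf.stalk x) ⊗[X.presheaf.stalk x] (M.presheaf.stalk x) =>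
      tensorStalk x L M t := by
  haveI := DCK91.isIso_tensorStalk x L M
  exact ConcreteCategory.bijective_of_isIso (tensorStalk x L M)

lemma eq_of_tm_comb (hs : StalkBasis s) (L : X.Modules) {W : X.Opens} (h : W ≤ U) {a b : Fin n → Γ(L, W)}
    (e : ∑ i, tm L M (a i) (res M h (s i)) = ∑ i, tm L M (b i) (res M h (s i))) : a = b := by
  funext i
  refine TopCat.Presheaf.section_ext ⟨L.presheaf, L.isSheaf⟩ W (a i) (b i) fun y hy => ?_
  have e' := congrArg (germM (CohB1.tensorMod L M) W y hy) e
  rw [germM_comb, germM_comb] at e'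
  exact congrFun ((bijective_stalk_comb hs L y (h hy)).1 ((bijective_tensorStalk_fun y L M).1 e')) i

theorem bijective_tm_comb (hs : StalkBasis s) (L : X.Modules) {W : X.Opens} (h : W ≤ U) :
    Function.Bijective fun a : Fin n → Γ(L, W) => ∑ i, tm L M (a i) (res M h (s i)) := by
  refine ⟨fun _ _ e => eq_of_tm_comb hs L h e, fun z => ?_⟩
  have res_tm' : ∀ {A B : X.Opens} (hAB : A ≤ B) (hB : B ≤ U) (b : Fin n → Γ(L, B)),
      res (CohB1.tensorMod L M) hAB (∑ i, tm L M (b i) (res M hB (s i))) =
        ∑ i, tm L M (res L hAB (b i)) (res M (hAB.trans hB) (s i)) := fun {A B} hAB hB b => by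
    refine (map_sum _ _ _).trans (Finset.sum_congr rfl fun i _ => ?_)
    exact (res_tm hAB (b i) _).trans (congrArg (tm L M _) (Var76.LineBundle.res_res M hB hAB _))
  have hloc : ∀ y : W, ∃ (V : X.Opens) (hV : V ≤ W) (b : Fin n → Γ(L, V)),
      (y : X) ∈ V ∧ ∑ i, tm L M (b i) (res M (hV.trans h) (s i)) = res _ hV z := by
    intro y
    obtain ⟨t, ht⟩ := (bijective_tensorStalk_fun y.1 L M).2 (germM (CohB1.tensorMod L M) W y y.2 z)
    obtain ⟨c, rfl⟩ := (bijective_stalk_comb hs L y.1 (h y.2)).2 t
    choose V hyV a ha using fun i => germM_exist (c i)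
    let V₀ : X.Opens := ⟨(W : Set X) ∩ ⋂ i, (V i : Set X), W.2.inter (isOpen_iInter_of_finite fun i => (V i).2)⟩
    have hV₀W : V₀ ≤ W := fun z hz => hz.1
    have hV₀ : ∀ i, V₀ ≤ V i := fun i z hz => Set.mem_iInter.mp hz.2 i
    have hy₀ : (y : X) ∈ V₀ := ⟨y.2, Set.mem_iInter.mpr hyV⟩
    have e : germM (CohB1.tensorMod L M) V₀ y hy₀
        ((∑ i, tm L M (res L (hV₀ i) (a i)) (res M (hV₀W.trans h) (s i))) - res _ hV₀W z) = 0 := by
      refine (map_sub ((CohB1.tensorMod L M).presheaf.germ V₀ y hy₀).hom _ _).trans (sub_eq_zero.2 ?_)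
      refine (germM_comb L _ _ y.1 hy₀).trans (Eq.trans ?_ (germM_res hV₀W hy₀ z).symm)
      refine Eq.trans (congrArg (tensorStalk y.1 L M) (Finset.sum_congr rfl fun i _ => ?_)) ht
      rw [germM_res, ha]
      rfl
    obtain ⟨V', hV', hyV', h0⟩ := germM_eq_zero e
    refine ⟨V', hV'.trans hV₀W, fun i => res L hV' (res L (hV₀ i) (a i)), hyV', ?_⟩
    rw [QC70.res_sub, sub_eq_zero, res_tm', QC70.res_res] at h0
    exact h0
  choose V hV b hyV hb using hloc
  have hcov : W ≤ ⨆ y, V y := fun y hy => Opens.mem_iSup.mpr ⟨⟨y, hy⟩, hyV ⟨y, hy⟩⟩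
  have hcomp : ∀ (i : Fin n) (y y' : W),
      res L (inf_le_left : V y ⊓ V y' ≤ V y) (b y i) = res L (inf_le_right : V y ⊓ V y' ≤ V y') (b y' i) := by
    intro i y y'
    refine congrFun (eq_of_tm_comb hs L ((inf_le_left : V y ⊓ V y' ≤ V y).trans ((hV y).trans h))
      (a := fun j => res L inf_le_left (b y j)) (b := fun j => res L inf_le_right (b y' j)) ?_) i
    have e₁ := congrArg (res _ (inf_le_left : V y ⊓ V y' ≤ V y)) (hb y)
    have e₂ := congrArg (res _ (inf_le_right : V y ⊓ V y' ≤ V y')) (hb y')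
    rw [res_tm', QC70.res_res] at e₁ e₂
    exact e₁.trans e₂.symm
  choose a ha _ using fun i => TopCat.Sheaf.existsUnique_gluing' ⟨L.presheaf, L.isSheaf⟩ V W
    (fun y => homOfLE (hV y)) hcov (fun y => b y i) (fun y y' => hcomp i y y')
  refine ⟨a, section_ext' (CohB1.tensorMod L M) V hV hcov _ _ fun y => ?_⟩
  rw [← hb y, res_tm']
  exact Finset.sum_congr rfl fun i _ => congrArg (fun t => tm L M t _) (ha i y)

/-- The projection formula map is an isomorphism for a finite locally free module on the base. -/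
theorem isIso_projHom_vb {X Y : Scheme.{u}} (f : X ⟶ Y) (F : X.Modules) {M : Y.Modules}
    (hM : FlatMod.IsFinLocFree M) : IsIso (ValVan29.projHom f F M) := by
  refine ValVan29.isIso_of_bijective_small _ fun y => ?_
  obtain ⟨U, n, s, hyU, hs⟩ := (isFinLocFree_iff (M := M)).1 hM y
  refine ⟨U, hyU, fun V hV => ?_⟩
  have hψ := bijective_tm_comb hs ((Coh.push f).obj F) hV
  refine (Function.Bijective.of_comp_iff _ hψ).1 ?_
  have hF := bijective_tm_comb (stalkBasis_pullS f hs) F (f.preimage_mono hV)
  refine (Iff.of_eq (congrArg Function.Bijective (funext fun a => ?_))).mpr hF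
  refine (map_sum ((ValVan29.projHom f F M).app V).hom _ _).trans (Finset.sum_congr rfl fun i _ => ?_)
  refine ((ValVan29.projPairing f F M).lift_tmul V (a i) (res M hV (s i))).trans ?_
  exact congrArg (tm F ((Scheme.Modules.pullback f).obj M) (U := f ⁻¹ᵁ V) (a i)) (res_pullS f M hV (s i)).symm

/-- The projection formula for a finite locally free module. -/
def projIsoVB {X Y : Scheme.{u}} (f : X ⟶ Y) (F : X.Modules) {M : Y.Modules} (hM : FlatMod.IsFinLocFree M) :
    CohB1.tensorMod ((Coh.push f).obj F) M ≅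
      (Coh.push f).obj (CohB1.tensorMod F ((Scheme.Modules.pullback f).obj M)) :=
  @asIso _ _ _ _ (ValVan29.projHom f F M) (isIso_projHom_vb f F hM)

end Groth.Agent.KRR40
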