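import Groth.Agent.Coh69.Push
import Groth.Agent.RD97.LES

/-!
Cohomology vanishing over an open of the base from vanishing of higher direct images.
-/

set_option autoImplicit false
set_option linter.style.haveILetI false

noncomputable section

universe u

open CategoryTheory CategoryTheory.Limits TopologicalSpace Opposite

namespace Groth.Agent.KRR40

open Groth.Agent.Coh69

variable {X Y : TopCat.{u}} (f : X ⟶ Y)

/-- The short exact sequence stays exact after direct image when the first higher direct image vanishes. -/
lemma pushSh_shortExact_of_isZero {S : ShortComplex (Sheaf (Opens.grothendieckTopology X) AddCommGrpCat.{u})}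
    (hS : S.ShortExact) (h : IsZero (((pushSh f).rightDerived 1).obj S.X₁)) :
    (S.map (pushSh f)).ShortExact := by
  haveI := hS.mono_f
  haveI := hS.epi_g
  haveI : PreservesFiniteLimits (pushSh f) := by
    haveI : PreservesLimitsOfSize.{0, 0} (pushSh f) :=
      (TopCat.Sheaf.pullbackPushforwardAdjunction AddCommGrpCat.{u} f).rightAdjoint_preservesLimits
    infer_instance
  obtain ⟨Δ⟩ := RD97.nonempty_derivedLES (pushSh f)
  haveI : Epi (((pushSh f).rightDerived 0).map S.g) :=
    (Δ.exact₃ S hS 0 1 rfl).epi_f (h.eq_of_tgt _ _)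
  haveI : Epi (S.map (pushSh f)).g := by
    have e := (pushSh f).rightDerivedZeroIsoSelf
    have hn : (pushSh f).map S.g =
        e.inv.app S.X₂ ≫ ((pushSh f).rightDerived 0).map S.g ≫ e.hom.app S.X₃ := by
      rw [e.hom.naturality, Iso.inv_hom_id_app_assoc]
    show Epi ((pushSh f).map S.g)
    rw [hn]
    infer_instance
  haveI : Mono (S.map (pushSh f)).f := (pushSh f).map_mono S.f
  exact { exact := ShortComplex.exact_of_f_is_kernel _
            (KernelFork.mapIsLimit _ hS.fIsKernel (pushSh f)) }

/-- If the higher direct images vanish and the direct image has no cohomology on `V`, there is no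
cohomology on the preimage of `V`. -/
theorem subsingleton_HE_preimage (V : Opens Y) :
    ∀ (n : ℕ) (M : Sheaf (Opens.grothendieckTopology X) AddCommGrpCat.{u}),
      (∀ j, IsZero (((pushSh f).rightDerived (j + 1)).obj M)) →
      (∀ k, Subsingleton (HE ((pushSh f).obj M) (k + 1) V)) →
      Subsingleton (HE M (n + 1) ((Opens.map f).obj V))
  | 0, M, h, h' => by
    let S := SiteCoh.injSES M
    have hS : S.ShortExact := SiteCoh.injSES_shortExact M
    have hP := pushSh_shortExact_of_isZero f hS (h 0)
    haveI := he_subsingleton_of_injective S.X₂ 0 ((Opens.map f).obj V)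
    haveI := h' 0
    refine subsingleton_H1_of_surjective hS ((Opens.map f).obj V) fun s => ?_
    obtain ⟨t, ht⟩ := @surjective_of_subsingleton_H1 _ _ _ _ hP V (h' 0)
      s
    exact ⟨t, ht⟩
  | n + 1, M, h, h' => by
    let S := SiteCoh.injSES M
    have hS : S.ShortExact := SiteCoh.injSES_shortExact M
    have hP := pushSh_shortExact_of_isZero f hS (h 0)
    obtain ⟨Δ⟩ := RD97.nonempty_derivedLES (pushSh f)
    have hI : ∀ j, IsZero (((pushSh f).rightDerived (j + 1)).obj S.X₂) := fun j =>
      (pushSh f).isZero_rightDerived_obj_injective_succ j S.X₂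
    haveI := fun m => he_subsingleton_of_injective S.X₂ m ((Opens.map f).obj V)
    haveI : Injective (S.map (pushSh f)).X₂ := pushSh_injective f S.X₂
    haveI := fun m => he_subsingleton_of_injective (S.map (pushSh f)).X₂ m V
    haveI := subsingleton_HE_preimage V n S.X₃
      (fun j => (Δ.exact₃ S hS (j + 1) (j + 2) rfl).isZero_X₂
        ((hI j).eq_of_src _ _) ((h (j + 1)).eq_of_tgt _ _))
      (fun k => @ext_subsingleton_X₃ _ _ _ _ _ hP (CohCx.freeSheaf _ V) (k + 1) _ (h' (k + 1)))
    exact (extShiftEquiv hS _ n).symm.toEquiv.subsingleton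

end Groth.Agent.KRR40
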