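import Groth.Agent.KRR40.PnPullVanish
import Groth.Agent.Crv77.Sections
import Groth.Agent.Props58.PullTensor

/-!
The direct image of an inverse image from the base is the module itself.
-/

set_option autoImplicit false
set_option linter.style.haveILetI false
set_option backward.isDefEq.respectTransparency.types false
set_option maxSynthPendingDepth 6

noncomputable section

universe u

open CategoryTheory CategoryTheory.Limits AlgebraicGeometry TopologicalSpace Opposite
open Groth.Agent.Var76.Reg Groth.Agent.Var76.LineBundle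

namespace Groth.Agent.KRR40

variable (n : ℕ) (A : Type u) [CommRing A]

lemma posCell_zero : Pn71.posCell (ι := Fin (n + 1)) 0 = {0} := by
  ext m
  refine ⟨fun h => Finsupp.ext fun i => ?_, ?_⟩
  · exact (Finset.sum_eq_zero_iff_of_nonneg fun j _ => h.2 j).1 h.1 i (Finset.mem_univ i)
  · rintro rfl
    exact ⟨Finset.sum_eq_zero fun i _ => rfl, fun i => le_rfl⟩

/-- Global functions on projective space over a ring come from the ring. -/
theorem surjective_toGlobal :
    Function.Surjective fun a : A =>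
      (show Γ(CohB1.ProjSpace n A, ⊤) from Coh.toGlobal (CohB1.ProjSpace n A ↘ Spec (CommRingCat.of A)) a) := by
  let P := CohB1.ProjSpace n A
  let O := Coh.structureModule P
  obtain ⟨i⟩ := Var76.Reg.nonempty_twist_zero (n := n) (A := A)
  let v : Pn71.posCell (ι := Fin (n + 1)) 0 := ⟨0, (posCell_zero n).ge rfl⟩
  haveI : Subsingleton (Pn71.posCell (ι := Fin (n + 1)) 0) :=
    ⟨fun a b => Subtype.ext (((posCell_zero n).le a.2 : a.1 = 0).trans ((posCell_zero n).le b.2 : b.1 = 0).symm)⟩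
  haveI : Unique (Pn71.posCell (ι := Fin (n + 1)) 0) := uniqueOfSubsingleton v
  let e : Coh.HH P O 0 ≃ₗ[A] A := (Crv77.hEquiv A i.symm 0).trans ((Pn71.hhZeroEquivNonneg n A 0 le_rfl).trans
    ((Finsupp.supportedEquivFinsupp _).trans (Finsupp.LinearEquiv.finsuppUnique A A _)))
  let g : Γ(P, ⊤) := Crv77.sec O (e.symm 1)
  let t : A → Γ(P, ⊤) := fun a => Coh.toGlobal (P ↘ Spec (CommRingCat.of A)) a
  have key : ∀ s : Γ(P, ⊤), ∃ a, s = t a * g := fun s => by
    obtain ⟨x, hx⟩ := (Crv77.sec O).surjective s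
    refine ⟨e x, hx.symm.trans ?_⟩
    have h1 : x = e x • e.symm 1 := by
      rw [← map_smul, smul_eq_mul, mul_one, LinearEquiv.symm_apply_apply]
    rw [h1]
    refine (Crv77.sec_smul A O (e x) (e.symm 1)).trans ?_
    rw [← h1]
    rfl
  obtain ⟨c, hc⟩ := key 1
  obtain ⟨b, hb⟩ := key (g * g)
  have hg : g = t b := by
    calc g = (t c * g) * g := by rw [← hc, one_mul]
      _ = t c * (t b * g) := by rw [mul_assoc, hb]
      _ = t b * (t c * g) := mul_left_comm _ _ _
      _ = t b := by rw [← hc, mul_one]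
  intro s
  obtain ⟨a, ha⟩ := key s
  refine ⟨a * b, ?_⟩
  show t (a * b) = s
  rw [ha, hg]
  exact map_mul _ a b

/-- Global sections of the inverse image of a quasi-coherent module come from the base. -/
theorem surjective_pullS_toSpec {G : (Spec (CommRingCat.of A)).Modules} (hG : Coh.IsQCoh G) :
    Function.Surjective (Amp73.pullS (CohB1.ProjSpace.toSpec n A) G ⊤) := by
  intro t
  let q := CohB1.ProjSpace.toSpec n A
  let Sp := Spec (CommRingCat.of A)
  obtain ⟨κ, π, hπ⟩ := exists_epi_free_affine hG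
  let O := Coh.structureModule Sp
  let F0 := ∐ fun _ : κ => O
  have hF0 : F0.IsQuasicoherent :=
    QC70.isQuasicoherent_coproduct _ fun _ => Mero90.isQCoh_of_isInvertible EGA73.isInvertible_structureModule
  have hK : (kernel π).IsQuasicoherent := by
    haveI := hF0
    haveI : G.IsQuasicoherent := hG
    exact QC70.isQuasicoherent_kernel π
  -- lift to the inverse image of the free module
  have hS := shortExact_pullback_of_flat q (KData.kernel_shortExact π)
  have hsurj : Function.Surjective (Crv77.hmap A ((Scheme.Modules.pullback q).map π) 0) := fun x => by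
    refine (Crv77.exact_g_δ A hS 0 x).1 ?_
    have h := subsingleton_HH_twist_pullback n A 0 (by omega) (n + 1) 1 le_rfl (by omega) (kernel π) hK
    obtain ⟨e⟩ := Var76.Reg.nonempty_twist_zero (n := n) (A := A)
    haveI := ValVan29.subsingleton_hh_of_iso
      (EGA73.tensIso e (Iso.refl _) ≪≫ EGA73.tensUnitLeft ((Scheme.Modules.pullback q).obj (kernel π))) 1 h
    exact Subsingleton.elim (α := Coh.HH (CohB1.ProjSpace n A) ((Scheme.Modules.pullback q).obj (kernel π)) 1) _ _
  obtain ⟨x, hx⟩ := (Crv77.sec _).surjective t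
  obtain ⟨y, rfl⟩ := hsurj x
  rw [Crv77.sec_hmap] at hx
  subst hx
  let z : Γ((Scheme.Modules.pullback q).obj F0, ⊤) := Crv77.sec _ y
  suffices hz : ∃ m : Γ(F0, ⊤), Amp73.pullS q F0 ⊤ m = z by
    obtain ⟨m, hm⟩ := hz
    exact ⟨π.app ⊤ m, (Amp73.map_app_pullS q π ⊤ m).symm.trans (congrArg _ hm)⟩
  -- finite support
  haveI : PreservesColimitsOfSize.{u, u} (Scheme.Modules.pullback q) :=
    (Scheme.Modules.pullbackPushforwardAdjunction q).leftAdjoint_preservesColimits
  let Φ := PreservesCoproduct.iso (Scheme.Modules.pullback q) (fun _ : κ => O)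
  let qO : κ → (CohB1.ProjSpace n A).Modules := fun _ => (Scheme.Modules.pullback q).obj O
  haveI : CompactSpace (CohB1.ProjSpace n A) :=
    haveI := Approx60.Segre.isProper_toSpec A n
    QuasiCompact.compactSpace_of_compactSpace q
  obtain ⟨S, hS'⟩ := FMK72.exists_finset_section qO (V := (⊤ : (CohB1.ProjSpace n A).Opens))
    (by rw [Opens.coe_top]; exact isCompact_univ) (Φ.hom.app ⊤ z)
  have hO : ∀ w : Γ((Scheme.Modules.pullback q).obj O, (⊤ : (CohB1.ProjSpace n A).Opens)),
      ∃ a : Γ(O, ⊤), Amp73.pullS q O ⊤ a = w := fun w => by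
    let st := (PicLoc.pullbackStructureIso q)
    obtain ⟨r, hr⟩ := surjective_toGlobal n A ((st.hom.app ⊤ w : Γ(Coh.structureModule _, ⊤)) : Γ(CohB1.ProjSpace n A, ⊤))
    let a : Γ(Sp, ⊤) := (Scheme.ΓSpecIso (CommRingCat.of A)).inv r
    refine ⟨(a : Γ(O, ⊤)), (ConcreteCategory.bijective_of_isIso (st.hom.app ⊤)).1 ?_⟩
    refine Eq.trans ?_ hr
    rw [show (a : Γ(O, ⊤)) = a • ((1 : Γ(Sp, ⊤)) : Γ(O, ⊤)) from (mul_one a).symm]
    refine (congrArg (st.hom.app ⊤) (Amp73.pullS_smul q O ⊤ a _)).trans ?_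
    refine (Scheme.Modules.Hom.app_smul _ _ _).trans ?_
    refine (congrArg (q.app ⊤ a • ·) (Amp73.pullbackStructureIso_pullS q ⊤)).trans ?_
    exact mul_one (show Γ(CohB1.ProjSpace n A, ⊤) from q.app ⊤ a)
  choose a ha using fun j => hO ((QC70.coprojection qO j).app ⊤ (Φ.hom.app ⊤ z))
  refine ⟨∑ j ∈ S, (Sigma.ι (fun _ : κ => O) j).app ⊤ (a j), (ConcreteCategory.bijective_of_isIso (Φ.hom.app ⊤)).1 ?_⟩
  rw [hS', FMK72.sum_app]
  refine (congrArg (fun v => Φ.hom.app ⊤ v) (map_sum (((Scheme.Modules.pullbackPushforwardAdjunction q).unit.app F0).app ⊤).hom _ _)).trans ?_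
  refine (map_sum _ _ _).trans (Finset.sum_congr rfl fun j _ => ?_)
  have h1 : (Scheme.Modules.pullback q).map (Sigma.ι (fun _ : κ => O) j) ≫ Φ.hom = Sigma.ι qO j :=
    (Iso.eq_comp_inv Φ).1 (ι_comp_sigmaComparison (Scheme.Modules.pullback q) (fun _ : κ => O) j).symm
  refine (congrArg (fun v => Φ.hom.app ⊤ v) (Amp73.map_app_pullS q (Sigma.ι (fun _ : κ => O) j) ⊤ (a j)).symm).trans ?_
  refine (congrArg (fun φ => Scheme.Modules.Hom.app φ ⊤ (Amp73.pullS q O ⊤ (a j))) h1).trans ?_
  exact congrArg (fun v => (Sigma.ι qO j).app ⊤ v) (ha j)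

variable (T : Scheme.{u})

lemma bijective_pullS_openImm {X Y : Scheme.{u}} (j : X ⟶ Y) [IsOpenImmersion j] (N : Y.Modules) {U : Y.Opens}
    (hU : U ≤ j.opensRange) : Function.Bijective (Amp73.pullS j N U) := by
  have e : j ''ᵁ (j ⁻¹ᵁ U) = U := by
    rw [Scheme.Hom.image_preimage_eq_opensRange_inf, inf_eq_right.2 hU]
  have h : (Amp73.pullS j N U : Γ(N, U) → _) = (((Scheme.Modules.restrictFunctorIsoPullback j).hom.app N).app (j ⁻¹ᵁ U))
      ∘ (fun m => ((res N (j.image_preimage_le U) m : Γ(N, j ''ᵁ (j ⁻¹ᵁ U))) : Γ(N.restrict j, j ⁻¹ᵁ U))) :=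
    funext fun m => (Props58.PullTensor.app_pullS_openImm j N U m).symm
  rw [h]
  refine (ConcreteCategory.bijective_of_isIso _).comp ?_
  exact ⟨fun a b hab => by
      have := congrArg (res N e.ge) hab
      rwa [Var76.LineBundle.res_res, Var76.LineBundle.res_res, Amp73.res_self, Amp73.res_self] at this,
    fun c => ⟨res N e.ge (c : Γ(N, j ''ᵁ (j ⁻¹ᵁ U))), (Var76.LineBundle.res_res N _ _ _).trans (Amp73.res_self N _)⟩⟩

lemma surjective_pullS_of_comp {X Y Z : Scheme.{u}} (f : X ⟶ Y) (g : Y ⟶ Z) (M : Z.Modules) (U : Z.Opens)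
    (h₁ : Function.Surjective (Amp73.pullS g M U))
    (h₂ : Function.Surjective (Amp73.pullS f ((Scheme.Modules.pullback g).obj M) (g ⁻¹ᵁ U))) :
    Function.Surjective (Amp73.pullS (f ≫ g) M U) := fun w => by
  obtain ⟨v, hv⟩ := h₂ (((Scheme.Modules.pullbackComp f g).inv.app M).app ((f ≫ g) ⁻¹ᵁ U) w)
  obtain ⟨m, rfl⟩ := h₁ v
  exact ⟨m, (ConcreteCategory.bijective_of_isIso
    (((Scheme.Modules.pullbackComp f g).inv.app M).app ((f ≫ g) ⁻¹ᵁ U))).1 ((Props58.PullTensor.pullS_comp f g M U m).trans hv)⟩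

lemma surjective_of_comp_pullS {X Y Z : Scheme.{u}} (f : X ⟶ Y) (g : Y ⟶ Z) (M : Z.Modules) (U : Z.Opens)
    (h : Function.Surjective (Amp73.pullS (f ≫ g) M U))
    (h₂ : Function.Injective (Amp73.pullS f ((Scheme.Modules.pullback g).obj M) (g ⁻¹ᵁ U))) :
    Function.Surjective (Amp73.pullS g M U) := fun v => by
  obtain ⟨w, hw⟩ := (ConcreteCategory.bijective_of_isIso
    (((Scheme.Modules.pullbackComp f g).inv.app M).app ((f ≫ g) ⁻¹ᵁ U))).2 (Amp73.pullS f _ _ v)
  obtain ⟨m, rfl⟩ := h w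
  exact ⟨m, h₂ ((Props58.PullTensor.pullS_comp f g M U m).symm.trans hw)⟩

/-- Over affine opens of the base every section of an inverse image comes from the base. -/
theorem surjective_pullS_pr {G : T.Modules} (hG : Coh.IsQCoh G) {V : T.Opens} (hV : IsAffineOpen V) :
    Function.Surjective (Amp73.pullS (KRR.pr n T) G V) := by
  haveI : G.IsQuasicoherent := hG
  have h₁ : Function.Surjective (Amp73.pullS (CohB1.ProjSpace.toSpec n Γ(T, V) ≫ hV.fromSpec) G V) := by
    refine surjective_pullS_of_comp _ _ G V (bijective_pullS_openImm _ G hV.opensRange_fromSpec.ge).2 ?_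
    have key : ∀ (U : (Spec Γ(T, V)).Opens), U = ⊤ →
        Function.Surjective (Amp73.pullS (CohB1.ProjSpace.toSpec n Γ(T, V))
          ((Scheme.Modules.pullback hV.fromSpec).obj G) U) := by
      rintro U rfl
      exact surjective_pullS_toSpec n Γ(T, V) (QCPull72.isQuasicoherent_pullback _ G)
    exact key _ hV.fromSpec_preimage_self
  have h₂ : ∀ {Q : Scheme.{u}} (f g : Q ⟶ T), f = g → Function.Surjective (Amp73.pullS g G V) →
      Function.Surjective (Amp73.pullS f G V) := by
    rintro Q f g rfl h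
    exact h
  refine surjective_of_comp_pullS (affPn n T hV) _ G V (h₂ _ _ (affPn_pr n T hV) h₁)
    (bijective_pullS_openImm _ _ ?_).1
  rw [← Scheme.Hom.image_top_eq_opensRange, affPn_image_top]

/-- The unit of inverse and direct image is an epimorphism on quasi-coherent modules. -/
theorem epi_unit_pr {G : T.Modules} (hG : Coh.IsQCoh G) :
    Epi ((Scheme.Modules.pullbackPushforwardAdjunction (KRR.pr n T)).unit.app G) := by
  refine QC70.epi_of_locally_surjective _ fun W s y hy => ?_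
  obtain ⟨V, hV, hyV, hVW⟩ := exists_isAffineOpen_mem_and_subset hy
  obtain ⟨m, hm⟩ := surjective_pullS_pr n T hG hV (res _ ((KRR.pr n T).preimage_mono hVW) s)
  exact ⟨V, hVW, m, hyV, hm⟩

end Groth.Agent.KRR40
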