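import Mathlib.CategoryTheory.Abelian.Projective.Resolution
import Mathlib.Algebra.Homology.QuasiIso
import Mathlib.Algebra.Homology.ShortComplex.ShortExact

/-!
Splicing short exact sequences into a resolution.
-/

set_option autoImplicit false
set_option linter.style.haveILetI false
set_option backward.isDefEq.respectTransparency false

noncomputable section

open CategoryTheory CategoryTheory.Limits

namespace Groth.Agent.KRR40

universe v u

variable {C : Type u} [Category.{v} C] [Abelian C]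
  (X E : ℕ → C) (p : ∀ i, X i ⟶ E i) (j : ∀ i, E (i + 1) ⟶ X i) (w : ∀ i, j i ≫ p i = 0)

/-- The complex obtained by splicing. -/
def spliceComplex : ChainComplex C ℕ :=
  ChainComplex.of X (fun i => p (i + 1) ≫ j i) (fun i => by rw [Category.assoc, ← Category.assoc (j (i + 1)), w, zero_comp, comp_zero])

lemma spliceComplex_d (i : ℕ) : (spliceComplex X E p j w).d (i + 1) i = p (i + 1) ≫ j i :=
  by simp [spliceComplex, ChainComplex.of_d]

/-- The augmentation. -/
def spliceAug : spliceComplex X E p j w ⟶ (ChainComplex.single₀ C).obj (E 0) :=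
  (ChainComplex.toSingle₀Equiv _ _).symm ⟨p 0, by
    rw [spliceComplex_d]
    exact (Category.assoc _ _ _).trans ((congrArg (p 1 ≫ ·) (w 0)).trans comp_zero)⟩

theorem quasiIso_spliceAug (h : ∀ i, (ShortComplex.mk (j i) (p i) (w i)).ShortExact) :
    QuasiIso (spliceAug X E p j w) := by
  refine ⟨fun n => ?_⟩
  cases n with
  | zero =>
    rw [ChainComplex.quasiIsoAt₀_iff, ShortComplex.quasiIso_iff_of_zeros' _ rfl rfl rfl]
    have he : Epi (p 0) := (h 0).epi_g
    refine ⟨?_, ?_⟩
    · let S₁ : ShortComplex C := ShortComplex.mk (p 1 ≫ j 0) (p 0) (by rw [Category.assoc, w, comp_zero])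
      let φ : S₁ ⟶ ShortComplex.mk (j 0) (p 0) (w 0) :=
        { τ₁ := p 1
          τ₂ := 𝟙 _
          τ₃ := 𝟙 _ }
      haveI : Epi φ.τ₁ := (h 1).epi_g
      haveI : IsIso φ.τ₂ := inferInstanceAs (IsIso (𝟙 _))
      haveI : Mono φ.τ₃ := inferInstanceAs (Mono (𝟙 _))
      refine ShortComplex.exact_of_iso ?_ ((ShortComplex.exact_iff_of_epi_of_isIso_of_mono φ).2 (h 0).exact)
      exact ShortComplex.isoMk (Iso.refl _) (Iso.refl _) (Iso.refl _) (by simpa [S₁] using spliceComplex_d X E p j w 0)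
        (by simp [S₁, spliceAug, ChainComplex.toSingle₀Equiv_symm_apply_f_zero])
    · simpa [spliceAug, ChainComplex.toSingle₀Equiv_symm_apply_f_zero] using he
  | succ n =>
    rw [quasiIsoAt_iff_exactAt' (hL := ChainComplex.exactAt_succ_single_obj _ _),
      HomologicalComplex.exactAt_iff' _ (n + 1 + 1) (n + 1) n (by simp) (by simp)]
    let S₁ : ShortComplex C := ShortComplex.mk (p (n + 1 + 1) ≫ j (n + 1)) (p (n + 1) ≫ j n)
      (by rw [Category.assoc, ← Category.assoc (j (n + 1)), w, zero_comp, comp_zero])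
    let S₂ : ShortComplex C := ShortComplex.mk (j (n + 1)) (p (n + 1) ≫ j n)
      (by rw [← Category.assoc, w, zero_comp])
    let φ : S₁ ⟶ S₂ :=
      { τ₁ := p (n + 1 + 1)
        τ₂ := 𝟙 _
        τ₃ := 𝟙 _ }
    let ψ : ShortComplex.mk (j (n + 1)) (p (n + 1)) (w _) ⟶ S₂ :=
      { τ₁ := 𝟙 _
        τ₂ := 𝟙 _
        τ₃ := j n }
    haveI : Epi φ.τ₁ := (h (n + 1 + 1)).epi_g
    haveI : IsIso φ.τ₂ := inferInstanceAs (IsIso (𝟙 _))
    haveI : Mono φ.τ₃ := inferInstanceAs (Mono (𝟙 _))
    haveI : Epi ψ.τ₁ := inferInstanceAs (Epi (𝟙 _))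
    haveI : IsIso ψ.τ₂ := inferInstanceAs (IsIso (𝟙 _))
    haveI : Mono ψ.τ₃ := (h n).mono_f
    refine ShortComplex.exact_of_iso ?_ ((ShortComplex.exact_iff_of_epi_of_isIso_of_mono φ).2
      ((ShortComplex.exact_iff_of_epi_of_isIso_of_mono ψ).1 (h (n + 1)).exact))
    exact ShortComplex.isoMk (Iso.refl _) (Iso.refl _) (Iso.refl _) (by simp [S₁, spliceComplex, ChainComplex.of_d])
      (by simp [S₁, spliceComplex, ChainComplex.of_d])

end Groth.Agent.KRR40
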