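import Groth.Agent.KRR40.RelGen
import Groth.Agent.KRR40.PnUnit
import Groth.Agent.KRR40.Splice

/-!
The resolution of a regular module by twisted inverse images.
-/

set_option autoImplicit false
set_option linter.style.haveILetI false
set_option backward.isDefEq.respectTransparency.types false
set_option maxSynthPendingDepth 6

noncomputable section

universe u

open CategoryTheory CategoryTheory.Limits AlgebraicGeometry TopologicalSpace Opposite
open Groth.Agent.Var76.Reg

namespace Groth.Agent.KRR40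

variable (n : ℕ) (T : Scheme.{u})

/-- The counit. -/
abbrev cou (F : (KRR.PY n T).Modules) :=
  (Scheme.Modules.pullbackPushforwardAdjunction (KRR.pr n T)).counit.app F

variable {n T} {F : (KRR.PY n T).Modules}

lemma isQCoh_pushPr (hF : Coh.IsQCoh F) : Coh.IsQCoh ((Scheme.Modules.pushforward (KRR.pr n T)).obj F) :=
  haveI : F.IsQuasicoherent := hF
  QCqs72.isQuasicoherent_pushforward _ _

lemma isQCoh_pullPr {G : T.Modules} (hG : Coh.IsQCoh G) :
    Coh.IsQCoh ((Scheme.Modules.pullback (KRR.pr n T)).obj G) :=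
  haveI : G.IsQuasicoherent := hG
  QCPull72.isQuasicoherent_pullback _ G

lemma isQCoh_kernel_cou (hF : Coh.IsQCoh F) : Coh.IsQCoh (kernel (cou n T F)) := by
  haveI : F.IsQuasicoherent := hF
  haveI : ((𝟭 (KRR.PY n T).Modules).obj F).IsQuasicoherent := hF
  haveI : (((Scheme.Modules.pushforward (KRR.pr n T)) ⋙ Scheme.Modules.pullback (KRR.pr n T)).obj F).IsQuasicoherent :=
    isQCoh_pullPr (isQCoh_pushPr hF)
  exact QC70.isQuasicoherent_kernel _

lemma counit_shortExact (hF : Coh.IsQCoh F) (hreg : KRR.IsRegSheaf n T F) :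
    (ShortComplex.mk (kernel.ι (cou n T F)) (cou n T F) (kernel.condition _)).ShortExact :=
  haveI := epi_counit_of_reg hF hreg
  KData.kernel_shortExact _

/-- The twisted kernel of the counit is regular. -/
theorem isRegSheaf_kernel_cou (hF : Coh.IsQCoh F) (hreg : KRR.IsRegSheaf n T F) :
    KRR.IsRegSheaf n T (KRR.twF n T 1 (kernel (cou n T F))) := by
  let G := (Scheme.Modules.pushforward (KRR.pr n T)).obj F
  let S : ShortComplex (KRR.PY n T).Modules :=
    ShortComplex.mk (X₂ := (Scheme.Modules.pullback (KRR.pr n T)).obj G) (X₃ := F)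
      (kernel.ι (cou n T F)) (cou n T F) (kernel.condition _)
  have hS : S.ShortExact := counit_shortExact hF hreg
  have hG : Coh.IsQCoh G := isQCoh_pushPr hF
  have h₂ : KRR.IsRegSheaf n T (KRR.twF n T 1 S.X₂) :=
    isRegSheaf_twF_of_nonneg n T _ (isQCoh_pullPr hG) (isRegSheaf_pullback n T hG) zero_le_one
  have h := (Scheme.Modules.pullbackPushforwardAdjunction (KRR.pr n T)).right_triangle_components F
  have hepi : Epi ((Scheme.Modules.pushforward (KRR.pr n T)).map S.g) := (IsSplitEpi.mk' ⟨_, h⟩).epi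
  exact isRegSheaf_twF_X₁ n T (S := S) hS h₂ hreg hepi

/-- The direct image of the kernel of the counit is zero. -/
theorem isZero_push_kernel_cou (hF : Coh.IsQCoh F) :
    IsZero ((Scheme.Modules.pushforward (KRR.pr n T)).obj (kernel (cou n T F))) := by
  let P := Scheme.Modules.pushforward (KRR.pr n T)
  have h := (Scheme.Modules.pullbackPushforwardAdjunction (KRR.pr n T)).right_triangle_components F
  let η := (Scheme.Modules.pullbackPushforwardAdjunction (KRR.pr n T)).unit.app (P.obj F)
  haveI : Epi η := epi_unit_pr n T (isQCoh_pushPr hF)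
  haveI : IsSplitMono η := ⟨⟨P.map (cou n T F), h⟩⟩
  haveI : IsIso η := isIso_of_epi_of_isSplitMono η
  have hiso : IsIso (P.map (cou n T F)) := by
    rw [show P.map (cou n T F) = inv η from IsIso.eq_inv_of_hom_inv_id h]
    infer_instance
  haveI : PreservesFiniteLimits P :=
    haveI := (Scheme.Modules.pullbackPushforwardAdjunction (KRR.pr n T)).isRightAdjoint
    inferInstance
  haveI : Mono (P.map (kernel.ι (cou n T F))) := inferInstance
  haveI : Functor.PreservesZeroMorphisms P := inferInstance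
  refine IsZero.of_mono_eq_zero (P.map (kernel.ι (cou n T F))) ?_
  rw [← cancel_mono (P.map (cou n T F)), zero_comp, ← Functor.map_comp, kernel.condition, Functor.map_zero]

variable (n T)

/-- The stages of the resolution. -/
def stage (F : (KRR.PY n T).Modules) (hF : Coh.IsQCoh F) (hreg : KRR.IsRegSheaf n T F) :
    ℕ → {M : (KRR.PY n T).Modules // Coh.IsQCoh M ∧ KRR.IsRegSheaf n T M}
  | 0 => ⟨F, hF, hreg⟩
  | i + 1 => ⟨KRR.twF n T 1 (kernel (cou n T (stage F hF hreg i).1)),
      isQCoh_twF n T _ (isQCoh_kernel_cou (stage F hF hreg i).2.1) 1,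
      isRegSheaf_kernel_cou (stage F hF hreg i).2.1 (stage F hF hreg i).2.2⟩

variable (hF : Coh.IsQCoh F) (hreg : KRR.IsRegSheaf n T F)

lemma shortExact_stage (i : ℕ) (d : ℤ) :
    ((ShortComplex.mk (kernel.ι (cou n T (stage n T F hF hreg i).1)) (cou n T (stage n T F hF hreg i).1)
      (kernel.condition _)).map (DCoh.tensorBi.obj (Twist.twistOver n T d))).ShortExact :=
  shortExact_tensor (flat_stalk_of_isInvertible (isInvertible_twistOver n T d))
    (counit_shortExact (stage n T F hF hreg i).2.1 (stage n T F hF hreg i).2.2)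

lemma van_congr {M N : (KRR.PY n T).Modules} (e : M ≅ N) {i : ℕ} {d : ℤ} (h : Van n T M i d) : Van n T N i d :=
  h.of_iso ((RF (KRR.pr n T) i).mapIso ((DCoh.tensorBi.obj (Twist.twistOver n T d)).mapIso e.symm))

lemma van_twF_iff (M : (KRR.PY n T).Modules) {i : ℕ} {a b c : ℤ} (h : a + b = c) :
    Van n T (KRR.twF n T b M) i a ↔ Van n T M i c := by
  subst h
  obtain ⟨e⟩ := nonempty_twF_twF n T a b M
  exact Iso.isZero_iff ((RF (KRR.pr n T) i).mapIso e)

/-- Vanishing along the stages. -/
theorem van_stage : ∀ i : ℕ, i ≤ n + 1 → ∀ j : ℕ, j < i → Van n T (stage n T F hF hreg i).1 j (-1 - j)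
  | 0, _, j, h => absurd h (by omega)
  | i + 1, hi, j, hj => by
    change Van n T (KRR.twF n T 1 (kernel (cou n T (stage n T F hF hreg i).1))) j (-1 - j)
    rw [van_twF_iff n T _ (c := -(j : ℤ)) (by omega)]
    rcases j with _ | k
    · obtain ⟨e⟩ := nonempty_twF_zero n T (kernel (cou n T (stage n T F hF hreg i).1))
      have hz := isZero_push_kernel_cou (stage n T F hF hreg i).2.1
      have h0 : IsZero ((RF (KRR.pr n T) 0).obj (kernel (cou n T (stage n T F hF hreg i).1))) :=
        haveI : PreservesFiniteLimits (Coh.pushAb (KRR.pr n T)) :=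
          haveI : (Coh.pushAb (KRR.pr n T)).IsRightAdjoint :=
            (TopCat.Sheaf.pullbackPushforwardAdjunction AddCommGrpCat.{u} (KRR.pr n T).base).isRightAdjoint
          inferInstance
        ((abFun T).map_isZero hz).of_iso ((Coh.pushAb (KRR.pr n T)).rightDerivedZeroIsoSelf.app _)
      exact h0.of_iso ((RF (KRR.pr n T) 0).mapIso e)
    · obtain ⟨Δ⟩ := RD97.nonempty_derivedLES (Coh.pushAb (KRR.pr n T))
      have hS := shortExact_stage n T hF hreg i (-((k + 1 : ℕ) : ℤ))
      refine (Δ.exact₁ _ (hS.map_of_exact (abFun (KRR.PY n T))) k (k + 1) rfl).isZero_X₂ ?_ ?_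
      · have h := van_stage i (by omega) k (by omega)
        rw [show -1 - (k : ℤ) = -((k + 1 : ℕ) : ℤ) by push_cast; ring] at h
        exact h.eq_of_src _ _
      · exact (van_pullback n T (isQCoh_pushPr (stage n T F hF hreg i).2.1) (i := k + 1) (by omega)
          (d := -((k + 1 : ℕ) : ℤ)) (by omega)).eq_of_tgt _ _

/-- The counit is an isomorphism at the last stage. -/
theorem isZero_kernel_last : IsZero (kernel (cou n T (stage n T F hF hreg n).1)) := by
  let M := kernel (cou n T (stage n T F hF hreg n).1)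
  have hM : Coh.IsQCoh M := isQCoh_kernel_cou (stage n T F hF hreg n).2.1
  have hv : ∀ j : ℕ, j ≤ n → Van n T M j (-(j : ℤ)) := fun j hj =>
    (van_twF_iff n T M (a := -1 - (j : ℤ)) (b := 1) (by omega)).1 (van_stage n T hF hreg (n + 1) le_rfl j (by omega))
  have hr : KRR.IsRegSheaf n T M := fun i hi => by
    rcases le_or_gt i n with h | h
    · exact hv i h
    · haveI : (KRR.twF n T (-(i : ℤ)) M).IsQuasicoherent := isQCoh_twF n T M hM _
      exact isZero_RpushAb_gt n T (KRR.twF n T (-(i : ℤ)) M) i h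
  haveI := epi_counit_of_reg hM hr
  have hz : IsZero ((Scheme.Modules.pullback (KRR.pr n T)).obj ((Scheme.Modules.pushforward (KRR.pr n T)).obj M)) :=
    haveI := (Scheme.Modules.pullbackPushforwardAdjunction (KRR.pr n T)).isLeftAdjoint
    (Scheme.Modules.pullback (KRR.pr n T)).map_isZero (isZero_push_kernel_cou (stage n T F hF hreg n).2.1)
  exact IsZero.of_epi (cou n T M) hz

/-- Beyond the last stage everything is zero. -/
theorem isZero_stage : ∀ i : ℕ, n < i → IsZero (stage n T F hF hreg i).1
  | 0, h => absurd h (by omega)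
  | i + 1, h => by
    refine (DCoh.tensorBi.obj (Twist.twistOver n T 1)).map_isZero ?_
    rcases Nat.lt_or_eq_of_le (Nat.le_of_lt_succ h) with h' | h'
    · have hz := isZero_stage i h'
      exact IsZero.of_mono (kernel.ι _) ((Scheme.Modules.pullback (KRR.pr n T)).map_isZero
        ((Scheme.Modules.pushforward (KRR.pr n T)).map_isZero hz))
    · subst h'
      exact isZero_kernel_last n T hF hreg

/-- The twist of an iterated twist. -/
def stageIso (i : ℕ) : KRR.twF n T (-((i + 1 : ℕ) : ℤ)) (stage n T F hF hreg (i + 1)).1 ≅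
    KRR.twF n T (-(i : ℤ)) (kernel (cou n T (stage n T F hF hreg i).1)) :=
  (nonempty_twF_twF n T (-((i + 1 : ℕ) : ℤ)) 1 (kernel (cou n T (stage n T F hF hreg i).1))).some ≪≫
    eqToIso (congrArg (fun d => KRR.twF n T d (kernel (cou n T (stage n T F hF hreg i).1)))
      (show -((i + 1 : ℕ) : ℤ) + 1 = -(i : ℤ) by push_cast; ring))

/-- The resolution of a regular quasi-coherent module by twisted inverse images from the base. -/
theorem exists_resolution (hF : Coh.IsQCoh F) (hreg : KRR.IsRegSheaf n T F) :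
    ∃ (Tm : ℕ → T.Modules) (L : ChainComplex (KRR.PY n T).Modules ℕ)
      (π : L ⟶ (ChainComplex.single₀ (KRR.PY n T).Modules).obj F),
      (∀ i, Coh.IsQCoh (Tm i)) ∧
      (∀ i, i ≤ n → Nonempty (L.X i ≅
        KRR.twF n T (-(i : ℤ)) ((Scheme.Modules.pullback (KRR.pr n T)).obj (Tm i)))) ∧
      (∀ i, n < i → IsZero (L.X i)) ∧ QuasiIso π := by
  let Tm : ℕ → T.Modules := fun i => (Scheme.Modules.pushforward (KRR.pr n T)).obj (stage n T F hF hreg i).1
  let Q : ℕ → (KRR.PY n T).Modules :=
    fun i => KRR.twF n T (-(i : ℤ)) ((Scheme.Modules.pullback (KRR.pr n T)).obj (Tm i))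
  let E : ℕ → (KRR.PY n T).Modules := fun i => KRR.twF n T (-(i : ℤ)) (stage n T F hF hreg i).1
  let p : ∀ i, Q i ⟶ E i := fun i =>
    (DCoh.tensorBi.obj (Twist.twistOver n T (-(i : ℤ)))).map (cou n T (stage n T F hF hreg i).1)
  let j : ∀ i, E (i + 1) ⟶ Q i := fun i => (stageIso n T hF hreg i).hom ≫
    (DCoh.tensorBi.obj (Twist.twistOver n T (-(i : ℤ)))).map (kernel.ι _)
  have w : ∀ i, j i ≫ p i = 0 := fun i => by
    refine (Category.assoc _ _ _).trans ((congrArg ((stageIso n T hF hreg i).hom ≫ ·) ?_).trans comp_zero)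
    exact ((DCoh.tensorBi.obj (Twist.twistOver n T (-(i : ℤ)))).map_comp _ _).symm.trans
      ((congrArg _ (kernel.condition _)).trans ((DCoh.tensorBi.obj (Twist.twistOver n T (-(i : ℤ)))).map_zero _ _))
  have hex : ∀ i, (ShortComplex.mk (j i) (p i) (w i)).ShortExact := fun i => by
    let S₀ := (ShortComplex.mk (kernel.ι (cou n T (stage n T F hF hreg i).1)) (cou n T (stage n T F hF hreg i).1)
      (kernel.condition _)).map (DCoh.tensorBi.obj (Twist.twistOver n T (-(i : ℤ))))
    let φ : S₀ ≅ ShortComplex.mk (j i) (p i) (w i) :=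
      ShortComplex.isoMk (stageIso n T hF hreg i).symm (Iso.refl _) (Iso.refl _)
        ((Iso.inv_hom_id_assoc _ _).trans (Category.comp_id _).symm) ((Category.id_comp _).trans (Category.comp_id _).symm)
    exact ShortComplex.shortExact_of_iso φ (shortExact_stage n T hF hreg i (-(i : ℤ)))
  obtain ⟨e⟩ := nonempty_twF_zero n T F
  let e0 : E 0 ≅ F := e
  refine ⟨Tm, spliceComplex Q E p j w, spliceAug Q E p j w ≫ (ChainComplex.single₀ _).map e0.hom,
    fun i => isQCoh_pushPr (stage n T F hF hreg i).2.1, fun i _ => ⟨Iso.refl _⟩, fun i hi => ?_, ?_⟩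
  · exact (DCoh.tensorBi.obj _).map_isZero ((Scheme.Modules.pullback (KRR.pr n T)).map_isZero
      ((Scheme.Modules.pushforward (KRR.pr n T)).map_isZero (isZero_stage n T hF hreg i hi)))
  · haveI := quasiIso_spliceAug Q E p j w hex
    infer_instance

end Groth.Agent.KRR40
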