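import Groth.Agent.KRR40.FlatPush
import Groth.Agent.KRR40.LerayVan
import Groth.Agent.KRR40.RelRes
import Groth.Agent.KRR40.Pull
import Groth.Agent.Coh69.RelVanish

/-!
The direct image of a regular finite locally free module is finite locally free.
-/

set_option autoImplicit false
set_option linter.style.haveILetI false
set_option backward.isDefEq.respectTransparency.types false
set_option maxSynthPendingDepth 6

noncomputable section

universe u

open CategoryTheory CategoryTheory.Limits AlgebraicGeometry TopologicalSpace Opposite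
open Groth.Agent.Var76.Reg Groth.Agent.Var76.LineBundle

namespace Groth.Agent.KRR40

variable {n : ℕ} {T : Scheme.{u}} {F : (KRR.PY n T).Modules}

/-- Over affine opens of the base, a module without higher direct images and with quasi-coherent direct
image has no higher cohomology. -/
theorem subsingleton_HH_affPn (hF : Coh.IsQCoh F)
    (h : ∀ i, 1 ≤ i → IsZero ((Coh.RpushAb (KRR.pr n T) i).obj (Coh.toAb F)))
    {V : T.Opens} (hV : IsAffineOpen V) (i : ℕ) (hi : 1 ≤ i) :
    Subsingleton (Coh.HH (CohB1.ProjSpace n Γ(T, V)) ((Scheme.Modules.pullback (affPn n T hV)).obj F) i) := by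
  obtain ⟨q, rfl⟩ : ∃ q, i = q + 1 := ⟨i - 1, by omega⟩
  let j := affPn n T hV
  haveI : ((Scheme.Modules.pushforward (KRR.pr n T)).obj F).IsQuasicoherent := isQCoh_pushPr hF
  have h' : Subsingleton (Coh69.HE (Coh.toAb F) (q + 1) (KRR.pr n T ⁻¹ᵁ V)) :=
    subsingleton_HE_preimage (KRR.pr n T).base V q (Coh.toAb F) (fun m => h (m + 1) (by omega))
      (fun k => Coh69.qcoh_subsingleton_HE ((Scheme.Modules.pushforward (KRR.pr n T)).obj F) hV k)
  obtain ⟨e⟩ := Coh69.restr_nonempty_equiv j.isOpenEmbedding (Coh.toAb F) (q + 1)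
    (⊤ : (CohB1.ProjSpace n Γ(T, V)).Opens)
  rw [show j.isOpenEmbedding.functor.obj ⊤ = KRR.pr n T ⁻¹ᵁ V from affPn_image_top n T hV] at e
  exact ValVan29.subsingleton_hh_of_iso ((Scheme.Modules.restrictFunctorIsoPullback j).app F) (q + 1)
    ((e.trans (Coh69.hhEquiv (F.restrict j) (q + 1)).symm).symm.toEquiv.subsingleton)

lemma preimage_affPn {V : T.Opens} (hV : IsAffineOpen V) :
    (⊤ : (CohB1.ProjSpace n Γ(T, V)).Opens) ≤ affPn n T hV ⁻¹ᵁ (KRR.pr n T ⁻¹ᵁ V) := by
  rw [← affPn_image_top n T hV, Scheme.Hom.preimage_image_eq]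

lemma app_affPn_pr {V : T.Opens} (hV : IsAffineOpen V) (r : Γ(T, V)) :
    (CohB1.ProjSpace n Γ(T, V)).presheaf.map (homOfLE (preimage_affPn hV)).op
        ((affPn n T hV).app (KRR.pr n T ⁻¹ᵁ V) ((KRR.pr n T).app V r)) =
      (show Γ(CohB1.ProjSpace n Γ(T, V), ⊤) from
        Coh.toGlobal (CohB1.ProjSpace n Γ(T, V) ↘ Spec (CommRingCat.of Γ(T, V))) r) := by
  let q := CohB1.ProjSpace.toSpec n Γ(T, V)
  have e : (⊤ : (CohB1.ProjSpace n Γ(T, V)).Opens) ≤ (q ≫ hV.fromSpec) ⁻¹ᵁ V := by
    rw [Scheme.Hom.comp_preimage, hV.fromSpec_preimage_self]; exact le_rfl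
  have h1 : ∀ (f : CohB1.ProjSpace n Γ(T, V) ⟶ T) (_ : f = q ≫ hV.fromSpec) (e' : ⊤ ≤ f ⁻¹ᵁ V),
      f.appLE V ⊤ e' = (q ≫ hV.fromSpec).appLE V ⊤ e := by
    rintro f rfl e'; rfl
  have h2 := congr($(h1 _ (affPn_pr n T hV) (preimage_affPn hV)) r)
  refine Eq.trans ?_ (h2.trans ?_)
  · rfl
  rw [← Scheme.Hom.appLE_comp_appLE q hV.fromSpec (U := V) (V := ⊤) (W := ⊤) (by rw [hV.fromSpec_preimage_self]) le_rfl]
  have h3 : hV.fromSpec.appLE V ⊤ (by rw [hV.fromSpec_preimage_self]) = (Scheme.ΓSpecIso Γ(T, V)).inv := by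
    rw [Scheme.Hom.appLE, hV.fromSpec_app_self, Category.assoc, ← Functor.map_comp]
    rw [show ((eqToHom hV.fromSpec_preimage_self).op ≫ (homOfLE _).op : op (⊤ : (Spec Γ(T, V)).Opens) ⟶ op ⊤) = 𝟙 _ from rfl,
      CategoryTheory.Functor.map_id, Category.comp_id]
  rw [h3]
  exact congr($((Scheme.Hom.app_eq_appLE q (U := ⊤)).symm) ((Scheme.ΓSpecIso Γ(T, V)).inv r))

/-- Sections of the direct image over an affine open are global sections on projective space over its ring. -/
def pushSecEquiv {V : T.Opens} (hV : IsAffineOpen V) :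
    Γ((Scheme.Modules.pushforward (KRR.pr n T)).obj F, V) ≃ₗ[Γ(T, V)]
      Coh.HH (CohB1.ProjSpace n Γ(T, V)) ((Scheme.Modules.pullback (affPn n T hV)).obj F) 0 :=
  let j := affPn n T hV
  let G := (Scheme.Modules.pullback j).obj F
  let W := KRR.pr n T ⁻¹ᵁ V
  have hb : Function.Bijective (fun m : Γ(F, W) => res G (preimage_affPn hV) (Amp73.pullS j F W m)) := by
    refine Function.Bijective.comp ?_ (bijective_pullS_openImm j F ?_)
    · have e : (⊤ : (CohB1.ProjSpace n Γ(T, V)).Opens) = j ⁻¹ᵁ W := le_antisymm (preimage_affPn hV) le_top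
      exact ⟨fun a b hab => by
          have := congrArg (res G e.ge) hab
          rwa [Var76.LineBundle.res_res, Var76.LineBundle.res_res, Amp73.res_self, Amp73.res_self] at this,
        fun c => ⟨res G e.ge c, (Var76.LineBundle.res_res G _ _ _).trans (Amp73.res_self G _)⟩⟩
    · rw [← Scheme.Hom.image_top_eq_opensRange, affPn_image_top]
  LinearEquiv.ofBijective
   ({ toFun := fun m => (Crv77.sec G).symm (res G (preimage_affPn hV) (Amp73.pullS j F W m))
      map_add' := fun a b => by
        refine (congrArg (Crv77.sec G).symm ?_).trans (map_add _ _ _)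
        exact (congrArg (res G _) (map_add (((Scheme.Modules.pullbackPushforwardAdjunction j).unit.app F).app W).hom a b)).trans
          (map_add (G.presheaf.map (homOfLE (preimage_affPn hV)).op).hom _ _)
      map_smul' := fun r m => (Crv77.sec G).injective <| by
        refine (AddEquiv.apply_symm_apply _ _).trans ?_
        refine Eq.trans ?_ (Crv77.sec_smul Γ(T, V) G r _).symm
        rw [AddEquiv.apply_symm_apply]
        refine (congrArg (res G (preimage_affPn hV)) (Amp73.pullS_smul j F W ((KRR.pr n T).app V r) m)).trans ?_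
        refine (Scheme.Modules.map_smul G _ _ _).trans ?_
        exact congrArg (· • _) (app_affPn_pr hV r) } :
      Γ((Scheme.Modules.pushforward (KRR.pr n T)).obj F, V) →ₗ[Γ(T, V)] Coh.HH (CohB1.ProjSpace n Γ(T, V)) G 0)
    ((Crv77.sec G).symm.bijective.comp hb)

/-- The direct image of a finite locally free module without higher direct images is finite locally free. -/
theorem finLocFree_pushPr [IsLocallyNoetherian T] (hF : FlatMod.IsFinLocFree F)
    (h : ∀ i, 1 ≤ i → IsZero ((Coh.RpushAb (KRR.pr n T) i).obj (Coh.toAb F))) :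
    FlatMod.IsFinLocFree ((Scheme.Modules.pushforward (KRR.pr n T)).obj F) := by
  have hq : Coh.IsQCoh F := Props58.LocFree.isQuasicoherent_of_isFinLocFree hF
  haveI : ((Scheme.Modules.pushforward (KRR.pr n T)).obj F).IsQuasicoherent := isQCoh_pushPr hq
  refine FlatMor68.LocFree.isFinLocFree_of_projective_sections _ fun y => ?_
  obtain ⟨V, hV, hyV, -⟩ := exists_isAffineOpen_mem_and_subset (show y ∈ (⊤ : T.Opens) from trivial)
  haveI : IsNoetherianRing Γ(T, V) := IsLocallyNoetherian.component_noetherian ⟨V, hV⟩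
  let G := (Scheme.Modules.pullback (affPn n T hV)).obj F
  have hG : FlatMod.IsFinLocFree G := vb_pullback _ hF
  haveI : IsProper (CohB1.ProjSpace n Γ(T, V) ↘ Spec (CommRingCat.of Γ(T, V))) :=
    Approx60.Segre.isProper_toSpec Γ(T, V) n
  haveI := Props58.LocFree.isFP_of_isFinLocFree hG
  haveI : Module.Finite Γ(T, V) (Coh.HH (CohB1.ProjSpace n Γ(T, V)) G 0) :=
    Serre71.finite_hh_of_isProper Γ(T, V) G ⟨Props58.LocFree.isQuasicoherent_of_isFinLocFree hG, inferInstance⟩ 0
  haveI := flat_HH_zero n hG fun i hi => subsingleton_HH_affPn hq h hV i hi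
  haveI : Module.Finite Γ(T, V) Γ((Scheme.Modules.pushforward (KRR.pr n T)).obj F, V) :=
    Module.Finite.equiv (pushSecEquiv hV).symm
  haveI : Module.Flat Γ(T, V) Γ((Scheme.Modules.pushforward (KRR.pr n T)).obj F, V) :=
    Module.Flat.of_linearEquiv (pushSecEquiv hV)
  haveI := Module.finitePresentation_of_finite Γ(T, V) Γ((Scheme.Modules.pushforward (KRR.pr n T)).obj F, V)
  exact ⟨V, hV, hyV, Module.Flat.projective_of_finitePresentation, inferInstance⟩

end Groth.Agent.KRR40
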