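import Groth.Agent.KRR40.PKValues

/-!
Base change for regular finite locally free modules on projective space.
-/

set_option autoImplicit false
set_option linter.style.haveILetI false
set_option backward.isDefEq.respectTransparency.types false
set_option maxSynthPendingDepth 6

noncomputable section

universe u v w

open CategoryTheory CategoryTheory.Limits AlgebraicGeometry TopologicalSpace Opposite
open Groth.Agent.Var76.LineBundle

namespace Groth.Agent.KRR40

variable {n : ℕ} {Y Y₁ : Scheme.{u}} (φ : Y₁ ⟶ Y)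

lemma projSpaceMap_toZ : KRR.projSpaceMap n φ ≫ toZ n Y = toZ n Y₁ :=
  (pullback.lift_fst _ _ _).trans (Category.comp_id _)

lemma projSpaceMap_pr : KRR.projSpaceMap n φ ≫ KRR.pr n Y = KRR.pr n Y₁ ≫ φ :=
  pullback.lift_snd _ _ _

/-- Twisting sheaves pull back to twisting sheaves. -/
def pullTwistIso (d : ℤ) :
    (Scheme.Modules.pullback (KRR.projSpaceMap n φ)).obj (Twist.twistOver n Y d) ≅ Twist.twistOver n Y₁ d :=
  (Scheme.Modules.pullbackComp (KRR.projSpaceMap n φ) (toZ n Y)).app _ ≪≫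
    (Scheme.Modules.pullbackCongr (projSpaceMap_toZ φ)).app _

/-- Inverse image commutes with twisting. -/
def pullTwFIso (d : ℤ) (F : (KRR.PY n Y).Modules) :
    (Scheme.Modules.pullback (KRR.projSpaceMap n φ)).obj (KRR.twF n Y d F) ≅
      KRR.twF n Y₁ d ((Scheme.Modules.pullback (KRR.projSpaceMap n φ)).obj F) :=
  TwTens96.pullTensIso _ _ F ≪≫ EGA73.tensIso (pullTwistIso φ d) (Iso.refl _)

/-- Inverse images from the base pull back to inverse images from the base. -/
def pullPullIso (G : Y.Modules) :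
    (Scheme.Modules.pullback (KRR.projSpaceMap n φ)).obj ((Scheme.Modules.pullback (KRR.pr n Y)).obj G) ≅
      (Scheme.Modules.pullback (KRR.pr n Y₁)).obj ((Scheme.Modules.pullback φ).obj G) :=
  (Scheme.Modules.pullbackComp (KRR.projSpaceMap n φ) (KRR.pr n Y)).app G ≪≫
    (Scheme.Modules.pullbackCongr (projSpaceMap_pr φ)).app G ≪≫
    ((Scheme.Modules.pullbackComp (KRR.pr n Y₁) φ).app G).symm

section Unit

variable (n) {T : Scheme.{u}}

lemma bijective_app_pr (V : T.Opens) : Function.Bijective ((KRR.pr n T).app V) := by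
  let p := KRR.pr n T
  let O := Coh.structureModule T
  haveI := isIso_unit_structureModule n T
  have h1 : Function.Bijective (Amp73.pullS p O V) :=
    ConcreteCategory.bijective_of_isIso (((Scheme.Modules.pullbackPushforwardAdjunction p).unit.app O).app V)
  have h2 := ConcreteCategory.bijective_of_isIso ((PicLoc.pullbackStructureIso p).hom.app (p ⁻¹ᵁ V))
  have e : (fun r : Γ(T, V) => (PicLoc.pullbackStructureIso p).hom.app (p ⁻¹ᵁ V) (Amp73.pullS p O V (r : Γ(O, V)))) =
      (fun r : Γ(T, V) => ((p.app V r : Γ(KRR.PY n T, p ⁻¹ᵁ V)) : Γ(Coh.structureModule (KRR.PY n T), p ⁻¹ᵁ V))) := by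
    funext r
    have hr : (r : Γ(O, V)) = r • ((1 : Γ(T, V)) : Γ(O, V)) := (mul_one r).symm
    refine (congrArg (fun z => (PicLoc.pullbackStructureIso p).hom.app (p ⁻¹ᵁ V) (Amp73.pullS p O V z)) hr).trans ?_
    refine (congrArg ((PicLoc.pullbackStructureIso p).hom.app (p ⁻¹ᵁ V)) (Amp73.pullS_smul p O V r _)).trans ?_
    refine (Scheme.Modules.Hom.app_smul _ _ _).trans ?_
    refine (congrArg (p.app V r • ·) (Amp73.pullbackStructureIso_pullS p V)).trans ?_
    exact mul_one (show Γ(KRR.PY n T, p ⁻¹ᵁ V) from p.app V r)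
  have h3 := h2.comp h1
  change Function.Bijective (fun r : Γ(T, V) =>
    (PicLoc.pullbackStructureIso p).hom.app (p ⁻¹ᵁ V) (Amp73.pullS p O V (r : Γ(O, V)))) at h3
  rwa [e] at h3

/-- The unit is an isomorphism at finite locally free modules. -/
theorem isIso_unit_vb {G : T.Modules} (hG : FlatMod.IsFinLocFree G) :
    IsIso ((Scheme.Modules.pullbackPushforwardAdjunction (KRR.pr n T)).unit.app G) := by
  let p := KRR.pr n T
  refine ValVan29.isIso_of_bijective_small _ fun y => ?_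
  obtain ⟨U, k, s, hyU, hs⟩ := (Props58.LocFree.isFinLocFree_iff (M := G)).1 hG y
  refine ⟨U, hyU, fun V hV => ?_⟩
  have hψ := hs.bijective hV
  refine (Function.Bijective.of_comp_iff _ hψ).1 ?_
  have hχ : Function.Bijective fun a : Fin k → Γ(T, V) => fun i => p.app V (a i) :=
    ⟨fun a b hab => funext fun i => (bijective_app_pr n V).1 (congrFun hab i), fun c => by
      choose a ha using fun i => (bijective_app_pr n V).2 (c i)
      exact ⟨a, funext ha⟩⟩
  have hF := ((stalkBasis_pullS p hs).bijective (p.preimage_mono hV)).comp hχ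
  refine (Iff.of_eq (congrArg Function.Bijective (funext fun a => ?_))).mpr hF
  refine (map_sum (((Scheme.Modules.pullbackPushforwardAdjunction p).unit.app G).app V).hom _ _).trans
    (Finset.sum_congr rfl fun i _ => ?_)
  refine (Amp73.pullS_smul p G V (a i) _).trans ?_
  exact congrArg (p.app V (a i) • ·) (Amp73.res_pullS p G hV (s i)).symm

end Unit

variable [IsNoetherian Y] {F : (KRR.PY n Y).Modules}

lemma vb_stage (hF : FlatMod.IsFinLocFree F) (hreg : KRR.IsRegSheaf n Y F) : ∀ i : ℕ,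
    FlatMod.IsFinLocFree (stage n Y F (Props58.LocFree.isQuasicoherent_of_isFinLocFree hF) hreg i).1
  | 0 => hF
  | i + 1 => by
    haveI := isLocallyNoetherian_PY n Y
    have hi := vb_stage hF hreg i
    exact vb_twF (vb_X₁ (counit_shortExact (stage n Y F _ hreg i).2.1 (stage n Y F _ hreg i).2.2)
      (vb_pullback _ (finLocFree_pushPr_of_reg hi (stage n Y F _ hreg i).2.2)) hi) 1

variable [IsNoetherian Y₁]

lemma shortExact_pull_stage (hF : FlatMod.IsFinLocFree F) (hreg : KRR.IsRegSheaf n Y F) (i : ℕ) :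
    ((ShortComplex.mk (kernel.ι (cou n Y (stage n Y F (Props58.LocFree.isQuasicoherent_of_isFinLocFree hF) hreg i).1))
      (cou n Y (stage n Y F (Props58.LocFree.isQuasicoherent_of_isFinLocFree hF) hreg i).1) (kernel.condition _)).map
        (Scheme.Modules.pullback (KRR.projSpaceMap n φ))).ShortExact :=
  shortExact_pullback _ (counit_shortExact (stage n Y F _ hreg i).2.1 (stage n Y F _ hreg i).2.2)
    (vb_stage hF hreg i)

omit [AlgebraicGeometry.IsNoetherian Y] in
/-- Projective space over a base has no cohomology in the twists from `-1` down to `-n` of inverse images. -/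
lemma isZero_push_twist_pullback {G : Y₁.Modules} (hG : FlatMod.IsFinLocFree G) [IsLocallyNoetherian (KRR.PY n Y₁)]
    {i : ℕ} (hi : 1 ≤ i) (hin : i ≤ n) :
    IsZero ((Scheme.Modules.pushforward (KRR.pr n Y₁)).obj
      (KRR.twF n Y₁ (-(i : ℤ)) ((Scheme.Modules.pullback (KRR.pr n Y₁)).obj G))) := by
  have h := isZero_push_twist_neg n Y₁ hi hin
  let L := Twist.twistOver n Y₁ (-(i : ℤ))
  have h' : IsZero ((Scheme.Modules.pushforward (KRR.pr n Y₁)).obj L) :=
    h.of_iso ((Scheme.Modules.pushforward (KRR.pr n Y₁)).mapIso (EGA73.tensUnitRight L).symm)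
  refine IsZero.of_iso ?_ (projIsoVB (KRR.pr n Y₁) L hG).symm
  exact (Functor.map_isZero (DCoh.tensorBi.obj G) h').of_iso (EGA73.tensComm _ _)

theorem van_pull_stage (hF : FlatMod.IsFinLocFree F) (hreg : KRR.IsRegSheaf n Y F) :
    ∀ (k i : ℕ), n + 1 ≤ i + k → 1 ≤ i → ∀ j : ℕ, Van n Y₁ ((Scheme.Modules.pullback (KRR.projSpaceMap n φ)).obj
      (stage n Y F (Props58.LocFree.isQuasicoherent_of_isFinLocFree hF) hreg i).1) j (-(i : ℤ)) := by
  have hq := Props58.LocFree.isQuasicoherent_of_isFinLocFree hF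
  haveI := isLocallyNoetherian_PY n Y₁
  intro k
  induction k with
  | zero =>
    intro i hi _ j
    exact Functor.map_isZero (RF (KRR.pr n Y₁) j) (Functor.map_isZero (DCoh.tensorBi.obj (Twist.twistOver n Y₁ (-(i : ℤ))))
      (Functor.map_isZero (Scheme.Modules.pullback (KRR.projSpaceMap n φ)) (isZero_stage n Y hq hreg i (by omega))))
  | succ k ih =>
    intro i hi hi1 j
    rcases le_or_gt i n with hin | hin
    swap
    · exact ih i (by omega) hi1 j
    let ψ := Scheme.Modules.pullback (KRR.projSpaceMap n φ)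
    let Z := (stage n Y F hq hreg i).1
    let G := (Scheme.Modules.pushforward (KRR.pr n Y)).obj Z
    let K := kernel (cou n Y Z)
    have hG : FlatMod.IsFinLocFree G := finLocFree_pushPr_of_reg (vb_stage hF hreg i) (stage n Y F hq hreg i).2.2
    let d := -(i : ℤ)
    let S := twSeq n Y₁ d ((ShortComplex.mk (kernel.ι (cou n Y Z)) (cou n Y Z) (kernel.condition _)).map ψ)
    have hS : S.ShortExact := twSeq_shortExact n Y₁ d (shortExact_pull_stage φ hF hreg i)
    have h₁ : Van n Y₁ (ψ.obj K) (j + 1) d := by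
      have h := ih (i + 1) (by omega) (by omega) (j + 1)
      have e : ψ.obj (stage n Y F hq hreg (i + 1)).1 ≅ KRR.twF n Y₁ 1 (ψ.obj K) := pullTwFIso φ 1 K
      exact (van_twF_iff n Y₁ _ (show -((i + 1 : ℕ) : ℤ) + 1 = d by omega)).1 (van_congr n Y₁ e h)
    have h₂ : Van n Y₁ (ψ.obj ((Scheme.Modules.pullback (KRR.pr n Y)).obj G)) j d := by
      refine van_congr n Y₁ (pullPullIso φ G).symm ?_
      rcases Nat.eq_zero_or_pos j with rfl | hj
      · let M := KRR.twF n Y₁ d ((Scheme.Modules.pullback (KRR.pr n Y₁)).obj ((Scheme.Modules.pullback φ).obj G))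
        have hz := isZero_push_twist_pullback (n := n) (vb_pullback φ hG) hi1 hin
        haveI : PreservesFiniteLimits (Coh.pushAb (KRR.pr n Y₁)) := by
          haveI : PreservesLimitsOfSize.{0, 0} (Coh.pushAb (KRR.pr n Y₁)) :=
            (TopCat.Sheaf.pullbackPushforwardAdjunction AddCommGrpCat.{u} (KRR.pr n Y₁).base).rightAdjoint_preservesLimits
          infer_instance
        have hz' : IsZero ((Coh.pushAb (KRR.pr n Y₁)).obj (Coh.toAb M)) := Functor.map_isZero (abFun Y₁) hz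
        exact hz'.of_iso ((Coh.pushAb (KRR.pr n Y₁)).rightDerivedZeroIsoSelf.app (Coh.toAb M))
      · exact van_pullback n Y₁ (Props58.LocFree.isQuasicoherent_of_isFinLocFree (vb_pullback φ hG)) hj (by omega)
    obtain ⟨Δ⟩ := RD97.nonempty_derivedLES (Coh.pushAb (KRR.pr n Y₁))
    exact (Δ.exact₃ S hS j (j + 1) rfl).isZero_X₂ (h₂.eq_of_src _ _) (h₁.eq_of_tgt _ _)

theorem isRegSheaf_pull (hF : FlatMod.IsFinLocFree F) (hreg : KRR.IsRegSheaf n Y F) :
    KRR.IsRegSheaf n Y₁ ((Scheme.Modules.pullback (KRR.projSpaceMap n φ)).obj F) := by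
  have hq := Props58.LocFree.isQuasicoherent_of_isFinLocFree hF
  suffices key : ∀ k i, n + 1 ≤ i + k → KRR.IsRegSheaf n Y₁
      ((Scheme.Modules.pullback (KRR.projSpaceMap n φ)).obj (stage n Y F hq hreg i).1) from key (n + 1) 0 (by omega)
  intro k
  induction k with
  | zero =>
    exact fun i hi => isRegSheaf_of_isZero
      (Functor.map_isZero (Scheme.Modules.pullback (KRR.projSpaceMap n φ)) (isZero_stage n Y hq hreg i (by omega)))
  | succ k ih =>
    intro i hi
    let ψ := Scheme.Modules.pullback (KRR.projSpaceMap n φ)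
    let Z := (stage n Y F hq hreg i).1
    let G := (Scheme.Modules.pushforward (KRR.pr n Y)).obj Z
    let K := kernel (cou n Y Z)
    let S := (ShortComplex.mk (kernel.ι (cou n Y Z)) (cou n Y Z) (kernel.condition _)).map ψ
    have h₂ : KRR.IsRegSheaf n Y₁ (ψ.obj ((Scheme.Modules.pullback (KRR.pr n Y)).obj G)) :=
      isRegSheaf_of_iso (pullPullIso φ G).symm (isRegSheaf_pullback n Y₁
        (Props58.LocFree.isQuasicoherent_of_isFinLocFree (vb_pullback φ
          (finLocFree_pushPr_of_reg (vb_stage hF hreg i) (stage n Y F hq hreg i).2.2))))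
    have h₁ : KRR.IsRegSheaf n Y₁ (KRR.twF n Y₁ 1 (ψ.obj K)) :=
      isRegSheaf_of_iso (show ψ.obj (stage n Y F hq hreg (i + 1)).1 ≅ _ from pullTwFIso φ 1 K) (ih (i + 1) (by omega))
    exact isRegSheaf_X₃ n Y₁ (S := S) (shortExact_pull_stage φ hF hreg i) h₂ h₁

theorem isIso_bcMap (hF : FlatMod.IsFinLocFree F) (hreg : KRR.IsRegSheaf n Y F)
    (hsq : KRR.projSpaceMap n φ ≫ KRR.pr n Y = KRR.pr n Y₁ ≫ φ) : IsIso (KRR.bcMap n φ hsq F) := by
  have hq := Props58.LocFree.isQuasicoherent_of_isFinLocFree hF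
  haveI := isLocallyNoetherian_PY n Y₁
  let ψ := Scheme.Modules.pullback (KRR.projSpaceMap n φ)
  let P := Scheme.Modules.pushforward (KRR.pr n Y₁)
  let K := kernel (cou n Y F)
  have hz : ∀ j, Van n Y₁ (ψ.obj K) j 0 := fun j => by
    have h := van_pull_stage φ hF hreg (n + 1) 1 (by omega) le_rfl j
    exact (van_twF_iff n Y₁ _ (show -((1 : ℕ) : ℤ) + 1 = 0 by rfl)).1
      (van_congr n Y₁ (show ψ.obj (stage n Y F hq hreg 1).1 ≅ KRR.twF n Y₁ 1 (ψ.obj K) from pullTwFIso φ 1 K) h)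
  obtain ⟨e0⟩ := nonempty_twF_zero n Y₁ (ψ.obj K)
  have hz' : ∀ j, IsZero ((RF (KRR.pr n Y₁) j).obj (ψ.obj K)) := fun j =>
    (hz j).of_iso ((RF (KRR.pr n Y₁) j).mapIso e0.symm)
  haveI : (abFun Y₁).Faithful := inferInstanceAs (SheafOfModules.toSheaf Y₁.ringCatSheaf).Faithful
  let S := (ShortComplex.mk (kernel.ι (cou n Y F)) (cou n Y F) (kernel.condition _)).map ψ
  have hS : S.ShortExact := shortExact_pull_stage φ hF hreg 0
  have h := pushSh_shortExact_of_isZero (KRR.pr n Y₁).base (hS.map_of_exact (abFun (KRR.PY n Y₁))) (hz' 1)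
  haveI : IsIso ((abFun Y₁).map (P.map S.g)) := by
    refine (ShortComplex.ShortExact.isIso_g_iff h).2 ?_
    haveI : PreservesFiniteLimits (Coh.pushAb (KRR.pr n Y₁)) := by
      haveI : PreservesLimitsOfSize.{0, 0} (Coh.pushAb (KRR.pr n Y₁)) :=
        (TopCat.Sheaf.pullbackPushforwardAdjunction AddCommGrpCat.{u} (KRR.pr n Y₁).base).rightAdjoint_preservesLimits
      infer_instance
    exact (hz' 0).of_iso ((Coh.pushAb (KRR.pr n Y₁)).rightDerivedZeroIsoSelf.app _).symm
  haveI : IsIso (P.map S.g) := isIso_of_reflects_iso _ (abFun Y₁)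
  haveI := isIso_unit_vb n (vb_pullback φ (finLocFree_pushPr_of_reg hF hreg))
  haveI : IsIso (P.map (ψ.map (cou n Y F))) := inferInstanceAs (IsIso (P.map S.g))
  rw [KRR.bcMap, Adjunction.homEquiv_unit]
  simp only [Functor.map_comp]
  infer_instance

/-- Base change for the push-forward from projective space. -/
theorem pull_pushPr {KP : Type v} {KY : Type v} {KP₁ : Type v} {KY₁ : Type v} [CommRing KP] [CommRing KY]
    [CommRing KP₁] [CommRing KY₁] {φP : SGA6.Kvb (KRR.PY n Y) →+ KP} (hP : Function.Bijective φP)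
    {φY : SGA6.Kvb Y →+ KY} {φP₁ : SGA6.Kvb (KRR.PY n Y₁) →+ KP₁} {φY₁ : SGA6.Kvb Y₁ →+ KY₁}
    {gφ : KY →+ KY₁} (hgφ : KRR.IsPull φ φY φY₁ gφ) {gψ : KP →+ KP₁}
    (hgψ : KRR.IsPull (KRR.projSpaceMap n φ) φP φP₁ gψ)
    {b : KP →+ KY} (hb : KRR.IsPushPr n Y φP φY b) {b₁ : KP₁ →+ KY₁} (hb₁ : KRR.IsPushPr n Y₁ φP₁ φY₁ b₁)
    (z : KP) : gφ (b z) = b₁ (gψ z) := by
  obtain ⟨w, rfl⟩ := hP.2 z
  obtain ⟨w, rfl⟩ := (bijective_regK n Y fun _ h => h.1).2 w
  let ι := SGA6.mapSub (𝟭 (KRR.PY n Y).Modules) (regP n Y) (KRR.vbP (KRR.PY n Y)) fun _ h => h.1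
  refine DFunLike.congr_fun (show (gφ.comp b).comp (φP.comp ι) = (b₁.comp gψ).comp (φP.comp ι) from ?_) w
  refine QuotientAddGroup.addMonoidHom_ext _ (FreeAbelianGroup.lift_ext _ _ fun F => ?_)
  have hcl : ι ((QuotientAddGroup.mk' (KZero.relSub (regP n Y))) (FreeAbelianGroup.of F)) =
      KRR.cl (KRR.PY n Y) F.1 := by
    rw [KRR.cl, show KZero.clSub (KRR.vbP _) F.1 = _ from K0Res3.cls_eq (P := KRR.vbP (KRR.PY n Y)) F.2.1]
    rfl
  show gφ (b (φP (ι _))) = b₁ (gψ (φP (ι _)))
  haveI := isLocallyNoetherian_PY n Y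
  haveI := isLocallyNoetherian_PY n Y₁
  rw [hcl, hb F.1 F.2.1 F.2.2, hgφ _ (finLocFree_pushPr_of_reg F.2.1 F.2.2), hgψ _ F.2.1,
    hb₁ _ (vb_pullback _ F.2.1) (isRegSheaf_pull φ F.2.1 F.2.2)]
  haveI := isIso_bcMap φ F.2.1 F.2.2 (projSpaceMap_pr φ)
  exact congrArg φY₁ (cl_iso_vb (asIso (KRR.bcMap n φ (projSpaceMap_pr φ) F.1))
    (finLocFree_pushPr_of_reg (vb_pullback _ F.2.1) (isRegSheaf_pull φ F.2.1 F.2.2)))

end Groth.Agent.KRR40
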