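import Groth.Agent.K0Res3.Main
import Groth.Agent.DCK91.StalkFun
import Groth.Agent.Div89.FreeStalks
import Groth.Agent.QC70.CohOps
import Groth.Agent.Props58.LocFree.Criteria
import Groth.Prelude.Def_KRR
import Mathlib.CategoryTheory.Abelian.Projective.Dimension
import Mathlib.Algebra.Category.ModuleCat.Projective

/-!
Projective dimension of stalks and resolutions by finite locally free modules.
-/

set_option autoImplicit false
set_option linter.style.haveILetI false
set_option backward.isDefEq.respectTransparency.types false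

noncomputable section

universe u

open CategoryTheory CategoryTheory.Limits AlgebraicGeometry
open Groth.Agent.QC70 Groth.Agent.DCK91

namespace Groth.Agent.KRR40

variable {X : Scheme.{u}}

instance (x : X) : PreservesFiniteLimits (SP x) := Functor.preservesFiniteLimits_of_preservesHomology _

instance (x : X) : PreservesFiniteColimits (SP x) := Functor.preservesFiniteColimits_of_preservesHomology _

/-- All stalks have projective dimension at most `d`. -/
def PD (d : ℕ) (M : X.Modules) : Prop := ∀ x : X, HasProjectiveDimensionLE ((SP x).obj M) d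

lemma pd_mono {d e : ℕ} (h : d ≤ e) {M : X.Modules} (hM : PD d M) : PD e M := fun x =>
  haveI := hM x
  hasProjectiveDimensionLT_of_ge _ (d + 1) (e + 1) (by omega)

lemma pd_iso {d : ℕ} {M N : X.Modules} (e : M ≅ N) (hM : PD d M) : PD d N := fun x =>
  haveI := hM x
  hasProjectiveDimensionLT_of_iso ((SP x).mapIso e) _

lemma pd_of_isZero {M : X.Modules} (h : IsZero M) (d : ℕ) : PD d M := fun x =>
  haveI := ((SP x).map_isZero h).hasProjectiveDimensionLT_zero
  hasProjectiveDimensionLT_of_ge _ 0 (d + 1) (by omega)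

lemma pd_X₁ {S : ShortComplex X.Modules} (hS : S.ShortExact) {d : ℕ} (h₂ : PD d S.X₂)
    (h₃ : PD (d + 1) S.X₃) : PD d S.X₁ := fun x =>
  (hS.map_of_exact (SP x)).hasProjectiveDimensionLT_X₁ (d + 1) (h₂ x) (h₃ x)

lemma pd_X₁_pred {S : ShortComplex X.Modules} (hS : S.ShortExact) {d : ℕ} (h₂ : PD 0 S.X₂)
    (h₃ : PD d S.X₃) : PD (d - 1) S.X₁ :=
  pd_X₁ hS (pd_mono (Nat.zero_le _) h₂) (pd_mono (by omega) h₃)

lemma pd_X₂ {S : ShortComplex X.Modules} (hS : S.ShortExact) {d : ℕ} (h₁ : PD d S.X₁)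
    (h₃ : PD d S.X₃) : PD d S.X₂ := fun x =>
  (hS.map_of_exact (SP x)).hasProjectiveDimensionLT_X₂ (d + 1) (h₁ x) (h₃ x)

lemma pd_X₃ {S : ShortComplex X.Modules} (hS : S.ShortExact) {d : ℕ} (h₁ : PD d S.X₁)
    (h₂ : PD (d + 1) S.X₂) : PD (d + 1) S.X₃ := fun x =>
  (hS.map_of_exact (SP x)).hasProjectiveDimensionLT_X₃ (d + 1) (h₁ x) (h₂ x)

lemma pd_zero_of_isFinLocFree {M : X.Modules} (h : FlatMod.IsFinLocFree M) : PD 0 M := fun x => by
  haveI : Module.Free (X.presheaf.stalk x) ((SP x).obj M) := Props58.LocFree.free_stalk_of_isFinLocFree h x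
  exact (projective_iff_hasProjectiveDimensionLE_zero _).mp
    (ModuleCat.projective_of_categoryTheory_projective ((SP x).obj M))

lemma isCoh_of_vb [IsLocallyNoetherian X] {M : X.Modules} (h : FlatMod.IsFinLocFree M) : Coh.IsCoh M :=
  ⟨Props58.LocFree.isQuasicoherent_of_isFinLocFree h, Props58.LocFree.isFiniteType_of_isFinLocFree h⟩

lemma vb_iff [IsLocallyNoetherian X] {M : X.Modules} :
    FlatMod.IsFinLocFree M ↔ Coh.IsCoh M ∧ PD 0 M := by
  refine ⟨fun h => ⟨isCoh_of_vb h, pd_zero_of_isFinLocFree h⟩, fun ⟨hc, hp⟩ => ?_⟩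
  rw [Div89.isFinLocFree_iff_free_stalks hc]
  intro x
  haveI : M.IsFiniteType := hc.2
  haveI : Module.Finite (X.presheaf.stalk x) (M.presheaf.stalk x) := Props58.LocFree.finite_stalk_of_isFiniteType x
  haveI : Projective ((SP x).obj M) := (projective_iff_hasProjectiveDimensionLE_zero _).mpr (hp x)
  haveI : Module.Projective (X.presheaf.stalk x) (M.presheaf.stalk x) :=
    ModuleCat.projective_of_module_projective ((SP x).obj M)
  exact Module.free_of_flat_of_isLocalRing

lemma vb_iso [IsLocallyNoetherian X] {M N : X.Modules} (e : M ≅ N) (h : FlatMod.IsFinLocFree M) :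
    FlatMod.IsFinLocFree N :=
  vb_iff.mpr ⟨isCoh_of_iso e (isCoh_of_vb h), pd_iso e (pd_zero_of_isFinLocFree h)⟩

lemma vb_of_isZero [IsLocallyNoetherian X] {M : X.Modules} (h : IsZero M) : FlatMod.IsFinLocFree M :=
  vb_iff.mpr ⟨isCoh_of_isZero h, pd_of_isZero h 0⟩

lemma vb_X₂ [IsLocallyNoetherian X] {S : ShortComplex X.Modules} (hS : S.ShortExact)
    (h₁ : FlatMod.IsFinLocFree S.X₁) (h₃ : FlatMod.IsFinLocFree S.X₃) : FlatMod.IsFinLocFree S.X₂ :=
  vb_iff.mpr ⟨isCoh_X₂ S hS (isCoh_of_vb h₁) (isCoh_of_vb h₃),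
    pd_X₂ hS (pd_zero_of_isFinLocFree h₁) (pd_zero_of_isFinLocFree h₃)⟩

lemma isCoh_X₁ [IsLocallyNoetherian X] {S : ShortComplex X.Modules} (hS : S.ShortExact)
    (h₂ : Coh.IsCoh S.X₂) (h₃ : Coh.IsCoh S.X₃) : Coh.IsCoh S.X₁ :=
  isCoh_of_iso ((kernelIsKernel S.g).conePointUniqueUpToIso hS.fIsKernel) (isCoh_kernel S.g h₂ h₃.1)

lemma vb_X₁ [IsLocallyNoetherian X] {S : ShortComplex X.Modules} (hS : S.ShortExact)
    (h₂ : FlatMod.IsFinLocFree S.X₂) (h₃ : FlatMod.IsFinLocFree S.X₃) : FlatMod.IsFinLocFree S.X₁ :=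
  vb_iff.mpr ⟨isCoh_X₁ hS (isCoh_of_vb h₂) (isCoh_of_vb h₃),
    pd_X₁ hS (pd_zero_of_isFinLocFree h₂) (pd_mono (Nat.zero_le _) (pd_zero_of_isFinLocFree h₃))⟩

section Complex

variable (L : ChainComplex X.Modules ℕ)

/-- `0 → Z_{k+1} → L_{k+1} → Z_k → 0`. -/
lemma cyclesSeq_shortExact {k : ℕ} (hk : L.ExactAt k) :
    (ShortComplex.mk (L.iCycles (k + 1)) (L.toCycles (k + 1) k)
      (by rw [← cancel_mono (L.iCycles k)]; simp)).ShortExact := by
  have h1 : (L.iCycles (k + 1)) ≫ L.toCycles (k + 1) k = 0 := by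
    rw [← cancel_mono (L.iCycles k)]; simp
  have hlim : IsLimit (KernelFork.ofι (L.iCycles (k + 1)) h1) :=
    KernelFork.IsLimit.ofι' _ _ fun {A} g hg => ⟨L.liftCycles g k (by simp) (by
      rw [← L.toCycles_i (k + 1) k, reassoc_of% hg, zero_comp]), L.liftCycles_i _ _ _ _⟩
  exact { exact := ShortComplex.exact_of_f_is_kernel _ hlim
          mono_f := inferInstanceAs (Mono (L.iCycles (k + 1)))
          epi_g := Preadditive.epi_of_isZero_cokernel' _ (L.homologyIsCokernel (k + 1) k (by simp)) hk.isZero_homology }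

/-- `0 → B → L₀ → H₀ → 0` with `B` a quotient of `L₁`. -/
lemma degZero_shortExact :
    (ShortComplex.mk (kernel.ι (L.homologyπ 0)) (L.homologyπ 0) (kernel.condition _)).ShortExact :=
  { exact := ShortComplex.exact_of_f_is_kernel _ (kernelIsKernel _) }

/-- `0 → Z₁ → L₁ → B → 0`. -/
lemma degOne_shortExact :
    (ShortComplex.mk (L.iCycles 1) (kernel.lift (L.homologyπ 0) (L.toCycles 1 0) (L.toCycles_comp_homologyπ 1 0))
      (by rw [← cancel_mono (kernel.ι (L.homologyπ 0)), ← cancel_mono (L.iCycles 0)]; simp)).ShortExact := by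
  have hlim : IsLimit (KernelFork.ofι (f := kernel.lift (L.homologyπ 0) (L.toCycles 1 0)
      (L.toCycles_comp_homologyπ 1 0)) (L.iCycles 1)
      (by rw [← cancel_mono (kernel.ι (L.homologyπ 0)), ← cancel_mono (L.iCycles 0)]; simp)) :=
    KernelFork.IsLimit.ofι' _ _ fun {A} g hg => ⟨L.liftCycles g 0 (by simp) (by
      rw [← L.toCycles_i 1 0, ← kernel.lift_ι (L.homologyπ 0) (L.toCycles 1 0) (L.toCycles_comp_homologyπ 1 0),
        Category.assoc, reassoc_of% hg, zero_comp]), L.liftCycles_i _ _ _ _⟩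
  have hex : (ShortComplex.mk (L.toCycles 1 0) (L.homologyπ 0) (L.toCycles_comp_homologyπ 1 0)).Exact :=
    ShortComplex.exact_of_g_is_cokernel _ (L.homologyIsCokernel 1 0 (by simp))
  exact { exact := ShortComplex.exact_of_f_is_kernel _ hlim
          mono_f := inferInstanceAs (Mono (L.iCycles 1))
          epi_g := hex.epi_kernelLift }

lemma cycles_zero_iso : Nonempty (L.cycles 0 ≅ L.X 0) := by
  haveI : IsIso (L.iCycles 0) := L.isIso_iCycles 0 0 (by simp) (by simp)
  exact ⟨asIso (L.iCycles 0)⟩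

variable {L}

lemma pd_cycles_zero (hL : ∀ i, PD 0 (L.X i)) : PD 0 (L.cycles 0) :=
  pd_iso (cycles_zero_iso L).some.symm (hL 0)

/-- Syzygies of a resolution by modules with free stalks. -/
lemma pd_cycles (hL : ∀ i, PD 0 (L.X i)) (hex : ∀ i, 1 ≤ i → L.ExactAt i) {d : ℕ}
    (hA : PD d (L.homology 0)) : ∀ k : ℕ, PD (d - (k + 2)) (L.cycles (k + 1))
  | 0 => by
    have h1 : PD (d - 1) (kernel (L.homologyπ 0)) :=
      pd_X₁_pred (degZero_shortExact L) (pd_cycles_zero hL) hA
    have h2 : PD (d - 1 - 1) (L.cycles 1) := pd_X₁_pred (degOne_shortExact L) (hL 1) h1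
    exact pd_mono (by omega) h2
  | k + 1 => by
    have h := pd_cycles hL hex hA k
    have h2 : PD (d - (k + 2) - 1) (L.cycles (k + 2)) :=
      pd_X₁_pred (cyclesSeq_shortExact L (hex (k + 1) (by omega))) (hL (k + 2)) h
    exact pd_mono (by omega) h2

/-- The homology in degree zero of a finite resolution. -/
lemma pd_homology (hL : ∀ i, PD 0 (L.X i)) (hex : ∀ i, 1 ≤ i → L.ExactAt i) {n : ℕ}
    (hz : ∀ i, n < i → IsZero (L.X i)) : PD (n + 2) (L.homology 0) := by
  have hZ : ∀ j k : ℕ, k + j = n + 1 → 1 ≤ k → PD j (L.cycles k) := by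
    intro j
    induction j with
    | zero =>
      intro k hk _
      exact pd_of_isZero (IsZero.of_mono (L.iCycles k) (hz k (by omega))) 0
    | succ j ih =>
      intro k hk h1
      exact pd_X₃ (cyclesSeq_shortExact L (hex k h1)) (ih (k + 1) (by omega) (by omega))
        (pd_mono (Nat.zero_le _) (hL (k + 1)))
  have h1 : PD n (L.cycles 1) := hZ n 1 (by omega) le_rfl
  have hB : PD (n + 1) (kernel (L.homologyπ 0)) :=
    pd_X₃ (degOne_shortExact L) h1 (pd_mono (Nat.zero_le _) (hL 1))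
  exact pd_X₃ (degZero_shortExact L) hB (pd_mono (Nat.zero_le _) (pd_cycles_zero hL))

end Complex

lemma exists_pd_of_hasLFRes {F : X.Modules} (h : KRR.HasLFRes F) : ∃ d, PD d F := by
  obtain ⟨n, L, π, hres⟩ := h
  haveI := hres.quasiIso
  refine ⟨n + 2, pd_iso ?_ (pd_homology (fun i => pd_zero_of_isFinLocFree (hres.finLocFree i)) ?_ hres.isZero)⟩
  · exact isoOfQuasiIsoAt π 0 ≪≫ HomologicalComplex.singleObjHomologySelfIso _ 0 F
  · intro i hi
    obtain ⟨j, rfl⟩ : ∃ j, i = j + 1 := ⟨i - 1, by omega⟩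
    rw [← quasiIsoAt_iff_exactAt' π (j + 1) (ChainComplex.exactAt_succ_single_obj F j)]
    infer_instance

lemma hasLFRes_iso {F G : X.Modules} (e : F ≅ G) (h : KRR.HasLFRes F) : KRR.HasLFRes G := by
  obtain ⟨n, L, π, hres⟩ := h
  haveI := hres.quasiIso
  exact ⟨n, L, π ≫ ((ChainComplex.single₀ X.Modules).mapIso e).hom,
    hres.finLocFree, hres.isZero, inferInstance⟩

/-- Steps of a resolution give a resolution. -/
lemma hasLFRes_of_steps (D : K0Res3.Steps (KRR.vbP X)) {n : ℕ} (hz : ∀ i, n < i → IsZero (D.L i)) :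
    KRR.HasLFRes (D.K 0) := by
  have h0 : D.complex.d 1 0 ≫ D.p 0 = 0 := by
    rw [D.complex_d 0]
    exact (Category.assoc _ _ _).trans ((congrArg (fun t => D.p 1 ≫ t) (D.w 0)).trans comp_zero)
  have hep := (D.shortExact 0).epi_g
  have hep1 := (D.shortExact 1).epi_g
  refine ⟨n, D.complex, (ChainComplex.toSingle₀Equiv _ _).symm ⟨D.p 0, h0⟩, D.mem, hz, ⟨fun i => ?_⟩⟩
  cases i with
  | zero =>
    rw [ChainComplex.quasiIsoAt₀_iff, ShortComplex.quasiIso_iff_of_zeros']
    · refine (ShortComplex.exact_and_epi_g_iff_of_iso ?_).2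
        (⟨?_, hep⟩ : (ShortComplex.mk (D.complex.d 1 0) (D.p 0) h0).Exact ∧ Epi (D.p 0))
      · exact ShortComplex.isoMk (Iso.refl _) (Iso.refl _) (Iso.refl _)
          ((Category.id_comp _).trans (Category.comp_id _).symm) ((Category.id_comp _).trans (Category.comp_id _).symm)
      · rw [ShortComplex.exact_iff_exact_up_to_refinements]
        intro A x hx
        obtain ⟨A₁, q, hq, y, hy⟩ := (D.shortExact 0).exact.exact_up_to_refinements x hx
        obtain ⟨A₂, q', hq', z, hzz⟩ := surjective_up_to_refinements_of_epi (D.p 1) y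
        refine ⟨A₂, q' ≫ q, inferInstance, z, ?_⟩
        refine (Category.assoc _ _ _).trans (((congrArg (q' ≫ ·) hy).trans ?_).trans
          (congrArg (fun t => z ≫ t) (D.complex_d 0)).symm)
        show q' ≫ (y ≫ D.ι 0) = z ≫ (D.p 1 ≫ D.ι 0)
        rw [← Category.assoc, hzz, Category.assoc]
    all_goals rfl
  | succ i =>
    rw [quasiIsoAt_iff_exactAt' _ _ (ChainComplex.exactAt_succ_single_obj _ i)]
    exact D.exactAt i

section Enough

variable [IsLocallyNoetherian X]

omit [IsLocallyNoetherian X] in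
open Classical in
/-- A cover by a vector bundle, the identity on vector bundles. -/
lemma exists_cover (hX : KRR.HasEnoughLocFree X) (F : {F : X.Modules // Coh.IsCoh F}) :
    ∃ (E : X.Modules) (p : E ⟶ F.1), FlatMod.IsFinLocFree E ∧ Epi p ∧ (FlatMod.IsFinLocFree F.1 → IsIso p) := by
  by_cases h : FlatMod.IsFinLocFree F.1
  · exact ⟨F.1, 𝟙 _, h, inferInstance, fun _ => inferInstance⟩
  · obtain ⟨E, p, hE, hp⟩ := hX F.1 F.2
    exact ⟨E, p, hE, hp, fun h' => absurd h' h⟩

theorem hasLFRes_of_pd (hX : KRR.HasEnoughLocFree X) {F : X.Modules} (hF : Coh.IsCoh F) {d : ℕ}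
    (hd : PD d F) : KRR.HasLFRes F := by
  choose E p hE hp hiso using exists_cover hX
  let next : {F : X.Modules // Coh.IsCoh F} → {F : X.Modules // Coh.IsCoh F} := fun F =>
    ⟨kernel (p F), isCoh_kernel _ (isCoh_of_vb (hE F)) F.2.1⟩
  let seq : ℕ → {F : X.Modules // Coh.IsCoh F} := fun n => Nat.rec ⟨F, hF⟩ (fun _ G => next G) n
  let D : K0Res3.Steps (KRR.vbP X) :=
    { K := fun n => (seq n).1
      L := fun n => E (seq n)
      mem := fun n => hE (seq n)
      ι := fun n => kernel.ι (p (seq n))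
      p := fun n => p (seq n)
      w := fun n => kernel.condition _
      shortExact := fun n => haveI := hp (seq n); K0Res3.epiSeq_shortExact _ }
  have hK : ∀ k, PD (d - k) (D.K k) := by
    intro k
    induction k with
    | zero => exact hd
    | succ k ih =>
      exact pd_mono (by omega) (pd_X₁_pred (D.shortExact k) (pd_zero_of_isFinLocFree (D.mem k)) ih)
  have hvb : FlatMod.IsFinLocFree (D.K d) :=
    vb_iff.mpr ⟨(seq d).2, pd_mono (by omega) (hK d)⟩
  have hzero : ∀ j, IsZero (D.K (d + 1 + j)) := by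
    intro j
    induction j with
    | zero =>
      haveI := hiso (seq d) hvb
      exact isZero_kernel_of_mono (p (seq d))
    | succ j ih =>
      haveI := hiso (seq (d + 1 + j)) (vb_of_isZero ih)
      exact isZero_kernel_of_mono (p (seq (d + 1 + j)))
  refine hasLFRes_of_steps D (n := d) fun i hi => ?_
  obtain ⟨j, rfl⟩ : ∃ j, i = d + 1 + j := ⟨i - (d + 1), by omega⟩
  haveI := hiso (seq (d + 1 + j)) (vb_of_isZero (hzero j))
  exact (hzero j).of_iso (asIso (p (seq (d + 1 + j))))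

/-- Coherent modules with a finite resolution are those of bounded stalkwise projective dimension. -/
theorem hasLFRes_iff (hX : KRR.HasEnoughLocFree X) {F : X.Modules} (hF : Coh.IsCoh F) :
    KRR.HasLFRes F ↔ ∃ d, PD d F :=
  ⟨exists_pd_of_hasLFRes, fun ⟨_, hd⟩ => hasLFRes_of_pd hX hF hd⟩

/-- The resolution theorem applies to finite locally free modules inside a class `P` of coherent modules
with bounded stalkwise projective dimension. -/
theorem hyp (hX : KRR.HasEnoughLocFree X) {P : ObjectProperty X.Modules} [P.IsClosedUnderIsomorphisms]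
    (hle : ∀ M, KRR.vbP X M → P M) (hcoh : ∀ M, P M → Coh.IsCoh M)
    (hpd : ∀ M, P M → ∃ d, PD d M)
    (hker : ∀ S : ShortComplex X.Modules, S.ShortExact → P S.X₂ → P S.X₃ → P S.X₁) :
    K0Res3.Hyp (KRR.vbP X) P where
  iso₀ := ⟨fun e h => vb_iso e h⟩
  iso₁ := inferInstance
  le := hle
  ext₀ := fun _ hS => vb_X₂ hS
  ker₀ := fun _ hS => vb_X₁ hS
  ker₁ := hker
  lift := fun A B D u v hu hA hB hD => by
    have hAD : Coh.IsCoh (A ⊞ D) := isCoh_X₂ _
      (ShortComplex.Splitting.shortExact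
        (S := ShortComplex.mk (biprod.inl : A ⟶ A ⊞ D) biprod.snd biprod.inl_snd)
        { r := biprod.fst, s := biprod.inr }) (hcoh A hA) (hcoh D hD)
    have hW : Coh.IsCoh (kernel (biprod.desc u (-v))) := isCoh_kernel _ hAD (hcoh B hB).1
    obtain ⟨L, q, hL, hq⟩ := hX _ (isCoh_of_iso
      (IsLimit.conePointUniqueUpToIso (Abelian.PullbackToBiproductIsKernel.isLimitPullbackToBiproduct u v)
        (kernelIsKernel _)).symm hW)
    exact ⟨L, q ≫ pullback.snd u v, q ≫ pullback.fst u v, hL, inferInstance,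
      by rw [Category.assoc, Category.assoc, pullback.condition]⟩
  fin := fun A hA => by
    obtain ⟨d, hd⟩ := hpd A hA
    refine ⟨d, fun L hL hex ⟨e⟩ => vb_iff.mpr ⟨?_, ?_⟩⟩
    · exact isCoh_of_iso (IsLimit.conePointUniqueUpToIso (kernelIsKernel (L.d (d + 1) d))
        (L.cyclesIsKernel (d + 1) d (by simp))) (isCoh_kernel _ (isCoh_of_vb (hL _)) (isCoh_of_vb (hL _)).1)
    · exact pd_mono (by omega)
        (pd_cycles (fun i => pd_zero_of_isFinLocFree (hL i)) hex (pd_iso e.symm hd) d)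

end Enough

end Groth.Agent.KRR40
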