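import Groth.Agent.KRR40.ConeK0
import Groth.Agent.KRR40.RelRes
import Groth.Agent.KRR40.LFDim

/-!
The finite Koszul relation between twists on projective space over a base.
-/

set_option autoImplicit false
set_option linter.style.haveILetI false
set_option backward.isDefEq.respectTransparency.types false
set_option maxSynthPendingDepth 6

noncomputable section

universe u w

open CategoryTheory CategoryTheory.Limits AlgebraicGeometry TopologicalSpace Opposite
open Groth.Agent.Var76.Reg Groth.Agent.QC70 Groth.Agent.DCK91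

namespace Groth.Agent.KRR40

variable {X : Scheme.{u}}

/-- A map which is bijective on the opens inside a neighbourhood of a point is bijective on the stalk. -/
lemma bijective_stalkMapM_of_bijective {M N : X.Modules} (φ : M ⟶ N) {U : X.Opens}
    (h : ∀ V ≤ U, Function.Bijective (φ.app V)) {x : X} (hx : x ∈ U) :
    Function.Bijective (stalkMapM φ x) := by
  refine ⟨(injective_iff_map_eq_zero ((TopCat.Presheaf.stalkFunctor _ x).map φ.mapPresheaf).hom).2 fun e he => ?_,
    fun e => ?_⟩
  · obtain ⟨W, hxW, s, rfl⟩ := germM_exist e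
    change stalkMapM φ x (germM M W x hxW s) = 0 at he
    rw [stalkMapM_germ] at he
    obtain ⟨W', hW', hxW', h0⟩ := germM_eq_zero he
    have hx'' : x ∈ U ⊓ W' := ⟨hx, hxW'⟩
    have hW'' : U ⊓ W' ≤ W := inf_le_right.trans hW'
    rw [← germM_res hW'' hx'']
    have e0 : φ.app (U ⊓ W') (res M hW'' s) = 0 := by
      refine (Mero90.app_res φ hW'' s).trans ?_
      refine (Var76.LineBundle.res_res N hW' inf_le_right _).symm.trans ?_
      exact (congrArg (res N inf_le_right) h0).trans (map_zero _)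
    exact (congrArg (germM M (U ⊓ W') x hx'') ((h _ inf_le_left).1 (e0.trans (map_zero (φ.app _).hom).symm))).trans (germM_zero _)
  · obtain ⟨W, hxW, t, rfl⟩ := germM_exist e
    have hx'' : x ∈ U ⊓ W := ⟨hx, hxW⟩
    obtain ⟨s, hs⟩ := (h _ inf_le_left).2 (res N inf_le_right t)
    exact ⟨germM M _ x hx'' s, (stalkMapM_germ φ hx'' s).trans ((congrArg _ hs).trans (germM_res _ hx'' t))⟩

lemma isIso_SP_map_of_bijective {M N : X.Modules} (φ : M ⟶ N) {U : X.Opens}
    (h : ∀ V ≤ U, Function.Bijective (φ.app V)) {x : X} (hx : x ∈ U) : IsIso ((SP x).map φ) := by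
  refine (ConcreteCategory.isIso_iff_bijective _).2 ?_
  have e : ⇑(ConcreteCategory.hom ((SP x).map φ)) = stalkMapM φ x := funext (SP_map_apply x φ)
  rw [e]
  exact bijective_stalkMapM_of_bijective φ h hx

/-- A complex exact on all stalks is exact. -/
lemma acyclic_of_stalks (L : CochainComplex X.Modules ℤ)
    (h : ∀ x : X, (((SP x).mapHomologicalComplex (ComplexShape.up ℤ)).obj L).Acyclic) : L.Acyclic := fun i => by
  rw [HomologicalComplex.exactAt_iff_isZero_homology]
  refine isZero_of_stalks fun x => ?_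
  exact IsZero.of_iso ((HomologicalComplex.exactAt_iff_isZero_homology _ i).1 (h x i))
    ((L.sc i).mapHomologyIso (SP x)).symm

variable {n : ℕ} {T : Scheme.{u}}

/-- The multiplications by the coordinates, as cone data. -/
def coneDataT (n : ℕ) (T : Scheme.{u}) (F : (KRR.PY n T).Modules) : ConeData (KRR.PY n T).Modules (n + 1) where
  G := (kdT n T F).G
  m := (kdT n T F).m
  comm := (kdT n T F).comm

/-- The Koszul complex of twists is exact. -/
theorem acyclic_kos (F : (KRR.PY n T).Modules) (d : ℤ) :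
    (((coneDataT n T F).kos (List.finRange (n + 1))).K d).Acyclic := by
  refine acyclic_of_stalks _ fun x => ?_
  obtain ⟨l, hl⟩ := exists_mem_cOpen n T x
  exact (coneDataT n T F).acyclic_kos (SP x)
    (fun a b h => isIso_SP_map_of_bijective _ (fun V hV => cMul_bijective n T F l a b h hV) hl)
    _ (List.mem_finRange l) d

/-- Regular in all non-negative twists. -/
def RegS (n : ℕ) (T : Scheme.{u}) (M : (KRR.PY n T).Modules) : Prop :=
  ∀ d : ℤ, 0 ≤ d → KRR.IsRegSheaf n T (KRR.twF n T d M)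

lemma isRegSheaf_of_iso {M N : (KRR.PY n T).Modules} (e : M ≅ N) (h : KRR.IsRegSheaf n T M) :
    KRR.IsRegSheaf n T N := fun i hi =>
  (h i hi).of_iso ((RF (KRR.pr n T) i).mapIso ((DCoh.tensorBi.obj (Twist.twistOver n T (-(i : ℤ)))).mapIso e.symm))

lemma isRegSheaf_of_isZero {M : (KRR.PY n T).Modules} (h : IsZero M) : KRR.IsRegSheaf n T M := fun i _ => by
  have h1 : IsZero (KRR.twF n T (-(i : ℤ)) M) := Functor.map_isZero (DCoh.tensorBi.obj (Twist.twistOver n T (-(i : ℤ)))) h
  exact Functor.map_isZero (RF (KRR.pr n T) i) h1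

lemma regS_iff {M : (KRR.PY n T).Modules} (hM : Coh.IsQCoh M) : RegS n T M ↔ KRR.IsRegSheaf n T M := by
  refine ⟨fun h => ?_, fun h d hd => isRegSheaf_twF_of_nonneg n T M hM h hd⟩
  obtain ⟨e⟩ := nonempty_twF_zero n T M
  exact isRegSheaf_of_iso e (h 0 le_rfl)

lemma regS_X₂ {S : ShortComplex (KRR.PY n T).Modules} (hS : S.ShortExact) (h₁ : RegS n T S.X₁)
    (h₃ : RegS n T S.X₃) : RegS n T S.X₂ := fun d hd =>
  isRegSheaf_X₂ n T (S := S.map (DCoh.tensorBi.obj (Twist.twistOver n T d)))
    (shortExact_tensor (flat_stalk_of_isInvertible (isInvertible_twistOver n T d)) hS) (h₁ d hd) (h₃ d hd)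

lemma regS_X₃ {S : ShortComplex (KRR.PY n T).Modules} (hS : S.ShortExact) (h₁ : RegS n T S.X₁)
    (h₂ : RegS n T S.X₂) : RegS n T S.X₃ := fun d hd => by
  refine isRegSheaf_X₃ n T (S := S.map (DCoh.tensorBi.obj (Twist.twistOver n T d)))
    (shortExact_tensor (flat_stalk_of_isInvertible (isInvertible_twistOver n T d)) hS) (h₂ d hd) ?_
  obtain ⟨e⟩ := nonempty_twF_twF n T 1 d S.X₁
  exact isRegSheaf_of_iso e.symm (h₁ (1 + d) (by omega))

variable [IsLocallyNoetherian (KRR.PY n T)]

/-- The data of an additive function on finite locally free modules regular in non-negative twists. -/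
def altReg {Γ : Type w} [AddCommGroup Γ] (f : (KRR.PY n T).Modules → Γ)
    (hf : ∀ S : ShortComplex (KRR.PY n T).Modules, S.ShortExact →
      FlatMod.IsFinLocFree S.X₁ ∧ RegS n T S.X₁ → FlatMod.IsFinLocFree S.X₂ ∧ RegS n T S.X₂ →
      FlatMod.IsFinLocFree S.X₃ ∧ RegS n T S.X₃ → f S.X₂ = f S.X₁ + f S.X₃) :
    AltData (KRR.PY n T).Modules Γ where
  P₁ := fun M => FlatMod.IsFinLocFree M
  P₂ := RegS n T
  f := f
  zero₁ _ h := vb_of_isZero h
  zero₂ M h := fun d _ => by
    exact isRegSheaf_of_isZero (Functor.map_isZero (DCoh.tensorBi.obj (Twist.twistOver n T d)) h)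
  left₁ _ hS h₂ h₃ := vb_X₁ hS h₂ h₃
  right₂ _ hS h₁ h₂ := regS_X₃ hS h₁ h₂
  ext₁ _ hS h₁ h₃ := vb_X₂ hS h₁ h₃
  ext₂ _ hS h₁ h₃ := regS_X₂ hS h₁ h₃
  add := hf

end Groth.Agent.KRR40
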