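import Groth.Agent.KRR40.PC
import Groth.Agent.KRR40.Regular
import Groth.Agent.QC70.PushClosed
import Groth.Agent.CAlg9.CIT.Immersion
import Groth.Agent.FlatMor68.PullbackDescent
import Mathlib.RingTheory.Regular.ProjectiveDimension

/-!
Direct image along a regular closed immersion on the Grothendieck groups.
-/

set_option autoImplicit false
set_option linter.style.haveILetI false
set_option backward.isDefEq.respectTransparency.types false

noncomputable section

universe u

open CategoryTheory CategoryTheory.Limits AlgebraicGeometry Opposite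
open Groth.Agent.DCK91 Groth.Agent.QC70

namespace Groth.Agent.KRR40

variable {X Y Z : Scheme.{u}} (f : X ⟶ Y) [IsClosedImmersion f]

lemma subsingleton_stalk_pushforward (H : X.Modules) {y : Y} (hy : y ∉ Set.range f) :
    Subsingleton (((Scheme.Modules.pushforward f).obj H).presheaf.stalk y) := by
  refine subsingleton_of_forall_eq 0 fun e => ?_
  obtain ⟨W, hxW, s, rfl⟩ := germM_exist e
  let V : Y.Opens := ⟨(Set.range f)ᶜ, f.isClosedEmbedding.isClosed_range.isOpen_compl⟩
  have hxV : y ∈ W ⊓ V := ⟨hxW, hy⟩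
  have he : f ⁻¹ᵁ (W ⊓ V) = ⊥ := by
    ext z
    exact ⟨fun h => (h.2 ⟨z, rfl⟩).elim, fun h => h.elim⟩
  rw [← germM_res (inf_le_left : W ⊓ V ≤ W) hxV s]
  refine (congrArg (germM _ (W ⊓ V) y hxV) ?_).trans (germM_zero hxV)
  exact section_ext H _ _ fun p hp => (he.le hp).elim

instance : (Scheme.Modules.pushforward f).PreservesMonomorphisms :=
  haveI := (Scheme.Modules.pullbackPushforwardAdjunction f).rightAdjoint_preservesLimits
  inferInstance

instance : (Scheme.Modules.pushforward f).PreservesEpimorphisms := ⟨fun {M N} g hg => by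
  rw [FlatMor68.PullbackDescent.epi_iff]
  intro y e
  by_cases hy : y ∈ Set.range f
  · obtain ⟨z, rfl⟩ := hy
    obtain ⟨a, ha⟩ := (FlatMor68.PullbackDescent.epi_iff g).1 hg z (pushStalk f N z e)
    obtain ⟨b, rfl⟩ := (bijective_pushStalk f M z).2 a
    exact ⟨b, (bijective_pushStalk f N z).1 ((pushStalk_stalkMapM f M g z b).trans ha)⟩
  · haveI := subsingleton_stalk_pushforward f N hy
    exact ⟨0, Subsingleton.elim _ _⟩⟩

lemma shortExact_pushforward {S : ShortComplex X.Modules} (hS : S.ShortExact) :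
    (S.map (Scheme.Modules.pushforward f)).ShortExact := by
  haveI := hS.mono_f
  haveI := hS.epi_g
  haveI := (Scheme.Modules.pullbackPushforwardAdjunction f).rightAdjoint_preservesLimits
  haveI : PreservesLimitsOfSize.{0, 0} (Scheme.Modules.pushforward f) :=
    preservesLimitsOfSize_shrink.{0, u, 0, u} _
  exact { exact := (S.map (Scheme.Modules.pushforward f)).exact_of_f_is_kernel
            (KernelFork.mapIsLimit _ hS.fIsKernel (Scheme.Modules.pushforward f))
          mono_f := inferInstanceAs (Mono ((Scheme.Modules.pushforward f).map S.f))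
          epi_g := inferInstanceAs (Epi ((Scheme.Modules.pushforward f).map S.g)) }

lemma hasPD_pi {R : Type u} [CommRing R] (M : Type u) [AddCommGroup M] [Module R M] {d : ℕ}
    (h : HasProjectiveDimensionLE (ModuleCat.of R M) d) :
    ∀ k : ℕ, HasProjectiveDimensionLE (ModuleCat.of R (Fin k → M)) d
  | 0 =>
    haveI := (ModuleCat.isZero_of_subsingleton (ModuleCat.of R (Fin 0 → M))).hasProjectiveDimensionLT_zero
    hasProjectiveDimensionLT_of_ge _ 0 (d + 1) (by omega)
  | k + 1 => by
    have hk := hasPD_pi M h k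
    have hS : (ShortComplex.mk (biprod.inl : ModuleCat.of R M ⟶ ModuleCat.of R M ⊞ ModuleCat.of R (Fin k → M))
        biprod.snd biprod.inl_snd).ShortExact :=
      ShortComplex.Splitting.shortExact { r := biprod.fst, s := biprod.inr }
    haveI := hS.hasProjectiveDimensionLT_X₂ (d + 1) h hk
    exact hasProjectiveDimensionLT_of_iso
      (ModuleCat.biprodIsoProd (ModuleCat.of R M) (ModuleCat.of R (Fin k → M)) ≪≫
        (Fin.consLinearEquiv R (fun _ : Fin (k + 1) => M)).toModuleIso) _

variable [IsLocallyNoetherian Y]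

/-- Stalks of the direct image of a finite locally free module have finite projective dimension. -/
lemma exists_hasPD_pushforward (hf : Mor2.IsRegularClosedImmersion f) {E : X.Modules}
    (hE : FlatMod.IsFinLocFree E) (y : Y) :
    ∃ d : ℕ, HasProjectiveDimensionLE ((SP y).obj ((Scheme.Modules.pushforward f).obj E)) d := by
  by_cases hy : y ∈ Set.range f
  swap
  · haveI : Subsingleton ((SP y).obj ((Scheme.Modules.pushforward f).obj E)) :=
      subsingleton_stalk_pushforward f E hy
    haveI := (ModuleCat.isZero_of_subsingleton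
      ((SP y).obj ((Scheme.Modules.pushforward f).obj E))).hasProjectiveDimensionLT_zero
    exact ⟨0, hasProjectiveDimensionLT_of_ge _ 0 1 (by omega)⟩
  obtain ⟨z, rfl⟩ := hy
  have hreg : CInt.IsRegularIdeal (RingHom.ker (f.stalkMap z).hom) := by
    obtain ⟨U, hU, hzU, rs, hrs, hker⟩ := hf.2 z
    let W : Y.affineOpens := ⟨U, hU⟩
    have : IsNoetherianRing Γ(Y, W.1) := IsLocallyNoetherian.component_noetherian W
    have hne : RingHom.ker (f.stalkMap z).hom ≠ ⊤ := RingHom.ker_ne_top _
    rw [FlatMor68.FlatInfNbhd.ker_stalkMap_closedImmersion, Div89.stalkIdeal_eq _ W _ hzU] at hne ⊢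
    let : Algebra Γ(Y, W.1) (Y.presheaf.stalk (f z)) := Div89.stalkAlg W.1 (f z) hzU
    have := Div89.isLocalization_stalk W (f z) hzU
    have := Div89.primeAt_isPrime W (f z) hzU
    exact CAlg9.CIT.regular_map_localization (B := Γ(Y, W.1)) (I := f.ker.ideal W) (rs := rs) hrs hker.symm
      (Div89.primeAt W (f z) hzU).primeCompl (Y.presheaf.stalk (f z)) hne
  obtain ⟨rs, hrs, hI⟩ := hreg
  let R := Y.presheaf.stalk (f z)
  let S := X.presheaf.stalk z
  letI : Algebra R S := (f.stalkMap z).hom.toAlgebra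
  letI : Module R (E.presheaf.stalk z) := Module.compHom _ (f.stalkMap z).hom
  haveI : IsScalarTower R S (E.presheaf.stalk z) := IsScalarTower.of_algebraMap_smul fun _ _ => rfl
  haveI : Module.Free S (E.presheaf.stalk z) := Props58.LocFree.free_stalk_of_isFinLocFree hE z
  haveI : E.IsFiniteType := Props58.LocFree.isFiniteType_of_isFinLocFree hE
  haveI : Module.Finite S (E.presheaf.stalk z) := Props58.LocFree.finite_stalk_of_isFiniteType z
  let e₁ : ((SP (f z)).obj ((Scheme.Modules.pushforward f).obj E)) ≃ₗ[R] E.presheaf.stalk z :=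
    { Equiv.ofBijective _ (bijective_pushStalk f E z) with
      map_add' := map_add _
      map_smul' := fun r e => pushStalk_smul f E z r e }
  let b := Module.finBasis S (E.presheaf.stalk z)
  let e₂ : (R ⧸ Ideal.ofList rs) ≃ₗ[R] S :=
    (Submodule.quotEquivOfEq _ _ hI).trans
      (Ideal.quotientKerAlgEquivOfSurjective (f := Algebra.ofId R S) (f.stalkMap_surjective z)).toLinearEquiv
  let e : (Fin (Module.finrank S (E.presheaf.stalk z)) → R ⧸ Ideal.ofList rs) ≃ₗ[R]
      ((SP (f z)).obj ((Scheme.Modules.pushforward f).obj E)) :=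
    (LinearEquiv.piCongrRight fun _ => e₂).trans ((b.equivFun.symm.restrictScalars R).trans e₁.symm)
  have hpd : HasProjectiveDimensionLE (ModuleCat.of R (R ⧸ Ideal.ofList rs)) rs.length := by
    rw [← projectiveDimension_le_iff,
      projectiveDimension_eq_of_iso (Shrink.linearEquiv.{u} R (R ⧸ Ideal.ofList rs)).symm.toModuleIso,
      ModuleCat.projectiveDimension_quotient_eq_length rs hrs]
  haveI := hasPD_pi (R ⧸ Ideal.ofList rs) hpd (Module.finrank S (E.presheaf.stalk z))
  exact ⟨rs.length, hasProjectiveDimensionLT_of_iso e.toModuleIso _⟩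

variable [CompactSpace Y]

/-- Direct images of finite locally free modules lie in `PC`. -/
lemma pc_pushforward_vb (hf : Mor2.IsRegularClosedImmersion f) (hY : KRR.HasEnoughLocFree Y) {E : X.Modules}
    (hE : FlatMod.IsFinLocFree E) : PC Y ((Scheme.Modules.pushforward f).obj E) := by
  haveI := LocallyOfFiniteType.isLocallyNoetherian f
  have hc := isCoh_pushforward f E (isCoh_of_vb hE)
  refine ⟨hc, ?_⟩
  choose d hd using fun y : Y => exists_hasPD_pushforward f hf hE y
  choose U hxU hU using fun y : Y => exists_open_pd hY y (d y) _ hc (hd y)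
  obtain ⟨s, hs⟩ := isCompact_univ.elim_finite_subcover (fun y : Y => ((U y : Y.Opens) : Set Y))
    (fun y => (U y).2) (fun y _ => Set.mem_iUnion.2 ⟨y, hxU y⟩)
  refine ⟨s.sup d, fun y => ?_⟩
  obtain ⟨y₀, hy₀, hyy⟩ := Set.mem_iUnion₂.1 (hs (Set.mem_univ y))
  haveI := hU y₀ y hyy
  have hle : d y₀ ≤ s.sup d := Finset.le_sup hy₀
  exact hasProjectiveDimensionLT_of_ge _ (d y₀ + 1) (s.sup d + 1) (by omega)

end Groth.Agent.KRR40

namespace Groth.Agent.KRR40

variable {X Y Z : Scheme.{u}} [IsLocallyNoetherian X] [IsLocallyNoetherian Y] [CompactSpace Y]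
  (f : X ⟶ Y) [IsClosedImmersion f]

/-- Direct images preserve `PC`. -/
lemma pc_pushforward (hf : Mor2.IsRegularClosedImmersion f) (hX : KRR.HasEnoughLocFree X)
    (hY : KRR.HasEnoughLocFree Y) : ∀ (d : ℕ) (M : X.Modules), Coh.IsCoh M → PD d M →
      PC Y ((Scheme.Modules.pushforward f).obj M)
  | 0, M, hM, hd => pc_pushforward_vb f hf hY (vb_iff.mpr ⟨hM, hd⟩)
  | d + 1, M, hM, hd => by
    obtain ⟨E, p, hE, hp⟩ := hX M hM
    have hS := K0Res3.epiSeq_shortExact p
    exact pc_X₃ (shortExact_pushforward f hS)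
      (pc_pushforward hf hX hY d _ (isCoh_kernel p (isCoh_of_vb hE) hM.1)
        (pd_X₁ hS (pd_mono (Nat.zero_le _) (pd_zero_of_isFinLocFree hE)) hd))
      (pc_pushforward_vb f hf hY hE)

/-- Direct image of finite locally free modules into `K₀(PC)`. -/
def pushVP (hf : Mor2.IsRegularClosedImmersion f) (hY : KRR.HasEnoughLocFree Y) :
    SGA6.Kvb X →+ KZero.K0sub (PC Y) :=
  lift₀ (fun M => clP Y ((Scheme.Modules.pushforward f).obj M)) fun _ hS h₁ h₂ h₃ =>
    K0Res3.cls_add _ (shortExact_pushforward f hS) (pc_pushforward_vb f hf hY h₁)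
      (pc_pushforward_vb f hf hY h₂) (pc_pushforward_vb f hf hY h₃)

omit [IsLocallyNoetherian X] in
lemma pushVP_cl (hf : Mor2.IsRegularClosedImmersion f) (hY : KRR.HasEnoughLocFree Y) {M : X.Modules}
    (hM : FlatMod.IsFinLocFree M) :
    pushVP f hf hY (KRR.cl X M) = clP Y ((Scheme.Modules.pushforward f).obj M) :=
  lift₀_cl (P := KRR.vbP X) _ _ hM

/-- Direct image on `K₀(PC)`. -/
def pushPP (hf : Mor2.IsRegularClosedImmersion f) (hX : KRR.HasEnoughLocFree X)
    (hY : KRR.HasEnoughLocFree Y) : KZero.K0sub (PC X) →+ KZero.K0sub (PC Y) :=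
  lift₀ (fun M => clP Y ((Scheme.Modules.pushforward f).obj M)) fun _ hS h₁ h₂ h₃ =>
    K0Res3.cls_add _ (shortExact_pushforward f hS) (pc_pushforward f hf hX hY _ _ h₁.1 h₁.2.choose_spec)
      (pc_pushforward f hf hX hY _ _ h₂.1 h₂.2.choose_spec) (pc_pushforward f hf hX hY _ _ h₃.1 h₃.2.choose_spec)

lemma pushPP_cl (hf : Mor2.IsRegularClosedImmersion f) (hX : KRR.HasEnoughLocFree X)
    (hY : KRR.HasEnoughLocFree Y) {M : X.Modules} (hM : PC X M) :
    pushPP f hf hX hY (clP X M) = clP Y ((Scheme.Modules.pushforward f).obj M) :=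
  lift₀_cl (P := PC X) _ _ hM

omit [CompactSpace Y] [IsClosedImmersion f] in
/-- A resolvable module determines the alternating sum of any of its resolutions. -/
lemma toP_sum {F : Y.Modules} {n : ℕ} {L : ChainComplex Y.Modules ℕ}
    {π : L ⟶ (ChainComplex.single₀ Y.Modules).obj F} (h : KRR.IsLFRes F n L π) :
    toP (∑ k ∈ Finset.range (n + 1), (-1 : ℤ) ^ k • KRR.cl Y (L.X k)) = clP Y F := by
  rw [(clP_eq_sum h).2, map_sum]
  exact Finset.sum_congr rfl fun k _ => by rw [map_zsmul, toP_cl (h.finLocFree k)]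

omit [IsLocallyNoetherian X] in
/-- The push-forward in terms of `K₀(PC)`. -/
lemma toP_pushCl (hf : Mor2.IsRegularClosedImmersion f) (hY : KRR.HasEnoughLocFree Y)
    {KX KY : Type*} [CommRing KX] [CommRing KY] {φX : SGA6.Kvb X →+ KX} {φY : SGA6.Kvb Y →+ KY}
    (hφY : Function.Bijective φY) {g : KX →+ KY} (hg : KRR.IsPushCl f φX φY g) (x : SGA6.Kvb X) :
    toP ((AddEquiv.ofBijective φY hφY).symm (g (φX x))) = pushVP f hf hY x := by
  refine DFunLike.congr_fun (hom_ext₀ (P := KRR.vbP X)
    (g := toP.comp ((AddEquiv.ofBijective φY hφY).symm.toAddMonoidHom.comp (g.comp φX)))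
    (g' := pushVP f hf hY) fun M hM => ?_) x
  show toP ((AddEquiv.ofBijective φY hφY).symm (g (φX (KRR.cl X M)))) = pushVP f hf hY (KRR.cl X M)
  have hp := pc_pushforward_vb f hf hY hM
  obtain ⟨n, L, π, hL⟩ := hasLFRes_of_pd hY hp.1 hp.2.choose_spec
  have e : (AddEquiv.ofBijective φY hφY).symm (g (φX (KRR.cl X M))) =
      ∑ k ∈ Finset.range (n + 1), (-1 : ℤ) ^ k • KRR.cl Y (L.X k) := by
    rw [AddEquiv.symm_apply_eq, hg M hM n L π hL, map_sum]
    exact Finset.sum_congr rfl fun k _ => (map_zsmul φY _ _).symm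
  rw [e, toP_sum hL, pushVP_cl f hf hY hM]

end Groth.Agent.KRR40
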