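import Groth.Agent.KRR40.PC
import Groth.Agent.KRR40.PushCl
import Groth.Agent.KRR40.TwistLES
import Groth.Agent.Amp73.GlobGen

/-!
Tensor products by finite locally free modules on the Grothendieck groups.
-/

set_option autoImplicit false
set_option linter.style.haveILetI false
set_option backward.isDefEq.respectTransparency.types false

noncomputable section

universe u v

open CategoryTheory CategoryTheory.Limits AlgebraicGeometry MonoidalCategory TensorProduct
open Groth.Agent.DCK91

namespace Groth.Agent.KRR40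

variable {X : Scheme.{u}} [IsLocallyNoetherian X]

omit [IsLocallyNoetherian X] in
lemma pd_tensor_vb {d : ℕ} {M N : X.Modules} (hM : PD d M) (hN : FlatMod.IsFinLocFree N) :
    PD d (CohB1.tensorMod M N) := fun x => by
  haveI : Module.Free (X.presheaf.stalk x) (N.presheaf.stalk x) := Props58.LocFree.free_stalk_of_isFinLocFree hN x
  haveI : N.IsFiniteType := Props58.LocFree.isFiniteType_of_isFinLocFree hN
  haveI : Module.Finite (X.presheaf.stalk x) (N.presheaf.stalk x) :=
    Props58.LocFree.finite_stalk_of_isFiniteType x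
  let b := Module.finBasis (X.presheaf.stalk x) (N.presheaf.stalk x)
  let e : (M.presheaf.stalk x) ⊗[X.presheaf.stalk x] (N.presheaf.stalk x) ≃ₗ[X.presheaf.stalk x]
      (Fin (Module.finrank (X.presheaf.stalk x) (N.presheaf.stalk x)) → M.presheaf.stalk x) :=
    (TensorProduct.congr (LinearEquiv.refl _ _) b.equivFun).trans
      (TensorProduct.piScalarRight (X.presheaf.stalk x) (X.presheaf.stalk x) (M.presheaf.stalk x) _)
  haveI := hasPD_pi (R := X.presheaf.stalk x) (M.presheaf.stalk x) (hM x) (Module.finrank (X.presheaf.stalk x) (N.presheaf.stalk x))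
  exact hasProjectiveDimensionLT_of_iso (e.symm.toModuleIso ≪≫ (@asIso _ _ _ _ (tensorStalk x M N) (DCK91.isIso_tensorStalk x M N))) _

lemma vb_tensor {M N : X.Modules} (hM : FlatMod.IsFinLocFree M) (hN : FlatMod.IsFinLocFree N) :
    FlatMod.IsFinLocFree (CohB1.tensorMod M N) :=
  vb_iff.mpr ⟨Amp73.isCoh_tensorMod (isCoh_of_vb hM) (isCoh_of_vb hN), pd_tensor_vb (pd_zero_of_isFinLocFree hM) hN⟩

lemma pc_tensor {M N : X.Modules} (hM : PC X M) (hN : FlatMod.IsFinLocFree N) :
    PC X (CohB1.tensorMod M N) :=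
  ⟨Amp73.isCoh_tensorMod hM.1 (isCoh_of_vb hN), _, pd_tensor_vb hM.2.choose_spec hN⟩

omit [IsLocallyNoetherian X] in
lemma shortExact_tensor_vb {N : X.Modules} (hN : FlatMod.IsFinLocFree N) {S : ShortComplex X.Modules}
    (hS : S.ShortExact) : (S.map (DCoh.tensorBi.obj N)).ShortExact :=
  shortExact_tensor (fun x => by
    haveI := Props58.LocFree.free_stalk_of_isFinLocFree hN x
    infer_instance) hS

/-- Tensoring `K₀(PC)` with a finite locally free module. -/
def tensP {N : X.Modules} (hN : FlatMod.IsFinLocFree N) : KZero.K0sub (PC X) →+ KZero.K0sub (PC X) :=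
  lift₀ (fun M => clP X (CohB1.tensorMod M N)) fun S hS h₁ h₂ h₃ => by
    have key : ∀ M, PC X M → clP X (CohB1.tensorMod M N) = clP X ((DCoh.tensorBi.obj N).obj M) := fun M hM =>
      cls_iso (P := PC X) (EGA73.tensComm M N) (pc_tensor hM hN) fun _ => pc_of_isZero
    have hpc : ∀ M, PC X M → PC X ((DCoh.tensorBi.obj N).obj M) := fun M hM =>
      (PC X).prop_of_iso (EGA73.tensComm M N) (pc_tensor hM hN)
    rw [key _ h₁, key _ h₂, key _ h₃]
    exact K0Res3.cls_add _ (shortExact_tensor_vb hN hS) (hpc _ h₁) (hpc _ h₂) (hpc _ h₃)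

lemma tensP_cl {N : X.Modules} (hN : FlatMod.IsFinLocFree N) {M : X.Modules} (hM : PC X M) :
    tensP hN (clP X M) = clP X (CohB1.tensorMod M N) :=
  lift₀_cl (P := PC X) _ _ hM

/-- Multiplication by the class of `N` in a model corresponds to tensoring by `N`. -/
theorem toP_mul {K : Type v} [CommRing K] [LambdaRing.LambdaOps K] {P : LambdaRing.PosStructure K}
    {φ : SGA6.Kvb X →+ K} (hK : KRR.IsModel X K P φ) {N : X.Modules} (hN : FlatMod.IsFinLocFree N) (a : K) :
    toP ((AddEquiv.ofBijective φ hK.bijective).symm (a * φ (KRR.cl X N))) =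
      tensP hN (toP ((AddEquiv.ofBijective φ hK.bijective).symm a)) := by
  obtain ⟨w, rfl⟩ := hK.bijective.2 a
  refine DFunLike.congr_fun (hom_ext₀ (P := KRR.vbP X)
    (g := toP.comp ((AddEquiv.ofBijective φ hK.bijective).symm.toAddMonoidHom.comp
      ((AddMonoidHom.mulRight (φ (KRR.cl X N))).comp φ)))
    (g' := (tensP hN).comp (toP.comp ((AddEquiv.ofBijective φ hK.bijective).symm.toAddMonoidHom.comp φ)))
    fun E hE => ?_) w
  show toP ((AddEquiv.ofBijective φ hK.bijective).symm (φ (KRR.cl X E) * φ (KRR.cl X N))) =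
    tensP hN (toP ((AddEquiv.ofBijective φ hK.bijective).symm (φ (KRR.cl X E))))
  rw [hK.map_mul E N hE hN]
  have h1 : (AddEquiv.ofBijective φ hK.bijective).symm (φ (KRR.cl X (CohB1.tensorMod E N))) =
      KRR.cl X (CohB1.tensorMod E N) := (AddEquiv.ofBijective φ hK.bijective).symm_apply_apply _
  have h2 : (AddEquiv.ofBijective φ hK.bijective).symm (φ (KRR.cl X E)) = KRR.cl X E :=
    (AddEquiv.ofBijective φ hK.bijective).symm_apply_apply _
  rw [show toP ((AddEquiv.ofBijective φ hK.bijective).symm (φ (KRR.cl X ((DCoh.tensorBi.obj E).obj N)))) = _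
    from congrArg toP h1, h2, toP_cl (vb_tensor hE hN), toP_cl hE, tensP_cl hN (pc_of_vb hE)]

end Groth.Agent.KRR40
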