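import Groth.Agent.KRR40.RelRes
import Groth.Agent.KRR40.TensorPC
import Groth.Agent.KRR40.ProjKos
import Groth.Agent.TwTens96.Basic

/-!
Tensoring a regular module with the inverse image of a finite locally free module.
-/

set_option autoImplicit false
set_option linter.style.haveILetI false
set_option backward.isDefEq.respectTransparency.types false
set_option maxSynthPendingDepth 6

noncomputable section

universe u

open CategoryTheory CategoryTheory.Limits AlgebraicGeometry

namespace Groth.Agent.KRR40

/-- Exchanging the first two factors. -/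
def tensLeftComm {X : Scheme.{u}} (A B C : X.Modules) :
    CohB1.tensorMod A (CohB1.tensorMod B C) ≅ CohB1.tensorMod B (CohB1.tensorMod A C) :=
  (EGA73.tensAssoc' A B C).symm ≪≫ EGA73.tensIso (EGA73.tensComm A B) (Iso.refl C) ≪≫ EGA73.tensAssoc' B A C

variable {n : ℕ} {T : Scheme.{u}} {F : (KRR.PY n T).Modules}

/-- A regular module times the inverse image of a finite locally free module is regular. -/
theorem isRegSheaf_tensor_pullback (hF : Coh.IsQCoh F) (hreg : KRR.IsRegSheaf n T F) {E : T.Modules}
    (hE : FlatMod.IsFinLocFree E) :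
    KRR.IsRegSheaf n T (CohB1.tensorMod ((Scheme.Modules.pullback (KRR.pr n T)).obj E) F) := by
  let p := KRR.pr n T
  let N := (Scheme.Modules.pullback p).obj E
  have hN : FlatMod.IsFinLocFree N := vb_pullback p hE
  have hEq : Coh.IsQCoh E := Props58.LocFree.isQuasicoherent_of_isFinLocFree hE
  suffices key : ∀ k i, n + 1 ≤ i + k →
      KRR.IsRegSheaf n T (CohB1.tensorMod N (stage n T F hF hreg i).1) from key (n + 1) 0 (by omega)
  intro k
  induction k with
  | zero =>
    exact fun i hi => isRegSheaf_of_isZero
      (Functor.map_isZero (DCoh.tensorBi.obj N) (isZero_stage n T hF hreg i (by omega)))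
  | succ k ih =>
    intro i hi
    let Z := (stage n T F hF hreg i).1
    let G := (Scheme.Modules.pushforward p).obj Z
    let K := kernel (cou n T Z)
    let S : ShortComplex (KRR.PY n T).Modules := (ShortComplex.mk (kernel.ι (cou n T Z)) (cou n T Z)
      (kernel.condition _)).map (DCoh.tensorBi.obj N)
    have hS : S.ShortExact :=
      shortExact_tensor_vb hN (counit_shortExact (stage n T F hF hreg i).2.1 (stage n T F hF hreg i).2.2)
    have h₂ : KRR.IsRegSheaf n T (CohB1.tensorMod N ((Scheme.Modules.pullback p).obj G)) :=
      isRegSheaf_of_iso (TwTens96.pullTensIso p E G)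
        (isRegSheaf_pullback n T (Amp73.isQCoh_tensorMod hEq (isQCoh_pushPr (stage n T F hF hreg i).2.1)))
    have h₁ : KRR.IsRegSheaf n T (CohB1.tensorMod (Twist.twistOver n T 1) (CohB1.tensorMod N K)) := by
      have h := ih (i + 1) (by omega)
      change KRR.IsRegSheaf n T (CohB1.tensorMod N (CohB1.tensorMod (Twist.twistOver n T 1) K)) at h
      exact isRegSheaf_of_iso (tensLeftComm N (Twist.twistOver n T 1) K) h
    exact isRegSheaf_X₃ n T (S := S) hS h₂ h₁

end Groth.Agent.KRR40
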