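import Groth.Agent.KRR40.PKVan
import Groth.Agent.KRR40.RegTensor
import Groth.Agent.KRR40.ProjFormulaVB
import Groth.Agent.KRR40.PnUnit

/-!
Values of the push-forward from projective space.
-/

set_option autoImplicit false
set_option linter.style.haveILetI false
set_option backward.isDefEq.respectTransparency.types false
set_option maxSynthPendingDepth 6

noncomputable section

universe u v w

open CategoryTheory CategoryTheory.Limits AlgebraicGeometry TopologicalSpace Opposite
open Groth.Agent.Var76.Reg Groth.Agent.Var76.LineBundle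

namespace Groth.Agent.KRR40

variable (n : ℕ) (T : Scheme.{u})

theorem injective_toGlobal (A : Type u) [CommRing A] :
    Function.Injective fun a : A =>
      (show Γ(CohB1.ProjSpace n A, ⊤) from Coh.toGlobal (CohB1.ProjSpace n A ↘ Spec (CommRingCat.of A)) a) := by
  let P := CohB1.ProjSpace n A
  let O := Coh.structureModule P
  obtain ⟨i⟩ := Var76.Reg.nonempty_twist_zero (n := n) (A := A)
  let v : Pn71.posCell (ι := Fin (n + 1)) 0 := ⟨0, (posCell_zero n).ge rfl⟩
  haveI : Subsingleton (Pn71.posCell (ι := Fin (n + 1)) 0) :=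
    ⟨fun a b => Subtype.ext (((posCell_zero n).le a.2 : a.1 = 0).trans ((posCell_zero n).le b.2 : b.1 = 0).symm)⟩
  haveI : Unique (Pn71.posCell (ι := Fin (n + 1)) 0) := uniqueOfSubsingleton v
  let e : Coh.HH P O 0 ≃ₗ[A] A := (Crv77.hEquiv A i.symm 0).trans ((Pn71.hhZeroEquivNonneg n A 0 le_rfl).trans
    ((Finsupp.supportedEquivFinsupp _).trans (Finsupp.LinearEquiv.finsuppUnique A A _)))
  intro a b hab
  have h := (Crv77.sec O).injective (a₁ := a • e.symm 1) (a₂ := b • e.symm 1)
    ((Crv77.sec_smul A O a _).trans ((congrArg (fun c : Γ(P, ⊤) => c • Crv77.sec O (e.symm 1)) hab).trans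
      (Crv77.sec_smul A O b _).symm))
  simpa using congrArg e h

/-- The unit at the structure sheaf is an isomorphism. -/
theorem isIso_unit_structureModule :
    IsIso ((Scheme.Modules.pullbackPushforwardAdjunction (KRR.pr n T)).unit.app (Coh.structureModule T)) := by
  let p := KRR.pr n T
  let η : Coh.structureModule T ⟶ (Scheme.Modules.pushforward p).obj ((Scheme.Modules.pullback p).obj (Coh.structureModule T)) :=
    (Scheme.Modules.pullbackPushforwardAdjunction p).unit.app (Coh.structureModule T)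
  haveI : Epi η := epi_unit_pr n T (Mero90.isQCoh_of_isInvertible EGA73.isInvertible_structureModule)
  haveI : Mono η := by
    refine QC70.mono_of_injective_stalkMapM η fun x => ?_
    refine (injective_iff_map_eq_zero ((TopCat.Presheaf.stalkFunctor _ x).map η.mapPresheaf).hom).2 fun e he => ?_
    obtain ⟨W, hxW, s, rfl⟩ := QC70.germM_exist e
    change QC70.stalkMapM η x _ = 0 at he
    rw [QC70.stalkMapM_germ] at he
    obtain ⟨W', hW', hxW', h0⟩ := QC70.germM_eq_zero he
    obtain ⟨V, hV, hxV, hVW⟩ := exists_isAffineOpen_mem_and_subset hxW'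
    have hle : V ≤ W := hVW.trans hW'
    rw [← QC70.germM_res hle hxV]
    suffices h : QC70.res (Coh.structureModule T) hle s = 0 by rw [h]; exact QC70.germM_zero _
    let r : Γ(T, V) := QC70.res (Coh.structureModule T) hle s
    have h1 : Amp73.pullS p (Coh.structureModule T) V (r : Γ(Coh.structureModule T, V)) = 0 := by
      refine (Mero90.app_res η hle s).trans ?_
      refine (Var76.LineBundle.res_res _ hW' hVW _).symm.trans ?_
      exact (congrArg (Var76.LineBundle.res _ hVW) h0).trans (map_zero _)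
    have h2 : p.app V r = 0 := by
      have h3 := congrArg ((PicLoc.pullbackStructureIso p).hom.app (p ⁻¹ᵁ V)) h1
      rw [map_zero] at h3
      refine Eq.trans ?_ h3
      have hr : (r : Γ(Coh.structureModule T, V)) = r • ((1 : Γ(T, V)) : Γ(Coh.structureModule T, V)) := (mul_one r).symm
      refine Eq.symm ((congrArg (fun z => (PicLoc.pullbackStructureIso p).hom.app (p ⁻¹ᵁ V) (Amp73.pullS p (Coh.structureModule T) V z)) hr).trans ?_)
      refine (congrArg ((PicLoc.pullbackStructureIso p).hom.app (p ⁻¹ᵁ V)) (Amp73.pullS_smul p (Coh.structureModule T) V r _)).trans ?_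
      refine (Scheme.Modules.Hom.app_smul _ _ _).trans ?_
      refine (congrArg (p.app V r • ·) (Amp73.pullbackStructureIso_pullS p V)).trans ?_
      exact mul_one (show Γ(KRR.PY n T, p ⁻¹ᵁ V) from p.app V r)
    refine injective_toGlobal n Γ(T, V) ?_
    refine (app_affPn_pr hV r).symm.trans ?_
    rw [h2, map_zero, map_zero]
    exact (map_zero (Coh.toGlobal (CohB1.ProjSpace n Γ(T, V) ↘ Spec (CommRingCat.of Γ(T, V))))).symm
  exact isIso_of_mono_of_epi η

/-- The direct image of the structure sheaf. -/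
def pushStructureIso : (Scheme.Modules.pushforward (KRR.pr n T)).obj (Coh.structureModule (KRR.PY n T)) ≅
    Coh.structureModule T :=
  (Scheme.Modules.pushforward (KRR.pr n T)).mapIso (PicLoc.pullbackStructureIso (KRR.pr n T)).symm ≪≫
    (@asIso _ _ _ _ _ (isIso_unit_structureModule n T)).symm

lemma van_structure {i : ℕ} (hi : 1 ≤ i) {d : ℤ} (hd : -(n : ℤ) ≤ d) :
    Van n T (Coh.structureModule (KRR.PY n T)) i d :=
  van_congr n T (PicLoc.pullbackStructureIso (KRR.pr n T))
    (van_pullback n T (Mero90.isQCoh_of_isInvertible EGA73.isInvertible_structureModule) hi hd)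

lemma isRegSheaf_structure : KRR.IsRegSheaf n T (Coh.structureModule (KRR.PY n T)) :=
  isRegSheaf_of_iso (PicLoc.pullbackStructureIso (KRR.pr n T))
    (isRegSheaf_pullback n T (Mero90.isQCoh_of_isInvertible EGA73.isInvertible_structureModule))

/-- Negative twists down to `-n` have zero direct image. -/
theorem isZero_push_twist_neg {i : ℕ} (hi : 1 ≤ i) (hin : i ≤ n) :
    IsZero ((Scheme.Modules.pushforward (KRR.pr n T)).obj
      (KRR.twF n T (-(i : ℤ)) (Coh.structureModule (KRR.PY n T)))) := by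
  let M := KRR.twF n T (-(i : ℤ)) (Coh.structureModule (KRR.PY n T))
  refine (IsZero.iff_id_eq_zero _).2 (Scheme.Modules.hom_ext _ _ fun W => ?_)
  ext s
  refine Var76.ZeroScheme.eq_of_locally ((Scheme.Modules.pushforward (KRR.pr n T)).obj M) _ _ fun y hy => ?_
  obtain ⟨V, hV, hyV, hVW⟩ := exists_isAffineOpen_mem_and_subset hy
  refine ⟨V, hVW, hyV, ?_⟩
  obtain ⟨e⟩ := nonempty_pullback_affPn_twist n T hV (-(i : ℤ))
  have hz : Subsingleton (Coh.HH (CohB1.ProjSpace n Γ(T, V)) ((Scheme.Modules.pullback (affPn n T hV)).obj M) 0) :=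
    ValVan29.subsingleton_hh_of_iso
      ((TwTens96.pullTensIso (affPn n T hV) _ _ ≪≫ EGA73.tensIso e (PicLoc.pullbackStructureIso _) ≪≫
        EGA73.tensUnitRight _).symm) 0
      (Pn71.subsingleton_hh n Γ(T, V) (-(i : ℤ)) 0 (fun h => by omega) (fun h => by omega))
  exact (pushSecEquiv hV).toEquiv.subsingleton.elim _ _

variable {n T}

lemma cl_iso_vb {X : Scheme.{u}} [IsLocallyNoetherian X] {M N : X.Modules} (e : M ≅ N) (hN : FlatMod.IsFinLocFree N) :
    KRR.cl X M = KRR.cl X N :=
  eq_of_iso_of_add (KRR.cl X) (fun A => FlatMod.IsFinLocFree A)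
    (fun S hS h₁ h₂ h₃ => K0Res3.cls_add (P := KRR.vbP X) S hS h₁ h₂ h₃) (vb_of_isZero (isZero_zero _)) e
    (vb_iso e.symm hN) hN

lemma cl_isZero_vb {X : Scheme.{u}} [IsLocallyNoetherian X] {M : X.Modules} (h : IsZero M) : KRR.cl X M = 0 :=
  let Q : AltData X.Modules (SGA6.Kvb X) :=
    { P₁ := fun M => FlatMod.IsFinLocFree M
      P₂ := fun _ => True
      f := KRR.cl X
      zero₁ := fun _ h => vb_of_isZero h
      zero₂ := fun _ _ => trivial
      left₁ := fun _ hS h₂ h₃ => vb_X₁ hS h₂ h₃
      right₂ := fun _ _ _ _ => trivial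
      ext₁ := fun _ hS h₁ h₃ => vb_X₂ hS h₁ h₃
      ext₂ := fun _ _ _ _ => trivial
      add := fun S hS h₁ h₂ h₃ => K0Res3.cls_add (P := KRR.vbP _) S hS h₁.1 h₂.1 h₃.1 }
  Q.f_zero h

lemma vb_structure (X : Scheme.{u}) : FlatMod.IsFinLocFree (Coh.structureModule X) :=
  vb_of_isInvertible EGA73.isInvertible_structureModule

section Poly

variable {Γ : Type w} [AddCommGroup Γ]

lemma iterDiff_succ' (f : ℤ → Γ) : ∀ (k : ℕ) (d : ℤ),
    iterDiff f (k + 1) d = iterDiff (fun e => f (e + 1) - f e) k d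
  | 0, d => rfl
  | k + 1, d => by
    show iterDiff f (k + 1) (d + 1) - iterDiff f (k + 1) d = _
    rw [iterDiff_succ' f k, iterDiff_succ' f k]
    rfl

lemma iterDiff_shift (f : ℤ → Γ) (c : ℤ) : ∀ (k : ℕ) (d : ℤ),
    iterDiff (fun e => f (e + c)) k d = iterDiff f k (d + c)
  | 0, d => rfl
  | k + 1, d => by
    simp only [iterDiff, iterDiff_shift f c k]
    rw [add_right_comm]

/-- A function with vanishing differences and prescribed zeros is a binomial coefficient. -/
theorem eq_choose_of_iterDiff : ∀ (k : ℕ) (f : ℤ → Γ) (a : Γ), (∀ d, iterDiff f (k + 1) d = 0) →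
    (∀ j : ℕ, 1 ≤ j → j ≤ k → f (-(j : ℤ)) = 0) → f 0 = a → ∀ m : ℕ, f m = Nat.choose (k + m) m • a
  | 0, f, a, h, _, ha, m => by
    induction m with
    | zero => simpa using ha
    | succ m ih =>
      have h1 : f ((m : ℤ) + 1) - f m = 0 := h m
      rw [sub_eq_zero] at h1
      push_cast
      rw [h1, ih]
      simp
  | k + 1, f, a, h, hv, ha, m => by
    let f' : ℤ → Γ := fun e => f e - f (e - 1)
    have hd : ∀ d, iterDiff f' (k + 1) d = 0 := fun d => by
      have h1 := iterDiff_succ' f (k + 1) (d - 1)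
      rw [h] at h1
      have h2 := iterDiff_shift (fun e => f (e + 1) - f e) (-1) (k + 1) d
      rw [show d + -1 = d - 1 by omega, ← h1] at h2
      rw [← h2]
      refine iterDiff_congr _ _ fun e _ _ => ?_
      simp [f', sub_eq_add_neg]
    have hv' : ∀ j : ℕ, 1 ≤ j → j ≤ k → f' (-(j : ℤ)) = 0 := fun j hj hjk => by
      show f _ - f _ = 0
      rw [hv j hj (by omega), show -(j : ℤ) - 1 = -((j + 1 : ℕ) : ℤ) by omega, hv (j + 1) (by omega) (by omega), sub_zero]
    have ha' : f' 0 = a := by
      show f 0 - f _ = a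
      rw [show (0 : ℤ) - 1 = -((1 : ℕ) : ℤ) by omega, hv 1 le_rfl (by omega), ha, sub_zero]
    have ih := eq_choose_of_iterDiff k f' a hd hv' ha'
    induction m with
    | zero => simpa using ha
    | succ m ihm =>
      have h1 : f ((m + 1 : ℕ) : ℤ) = f' ((m + 1 : ℕ) : ℤ) + f m := by
        simp only [f']
        rw [show ((m + 1 : ℕ) : ℤ) - 1 = (m : ℤ) by omega, sub_add_cancel]
      rw [h1, ih, ihm, ← add_smul]
      congr 1
      rw [show k + 1 + (m + 1) = (k + m + 1) + 1 by omega, Nat.choose_succ_succ,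
        show k + (m + 1) = k + m + 1 by omega, show k + 1 + m = k + m + 1 by omega]
      simp only [Nat.succ_eq_add_one]
      omega

end Poly

section Values

variable [IsNoetherian T] {KP : Type v} {KY : Type w} [CommRing KP] [CommRing KY]
  {φP : SGA6.Kvb (KRR.PY n T) →+ KP} {φY : SGA6.Kvb T →+ KY} {g : KP →+ KY} (hg : KRR.IsPushPr n T φP φY g)

include hg

theorem pushPr_structure :
    g (φP (KRR.cl (KRR.PY n T) (Coh.structureModule (KRR.PY n T)))) = φY (KRR.cl T (Coh.structureModule T)) := by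
  rw [hg _ (vb_structure _) (isRegSheaf_structure n T), cl_iso_vb (pushStructureIso n T) (vb_structure T)]

theorem pushPr_twist_neg {i : ℕ} (hi : 1 ≤ i) (hin : i ≤ n) :
    g (φP (KRR.cl (KRR.PY n T) (KRR.twF n T (-(i : ℤ)) (Coh.structureModule (KRR.PY n T))))) = 0 := by
  haveI := isLocallyNoetherian_PY n T
  rw [pushPr_eq_of_acy hg (vb_twF (vb_structure _) _)
      (fun d hd j hj => (van_twF_iff n T _ rfl).2 (van_structure n T hj (by omega))),
    cl_isZero_vb (isZero_push_twist_neg n T hi hin), map_zero]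

theorem pushPr_twist_nonneg (m : ℕ) :
    g (φP (KRR.cl (KRR.PY n T) (KRR.twF n T (m : ℤ) (Coh.structureModule (KRR.PY n T))))) =
      Nat.choose (n + m) m • φY (KRR.cl T (Coh.structureModule T)) := by
  haveI := isLocallyNoetherian_PY n T
  let O := Coh.structureModule (KRR.PY n T)
  let f : ℤ → KY := fun d => g (φP (KRR.cl (KRR.PY n T) (KRR.twF n T d O)))
  refine eq_choose_of_iterDiff n f _ (fun d => ?_) (fun j hj hjn => pushPr_twist_neg hg hj hjn) ?_ m
  · let Q : AltData (KRR.PY n T).Modules KY :=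
      { P₁ := fun M => FlatMod.IsFinLocFree M
        P₂ := fun _ => True
        f := fun M => g (φP (KRR.cl _ M))
        zero₁ := fun _ h => vb_of_isZero h
        zero₂ := fun _ _ => trivial
        left₁ := fun _ hS h₂ h₃ => vb_X₁ hS h₂ h₃
        right₂ := fun _ _ _ _ => trivial
        ext₁ := fun _ hS h₁ h₃ => vb_X₂ hS h₁ h₃
        ext₂ := fun _ _ _ _ => trivial
        add := fun S hS h₁ h₂ h₃ => by
          rw [show KRR.cl _ S.X₂ = KRR.cl _ S.X₁ + KRR.cl _ S.X₃ from
            K0Res3.cls_add (P := KRR.vbP _) S hS h₁.1 h₂.1 h₃.1, map_add, map_add] }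
    have hM := vb_twF (vb_structure (KRR.PY n T)) d
    have key := rel_of_altData Q (KRR.twF n T d O)
      (fun e _ A hA => ⟨vb_iso hA.some.symm (vb_twF hM e), trivial⟩) (fun e => f (e + d)) (fun e _ A hA => by
        obtain ⟨t⟩ := nonempty_twF_twF n T e d O
        show g (φP (KRR.cl _ A)) = g (φP (KRR.cl _ (KRR.twF n T (e + d) O)))
        rw [cl_iso_vb (hA.some ≪≫ t) (vb_twF (vb_structure _) _)])
    rwa [iterDiff_shift f d, zero_add] at key
  · show g (φP (KRR.cl _ (KRR.twF n T 0 O))) = _
    obtain ⟨e⟩ := nonempty_twF_zero n T O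
    rw [cl_iso_vb e (vb_structure _), pushPr_structure hg]

/-- The projection formula on generators. -/
theorem pushPr_tensor_pullback {F : (KRR.PY n T).Modules} (hF : FlatMod.IsFinLocFree F)
    (hreg : KRR.IsRegSheaf n T F) {E : T.Modules} (hE : FlatMod.IsFinLocFree E) :
    g (φP (KRR.cl (KRR.PY n T) (CohB1.tensorMod F ((Scheme.Modules.pullback (KRR.pr n T)).obj E)))) =
      φY (KRR.cl T (CohB1.tensorMod ((Scheme.Modules.pushforward (KRR.pr n T)).obj F) E)) := by
  haveI := isLocallyNoetherian_PY n T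
  have hN := vb_pullback (KRR.pr n T) hE
  have hr : KRR.IsRegSheaf n T (CohB1.tensorMod F ((Scheme.Modules.pullback (KRR.pr n T)).obj E)) :=
    isRegSheaf_of_iso (EGA73.tensComm _ _)
      (isRegSheaf_tensor_pullback (Props58.LocFree.isQuasicoherent_of_isFinLocFree hF) hreg hE)
  rw [hg _ (vb_tensor hF hN) hr]
  exact congrArg φY (cl_iso_vb (projIsoVB (KRR.pr n T) F hE).symm
    (vb_tensor (finLocFree_pushPr_of_reg hF hreg) hE))

end Values

end Groth.Agent.KRR40
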