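import Groth.Agent.KRR40.LamPull
import Groth.Agent.Amp73.GlobGen
import Groth.Agent.KRR40.PKValues
import Groth.Agent.QC70.ExtCoh

/-!
Ample invertible modules give ample line elements in `K`.
-/

set_option autoImplicit false
set_option backward.isDefEq.respectTransparency.types false
set_option linter.style.haveILetI false

noncomputable section

universe v u

open CategoryTheory CategoryTheory.Limits AlgebraicGeometry LambdaRing

namespace Groth.Agent.KRR40

variable {X : Scheme.{u}}

/-- On a connected scheme finite locally free modules have constant rank. -/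
theorem exists_rank_of_connected [ConnectedSpace ↥X] {E : X.Modules} (hE : FlatMod.IsFinLocFree E) :
    ∃ r, FlatMod.IsFinLocFreeOfRank r E := by
  let rk : X → ℕ := fun x => Module.finrank (X.presheaf.stalk x) (E.presheaf.stalk x)
  choose U k hxU i using hE
  have hrk : ∀ x y, y ∈ U x → rk y = k x := by
    intro x y hy
    obtain ⟨s, hs⟩ := Props58.LocFree.exists_stalkBasis_of_iso (i x).some
    let c : (Fin (k x) → X.presheaf.stalk y) →ₗ[X.presheaf.stalk y] E.presheaf.stalk y :=
      Fintype.linearCombination (X.presheaf.stalk y) fun j => QC70.germM E (U x) y hy (s j)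
    have hc : Function.Bijective c := by
      refine (congrArg Function.Bijective (funext fun a => ?_)).mp (hs y hy)
      simp [c, Fintype.linearCombination_apply, Props58.LocFree.germComb]
    show Module.finrank _ _ = _
    rw [← (LinearEquiv.ofBijective c hc).finrank_eq, Module.finrank_fin_fun]
  have hlc : IsLocallyConstant rk := IsLocallyConstant.iff_eventually_eq _ |>.2 fun x =>
    Filter.eventually_of_mem ((U x).2.mem_nhds (hxU x)) fun y hy => by rw [hrk x y hy, hrk x x (hxU x)]
  obtain ⟨x₀⟩ := (inferInstance : Nonempty X)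
  refine ⟨rk x₀, fun x => ⟨U x, hxU x, ?_⟩⟩
  rw [hlc.apply_eq_of_preconnectedSpace x₀ x, hrk x x (hxU x)]
  exact i x

variable [IsLocallyNoetherian X] {K : Type v} [CommRing K] [LambdaOps K] {P : PosStructure K}
  {φ : SGA6.Kvb X →+ K}

/-- Classes of free modules are natural numbers. -/
theorem cl_freeMod (hK : KRR.IsModel X K P φ) (m : ℕ) : φ (KRR.cl X (FlatMod.freeMod X m)) = m := by
  have h : ∀ m : ℕ, FlatMod.IsFinLocFree (⨁ fun _ : Fin m => Coh.structureModule X) ∧
      φ (KRR.cl X (⨁ fun _ : Fin m => Coh.structureModule X)) = m := by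
    intro m
    induction m with
    | zero =>
      have h0 : IsZero (⨁ fun _ : Fin 0 => Coh.structureModule X) := by
        rw [IsZero.iff_id_eq_zero]; exact biproduct.hom_ext _ _ fun i => i.elim0
      exact ⟨vb_of_isZero h0, by rw [cl_isZero_vb h0, map_zero, Nat.cast_zero]⟩
    | succ m ih =>
      have hS := QC70.consSC_shortExact (fun _ : Fin (m + 1) => Coh.structureModule X)
      have hv := vb_X₂ hS (vb_structure X) ih.1
      refine ⟨hv, ?_⟩
      rw [Nat.cast_succ, ← ih.2, ← hK.map_one, ← map_add, add_comm (KRR.cl X (⨁ fun _ : Fin m => Coh.structureModule X))]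
      exact congrArg φ (K0Res3.cls_add (P := KRR.vbP X) _ hS (vb_structure X) hv ih.1)
  rw [← (h m).2]
  exact congrArg φ (cl_iso_vb (biproduct.isoCoproduct _).symm (h m).1)

/-- High twists of a bundle are positive elements minus natural numbers, also after a sign change. -/
theorem eventually_neg_twist [ConnectedSpace ↥X] (hK : KRR.IsModel X K P φ) {L : X.Modules} (hL : CohB1.IsAmple L)
    {M : X.Modules} (hM : FlatMod.IsFinLocFree M) : ∃ n₀ : ℕ, ∀ n, n₀ ≤ n → ∃ (e : K) (m : ℕ),
      e ∈ P.pos ∧ φ (KRR.cl X L) ^ n * -(φ (KRR.cl X M)) = e - m := by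
  haveI := hL.2.1
  have hLv : FlatMod.IsFinLocFree L := vb_of_isInvertible hL.1
  have hcoh : Coh.IsCoh M := isCoh_of_vb hM
  obtain ⟨n₀, h⟩ := Amp73.eventually_spanAt_twist hL hcoh
  refine ⟨n₀, fun n hn => ?_⟩
  have hPv : ∀ j, FlatMod.IsFinLocFree (CohB1.tensorPow L j) := fun j => vb_of_isInvertible (EGA73.isInvertible_tensorPow hL.1 j)
  have hpow : ∀ j, φ (KRR.cl X L) ^ j = φ (KRR.cl X (CohB1.tensorPow L j)) := by
    intro j
    induction j with
    | zero => rw [pow_zero, ← hK.map_one]; rfl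
    | succ j ih => rw [pow_succ, ih, hK.map_mul _ _ (hPv j) hLv]; rfl
  have hTv : FlatMod.IsFinLocFree (CohB1.tensorMod M (CohB1.tensorPow L n)) := vb_tensor hM (hPv n)
  have hTc := isCoh_of_vb hTv
  obtain ⟨k, p, hp⟩ := Amp73.exists_epi_freeMod hTc.1 hTc.2 (h n hn)
  let S := ShortComplex.mk (kernel.ι p) p (kernel.condition p)
  have hS : S.ShortExact := { exact := ShortComplex.exact_of_f_is_kernel _ (kernelIsKernel p) }
  have hF := QC70.isFinLocFree_freeMod X k
  have hKv : FlatMod.IsFinLocFree (kernel p) := vb_X₁ hS hF hTv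
  have hsum : φ (KRR.cl X (FlatMod.freeMod X k)) =
      φ (KRR.cl X (kernel p)) + φ (KRR.cl X (CohB1.tensorMod M (CohB1.tensorPow L n))) := by
    rw [← map_add]
    exact congrArg φ (K0Res3.cls_add (P := KRR.vbP X) S hS hKv hF hTv)
  have hB : (ShortComplex.mk (biprod.inl : kernel p ⟶ kernel p ⊞ Coh.structureModule X) biprod.snd
      biprod.inl_snd).ShortExact :=
    ShortComplex.Splitting.shortExact { r := biprod.fst, s := biprod.inr }
  have hBv := vb_X₂ hB hKv (vb_structure X)
  have hBc : φ (KRR.cl X (kernel p ⊞ Coh.structureModule X)) = φ (KRR.cl X (kernel p)) + 1 := by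
    rw [← hK.map_one, ← map_add]
    exact congrArg φ (K0Res3.cls_add (P := KRR.vbP X) _ hB hKv hBv (vb_structure X))
  obtain ⟨rK, hrK⟩ := exists_rank_of_connected hKv
  obtain ⟨r, hr⟩ := exists_rank_of_connected hBv
  have hr1 : 1 ≤ r := by
    have := congrArg P.aug hBc
    rw [map_add, map_one, hK.aug_cl r _ hr, hK.aug_cl rK _ hrK] at this
    omega
  refine ⟨φ (KRR.cl X (kernel p)) + 1, k + 1, ?_, ?_⟩
  · exact (hK.mem_pos_iff _).2 ⟨r, _, hr1, hr, hBc⟩
  · have hmul : φ (KRR.cl X L) ^ n * φ (KRR.cl X M) = φ (KRR.cl X (CohB1.tensorMod M (CohB1.tensorPow L n))) := by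
      rw [mul_comm, hpow, hK.map_mul _ _ hM (hPv n)]; rfl
    rw [cl_freeMod hK] at hsum
    rw [mul_neg, hmul, Nat.cast_add, Nat.cast_one, hsum]
    ring

end Groth.Agent.KRR40

namespace Groth.Agent.KRR40

variable {X : Scheme.{u}} [IsLocallyNoetherian X] [ConnectedSpace ↥X] {K : Type v} [CommRing K] [LambdaOps K]
  {P : PosStructure K} {φ : SGA6.Kvb X →+ K}

/-- The class of an ample invertible module is an ample line element. -/
theorem isAmpleElt_cl (hK : KRR.IsModel X K P φ) {L : X.Modules} (hL : CohB1.IsAmple L) :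
    KRR.IsAmpleElt P (φ (KRR.cl X L)) := by
  have hL1 := Mero90.isFinLocFreeOfRank_of_isInvertible hL.1
  have hu : φ (KRR.cl X L) ∈ P.pos := (hK.mem_pos_iff _).2 ⟨1, L, le_rfl, hL1, rfl⟩
  have hup : ∀ n : ℕ, φ (KRR.cl X L) ^ n ∈ P.pos := by
    intro n
    induction n with
    | zero => simpa using P.natCast_mem 1 Nat.one_pos
    | succ n ih => rw [pow_succ]; exact P.mul_mem _ _ ih hu
  refine ⟨⟨hu, hK.aug_cl 1 L hL1⟩, fun x => ?_⟩
  obtain ⟨a, b, ha, hb, rfl⟩ := P.exists_sub x
  obtain ⟨r, B, -, hB, rfl⟩ := (hK.mem_pos_iff b).1 hb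
  obtain ⟨n₀, h⟩ := eventually_neg_twist hK hL (vb_of_rank hB)
  refine ⟨n₀, fun n hn => ?_⟩
  obtain ⟨e, m, he, heq⟩ := h n hn
  refine ⟨φ (KRR.cl X L) ^ n * a + e, m, P.add_mem _ _ (P.mul_mem _ _ (hup n) ha) he, ?_⟩
  linear_combination heq

end Groth.Agent.KRR40
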