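import Groth.Agent.KRR40.PKSection
import Groth.Agent.GSS45.ClosedHom

/-!
The projection composed with a section is the identity on `K`.
-/

set_option autoImplicit false
set_option backward.isDefEq.respectTransparency.types false
set_option linter.style.haveILetI false

noncomputable section

universe v u

open CategoryTheory CategoryTheory.Limits AlgebraicGeometry LambdaRing
open Groth.Agent.QC70

namespace Groth.Agent.KRR40

/-- A closed subscheme of a scheme with enough bundles has enough bundles. -/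
theorem hasEnough_of_closedImmersion {X P : Scheme.{u}} [IsLocallyNoetherian X] [IsLocallyNoetherian P] (i : X ⟶ P)
    [IsClosedImmersion i] (hP : KRR.HasEnoughLocFree P) : KRR.HasEnoughLocFree X := by
  intro F hF
  obtain ⟨E, p, hE, hp⟩ := hP _ (QC70.isCoh_pushforward i F hF)
  exact ⟨_, (Scheme.Modules.pullback i).map p ≫ (GSS45.ClosedHom.counitIso i).hom.app F, vb_pullback i hE,
    epi_comp _ _⟩

lemma isNoetherian_PY (n : ℕ) (T : Scheme.{u}) [IsNoetherian T] : IsNoetherian (KRR.PY n T) :=
  haveI := isLocallyNoetherian_PY n T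
  haveI : CompactSpace (KRR.PY n T) := QuasiCompact.compactSpace_of_compactSpace (KRR.pr n T)
  {}

/-- `p_K ∘ s_K = id`. -/
theorem pushPr_pushCl_section (n : ℕ) {T : Scheme.{u}} [IsNoetherian T]
    (hPe : KRR.HasEnoughLocFree (KRR.PY n T)) (s : T ⟶ KRR.PY n T) (hs : s ≫ KRR.pr n T = 𝟙 T)
    (hsr : Mor2.IsRegularClosedImmersion s)
    {KP KY : Type v} [CommRing KP] [CommRing KY] [LambdaOps KP] [LambdaOps KY] {PP : PosStructure KP}
    {PY : PosStructure KY} {φP : SGA6.Kvb (KRR.PY n T) →+ KP} {φY : SGA6.Kvb T →+ KY}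
    (hKP : KRR.IsModel (KRR.PY n T) KP PP φP) (hKY : KRR.IsModel T KY PY φY)
    {gs : KY →+ KP} (hgs : KRR.IsPushCl s φY φP gs) {gp : KP →+ KY} (hgp : KRR.IsPushPr n T φP φY gp) :
    gp.comp gs = AddMonoidHom.id KY := by
  haveI := isNoetherian_PY n T
  haveI := hsr.1
  let eY := AddEquiv.ofBijective φY hKY.bijective
  let eP := AddEquiv.ofBijective φP hKP.bijective
  have hTe := hasEnough_of_closedImmersion s hPe
  refine AddMonoidHom.ext fun y => eY.symm.injective ((bijective_toP hTe).1 ?_)
  refine DFunLike.congr_fun (eq_of_twists hKP hKY s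
    ((toP.comp eY.symm.toAddMonoidHom).comp (gp.comp gs)) (toP.comp eY.symm.toAddMonoidHom) fun E hE => ?_) y
  have hM := pc_pushforward_vb s hsr hPe hE
  obtain ⟨m, hm⟩ := eventually_pushP hKY.bijective hPe hgp _ _ hM.1 hM.2.choose_spec
  refine ⟨m, fun e he E' hE' _ i => ?_⟩
  obtain ⟨i⟩ := i
  obtain ⟨-, hp, h⟩ := hm e he
  have h1 : pushP hKY.bijective hPe φP gp (toP (eP.symm (gs (φY (KRR.cl T E'))))) =
      clP T ((Scheme.Modules.pushforward (KRR.pr n T)).obj
        (KRR.twF n T (e : ℤ) ((Scheme.Modules.pushforward s).obj E))) := by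
    refine (congrArg _ ?_).trans h
    rw [toP_pushCl s hsr hPe hKP.bijective hgs, pushVP_cl s hsr hPe hE']
    exact cls_iso (P := PC (KRR.PY n T)) i (pc_pushforward_vb s hsr hPe hE') fun _ => pc_of_isZero
  rw [pushP_toP, show φP (eP.symm (gs (φY (KRR.cl T E')))) = _ from eP.apply_symm_apply _] at h1
  refine h1.trans ?_
  show _ = toP (eY.symm (eY (KRR.cl T E')))
  rw [AddEquiv.symm_apply_apply, toP_cl hE']
  exact cls_iso (P := PC T) ((Scheme.Modules.pushforward (KRR.pr n T)).mapIso i.symm ≪≫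
    (Scheme.Modules.pushforwardComp s (KRR.pr n T)).app E' ≪≫
      (Scheme.Modules.pushforwardCongr hs).app E' ≪≫ (Scheme.Modules.pushforwardId T).app E')
    hp fun _ => pc_of_isZero

end Groth.Agent.KRR40
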