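import Groth.Agent.KRR40.GammaPush
import Groth.Agent.KRR40.Ample
import Groth.Agent.KRR40.PKApp
import Groth.Agent.KRR3.ARR

/-!
Adams operations and the push-forward from projective space.
-/

set_option autoImplicit false
set_option linter.style.haveILetI false
set_option backward.isDefEq.respectTransparency.types false
set_option maxSynthPendingDepth 6

noncomputable section

universe v u

open CategoryTheory CategoryTheory.Limits AlgebraicGeometry LambdaRing
open scoped TensorProduct

namespace Groth.Agent.KRR40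

open KRR40

section series

variable {K : Type v} [CommRing K] [LambdaOps K] {K' : Type v} [CommRing K'] [LambdaOps K']

lemma ct_resc (x : K) : PowerSeries.constantCoeff (PowerSeries.rescale (-1 : K) (lamSeries x)) = 1 := by
  rw [← PowerSeries.coeff_zero_eq_constantCoeff_apply, PowerSeries.coeff_rescale, Lambda37.coeff_lamSeries,
    LambdaOps.lam_zero]
  simp

/-- The logarithmic derivative of `λ_{-t}`, times `t`. -/
def psiT (x : K) : PowerSeries K :=
  PowerSeries.X * (PowerSeries.derivative K (PowerSeries.rescale (-1 : K) (lamSeries x))) *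
    (PowerSeries.rescale (-1 : K) (lamSeries x)).invOfUnit 1

lemma adams_eq (P : PosStructure K) {j : ℕ} (hj : 1 ≤ j) (x : K) :
    adams P j x = -PowerSeries.coeff j (psiT x) := by
  show PowerSeries.coeff j (PowerSeries.C (P.aug x : K) - psiT x) = _
  rw [map_sub, PowerSeries.coeff_C, if_neg (by omega), zero_sub]

lemma eq_invOfUnit {s t : PowerSeries K} (hs : PowerSeries.constantCoeff s = 1) (h : t * s = 1) :
    t = s.invOfUnit 1 :=
  left_inv_eq_right_inv h (PowerSeries.mul_invOfUnit _ 1 hs)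

lemma psiT_add (x y : K) : psiT (x + y) = psiT x + psiT y := by
  unfold psiT
  rw [Lambda37.lamSeries_add, map_mul]
  set s := PowerSeries.rescale (-1 : K) (lamSeries x)
  set t := PowerSeries.rescale (-1 : K) (lamSeries y)
  have hs : s * s.invOfUnit 1 = 1 := PowerSeries.mul_invOfUnit _ 1 (ct_resc x)
  have ht : t * t.invOfUnit 1 = 1 := PowerSeries.mul_invOfUnit _ 1 (ct_resc y)
  rw [← eq_invOfUnit (s := s * t) (t := s.invOfUnit 1 * t.invOfUnit 1)
    (by rw [map_mul, ct_resc, ct_resc, mul_one]) (by linear_combination (t * t.invOfUnit 1) * hs + ht),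
    Derivation.leibniz, smul_eq_mul, smul_eq_mul]
  linear_combination (PowerSeries.X * PowerSeries.derivative K t * t.invOfUnit 1) * hs +
    (PowerSeries.X * PowerSeries.derivative K s * s.invOfUnit 1) * ht

lemma psiT_rescale {x u : K} (h : lamSeries (x * u) = PowerSeries.rescale u (lamSeries x)) :
    psiT (x * u) = PowerSeries.rescale u (psiT x) := by
  unfold psiT
  rw [h, show PowerSeries.rescale (-1 : K) (PowerSeries.rescale u (lamSeries x)) =
    PowerSeries.rescale u (PowerSeries.rescale (-1 : K) (lamSeries x)) by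
      rw [PowerSeries.rescale_rescale, PowerSeries.rescale_rescale, mul_comm]]
  set s := PowerSeries.rescale (-1 : K) (lamSeries x)
  rw [← eq_invOfUnit (t := PowerSeries.rescale u (s.invOfUnit 1))
    (by rw [← PowerSeries.coeff_zero_eq_constantCoeff_apply, PowerSeries.coeff_rescale, pow_zero, one_mul,
      PowerSeries.coeff_zero_eq_constantCoeff_apply, ct_resc])
    (by rw [← map_mul, PowerSeries.invOfUnit_mul _ 1 (ct_resc x), map_one]), map_mul, map_mul]
  congr 1
  ext n
  cases n with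
  | zero => simp
  | succ n =>
    simp only [← map_mul, PowerSeries.coeff_rescale, PowerSeries.coeff_succ_X_mul, PowerSeries.coeff_derivative]
    ring

lemma psiT_map {f : K →+* K'} (hf : IsLambdaHom f) (x : K) : PowerSeries.map f (psiT x) = psiT (f x) := by
  have hr : PowerSeries.map f (PowerSeries.rescale (-1 : K) (lamSeries x)) =
      PowerSeries.rescale (-1 : K') (lamSeries (f x)) := by
    ext n
    simp [PowerSeries.coeff_rescale, hf n x]
  unfold psiT
  rw [map_mul, map_mul, PowerSeries.map_X, ← eq_invOfUnit (ct_resc (f x))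
    (t := PowerSeries.map f ((PowerSeries.rescale (-1 : K) (lamSeries x)).invOfUnit 1))
    (by rw [← hr, ← map_mul, PowerSeries.invOfUnit_mul _ 1 (ct_resc x), map_one])]
  congr 2
  ext n
  rw [PowerSeries.coeff_map, PowerSeries.coeff_derivative, PowerSeries.coeff_derivative, ← hr,
    PowerSeries.coeff_map, map_mul, map_add, map_natCast, map_one]

/-- The Adams operations in positive degree are additive. -/
def adamsHom (P : PosStructure K) {j : ℕ} (hj : 1 ≤ j) : K →+ K :=
  AddMonoidHom.mk' (adams P j) fun x y => by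
    rw [adams_eq P hj, adams_eq P hj, adams_eq P hj, psiT_add, map_add, neg_add]

lemma adamsHom_apply (P : PosStructure K) {j : ℕ} (hj : 1 ≤ j) (x : K) : adamsHom P hj x = adams P j x := rfl

lemma adams_mul_line (P : PosStructure K) {j : ℕ} (hj : 1 ≤ j) {x u : K}
    (h : lamSeries (x * u) = PowerSeries.rescale u (lamSeries x)) : adams P j (x * u) = adams P j x * u ^ j := by
  rw [adams_eq P hj, adams_eq P hj, psiT_rescale h, PowerSeries.coeff_rescale]
  ring

lemma adams_map {P : PosStructure K} {P' : PosStructure K'} {f : K →+* K'} (hf : IsLambdaHom f) {j : ℕ}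
    (hj : 1 ≤ j) (x : K) : f (adams P j x) = adams P' j (f x) := by
  rw [adams_eq P hj, adams_eq P' hj, map_neg, ← PowerSeries.coeff_map, psiT_map hf]

lemma lam_one_eq_zero (P : PosStructure K) {i : ℕ} (hi : 2 ≤ i) : LambdaOps.lam i (1 : K) = 0 := by
  have h := P.natCast_mem 1 Nat.one_pos
  rw [Nat.cast_one] at h
  exact P.lam_eq_zero 1 h i (by rw [map_one]; exact_mod_cast hi)

lemma lamSeries_one (P : PosStructure K) : lamSeries (1 : K) = 1 + PowerSeries.X := by
  have h := Lambda37.lamSeries_natCast (fun k hk => lam_one_eq_zero P hk) 1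
  rwa [Nat.cast_one, pow_one] at h

end series

section main

variable {n : ℕ} {Y : Scheme.{u}} [IsNoetherian Y] [ConnectedSpace ↥Y] {KP KY : Type v} [CommRing KP]
  [CommRing KY] [LambdaOps KP] [LambdaOps KY] {PP : PosStructure KP} {PY : PosStructure KY}
  {φP : SGA6.Kvb (KRR.PY n Y) →+ KP} {φY : SGA6.Kvb Y →+ KY}

/-- Adams–Riemann–Roch for the projection from projective space. -/
theorem adams_pushPr (hKP : KRR.IsModel (KRR.PY n Y) KP PP φP) (hKY : KRR.IsModel Y KY PY φY)
    {g : KP →+ KY} (hg : KRR.IsPushPr n Y φP φY g) {j : ℕ} (hj : 1 ≤ j) (R : Type) [CommRing R]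
    (hjR : IsUnit (j : R)) :
    (∃ w : R ⊗[ℤ] KP, w * ((1 : R) ⊗ₜ[ℤ] KRR.bott PP j (φP (KRR.cl (KRR.PY n Y)
      (KRR.twF n Y (-1) ((Scheme.Modules.pullback (KRR.pr n Y)).obj (FlatMod.freeMod Y (n + 1))))))) = 1) ∧
    ∀ w : R ⊗[ℤ] KP, w * ((1 : R) ⊗ₜ[ℤ] KRR.bott PP j (φP (KRR.cl (KRR.PY n Y)
      (KRR.twF n Y (-1) ((Scheme.Modules.pullback (KRR.pr n Y)).obj (FlatMod.freeMod Y (n + 1))))))) = 1 →
      ∀ z : KP, (1 : R) ⊗ₜ[ℤ] adams PY j (g z) =
        LinearMap.lTensor R g.toIntLinearMap ((j : R ⊗[ℤ] KP) * ((1 : R) ⊗ₜ[ℤ] adams PP j z) * w) := by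
  haveI := isNoetherian_PY n Y
  haveI := isLocallyNoetherian_PY n Y
  set ℓ := φP (KRR.cl (KRR.PY n Y) (Twist.twistOver n Y 1)) with hℓdef
  set linv := φP (KRR.cl (KRR.PY n Y) (Twist.twistOver n Y (-1))) with hlinvdef
  have hv : ∀ d : ℤ, FlatMod.IsFinLocFree (Twist.twistOver n Y d) := fun d =>
    vb_of_isInvertible (isInvertible_twistOver n Y d)
  have hll : linv * ℓ = 1 := by
    obtain ⟨i⟩ := nonempty_twistOver_add n Y (-1) 1
    have h0 := cl_twistOver hKP 0
    rw [pow_zero, Nat.cast_zero] at h0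
    rw [hKP.map_mul _ _ (hv _) (hv _), ← h0]
    exact congrArg φP (cl_iso_vb (Iso.trans i (eqToIso (congrArg (Twist.twistOver n Y) (show (-1 : ℤ) + 1 = 0 by norm_num)))) (hv 0))
  -- the pull-back
  let q0 : KY →+ KP := (φP.comp (pullK (KRR.pr n Y))).comp (AddEquiv.ofBijective φY hKY.bijective).symm.toAddMonoidHom
  have hq0 : KRR.IsPull (KRR.pr n Y) φY φP q0 := fun E hE => by
    show φP (pullK _ ((AddEquiv.ofBijective φY hKY.bijective).symm (φY (KRR.cl Y E)))) = _
    rw [show (AddEquiv.ofBijective φY hKY.bijective).symm (φY (KRR.cl Y E)) = KRR.cl Y E from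
      (AddEquiv.ofBijective φY hKY.bijective).symm_apply_apply _, pullK_cl _ hE]
  set q := pullHom hKY hKP hq0 with hqdef
  -- the class of the twisted free module
  have hfree := QC70.isFinLocFree_freeMod Y (n + 1)
  have he : φP (KRR.cl (KRR.PY n Y)
      (KRR.twF n Y (-1) ((Scheme.Modules.pullback (KRR.pr n Y)).obj (FlatMod.freeMod Y (n + 1))))) =
      ((n + 1 : ℕ) : KP) * linv := by
    rw [mul_comm]
    have h1 : φP (KRR.cl (KRR.PY n Y) ((Scheme.Modules.pullback (KRR.pr n Y)).obj (FlatMod.freeMod Y (n + 1)))) =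
        ((n + 1 : ℕ) : KP) := by
      rw [← hq0 _ hfree, cl_freeMod hKY]
      exact map_natCast q (n + 1)
    rw [← h1]
    exact (hKP.map_mul _ _ (hv _) (vb_pullback _ hfree)).symm
  rw [he]
  set e := ((n + 1 : ℕ) : KP) * linv
  have haug : (PP.aug e).toNat = n + 1 := by
    have hl : PP.aug linv = 1 := by
      simpa using hKP.aug_cl 1 _ (Mero90.isFinLocFreeOfRank_of_isInvertible (isInvertible_twistOver n Y (-1)))
    rw [map_mul, hl, mul_one, map_natCast]
    rfl
  have hlam : lamSeries e = PowerSeries.rescale linv ((1 + PowerSeries.X) ^ (n + 1)) := by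
    rw [lamSeries_mul_line hKP (isInvertible_twistOver n Y (-1)),
      Lambda37.lamSeries_natCast (fun k hk => lam_one_eq_zero PP hk)]
  have hθ : KRR.bott PP j e = (∑ k ∈ Finset.range j, linv ^ k) ^ (n + 1) := by
    have h := KRR3.map_bott_eq' (RingHom.id KP) haug (fun _ => linv) (fun i => ?_) j
    · rwa [RingHom.id_apply, Finset.prod_const, Finset.card_univ, Fintype.card_fin] at h
    rw [RingHom.id_apply, ← Lambda37.coeff_lamSeries, hlam, PowerSeries.coeff_rescale, Lambda37.coeff_one_add_X_pow,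
      Multiset.map_const', Multiset.esymm, Multiset.map_congr rfl (g := fun _ => linv ^ i) fun S hS => ?_,
      Multiset.map_const', Multiset.sum_replicate, Multiset.card_powersetCard, Multiset.card_replicate]
    · simp [mul_comm]
    · obtain ⟨hle, rfl⟩ := Multiset.mem_powersetCard.1 hS
      conv_lhs => rw [Multiset.eq_replicate_card.2 fun x hx => Multiset.eq_of_mem_replicate (Multiset.mem_of_le hle hx)]
      exact Multiset.prod_replicate _ _
  rw [hθ]
  set θ := (∑ k ∈ Finset.range j, linv ^ k) ^ (n + 1)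
  -- the universal residue identity
  let u : Fin (n + 1) → ℤ := fun _ => 1
  obtain ⟨Z, hZ, -⟩ := KRR3.residue_identity n.succ_pos hj u 0
  set N := ∏ k, (KRR3.thPoly j u).eval (u k) with hNdef
  let ev : Polynomial ℤ →+* KP := Polynomial.eval₂RingHom (Int.castRingHom KP) ℓ
  have hev : ev (KRR3.relPoly u) = 0 := by
    simp only [ev, u, KRR3.relPoly, Finset.prod_const, Finset.card_univ, Fintype.card_fin, map_pow, map_sub, map_one,
      Polynomial.coe_eval₂RingHom, Polynomial.eval₂_X]
    exact twistOver_sub_one_pow hKP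
  have hth : ev (KRR3.thPoly j u) = θ * ℓ ^ ((j - 1) * (n + 1)) := by
    simp only [ev, KRR3.thPoly, u, Finset.prod_const, Finset.card_univ, Fintype.card_fin, map_pow, map_sum,
      pow_mul]
    rw [← mul_pow]
    congr 1
    rw [Finset.sum_mul]
    refine Finset.sum_congr rfl fun k hk => ?_
    rw [Finset.mem_range] at hk
    simp only [map_pow, map_one, one_pow, one_mul, Polynomial.coe_eval₂RingHom, Polynomial.eval₂_X]
    rw [show ℓ ^ (j - 1) = ℓ ^ k * ℓ ^ (j - 1 - k) by rw [← pow_add]; congr 1; omega, ← mul_assoc, ← mul_pow, hll,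
      one_pow, one_mul]
  have hN : N = (j : ℤ) ^ ((n + 1) * (n + 1)) := by
    simp [N, KRR3.thPoly, u, Polynomial.eval_prod, Polynomial.eval_finsetSum, pow_mul]
  have hinv : θ * (ℓ ^ ((j - 1) * (n + 1)) * ev Z) = (N : KP) := by
    obtain ⟨c, hc⟩ := hZ
    have := congrArg ev hc
    rw [map_sub, map_mul, map_mul, hev, zero_mul, sub_eq_zero, hth] at this
    rw [← mul_assoc, ← this]
    simp [ev]
  have hval : ∀ c : ℕ, g (ℓ ^ c) = (n + c).choose c • (1 : KY) := fun c => by
    rw [hKY.map_one.symm, ← pushPr_twist_nonneg hg c, hℓdef, ← cl_twistOver hKP c]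
    exact congrArg (fun t => g (φP t)) (cl_iso_vb (EGA73.tensUnitRight _).symm (vb_twF (vb_structure _) _))
  have hhsym : ∀ c : ℕ, KRR3.hsym u c = ((n + c).choose c : ℤ) := fun c => by
    have h := PowerSeries.coeff_mk c (fun i => (((n + i).choose n : ℕ) : ℤ))
    rw [show (n + c).choose c = (n + c).choose n from (Nat.choose_symm_add).symm, ← h]
    refine (KRR3.eq_hsym ?_ c).symm
    have h2 := PowerSeries.mk_add_choose_mul_one_sub_pow_eq_one (S := ℤ) n
    simpa [KRR3.denSeries, u] using h2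
  have hres : ∀ p : Polynomial ℤ, g (ev p) = ((KRR3.resFun u p : ℤ) : KY) := fun p => by
    induction p using Polynomial.induction_on' with
    | add p p' hp hp' => rw [map_add, map_add, hp, hp', map_add, Int.cast_add]
    | monomial i a =>
      rw [KRR3.resFun_monomial, hhsym, show ev (Polynomial.monomial i a) = a • ℓ ^ i by simp [ev, zsmul_eq_mul],
        map_zsmul, hval]
      simp [zsmul_eq_mul]
  have hNR : IsUnit (N : R) := by
    rw [hN]; push_cast; exact hjR.pow _
  obtain ⟨N', hN'⟩ := hNR.exists_left_inv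
  let ι : KP →ₐ[ℤ] R ⊗[ℤ] KP := Algebra.TensorProduct.includeRight
  have hι : ∀ x : KP, (1 : R) ⊗ₜ[ℤ] x = ι x := fun _ => rfl
  refine ⟨⟨N' ⊗ₜ[ℤ] (ℓ ^ ((j - 1) * (n + 1)) * ev Z), ?_⟩, fun w hw z => ?_⟩
  · rw [Algebra.TensorProduct.tmul_mul_tmul, mul_one, mul_comm _ θ, hinv, show (N : KP) = N • (1 : KP) by simp,
      ← TensorProduct.smul_tmul, zsmul_eq_mul, mul_comm (N : R), hN']
    rfl
  set Z' := ℓ ^ ((j - 1) * (n + 1)) * ev Z
  have hw' : w * ((N : R) ⊗ₜ[ℤ] (1 : KP)) = (1 : R) ⊗ₜ[ℤ] Z' := by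
    rw [show (N : R) = N • (1 : R) by simp, TensorProduct.smul_tmul, zsmul_eq_mul, mul_one, ← hinv,
      show (1 : R) ⊗ₜ[ℤ] (θ * Z') = ((1 : R) ⊗ₜ[ℤ] θ) * ((1 : R) ⊗ₜ[ℤ] Z') by
        rw [Algebra.TensorProduct.tmul_mul_tmul, one_mul], ← mul_assoc, hw, one_mul]
  -- reduction to integral identities
  suffices key : ∀ z : KP, N • g ((j : KP) * adams PP j z * Z') = N • N • adams PY j (g z) by
    have hG : ∀ (r : R) (y : R ⊗[ℤ] KP), LinearMap.lTensor R g.toIntLinearMap (y * (r ⊗ₜ[ℤ] (1 : KP))) =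
        LinearMap.lTensor R g.toIntLinearMap y * (r ⊗ₜ[ℤ] (1 : KY)) := fun r y => by
      induction y using TensorProduct.induction_on with
      | zero => simp
      | tmul a b => simp [Algebra.TensorProduct.tmul_mul_tmul]
      | add a b ha hb => rw [add_mul, map_add, map_add, ha, hb, add_mul]
    have hNu : IsUnit ((N : R) ⊗ₜ[ℤ] (1 : KY)) :=
      (IsUnit.of_mul_eq_one_right N' hN').map (Algebra.TensorProduct.includeLeftRingHom : R →+* R ⊗[ℤ] KY)
    refine (hNu.mul hNu).mul_left_injective ?_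
    show _ * (_ * _) = _ * (_ * _)
    rw [← mul_assoc (LinearMap.lTensor R _ _), ← hG, mul_assoc _ w, hw',
      show (j : R ⊗[ℤ] KP) = (1 : R) ⊗ₜ[ℤ] (j : KP) from (map_natCast ι j).symm,
      Algebra.TensorProduct.tmul_mul_tmul, Algebra.TensorProduct.tmul_mul_tmul, one_mul, one_mul]
    simp only [Algebra.TensorProduct.tmul_mul_tmul, LinearMap.lTensor_tmul, one_mul, mul_one]
    have hs : ∀ y : KY, (N : R) ⊗ₜ[ℤ] y = (1 : R) ⊗ₜ[ℤ] (N • y) := fun y => by
      rw [← TensorProduct.smul_tmul, zsmul_eq_mul, mul_one]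
    show _ = (N : R) ⊗ₜ[ℤ] g _
    rw [hs, key z, ← Int.cast_mul, show ∀ y : KY, ((N * N : ℤ) : R) ⊗ₜ[ℤ] y = (1 : R) ⊗ₜ[ℤ] ((N * N) • y) from
      fun y => by rw [← TensorProduct.smul_tmul, zsmul_eq_mul, mul_one], mul_smul]
  intro z
  have hmem : z ∈ bFil φP q PY 0 := by
    rw [show bFil φP q PY 0 = ⊤ from bFil_zero hKP hKY hq0]
    trivial
  let D : KP →+ KY :=
    N • ((g.comp (AddMonoidHom.mulRight Z')).comp (AddMonoidHom.mulLeft (j : KP))).comp (adamsHom PP hj) -
    N • N • (adamsHom PY hj).comp g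
  suffices h : bFil φP q PY 0 ≤ D.ker from sub_eq_zero.1 (h hmem)
  refine (AddSubgroup.closure_le _).2 ?_
  rintro _ ⟨i, m, a, c, -, -, rfl⟩
  show D (q a * ℓ ^ c * (ℓ - 1) ^ i) = 0
  induction i generalizing c with
  | succ i ih =>
    rw [show q a * ℓ ^ c * (ℓ - 1) ^ (i + 1) = q a * ℓ ^ (c + 1) * (ℓ - 1) ^ i - q a * ℓ ^ c * (ℓ - 1) ^ i by ring,
      map_sub, ih, ih, sub_zero]
  | zero =>
    rw [pow_zero, mul_one]
    show N • g ((j : KP) * adams PP j (q a * ℓ ^ c) * Z') - N • N • adams PY j (g (q a * ℓ ^ c)) = 0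
    have hψ : ∀ c : ℕ, adams PP j (q a * ℓ ^ c) = q (adams PY j a) * ℓ ^ (c * j) := fun c => by
      induction c with
      | zero => rw [pow_zero, mul_one, zero_mul, pow_zero, mul_one, adams_map (isLambdaHom_pullHom hKY hKP hq0) hj]
      | succ c ih =>
        rw [pow_succ, ← mul_assoc, adams_mul_line PP hj (lamSeries_mul_line hKP (isInvertible_twistOver n Y 1) _), ih,
          mul_assoc, ← pow_add, add_mul, one_mul]
    have hgq : g (q a * ℓ ^ c) = (n + c).choose c • a := by
      rw [mul_comm, show q a = q0 a from rfl, pushPr_mul_pull hKP hKY hg hq0, hval, smul_mul_assoc, one_mul]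
    obtain ⟨Z₂, hZ₂, hid⟩ := KRR3.residue_identity n.succ_pos hj u c
    have hinv₂ : θ * (ℓ ^ ((j - 1) * (n + 1)) * ev Z₂) = (N : KP) := by
      obtain ⟨c₂, hc₂⟩ := hZ₂
      have := congrArg ev hc₂
      rw [map_sub, map_mul, map_mul, hev, zero_mul, sub_eq_zero, hth] at this
      rw [← mul_assoc, ← this]
      simp [ev, hNdef]
    have hswap : (N : KP) * Z' = (N : KP) * (ℓ ^ ((j - 1) * (n + 1)) * ev Z₂) := by
      linear_combination (ℓ ^ ((j - 1) * (n + 1)) * ev Z₂) * hinv - Z' * hinv₂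
    have hcomp : g ((j : KP) * (q (adams PY j a) * ℓ ^ (c * j)) * (ℓ ^ ((j - 1) * (n + 1)) * ev Z₂)) =
        N • (n + c).choose c • adams PY j a := by
      rw [show (j : KP) * (q (adams PY j a) * ℓ ^ (c * j)) * (ℓ ^ ((j - 1) * (n + 1)) * ev Z₂) =
        (ev ((j : Polynomial ℤ) * Z₂ * Polynomial.X ^ ((j - 1) * (n + 1) + c * j))) * q0 (adams PY j a) by
          simp [ev, pow_add, show q (adams PY j a) = q0 (adams PY j a) from rfl]; ring,
        pushPr_mul_pull hKP hKY hg hq0, hres]
      simp only [Nat.succ_eq_add_one, show (fun b => u b ^ j) = u from funext fun _ => one_pow j] at hid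
      rw [hid, hhsym]
      simp [zsmul_eq_mul, mul_assoc, hNdef]
    rw [hψ, hgq, ← adamsHom_apply PY hj ((n + c).choose c • a), map_nsmul, adamsHom_apply, sub_eq_zero, ← map_zsmul g, ← hcomp,
      ← map_zsmul g]
    congr 1
    simp only [zsmul_eq_mul]
    linear_combination ((j : KP) * (q (adams PY j a) * ℓ ^ (c * j))) * hswap

end main

end Groth.Agent.KRR40
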