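import Groth.Agent.CAlg9.BlowReg.ExcSmooth
import Groth.Agent.CAlg1.Regular
import Groth.Agent.Unr55.SmoothStalkCor
import Groth.Agent.RegUFD52.Basic
import Groth.Agent.An92.Ample.Family
import Groth.Agent.An92.Ample.Resolution
import Groth.Agent.FlatMor67.AmpleFamily
import Groth.Agent.Div89.BlowUp
import Groth.Agent.FlatMor68.FlatInfNbhd
import Groth.Agent.HTop50.AlmostBaseChange
import Groth.Prelude.Def_KRR
import Groth.Prelude.Def_Mor2

/-!
The blow-up of a regular scheme in a regular centre is regular, and regular separated Noetherian schemes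
have enough finite locally free modules.
-/

set_option autoImplicit false
set_option linter.style.haveILetI false
set_option backward.isDefEq.respectTransparency.types false

noncomputable section

universe u

open CategoryTheory CategoryTheory.Limits AlgebraicGeometry nonZeroDivisors

namespace Groth.Agent.KRR40.BlowReg

open Groth.Agent

/-- A regular separated Noetherian scheme has enough finite locally free modules. -/
theorem hasEnough_of_regular {W : Scheme.{u}} [IsNoetherian W] [W.IsSeparated]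
    (hreg : ∀ x : W, IsRegularLocalRing (W.presheaf.stalk x)) : KRR.HasEnoughLocFree W := by
  have hfam := An92.AmpleFam.hasAmpleFamily_of_factorial (X := W)
    (fun x => by
      haveI := hreg x
      haveI := CAlg1.isDomain_regular (W.presheaf.stalk x)
      exact ⟨inferInstance, RegUFD52.ufm_of_regular _⟩)
    (fun U V hU hV => hU.inf hV)
  obtain ⟨hc, hcov⟩ := hfam
  have hqs := FlatMor67.AmpFam.quasiSeparatedSpace_of_hasAmpleFamily ⟨hc, hcov⟩
  choose L n s hL hn hx hU using hcov
  have hfam : KSix.IsAmpleFamily L := by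
    refine ⟨hc, hqs, hL, fun x => ?_⟩
    have key : ∀ (m : ℕ) (t : Coh.structureModule W ⟶ CohB1.tensorPow (L x) m), 1 ≤ m →
        x ∈ CohB1.genLocus _ t → IsAffineOpen (CohB1.genLocus _ t) →
        ∃ (i : W) (n : ℕ) (s : Coh.structureModule W ⟶ CohB1.tensorPow (L i) (n + 1)),
          x ∈ CohB1.genLocus _ s ∧ IsAffineOpen (CohB1.genLocus _ s) := by
      intro m t hm h1 h2
      obtain ⟨m, rfl⟩ := Nat.exists_eq_add_of_le' hm
      exact ⟨x, m, t, h1, h2⟩
    exact key _ (s x) (hn x) (hx x) (hU x)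
  intro F hF
  obtain ⟨M, π, -, hM, hπ⟩ := An92.AmpleRes.exists_epi_inAddL L hfam F hF.1 hF.2
  exact ⟨M, π, hM, hπ⟩

variable {X Y X₁ Y₁ : Scheme.{u}} {f : X ⟶ Y} {φ : Y₁ ⟶ Y} {f₁ : X₁ ⟶ Y₁} {ψ : X₁ ⟶ X}

/-- The exceptional divisor is smooth over the centre. -/
theorem smooth_proj (hf : Mor2.IsRegularClosedImmersion f) (hφ : BlowUp.IsBlowUp φ f.ker)
    (sq : IsPullback f₁ ψ φ f) [IsClosedImmersion f₁] : Smooth ψ := by
  haveI := hf.1
  have e : f₁.ker = BlowUp.exceptional φ f.ker := HTop50.ker_of_isPullback sq.flip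
  let c : X₁ ⟶ f₁.ker.subscheme := f₁.toImage
  haveI : IsIso c := inferInstanceAs (IsIso f₁.toImage)
  have hc : c ≫ f₁.ker.subschemeι = f₁ := f₁.toImage_imageι
  have key : ∀ (I : Y₁.IdealSheafData) (hI : I = BlowUp.exceptional φ f.ker) (g : I.subscheme ⟶ X),
      g ≫ f = I.subschemeι ≫ φ → Smooth g := by
    rintro _ rfl g hg
    exact CAlg9.BlowReg.smooth_exceptional f hf φ hφ g hg
  have := key _ e (inv c ≫ ψ) (by rw [Category.assoc, ← sq.w, IsIso.inv_comp_eq, ← Category.assoc, hc])
  rw [← IsIso.hom_inv_id_assoc c ψ]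
  infer_instance

/-- The exceptional divisor is regular. -/
theorem regular_exceptional [IsLocallyNoetherian X] (hf : Mor2.IsRegularClosedImmersion f)
    (hφ : BlowUp.IsBlowUp φ f.ker) (sq : IsPullback f₁ ψ φ f) [IsClosedImmersion f₁]
    (hX : ∀ x : X, IsRegularLocalRing (X.presheaf.stalk x)) (q : X₁) :
    IsRegularLocalRing (X₁.presheaf.stalk q) := by
  haveI := smooth_proj hf hφ sq
  exact (Unr55.isRegularLocalRing_stalk_iff_of_smooth ψ q
    (Scheme.Hom.mem_smoothLocus.mp ((Scheme.Hom.smoothLocus_eq_top ψ).ge (Set.mem_univ q)))).2 (hX _)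

/-- The exceptional divisor is regularly immersed. -/
theorem regular_immersion (hφ : BlowUp.IsBlowUp φ f.ker) [IsClosedImmersion f] (sq : IsPullback f₁ ψ φ f)
    [IsClosedImmersion f₁] : Mor2.IsRegularClosedImmersion f₁ := by
  have e : f₁.ker = f.ker.comap φ := HTop50.ker_of_isPullback sq.flip
  refine ⟨inferInstance, fun q => ?_⟩
  obtain ⟨U, hU, a, ha, hI⟩ := hφ.1 (f₁ q)
  refine ⟨U.1, U.2, hU, [a], ⟨RingTheory.Sequence.isWeaklyRegular_cons_iff _ _ _ |>.2
    ⟨isSMulRegular_iff_right_eq_zero_of_smul.2 fun x hx => mem_nonZeroDivisors_iff_left.1 ha x hx,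
      RingTheory.Sequence.IsWeaklyRegular.nil _ _⟩, ?_⟩, ?_⟩
  · intro htop
    rw [Ideal.ofList_singleton, Ideal.smul_eq_mul, Ideal.mul_top, eq_comm] at htop
    have h : f₁ q ∈ (f.ker.comap φ).support := by
      rw [← e, ← SetLike.mem_coe, Scheme.Hom.support_ker]
      exact subset_closure ⟨q, rfl⟩
    have := (Div89.mem_support_iff_le (f.ker.comap φ) U (f₁ q) hU).1 h
    rw [hI, htop] at this
    exact (Div89.primeAt_isPrime U (f₁ q) hU).ne_top (eq_top_iff.2 this)
  · rw [e, hI, Ideal.ofList_singleton]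

/-- The blow-up is regular. -/
theorem regular_blowUp [IsLocallyNoetherian X] [IsLocallyNoetherian Y₁] (hf : Mor2.IsRegularClosedImmersion f)
    (hφ : BlowUp.IsBlowUp φ f.ker) (sq : IsPullback f₁ ψ φ f) [IsClosedImmersion f₁]
    (hX : ∀ x : X, IsRegularLocalRing (X.presheaf.stalk x)) (hY : ∀ y : Y, IsRegularLocalRing (Y.presheaf.stalk y))
    (p : Y₁) : IsRegularLocalRing (Y₁.presheaf.stalk p) := by
  haveI := hf.1
  have e : f₁.ker = f.ker.comap φ := HTop50.ker_of_isPullback sq.flip
  by_cases hp : p ∈ (f.ker.comap φ).support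
  · have hp' : p ∈ Set.range f₁ := by
      have h : p ∈ (f₁.ker.support : Set Y₁) := by rw [e]; exact hp
      rw [Scheme.Hom.support_ker] at h
      rwa [f₁.isClosedEmbedding.isClosed_range.closure_eq] at h
    obtain ⟨q, rfl⟩ := hp'
    obtain ⟨U, hU, a, ha, hI⟩ := hφ.1 (f₁ q)
    let t := (Y₁.presheaf.germ U.1 (f₁ q) hU).hom a
    have hk : RingHom.ker (f₁.stalkMap q).hom = Ideal.span {t} := by
      rw [FlatMor68.FlatInfNbhd.ker_stalkMap_closedImmersion, e, Div89.stalkIdeal_eq _ U _ hU, hI, Ideal.map_span,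
        Set.image_singleton]
    have htm : t ∈ IsLocalRing.maximalIdeal (Y₁.presheaf.stalk (f₁ q)) := by
      have h : t ∈ RingHom.ker (f₁.stalkMap q).hom := hk.ge (Ideal.subset_span rfl)
      exact IsLocalRing.le_maximalIdeal (RingHom.ker_ne_top _) h
    haveI := regular_exceptional hf hφ sq hX q
    haveI : IsRegularLocalRing (Y₁.presheaf.stalk (f₁ q) ⧸ Ideal.span ({t} : Set _)) :=
      IsRegularLocalRing.of_ringEquiv
        ((Ideal.quotEquivOfEq hk.symm).trans (RingHom.quotientKerEquivOfSurjective (f₁.stalkMap_surjective q))).symm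
    exact CAlg1.regular_of_quotient_regular htm (Div89.germ_mem_nonZeroDivisors U ha _ hU)
  · haveI := Div89.isIso_stalkMap_off_center hφ p hp
    exact IsRegularLocalRing.of_ringEquiv (R := Y.presheaf.stalk (φ p))
      (asIso (φ.stalkMap p)).commRingCatIsoToRingEquiv

end Groth.Agent.KRR40.BlowReg
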