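import Groth.Agent.KRR40.KExtend
import Groth.Agent.KRR40.RelKoszul
import Groth.Agent.Amp73.CounitEpi
import Groth.Agent.QCqs72.Basic

/-!
A quasi-coherent module regular relative to the base is generated by its direct image.
-/

set_option autoImplicit false
set_option linter.style.haveILetI false
set_option backward.isDefEq.respectTransparency.types false
set_option maxSynthPendingDepth 6

noncomputable section

universe u

open CategoryTheory CategoryTheory.Limits AlgebraicGeometry TopologicalSpace Opposite GrTilde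
open Groth.Agent.Var76.Reg Groth.Agent.Var76.LineBundle Groth.Agent.Var76.ZeroScheme

namespace Groth.Agent.KRR40

section Ratio

variable {R A : Type u} [CommRing R] [CommRing A] [Algebra R A] {𝒜 : ℕ → Submodule R A} [GradedAlgebra 𝒜]

/-- The ratio of two elements of degree one on the basic open of one of them. -/
theorem exists_ratio (hgen : (HomogeneousIdeal.irrelevant 𝒜).toIdeal = Ideal.span (𝒜 1 : Set A)) (g' g : 𝒜 1) :
    ∃ c : Γ(Proj 𝒜, Proj.basicOpen 𝒜 (g : A)),
      (Proj 𝒜).basicOpen c = Proj.basicOpen 𝒜 (g' : A) ⊓ Proj.basicOpen 𝒜 (g : A) ∧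
      ∀ (d e : ℤ) (h : e = d + 1) (V : (Proj 𝒜).Opens) (hV : V ≤ Proj.basicOpen 𝒜 (g : A))
        (t : Γ(Twist.twist 𝒜 d, V)), (mulX g' h).app V t = fres hV c • (mulX g h).app V t := by
  obtain ⟨c, hc⟩ := Amp73.exists_coord (Amp73.degOneHom 𝒜 g') (Amp73.isFrame_degOneHom g)
  refine ⟨c, ?_, fun d e h V hV t => sectN_ext fun x => ?_⟩
  · rw [← Amp73.genLocus_inf_eq_basicOpen _ (Amp73.isFrame_degOneHom g) hc, Amp73.genLocus_degOneHom hgen]
  · have hx := congrArg (fun q : Twist.sectN (𝒜 := 𝒜) (1 : ℤ) (op (Proj.basicOpen 𝒜 (g : A))) =>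
      ((q.1 ⟨x.1, hV x.2⟩).1 : Twist.Loc 𝒜 x.1)) hc
    dsimp only at hx
    rw [Amp73.val_degOneHom] at hx
    refine (mulX_app_apply g' h V t x).trans ?_
    refine Eq.trans ?_ (Twist.coe_smul_val e x.1 _ _).symm
    refine Eq.trans ?_ (congrArg (_ * ·) (mulX_app_apply g h V t x).symm)
    rw [← hx]
    refine Eq.trans (congrArg (_ * ·) ((Twist.coe_smul_val 1 x.1 _ _).trans
      (congrArg (_ * ·) (Amp73.val_degOneHom g _ ⟨x.1, hV x.2⟩)))) ?_
    exact mul_left_comm _ _ _

end Ratio

instance (X : Scheme.{u}) : (abFun X).Faithful :=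
  inferInstanceAs (SheafOfModules.toSheaf X.ringCatSheaf).Faithful

variable (n : ℕ) (T : Scheme.{u}) (F : (KRR.PY n T).Modules)

/-- The ratio of two coordinates. -/
def cRatio (l j : Fin (n + 1)) : Γ(KRR.PY n T, cOpen n T j) :=
  (toZ n T).app (Var76.Reg.xOpen n (ULift.{u} ℤ) j)
    (exists_ratio (Var76.Reg.hgen n (ULift.{u} ℤ)) (xVar n (ULift.{u} ℤ) l) (xVar n (ULift.{u} ℤ) j)).choose

/-- The ratios of the Koszul data of a module. -/
def ratioT : KRatio (kdT n T F) where
  c := cRatio n T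
  basic l j := ((toZ n T).preimage_basicOpen _).symm.trans
    (congrArg (fun O => toZ n T ⁻¹ᵁ O) (exists_ratio (Var76.Reg.hgen n (ULift.{u} ℤ)) (xVar n (ULift.{u} ℤ) l)
      (xVar n (ULift.{u} ℤ) j)).choose_spec.1)
  eq l j d e h V hV t := by
    have hV' : V ≤ cOpen n T j := hV
    let ψ := toZ n T
    let u := (gUnit (xVar n (ULift.{u} ℤ) j) d).fwd
    have hd := Amp73.isFrame_pullS ψ (Var76.Reg.isInvertible_twist (n := n) (A := ULift.{u} ℤ) d)
      (isFrame_unit (𝒜 := CohB1.polyGrading n (ULift.{u} ℤ)) (gUnit (xVar n (ULift.{u} ℤ) j) d))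
    have hmap : ∀ b, (cMul n T b d e h).app (cOpen n T j)
        (Amp73.pullS ψ (Twist.twistProjSpace n (ULift.{u} ℤ) d) (Var76.Reg.xOpen n (ULift.{u} ℤ) j) u) =
        Amp73.pullS ψ (Twist.twistProjSpace n (ULift.{u} ℤ) e) (Var76.Reg.xOpen n (ULift.{u} ℤ) j)
          ((mulX (xVar n (ULift.{u} ℤ) b) h).app _ u) := fun b => by
      have hn := (Scheme.Modules.pullbackPushforwardAdjunction ψ).unit.naturality
        (mulX (𝒜 := CohB1.polyGrading n (ULift.{u} ℤ)) (xVar n (ULift.{u} ℤ) b) h)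
      exact (ConcreteCategory.congr_hom
        (congrArg (fun a => Scheme.Modules.Hom.app a (Var76.Reg.xOpen n (ULift.{u} ℤ) j)) hn) u).symm
    have hfr : (cMul n T l d e h).app (cOpen n T j)
        (Amp73.pullS ψ (Twist.twistProjSpace n (ULift.{u} ℤ) d) (Var76.Reg.xOpen n (ULift.{u} ℤ) j) u) =
        cRatio n T l j • (cMul n T j d e h).app (cOpen n T j)
        (Amp73.pullS ψ (Twist.twistProjSpace n (ULift.{u} ℤ) d) (Var76.Reg.xOpen n (ULift.{u} ℤ) j) u) := by
      refine (hmap l).trans (Eq.trans ?_ (congrArg (cRatio n T l j • ·) (hmap j)).symm)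
      refine (congrArg (Amp73.pullS ψ _ _) ((exists_ratio (Var76.Reg.hgen n (ULift.{u} ℤ)) (xVar n (ULift.{u} ℤ) l)
      (xVar n (ULift.{u} ℤ) j)).choose_spec.2 d e h _ le_rfl u)).trans ?_
      refine (Amp73.pullS_smul ψ _ _ _ _).trans ?_
      exact congrArg (· • _) (congrArg (ψ.app _) (ConcreteCategory.congr_hom ((CohB1.ProjSpace n (ULift.{u} ℤ)).presheaf.map_id (op _)) _))
    obtain ⟨m, rfl⟩ := Amp73.exists_eq_tm_frame hd hV' t
    refine (whiskL_tm F _ m _).trans ?_
    refine Eq.trans ?_ (congrArg (fres hV (cRatio n T l j) • ·) (whiskL_tm F _ m _).symm)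
    refine Eq.trans ?_ (Amp73.tm_smul_right _ m _)
    refine congrArg (Amp73.tm F _ m) ?_
    refine (Mero90.app_res _ hV' _).trans ((congrArg (res _ hV') hfr).trans ((res_smul _ hV' _ _).trans ?_))
    exact congrArg (fres hV (cRatio n T l j) • ·) (Mero90.app_res _ hV' _).symm

variable {n T F}

lemma isAffineOpen_cOpen_inf (V : T.Opens) (hV : IsAffineOpen V) (l j : Fin (n + 1)) :
    IsAffineOpen (KRR.pr n T ⁻¹ᵁ V ⊓ cOpen n T l ⊓ cOpen n T j) := by
  have h := isAffineHom_diagonal_iff.mp (inferInstance : IsAffineHom (pullback.diagonal (KRR.pr n T))) V hV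
    (cOpen n T l ⊓ KRR.pr n T ⁻¹ᵁ V) inf_le_right (cOpen n T j ⊓ KRR.pr n T ⁻¹ᵁ V) inf_le_right
    (isAffineOpen_cOpen n T l hV) (isAffineOpen_cOpen n T j hV)
  rwa [inf_inf_distrib_right _ _ (KRR.pr n T ⁻¹ᵁ V) |>.symm, inf_comm, ← inf_assoc] at h

/-- The differential is surjective on sections over preimages of affine opens. -/
theorem surjective_dd_preimage (hF : Coh.IsQCoh F) (hreg : RReg n T F 0) {V : T.Opens} (hV : IsAffineOpen V)
    (d e : ℤ) (h : e = d + 1) (hd : 0 ≤ d) :
    Function.Surjective (((kdT n T F).dd 0 d e h).app (KRR.pr n T ⁻¹ᵁ V)) := by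
  have hq : ∀ d, ((kdT n T F).G d).IsQuasicoherent := fun d => Amp73.isQCoh_tensorMod hF (isQCoh_twistOver n T d)
  have hz : IsZero ((RF (KRR.pr n T) 1).obj (kernel ((kdT n T F).dd 0 d e h))) :=
    isZero_RF_cycles (KRR.pr n T) (kdT n T F) hq
      (fun M hM q hq => haveI := hM; isZero_RpushAb_gt n T M q hq) (n + 1) 1 0 d e h (by omega) fun s =>
        isZero_G_of_van (hreg.van hF (by omega) (by push_cast; omega))
  haveI := (kdT n T F).epi_dd_zero d e h
  let S : ShortComplex (KRR.PY n T).Modules :=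
    ShortComplex.mk (kernel.ι ((kdT n T F).dd 0 d e h)) ((kdT n T F).dd 0 d e h) (kernel.condition _)
  have hS : S.ShortExact := KData.kernel_shortExact ((kdT n T F).dd 0 d e h)
  -- the direct image of the differential is an epimorphism
  haveI hepi : Epi ((Scheme.Modules.pushforward (KRR.pr n T)).map S.g) := by
    obtain ⟨Δ⟩ := RD97.nonempty_derivedLES (Coh.pushAb (KRR.pr n T))
    have hS' := hS.map_of_exact (abFun (KRR.PY n T))
    have h0 : Epi (((Coh.pushAb (KRR.pr n T)).rightDerived 0).map (S.map (abFun (KRR.PY n T))).g) := by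
      have hδ : Δ.δ _ hS' 0 1 rfl = 0 := hz.eq_of_tgt _ _
      exact (ShortComplex.exact_iff_epi _ hδ).1 (Δ.exact₃ _ hS' 0 1 rfl)
    haveI : PreservesFiniteLimits (Coh.pushAb (KRR.pr n T)) :=
      haveI : (Coh.pushAb (KRR.pr n T)).IsRightAdjoint :=
        (TopCat.Sheaf.pullbackPushforwardAdjunction AddCommGrpCat.{u} (KRR.pr n T).base).isRightAdjoint
      inferInstance
    have hn := (Coh.pushAb (KRR.pr n T)).rightDerivedZeroIsoSelf.hom.naturality (S.map (abFun (KRR.PY n T))).g
    have h1 : Epi ((Coh.pushAb (KRR.pr n T)).map (S.map (abFun (KRR.PY n T))).g) := by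
      haveI := h0
      haveI : Epi ((Coh.pushAb (KRR.pr n T)).rightDerivedZeroIsoSelf.hom.app _ ≫
          (Coh.pushAb (KRR.pr n T)).map (S.map (abFun (KRR.PY n T))).g) := hn ▸ inferInstance
      exact epi_of_epi ((Coh.pushAb (KRR.pr n T)).rightDerivedZeroIsoSelf.hom.app _) _
    exact (abFun T).epi_of_epi_map (f := (Scheme.Modules.pushforward (KRR.pr n T)).map S.g) h1
  haveI : PreservesFiniteLimits (Scheme.Modules.pushforward (KRR.pr n T)) :=
    haveI := (Scheme.Modules.pullbackPushforwardAdjunction (KRR.pr n T)).isRightAdjoint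
    inferInstance
  have hP : (S.map (Scheme.Modules.pushforward (KRR.pr n T))).ShortExact :=
    haveI := hS.mono_f
    { exact := hS.exact.map_of_mono_of_preservesKernel _ hS.mono_f inferInstance
      mono_f := (inferInstance : Mono ((Scheme.Modules.pushforward (KRR.pr n T)).map S.f))
      epi_g := hepi }
  haveI : ((S.map (Scheme.Modules.pushforward (KRR.pr n T))).X₁).IsQuasicoherent :=
    haveI := (kdT n T F).isQuasicoherent_cycles hq 0 d e h
    QCqs72.isQuasicoherent_pushforward _ _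
  exact QC70.app_surjective_of_isAffineOpen _ hP hV

/-- A regular quasi-coherent module is generated by its direct image. -/
theorem epi_counit_of_reg (hF : Coh.IsQCoh F) (hreg : KRR.IsRegSheaf n T F) :
    Epi ((Scheme.Modules.pullbackPushforwardAdjunction (KRR.pr n T)).counit.app F) := by
  have hq : ∀ d, Coh.IsQCoh ((kdT n T F).G d) := fun d => Amp73.isQCoh_tensorMod hF (isQCoh_twistOver n T d)
  have h0 : Epi ((Scheme.Modules.pullbackPushforwardAdjunction (KRR.pr n T)).counit.app ((kdT n T F).G 0)) := by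
    refine Amp73.epi_counit_of_span _ (hq 0) fun x => ?_
    obtain ⟨V, hV, hxV, -⟩ := exists_isAffineOpen_mem_and_subset (U := (⊤ : T.Opens)) (x := KRR.pr n T x) trivial
    obtain ⟨l, hl⟩ := exists_mem_cOpen n T x
    refine ⟨V, KRR.pr n T ⁻¹ᵁ V ⊓ cOpen n T l, inf_le_left, ⟨hxV, hl⟩, ?_, ?_⟩
    · rw [inf_comm]
      exact isAffineOpen_cOpen n T l hV
    · exact spanRes_zero_eq_top (ratioT n T F) hq (fun j => by
          rw [inf_comm]; exact isAffineOpen_cOpen n T j hV)
        (isAffineOpen_cOpen_inf V hV) (surjective_dd_preimage hF ((rReg_zero_iff n T F).2 hreg) hV) l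
  obtain ⟨e⟩ := nonempty_twF_zero n T F
  let e' : (kdT n T F).G 0 ≅ F := EGA73.tensComm _ _ ≪≫ e
  have hn := (Scheme.Modules.pullbackPushforwardAdjunction (KRR.pr n T)).counit.naturality e'.hom
  simp only [Functor.comp_map, Functor.id_map] at hn
  haveI := h0
  haveI : Epi ((Scheme.Modules.pullback (KRR.pr n T)).map ((Scheme.Modules.pushforward (KRR.pr n T)).map e'.hom) ≫
      (Scheme.Modules.pullbackPushforwardAdjunction (KRR.pr n T)).counit.app F) := by
    rw [hn]
    infer_instance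
  exact epi_of_epi ((Scheme.Modules.pullback (KRR.pr n T)).map ((Scheme.Modules.pushforward (KRR.pr n T)).map e'.hom)) _

end Groth.Agent.KRR40
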