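import Groth.Agent.KRR40.PnVanish
import Groth.Agent.KRR40.RelGen
import Groth.Agent.KRR40.PKApp
import Groth.Agent.RB70.Coherent
import Groth.Agent.Approx60.Segre
import Groth.Agent.KRR40.PnTransfer
import Groth.Agent.KRR40.LFDim
import Groth.Agent.KRR40.Pull
import Groth.Agent.KRR40.RelKoszul
import Groth.Agent.TwTens96.Basic
import Groth.Agent.FMK72.Acyclic

/-!
Projective space over a scheme with enough bundles has enough bundles.
-/

set_option autoImplicit false
set_option linter.style.haveILetI false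
set_option backward.isDefEq.respectTransparency.types false
set_option maxSynthPendingDepth 6

noncomputable section

universe u

open CategoryTheory CategoryTheory.Limits AlgebraicGeometry TopologicalSpace Opposite
open Groth.Agent.Var76.Reg

namespace Groth.Agent.KRR40

open KRR40

theorem isCoh_pullback' {X Y : Scheme.{u}} (f : Y ⟶ X) {F : X.Modules} (hF : Coh.IsCoh F) :
    Coh.IsCoh ((Scheme.Modules.pullback f).obj F) := by
  have := hF.1
  have := hF.2
  exact ⟨QCPull72.isQuasicoherent_pullback f F, QCPull72.isFiniteType_pullback f F⟩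

variable {n : ℕ} {T : Scheme.{u}} [IsNoetherian T]

/-- Eventual vanishing over an affine open of the base and all its basic opens. -/
theorem exists_vanish_affine' {F : (KRR.PY n T).Modules} (hF : Coh.IsCoh F) {V : T.Opens}
    (hV : IsAffineOpen V) :
    ∃ J : ℤ, ∀ d : ℤ, J ≤ d → ∀ q : ℕ, 1 ≤ q → ∀ g : Γ(T, V),
      Subsingleton (Coh69.HE (Coh.toAb (KRR.twF n T d F)) q (KRR.pr n T ⁻¹ᵁ T.basicOpen g)) := by
  haveI : IsNoetherianRing Γ(T, V) := IsLocallyNoetherian.component_noetherian ⟨V, hV⟩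
  let j := affPn n T hV
  haveI := isLocallyNoetherian_projSpace n Γ(T, V)
  obtain ⟨J, hJ⟩ := exists_vanish_noetherian n Γ(T, V) ((Scheme.Modules.pullback j).obj F)
    (isCoh_pullback' j hF)
  refine ⟨J, fun d hd q hq g => ?_⟩
  obtain ⟨e⟩ := nonempty_pullback_affPn_twist n T hV d
  let ψ : (KRR.twF n T d F).restrict j ≅
      Var76.Reg.tw n Γ(T, V) ((Scheme.Modules.pullback j).obj F) d :=
    (Scheme.Modules.restrictFunctorIsoPullback j).app _ ≪≫ TwTens96.pullTensIso j _ F ≪≫
      EGA73.tensIso e (Iso.refl _) ≪≫ EGA73.tensComm _ _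
  have hM : Coh.IsQCoh (KRR.twF n T d F) :=
    isQCoh_twF n T F hF.1 d
  haveI : (KRR.twF n T d F).IsQuasicoherent := hM
  haveI : ((KRR.twF n T d F).restrict j).IsQuasicoherent :=
    (SheafOfModules.isQuasicoherent (CohB1.ProjSpace n Γ(T, V)).ringCatSheaf).prop_of_iso ψ.symm (isQCoh_tw n Γ(T, V) _ (isCoh_pullback' j hF).1 d)
  have h0 : Subsingleton (Coh69.HE (Coh.toAb ((KRR.twF n T d F).restrict j)) q
      (⊤ : (CohB1.ProjSpace n Γ(T, V)).Opens)) :=
    haveI := ValVan29.subsingleton_hh_of_iso ψ.symm q (hJ d hd q hq)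
    (Coh69.hhEquiv ((KRR.twF n T d F).restrict j) q).symm.toEquiv.subsingleton
  haveI : CompactSpace (CohB1.ProjSpace n Γ(T, V)) :=
    haveI := Approx60.Segre.isProper_toSpec Γ(T, V) n
    QuasiCompact.compactSpace_of_compactSpace (CohB1.ProjSpace.toSpec n Γ(T, V))
  haveI : QuasiSeparatedSpace (CohB1.ProjSpace n Γ(T, V)) :=
    haveI := Approx60.Segre.isProper_toSpec Γ(T, V) n
    quasiSeparatedSpace_of_quasiSeparated (CohB1.ProjSpace.toSpec n Γ(T, V))
  have hW : (j ≫ KRR.pr n T) ⁻¹ᵁ V = ⊤ := by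
    rw [Scheme.Hom.comp_preimage, ← affPn_image_top n T hV, Scheme.Hom.preimage_image_eq]
  have h1 := FMK72.subsingleton_HE_preimage_basicOpen (j ≫ KRR.pr n T) ((KRR.twF n T d F).restrict j) q hW h0 g
  rw [FMK72.subsingleton_HE_restrict_iff, Scheme.Hom.comp_preimage, Scheme.Hom.image_preimage_eq_opensRange_inf,
    inf_eq_right.2 (((KRR.pr n T).preimage_mono (T.basicOpen_le g)).trans
      (by rw [← Scheme.Hom.image_top_eq_opensRange, affPn_image_top]))] at h1
  exact h1

/-- Every finite locally free module is regular in some degree. -/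
theorem exists_rReg_coh {F : (KRR.PY n T).Modules} (hF : Coh.IsCoh F) :
    ∃ m : ℕ, RReg n T F m := by
  classical
  choose V hV hyV using fun y : T => exists_isAffineOpen_mem_and_subset (show y ∈ (⊤ : T.Opens) from trivial)
  obtain ⟨s, hs⟩ := isCompact_univ.elim_finite_subcover (fun y => (V y : Set T)) (fun y => (V y).2)
    fun y _ => Set.mem_iUnion.2 ⟨y, (hyV y).1⟩
  choose J hJ using fun y => exists_vanish_affine' hF (hV y)
  obtain ⟨B, hB⟩ : ∃ B : ℤ, ∀ y ∈ s, J y ≤ B := by
    obtain ⟨B, hB⟩ := (s.image J).bddAbove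
    exact ⟨B, fun y hy => hB (Finset.mem_image_of_mem J hy)⟩
  refine ⟨(B + n + 1).toNat, fun i hi => ?_⟩
  rcases le_or_gt (n + 1) i with h | h
  · haveI : (KRR.twF n T (((B + n + 1).toNat : ℤ) - i) F).IsQuasicoherent :=
      isQCoh_twF n T F hF.1 _
    exact isZero_RpushAb_gt n T _ i h
  · refine Coh69.isZero_RpushAb_of_subsingleton _ _ _ fun U y hy => ?_
    obtain ⟨z, hz⟩ := Set.mem_iUnion.1 (hs (Set.mem_univ y))
    obtain ⟨hzs, hyz⟩ := Set.mem_iUnion.1 hz
    obtain ⟨g, hgU, hyg⟩ := (hV z).exists_basicOpen_le (⟨y, hy⟩ : U) hyz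
    exact ⟨T.basicOpen g, hgU, hyg, hJ z _ (by have := hB z hzs; omega) i hi g⟩

/-- Projective space over a base with enough bundles has enough bundles. -/
theorem hasEnough_PY (n : ℕ) (hT : KRR.HasEnoughLocFree T) : KRR.HasEnoughLocFree (KRR.PY n T) := by
  intro F hF
  haveI := isNoetherian_PY n T
  haveI := Approx60.Segre.isProper_toBase n T
  obtain ⟨m, hm⟩ := exists_rReg_coh hF
  let F' := KRR.twF n T (m : ℤ) F
  have hq : Coh.IsQCoh F' := isQCoh_twF n T F hF.1 _
  have hc : Coh.IsCoh F' := Amp73.isCoh_tensorMod (isCoh_of_vb (vb_of_isInvertible (isInvertible_twistOver n T _))) hF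
  have hreg : KRR.IsRegSheaf n T F' := by
    rw [← rReg_zero_iff, rReg_twF_iff]
    exact hm.mono hF.1 (by omega)
  haveI : HasInjectiveResolutions (KRR.PY n T).Modules := inferInstance
  haveI : PreservesFiniteLimits (Scheme.Modules.pushforward (KRR.pr n T)) :=
    haveI := (Scheme.Modules.pullbackPushforwardAdjunction (KRR.pr n T)).isRightAdjoint
    inferInstance
  have hG : Coh.IsCoh ((Scheme.Modules.pushforward (KRR.pr n T)).obj F') :=
    QC70.isCoh_of_iso ((Scheme.Modules.pushforward (KRR.pr n T)).rightDerivedZeroIsoSelf.app F')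
      (RB70.isCoh_rpush (KRR.pr n T) F' hc 0)
  obtain ⟨E, p, hE, hp⟩ := hT _ hG
  haveI := epi_counit_of_reg hq hreg
  haveI := (Scheme.Modules.pullbackPushforwardAdjunction (KRR.pr n T)).isLeftAdjoint
  haveI : Epi ((Scheme.Modules.pullback (KRR.pr n T)).map p) := inferInstance
  let c := (Scheme.Modules.pullback (KRR.pr n T)).map p ≫
    (Scheme.Modules.pullbackPushforwardAdjunction (KRR.pr n T)).counit.app F'
  haveI : Epi c := epi_comp _ _
  obtain ⟨t⟩ := nonempty_twF_twF n T (-(m : ℤ)) (m : ℤ) F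
  obtain ⟨z⟩ := nonempty_twF_zero n T F
  refine ⟨KRR.twF n T (-(m : ℤ)) ((Scheme.Modules.pullback (KRR.pr n T)).obj E),
    (DCoh.tensorBi.obj (Twist.twistOver n T (-(m : ℤ)))).map c ≫ t.hom ≫
      eqToHom (by rw [neg_add_cancel]) ≫ z.hom, vb_twF (vb_pullback _ hE) _, ?_⟩
  haveI : Epi ((DCoh.tensorBi.obj (Twist.twistOver n T (-(m : ℤ)))).map c) :=
    (shortExact_tensor (flat_stalk_of_isInvertible (isInvertible_twistOver n T _))
      (Var76.Reg.KData.kernel_shortExact c)).epi_g
  exact @epi_comp _ _ _ _ _ _ (by assumption) _ (epi_comp _ _)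

end Groth.Agent.KRR40
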