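import Groth.Agent.KRR40.ProjKos
import Groth.Agent.KRR40.TensorPC
import Groth.Agent.K0Res3.Main

/-!
The Grothendieck group of regular finite locally free modules on projective space over a base is that of
all finite locally free modules.
-/

set_option autoImplicit false
set_option linter.style.haveILetI false
set_option backward.isDefEq.respectTransparency.types false
set_option maxSynthPendingDepth 6

noncomputable section

universe u v w w'

open CategoryTheory CategoryTheory.Limits AlgebraicGeometry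
open scoped ZeroObject

namespace Groth.Agent.KRR40

section Diff

variable {Γ : Type w} [AddCommGroup Γ]

lemma iterDiff_congr {g g' : ℤ → Γ} : ∀ (k : ℕ) (d : ℤ), (∀ e, d ≤ e → e ≤ d + k → g e = g' e) →
    iterDiff g k d = iterDiff g' k d
  | 0, d, h => h d le_rfl (by omega)
  | k + 1, d, h => congrArg₂ (· - ·) (iterDiff_congr k (d + 1) fun e he he' => h e (by omega) (by omega))
      (iterDiff_congr k d fun e he he' => h e he (by omega))

lemma iterDiff_add (g g' : ℤ → Γ) : ∀ (k : ℕ) (d : ℤ),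
    iterDiff (fun e => g e + g' e) k d = iterDiff g k d + iterDiff g' k d
  | 0, d => rfl
  | k + 1, d => by
    simp only [iterDiff, iterDiff_add g g' k]
    abel

lemma iterDiff_map {Γ' : Type w'} [AddCommGroup Γ'] (φ : Γ →+ Γ') (g : ℤ → Γ) : ∀ (k : ℕ) (d : ℤ),
    φ (iterDiff g k d) = iterDiff (fun e => φ (g e)) k d
  | 0, d => rfl
  | k + 1, d => by simp only [iterDiff, map_sub, iterDiff_map φ g k]

lemma iterDiff_delta (a : Γ) : ∀ (k : ℕ) (d : ℤ), 0 ≤ d →
    iterDiff (fun e => if e = 0 then a else 0) k d = if d = 0 then (-1 : ℤ) ^ k • a else 0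
  | 0, d, _ => by simp [iterDiff]
  | k + 1, d, hd => by
    simp only [iterDiff, iterDiff_delta a k (d + 1) (by omega), iterDiff_delta a k d hd,
      if_neg (show d + 1 ≠ 0 by omega), zero_sub]
    split
    · rw [pow_succ, mul_neg, mul_one, neg_smul]
    · exact neg_zero

/-- Solving a vanishing difference for its first term. -/
lemma eq_of_iterDiff_eq_zero (g : ℤ → Γ) (n : ℕ) (h : iterDiff g (n + 1) 0 = 0) :
    (-1 : ℤ) ^ n • iterDiff (fun e => if e = 0 then 0 else g e) (n + 1) 0 = g 0 := by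
  have hsplit : iterDiff g (n + 1) 0 = iterDiff (fun e => if e = 0 then g 0 else 0) (n + 1) 0 +
      iterDiff (fun e => if e = 0 then 0 else g e) (n + 1) 0 := by
    rw [← iterDiff_add]
    exact iterDiff_congr _ _ fun e _ _ => by split <;> simp [*]
  rw [iterDiff_delta _ _ _ le_rfl, if_pos rfl, h] at hsplit
  rw [eq_neg_of_add_eq_zero_right hsplit.symm, pow_succ, mul_neg, mul_one, neg_smul, neg_neg, smul_smul,
    ← mul_pow]
  simp

lemma eq_of_iso_of_add {A : Type u} [Category.{v} A] [Abelian A] (f : A → Γ) (P : A → Prop)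
    (hf : ∀ S : ShortComplex A, S.ShortExact → P S.X₁ → P S.X₂ → P S.X₃ → f S.X₂ = f S.X₁ + f S.X₃)
    (h0 : P 0) {M N : A} (e : M ≅ N) (hM : P M) (hN : P N) : f M = f N := by
  have z : IsZero (0 : A) := isZero_zero A
  have hS : (ShortComplex.mk (𝟙 (0 : A)) (𝟙 (0 : A)) (z.eq_of_src _ _)).ShortExact :=
    { exact := ShortComplex.exact_of_isZero_X₂ _ z }
  have hz : f 0 = 0 := by simpa using hf _ hS h0 h0 h0
  let S : ShortComplex A := ShortComplex.mk (0 : (0 : A) ⟶ M) e.hom zero_comp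
  have hS' : S.ShortExact :=
    { exact := (S.exact_iff_mono rfl).2 (inferInstanceAs (Mono e.hom))
      mono_f := ⟨fun _ _ _ => z.eq_of_tgt _ _⟩
      epi_g := inferInstanceAs (Epi e.hom) }
  have := hf S hS' h0 hM hN
  change f M = f 0 + f N at this
  rwa [hz, zero_add] at this

end Diff

variable {n : ℕ} {T : Scheme.{u}}

theorem isLocallyNoetherian_PY (n : ℕ) (T : Scheme.{u}) [IsLocallyNoetherian T] :
    IsLocallyNoetherian (KRR.PY n T) := by
  haveI h := Groth.Agent.Approx60.Segre.isProper_toSpec (ULift.{u} ℤ) n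
  haveI : IsProper (KRR.pr n T) := MorphismProperty.pullback_snd _ _ h
  exact LocallyOfFiniteType.isLocallyNoetherian (KRR.pr n T)

lemma vb_of_isInvertible {X : Scheme.{u}} {L : X.Modules} (hL : PicF.IsInvertible L) :
    FlatMod.IsFinLocFree L := fun y => by
  obtain ⟨U, hy, ⟨e⟩⟩ := hL y
  exact ⟨U, 1, hy, ⟨e ≪≫ (coproductUniqueIso (fun _ : Fin 1 => Coh.structureModule (↑U : Scheme.{u}))).symm⟩⟩

lemma vb_twF [IsLocallyNoetherian (KRR.PY n T)] {F : (KRR.PY n T).Modules} (hF : FlatMod.IsFinLocFree F) (d : ℤ) :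
    FlatMod.IsFinLocFree (KRR.twF n T d F) :=
  vb_tensor (vb_of_isInvertible (isInvertible_twistOver n T d)) hF

/-- Finite locally free and regular. -/
abbrev regP (n : ℕ) (T : Scheme.{u}) : ObjectProperty (KRR.PY n T).Modules :=
  fun M => FlatMod.IsFinLocFree M ∧ KRR.IsRegSheaf n T M

/-- The class of a regular finite locally free module. -/
abbrev clr (n : ℕ) (T : Scheme.{u}) (F : (KRR.PY n T).Modules) : KZero.K0sub (regP n T) :=
  KZero.clSub (regP n T) F

/-- The class of a module in the group of regular ones, by descending regularity. -/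
def regCl (n : ℕ) (T : Scheme.{u}) : ℕ → (KRR.PY n T).Modules → KZero.K0sub (regP n T)
  | 0, F => clr n T F
  | m + 1, F => (-1 : ℤ) ^ n •
      iterDiff (fun e => if e = 0 then 0 else regCl n T m (KRR.twF n T e F)) (n + 1) 0

variable [IsLocallyNoetherian (KRR.PY n T)]

/-- Finite locally free and `m`-regular. -/
def RegM (n : ℕ) (T : Scheme.{u}) (m : ℕ) (F : (KRR.PY n T).Modules) : Prop :=
  FlatMod.IsFinLocFree F ∧ RReg n T F (m : ℤ)

lemma isQCoh_of_vb {F : (KRR.PY n T).Modules} (hF : FlatMod.IsFinLocFree F) : Coh.IsQCoh F :=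
  Props58.LocFree.isQuasicoherent_of_isFinLocFree hF

lemma regP_of_regS {F : (KRR.PY n T).Modules} (h : FlatMod.IsFinLocFree F ∧ RegS n T F) : regP n T F :=
  ⟨h.1, (regS_iff (isQCoh_of_vb h.1)).1 h.2⟩

lemma regM_zero (m : ℕ) : RegM n T m (0 : (KRR.PY n T).Modules) := by
  have h := isRegSheaf_of_isZero (n := n) (T := T) (isZero_zero (KRR.PY n T).Modules)
  have hv := vb_of_isZero (isZero_zero (KRR.PY n T).Modules)
  exact ⟨hv, ((rReg_zero_iff n T _).2 h).mono (isQCoh_of_vb hv) (by omega)⟩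

lemma regM_twF {m : ℕ} {F : (KRR.PY n T).Modules} (h : RegM n T (m + 1) F) {e : ℤ} (he : 1 ≤ e) :
    RegM n T m (KRR.twF n T e F) := by
  refine ⟨vb_twF h.1 e, (rReg_twF_iff n T F e m).2 (h.2.mono (isQCoh_of_vb h.1) ?_)⟩
  push_cast
  omega

theorem regCl_add : ∀ (m : ℕ) (S : ShortComplex (KRR.PY n T).Modules), S.ShortExact →
    RegM n T m S.X₁ → RegM n T m S.X₂ → RegM n T m S.X₃ →
    regCl n T m S.X₂ = regCl n T m S.X₁ + regCl n T m S.X₃
  | 0, S, hS, h₁, h₂, h₃ =>
    K0Res3.cls_add S hS ⟨h₁.1, (rReg_zero_iff n T _).1 (by simpa using h₁.2)⟩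
      ⟨h₂.1, (rReg_zero_iff n T _).1 (by simpa using h₂.2)⟩ ⟨h₃.1, (rReg_zero_iff n T _).1 (by simpa using h₃.2)⟩
  | m + 1, S, hS, h₁, h₂, h₃ => by
    simp only [regCl, ← smul_add, ← iterDiff_add]
    congr 1
    refine iterDiff_congr _ _ fun e he _ => ?_
    split
    · rw [add_zero]
    · exact regCl_add m (S.map (DCoh.tensorBi.obj (Twist.twistOver n T e)))
        (shortExact_tensor (flat_stalk_of_isInvertible (isInvertible_twistOver n T e)) hS)
        (regM_twF h₁ (by omega)) (regM_twF h₂ (by omega)) (regM_twF h₃ (by omega))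

lemma regCl_iso {m : ℕ} {F G : (KRR.PY n T).Modules} (e : F ≅ G) (hF : RegM n T m F) (hG : RegM n T m G) :
    regCl n T m F = regCl n T m G :=
  eq_of_iso_of_add (regCl n T m) (RegM n T m) (regCl_add m) (regM_zero m) e hF hG

/-- The relation between the twists of a finite locally free module, for an additive function. -/
lemma rel_of_altData {Γ : Type w} [AddCommGroup Γ] (Q : AltData (KRR.PY n T).Modules Γ)
    (F : (KRR.PY n T).Modules) (hP : ∀ d : ℤ, 0 ≤ d → ∀ M, Nonempty (M ≅ KRR.twF n T d F) → Q.P₁ M ∧ Q.P₂ M)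
    (g : ℤ → Γ) (hg : ∀ d : ℤ, 0 ≤ d → ∀ M, Nonempty (M ≅ KRR.twF n T d F) → Q.f M = g d) :
    iterDiff g (n + 1) 0 = 0 := by
  have e : ∀ d, Nonempty ((coneDataT n T F).G d ≅ KRR.twF n T d F) := fun d => ⟨EGA73.tensComm _ _⟩
  have := (coneDataT n T F).iterDiff_eq_zero Q (fun d hd => hP d hd _ (e d)) (List.finRange (n + 1)) 0 le_rfl
    (acyclic_kos F 0)
  rw [List.length_finRange] at this
  rw [← this]
  exact iterDiff_congr _ _ fun d hd _ => (hg d hd _ (e d)).symm

theorem regCl_succ : ∀ (m : ℕ) {F : (KRR.PY n T).Modules}, RegM n T m F → regCl n T (m + 1) F = regCl n T m F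
  | 0, F, h => by
    have hreg : KRR.IsRegSheaf n T F := (rReg_zero_iff n T _).1 (by simpa using h.2)
    have hP : ∀ d : ℤ, 0 ≤ d → RegM n T 0 (KRR.twF n T d F) := fun d hd =>
      ⟨vb_twF h.1 d, by
        rw [Nat.cast_zero, rReg_twF_iff]
        exact ((rReg_zero_iff n T _).2 hreg).mono (isQCoh_of_vb h.1) (by omega)⟩
    have hP' : ∀ d : ℤ, 0 ≤ d → ∀ M, Nonempty (M ≅ KRR.twF n T d F) → RegM n T 0 M := by
      rintro d hd M ⟨e⟩
      exact ⟨vb_iso e.symm (hP d hd).1, by
        rw [Nat.cast_zero, rReg_zero_iff]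
        exact isRegSheaf_of_iso e.symm ((rReg_zero_iff n T _).1 (by simpa using (hP d hd).2))⟩
    have key := rel_of_altData
      (altReg (clr n T) fun S hS h₁ h₂ h₃ => K0Res3.cls_add S hS (regP_of_regS h₁) (regP_of_regS h₂) (regP_of_regS h₃))
      F (fun d hd M hM => ⟨(hP' d hd M hM).1, (regS_iff (isQCoh_of_vb (hP' d hd M hM).1)).2
        ((rReg_zero_iff n T _).1 (by simpa using (hP' d hd M hM).2))⟩)
      (fun d => regCl n T 0 (KRR.twF n T d F))
      (fun d hd M hM => regCl_iso hM.some (hP' d hd M hM) (hP d hd))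
    have h2 := eq_of_iterDiff_eq_zero _ n key
    refine h2.trans ?_
    obtain ⟨e⟩ := nonempty_twF_zero n T F
    exact regCl_iso e (hP 0 le_rfl) h
  | m + 1, F, h => by
    show (-1 : ℤ) ^ n • iterDiff _ (n + 1) 0 = (-1 : ℤ) ^ n • iterDiff _ (n + 1) 0
    congr 1
    refine iterDiff_congr _ _ fun e he _ => ?_
    split
    · rfl
    · exact regCl_succ m (regM_twF h (by omega))

theorem regCl_le {F : (KRR.PY n T).Modules} {m m' : ℕ} (h : RegM n T m F) (hle : m ≤ m') :
    regCl n T m' F = regCl n T m F := by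
  induction m', hle using Nat.le_induction with
  | base => rfl
  | succ k hk ih =>
    rw [regCl_succ k ⟨h.1, h.2.mono (isQCoh_of_vb h.1) (by omega)⟩, ih]

/-- A homomorphism killing nothing: its values on the descended classes. -/
theorem map_regCl (φ : KZero.K0sub (regP n T) →+ SGA6.Kvb (KRR.PY n T))
    (hφ : ∀ M, regP n T M → φ (clr n T M) = KRR.cl (KRR.PY n T) M) :
    ∀ (m : ℕ) {F : (KRR.PY n T).Modules}, RegM n T m F → φ (regCl n T m F) = KRR.cl (KRR.PY n T) F
  | 0, F, h => hφ F ⟨h.1, (rReg_zero_iff n T _).1 (by simpa using h.2)⟩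
  | m + 1, F, h => by
    let Q : AltData (KRR.PY n T).Modules (SGA6.Kvb (KRR.PY n T)) :=
      { P₁ := fun M => FlatMod.IsFinLocFree M
        P₂ := fun _ => True
        f := KRR.cl (KRR.PY n T)
        zero₁ := fun _ h => vb_of_isZero h
        zero₂ := fun _ _ => trivial
        left₁ := fun _ hS h₂ h₃ => vb_X₁ hS h₂ h₃
        right₂ := fun _ _ _ _ => trivial
        ext₁ := fun _ hS h₁ h₃ => vb_X₂ hS h₁ h₃
        ext₂ := fun _ _ _ _ => trivial
        add := fun S hS h₁ h₂ h₃ => K0Res3.cls_add (P := KRR.vbP _) S hS h₁.1 h₂.1 h₃.1 }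
    have hadd : ∀ S : ShortComplex (KRR.PY n T).Modules, S.ShortExact → FlatMod.IsFinLocFree S.X₁ →
        FlatMod.IsFinLocFree S.X₂ → FlatMod.IsFinLocFree S.X₃ →
        KRR.cl (KRR.PY n T) S.X₂ = KRR.cl (KRR.PY n T) S.X₁ + KRR.cl (KRR.PY n T) S.X₃ :=
      fun S hS h₁ h₂ h₃ => K0Res3.cls_add (P := KRR.vbP _) S hS h₁ h₂ h₃
    have key := rel_of_altData Q F
      (fun d _ M hM => ⟨vb_iso hM.some.symm (vb_twF h.1 d), trivial⟩)
      (fun d => KRR.cl (KRR.PY n T) (KRR.twF n T d F))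
      (fun d _ M hM => eq_of_iso_of_add _ _ hadd (vb_of_isZero (isZero_zero _)) hM.some
        (vb_iso hM.some.symm (vb_twF h.1 d)) (vb_twF h.1 d))
    obtain ⟨e⟩ := nonempty_twF_zero n T F
    refine Eq.trans ?_ ((eq_of_iterDiff_eq_zero _ n key).trans
      (eq_of_iso_of_add _ _ hadd (vb_of_isZero (isZero_zero _)) e (vb_twF h.1 0) h.1))
    simp only [regCl, map_zsmul, iterDiff_map]
    congr 1
    refine iterDiff_congr _ _ fun d hd _ => ?_
    split
    · exact map_zero φ
    · exact map_regCl φ hφ m (regM_twF h (by omega))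

variable (hev : ∀ F : (KRR.PY n T).Modules, FlatMod.IsFinLocFree F → ∃ m : ℕ, RReg n T F m)

include hev in
/-- The regular classes give the whole group. -/
theorem bijective_of_regular (φ : KZero.K0sub (regP n T) →+ SGA6.Kvb (KRR.PY n T))
    (hφ : ∀ M, regP n T M → φ (clr n T M) = KRR.cl (KRR.PY n T) M) : Function.Bijective φ := by
  classical
  let ψ₀ : FreeAbelianGroup (Subtype (KRR.vbP (KRR.PY n T))) →+ KZero.K0sub (regP n T) :=
    FreeAbelianGroup.lift fun F => regCl n T (hev F.1 F.2).choose F.1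
  have hrel : KZero.relSub (KRR.vbP (KRR.PY n T)) ≤ ψ₀.ker := by
    rw [KZero.relSub, AddSubgroup.closure_le]
    rintro x ⟨S, h₁, h₂, h₃, hS, rfl⟩
    simp only [SetLike.mem_coe, AddMonoidHom.mem_ker, map_sub, ψ₀, FreeAbelianGroup.lift_apply_of]
    let m₁ := (hev S.X₁ h₁).choose
    let m₂ := (hev S.X₂ h₂).choose
    let m₃ := (hev S.X₃ h₃).choose
    have r₁ : RegM n T m₁ S.X₁ := ⟨h₁, (hev S.X₁ h₁).choose_spec⟩
    have r₂ : RegM n T m₂ S.X₂ := ⟨h₂, (hev S.X₂ h₂).choose_spec⟩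
    have r₃ : RegM n T m₃ S.X₃ := ⟨h₃, (hev S.X₃ h₃).choose_spec⟩
    let M := m₁ + m₂ + m₃
    rw [← regCl_le r₁ (show m₁ ≤ M by omega), ← regCl_le r₂ (show m₂ ≤ M by omega),
      ← regCl_le r₃ (show m₃ ≤ M by omega), regCl_add M S hS
        ⟨h₁, r₁.2.mono (isQCoh_of_vb h₁) (by omega)⟩ ⟨h₂, r₂.2.mono (isQCoh_of_vb h₂) (by omega)⟩
        ⟨h₃, r₃.2.mono (isQCoh_of_vb h₃) (by omega)⟩]
    abel
  let ψ : SGA6.Kvb (KRR.PY n T) →+ KZero.K0sub (regP n T) := QuotientAddGroup.lift _ ψ₀ hrel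
  have hψ : ∀ (F : (KRR.PY n T).Modules) (hF : FlatMod.IsFinLocFree F),
      ψ (KRR.cl (KRR.PY n T) F) = regCl n T (hev F hF).choose F := fun F hF => by
    rw [KRR.cl, show KZero.clSub (KRR.vbP (KRR.PY n T)) F = _ from K0Res3.cls_eq (P := KRR.vbP _) hF]
    exact FreeAbelianGroup.lift_apply_of _ _
  have hl : ψ.comp φ = AddMonoidHom.id _ := by
    refine QuotientAddGroup.addMonoidHom_ext _ (FreeAbelianGroup.lift_ext _ _ fun F => ?_)
    have e0 : (QuotientAddGroup.mk' (KZero.relSub (regP n T))) (FreeAbelianGroup.of F) = clr n T F.1 :=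
      (K0Res3.cls_eq (P := regP n T) F.2).symm
    show ψ (φ ((QuotientAddGroup.mk' _) (FreeAbelianGroup.of F))) = (QuotientAddGroup.mk' _) (FreeAbelianGroup.of F)
    rw [e0, hφ _ F.2, hψ _ F.2.1]
    exact regCl_le (m := 0) ⟨F.2.1, by simpa using (rReg_zero_iff n T _).2 F.2.2⟩ (Nat.zero_le _)
  have hr : φ.comp ψ = AddMonoidHom.id _ := hom_ext_cl fun E hE => by
    show φ (ψ (KRR.cl _ E)) = KRR.cl _ E
    rw [hψ E hE]
    exact map_regCl φ hφ _ ⟨hE, (hev E hE).choose_spec⟩
  exact ⟨Function.LeftInverse.injective (g := ψ) fun x => DFunLike.congr_fun hl x,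
    Function.RightInverse.surjective (g := ψ) fun x => DFunLike.congr_fun hr x⟩

end Groth.Agent.KRR40
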