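import Groth.Agent.KRR40.BlowReg
import Groth.Agent.KLoc46.Seq
import Groth.Agent.RelPCSch41.PushD
import Groth.Agent.KRR40.PushCl
import Groth.Agent.KRR40.Pull
import Groth.Agent.KRR40.KRegular
import Groth.Agent.KRR40.EnoughPY
import Groth.Agent.RegImm10.BlowModel
import Groth.Agent.S3746

/-!
The `K`-theory sequence of a blow-up of a regular scheme in a regular centre ends with a surjection.
-/

set_option autoImplicit false
set_option linter.style.haveILetI false
set_option backward.isDefEq.respectTransparency.types false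

noncomputable section

universe v u

open CategoryTheory CategoryTheory.Limits AlgebraicGeometry

namespace Groth.Agent.KRR40.BlowSurj

open Groth.Agent Dev46

variable {W V : Scheme.{u}} [IsLocallyNoetherian W]

/-- From bundles to coherent modules. -/
def toG : SGA6.Kvb W →+ KZero.K0sub (cohP W) :=
  lift₀ (fun M => KZero.clSub (cohP W) M) fun S hS h₁ h₂ h₃ =>
    K0Res3.cls_add S hS (isCoh_of_vb h₁) (isCoh_of_vb h₂) (isCoh_of_vb h₃)

lemma toG_cl {M : W.Modules} (h : FlatMod.IsFinLocFree M) : toG (KRR.cl W M) = KZero.clSub (cohP W) M :=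
  lift₀_cl (P := KRR.vbP W) _ _ h

/-- Forgetting the bound on the projective dimension. -/
def ofP : KZero.K0sub (PC W) →+ KZero.K0sub (cohP W) :=
  lift₀ (fun M => KZero.clSub (cohP W) M) fun S hS h₁ h₂ h₃ => K0Res3.cls_add S hS h₁.1 h₂.1 h₃.1

lemma ofP_toP (z : SGA6.Kvb W) : ofP (toP z) = toG z :=
  DFunLike.congr_fun (hom_ext₀ (P := KRR.vbP W) (g := ofP.comp toP) (g' := toG) fun M hM => by
    show ofP (toP (KRR.cl W M)) = toG (KRR.cl W M)
    rw [toP_cl hM, toG_cl hM]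
    exact lift₀_cl (P := PC W) _ _ (pc_of_vb hM)) z

theorem bijective_toG [IsNoetherian W] (hreg : ∀ x : W, IsRegularLocalRing (W.presheaf.stalk x))
    (hW : KRR.HasEnoughLocFree W) : Function.Bijective (toG (W := W)) := by
  have h : SGA6.mapSub (𝟭 W.Modules) (KRR.vbP W) (fun M : W.Modules => Coh.IsCoh M) (fun _ hM => isCoh_of_vb hM) = toG :=
    hom_ext₀ (P := KRR.vbP W) fun M hM =>
      ((KLoc46.mapSub_clSub (𝟭 W.Modules) _ _ _ hM).trans (toG_cl hM).symm)
  exact h ▸ S3746.result W hreg hW fun _ hM => isCoh_of_vb hM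

lemma isCoh_restrictFunctor (j : V ⟶ W) [IsOpenImmersion j] (M : W.Modules) (hM : Coh.IsCoh M) :
    Coh.IsCoh ((Scheme.Modules.restrictFunctor j).obj M) :=
  QC70.isCoh_of_iso ((Scheme.Modules.restrictFunctorIsoPullback j).app M).symm (isCoh_pullback' j hM)

/-- Restriction to an open. -/
def res (j : V ⟶ W) [IsOpenImmersion j] : KZero.K0sub (cohP W) →+ KZero.K0sub (cohP V) :=
  SGA6.mapSub (Scheme.Modules.restrictFunctor j) (cohP W) (cohP V) (isCoh_restrictFunctor j)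

lemma res_toG_cl (j : V ⟶ W) [IsOpenImmersion j] {M : W.Modules} (hM : FlatMod.IsFinLocFree M) :
    res j (toG (KRR.cl W M)) = KZero.clSub (cohP V) ((Scheme.Modules.pullback j).obj M) := by
  haveI : IsLocallyNoetherian V := AlgebraicGeometry.isLocallyNoetherian_of_isOpenImmersion j
  rw [toG_cl hM, res, KLoc46.mapSub_clSub _ _ _ _ (isCoh_of_vb hM)]
  exact KDer46.clSub_iso (P := cohP V) ((Scheme.Modules.restrictFunctorIsoPullback j).app M)

theorem surjective_res_iso (g : V ⟶ W) [IsIso g] : Function.Surjective (res g) := by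
  haveI : IsLocallyNoetherian V := AlgebraicGeometry.isLocallyNoetherian_of_isOpenImmersion g
  intro x
  obtain ⟨z, rfl⟩ := QuotientAddGroup.mk_surjective x
  induction z using FreeAbelianGroup.induction_on with
  | zero => exact ⟨0, map_zero _⟩
  | of M =>
    have hp : Coh.IsCoh ((Scheme.Modules.pushforward g).obj M.1) := QC70.isCoh_pushforward g M.1 M.2
    refine ⟨KZero.clSub (cohP W) ((Scheme.Modules.pushforward g).obj M.1), ?_⟩
    rw [res, KLoc46.mapSub_clSub _ _ _ _ hp]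
    refine (KDer46.clSub_iso (P := cohP V) (asIso ((Scheme.Modules.restrictAdjunction g).counit.app M.1))).trans ?_
    exact KDer46.clSub_eq M.2
  | neg z hz =>
    obtain ⟨a, ha⟩ := hz
    exact ⟨-a, by rw [map_neg, ha, QuotientAddGroup.mk_neg]⟩
  | add y z hy hz =>
    obtain ⟨a, ha⟩ := hy
    obtain ⟨b, hb⟩ := hz
    exact ⟨a + b, by rw [map_add, ha, hb, QuotientAddGroup.mk_add]⟩

theorem isSeparated_of_qproj {S Y : Scheme.{u}} [IsAffine S] (q : Y ⟶ S) (hq : KRR.IsQProjOver q) :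
    Y.IsSeparated := by
  obtain ⟨n, i, hi, e⟩ := hq
  haveI h := Approx60.Segre.isProper_toSpec (ULift.{u} ℤ) n
  haveI : IsProper (KRR.pr n S) := MorphismProperty.pullback_snd _ _ h
  haveI : IsSeparated q := e ▸ inferInstanceAs (IsSeparated (i ≫ KRR.pr n S))
  exact ⟨by rw [← terminal.comp_from q]; infer_instance⟩

variable {X Y X₁ Y₁ : Scheme.{u}} {f : X ⟶ Y} {φ : Y₁ ⟶ Y} {f₁ : X₁ ⟶ Y₁} {ψ : X₁ ⟶ X}

theorem surjective [IsNoetherian Y] [Y.IsSeparated]
    (hYreg : ∀ y : Y, IsRegularLocalRing (Y.presheaf.stalk y)) (hf : Mor2.IsRegularClosedImmersion f)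
    (hXreg : ∀ x : X, IsRegularLocalRing (X.presheaf.stalk x))
    (hφ : BlowUp.IsBlowUp φ f.ker) (sq : IsPullback f₁ ψ φ f) [IsClosedImmersion f₁]
    {KY : Type v} [CommRing KY] {φY : SGA6.Kvb Y →+ KY} (hKY : Function.Bijective φY)
    {KX₁ : Type v} [CommRing KX₁] {φX₁ : SGA6.Kvb X₁ →+ KX₁}
    {KY₁ : Type v} [CommRing KY₁] {φY₁ : SGA6.Kvb Y₁ →+ KY₁} (hKY₁ : Function.Bijective φY₁)
    {gφ : KY →+ KY₁} (hgφ : KRR.IsPull φ φY φY₁ gφ)
    {gf₁ : KX₁ →+ KY₁} (hgf₁ : KRR.IsPushCl f₁ φX₁ φY₁ gf₁) (y₁ : KY₁) :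
    ∃ (x₁ : KX₁) (y : KY), gf₁ x₁ + gφ y = y₁ := by
  haveI := hf.1
  haveI : IsProper φ := RegImm10.BlowModel.isProper_of_isBlowUp
    (fun U => by
      haveI := IsLocallyNoetherian.component_noetherian (X := Y) U
      exact IsNoetherian.noetherian _) hφ
  haveI : IsLocallyNoetherian Y₁ := LocallyOfFiniteType.isLocallyNoetherian φ
  haveI : CompactSpace ↥Y₁ := QuasiCompact.compactSpace_of_compactSpace φ
  haveI : IsNoetherian Y₁ := {}
  haveI : IsLocallyNoetherian X := LocallyOfFiniteType.isLocallyNoetherian f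
  haveI : IsLocallyNoetherian X₁ := LocallyOfFiniteType.isLocallyNoetherian f₁
  haveI : CompactSpace ↥X₁ := f₁.isClosedEmbedding.compactSpace
  haveI : IsNoetherian X₁ := {}
  haveI : Y₁.IsSeparated := ⟨by rw [← terminal.comp_from φ]; infer_instance⟩
  haveI : X₁.IsSeparated := ⟨by rw [← terminal.comp_from f₁]; infer_instance⟩
  have hY₁reg := BlowReg.regular_blowUp hf hφ sq hXreg hYreg
  have hX₁reg := BlowReg.regular_exceptional hf hφ sq hXreg
  have hYe := BlowReg.hasEnough_of_regular hYreg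
  have hY₁e := BlowReg.hasEnough_of_regular hY₁reg
  have hX₁e := BlowReg.hasEnough_of_regular hX₁reg
  have hf₁ := BlowReg.regular_immersion hφ sq
  have hbY := bijective_toG hYreg hYe
  have hbY₁ := bijective_toG hY₁reg hY₁e
  have hbX₁ := bijective_toG hX₁reg hX₁e
  let U : Y.Opens := f.ker.support.compl
  haveI : IsIso (φ ∣_ U) := Div89.isIso_off_center hφ
  have hrange : Set.range (φ ⁻¹ᵁ U).ι = (Set.range f₁)ᶜ := by
    have e : f₁.ker = f.ker.comap φ := HTop50.ker_of_isPullback sq.flip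
    have h1 : (f₁.ker.support : Set Y₁) = φ ⁻¹' (f.ker.support : Set Y) := by
      rw [e, Scheme.IdealSheafData.support_comap]
      rfl
    rw [Scheme.Hom.support_ker, f₁.isClosedEmbedding.isClosed_range.closure_eq] at h1
    rw [h1, Scheme.Opens.range_ι]
    rfl
  let j : ((φ ⁻¹ᵁ U : Y₁.Opens) : Scheme.{u}) ⟶ Y₁ := (φ ⁻¹ᵁ U).ι
  haveI : IsLocallyNoetherian (U : Scheme.{u}) := AlgebraicGeometry.isLocallyNoetherian_of_isOpenImmersion U.ι
  haveI : IsLocallyNoetherian ((φ ⁻¹ᵁ U : Y₁.Opens) : Scheme.{u}) :=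
    AlgebraicGeometry.isLocallyNoetherian_of_isOpenImmersion j
  let e₁ := AddEquiv.ofBijective φY₁ hKY₁
  have hsq : ∀ z : SGA6.Kvb Y, res j (toG (pullK φ z)) = res (φ ∣_ U) (res U.ι (toG z)) := fun z =>
    DFunLike.congr_fun (hom_ext₀ (P := KRR.vbP Y) (g := ((res j).comp toG).comp (pullK φ))
      (g' := ((res (φ ∣_ U)).comp (res U.ι)).comp toG) fun N hN => by
        show res j (toG (pullK φ (KRR.cl Y N))) = res (φ ∣_ U) (res U.ι (toG (KRR.cl Y N)))
        have hc : Coh.IsCoh ((Scheme.Modules.pullback U.ι).obj N) := isCoh_pullback' _ (isCoh_of_vb hN)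
        rw [pullK_cl φ hN, res_toG_cl j (vb_pullback φ hN), res_toG_cl U.ι hN]
        refine Eq.trans ?_ (KLoc46.mapSub_clSub _ _ _ _ hc).symm
        exact KDer46.clSub_iso (P := cohP _) ((Scheme.Modules.pullbackComp j φ).app N ≪≫
          (Scheme.Modules.pullbackCongr (morphismRestrict_ι φ U).symm).app N ≪≫
          ((Scheme.Modules.pullbackComp (φ ∣_ U) U.ι).app N).symm ≪≫
          ((Scheme.Modules.restrictFunctorIsoPullback (φ ∣_ U)).app _).symm)) z
  obtain ⟨c, hc⟩ := surjective_res_iso (φ ∣_ U) (res j (toG (e₁.symm y₁)))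
  obtain ⟨a, ha⟩ := (KLoc46.localization f U.ι (fun M hM => QC70.isCoh_pushforward f M hM)
    (isCoh_restrictFunctor U.ι) (by
      rw [Scheme.Opens.range_ι]
      show ((f.ker.support : Set Y))ᶜ = _
      rw [Scheme.Hom.support_ker, f.isClosedEmbedding.isClosed_range.closure_eq])).1 c
  obtain ⟨z, rfl⟩ := hbY.2 a
  have hker : toG (e₁.symm y₁ - pullK φ z) ∈ (res j).ker := by
    rw [AddMonoidHom.mem_ker, map_sub, map_sub, hsq, ← hc]
    exact sub_eq_zero.2 (congrArg (res (φ ∣_ U)) ha.symm)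
  have hex := (KLoc46.localization f₁ j (fun M hM => QC70.isCoh_pushforward f₁ M hM)
    (isCoh_restrictFunctor j) hrange).2
  obtain ⟨b, hb⟩ := (le_of_eq hex) hker
  obtain ⟨v, rfl⟩ := hbX₁.2 b
  refine ⟨φX₁ v, φY z, ?_⟩
  have hpush : toG (e₁.symm (gf₁ (φX₁ v))) = toG (e₁.symm y₁ - pullK φ z) := by
    rw [← ofP_toP, toP_pushCl f₁ hf₁ hY₁e hKY₁ hgf₁, ← hb]
    refine DFunLike.congr_fun (hom_ext₀ (P := KRR.vbP X₁) (g := ofP.comp (pushVP f₁ hf₁ hY₁e))
      (g' := (SGA6.mapSub (Scheme.Modules.pushforward f₁) (cohP X₁) (cohP Y₁)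
        (fun M hM => QC70.isCoh_pushforward f₁ M hM)).comp toG) fun M hM => ?_) v
    show ofP (pushVP f₁ hf₁ hY₁e (KRR.cl X₁ M)) = SGA6.mapSub _ _ _ _ (toG (KRR.cl X₁ M))
    rw [pushVP_cl f₁ hf₁ hY₁e hM, toG_cl hM, KLoc46.mapSub_clSub _ _ _ _ (isCoh_of_vb hM)]
    exact lift₀_cl (P := PC Y₁) _ _ (pc_pushforward_vb f₁ hf₁ hY₁e hM)
  have hpull : gφ (φY z) = φY₁ (pullK φ z) := DFunLike.congr_fun (hom_ext₀ (P := KRR.vbP Y) (g := gφ.comp φY)
    (g' := φY₁.comp (pullK φ)) fun N hN => (hgφ N hN).trans (congrArg φY₁ (pullK_cl φ hN).symm)) z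
  have h := congrArg φY₁ (hbY₁.1 hpush)
  rw [map_sub, show φY₁ (e₁.symm (gf₁ (φX₁ v))) = gf₁ (φX₁ v) from e₁.apply_symm_apply _,
    show φY₁ (e₁.symm y₁) = y₁ from e₁.apply_symm_apply _] at h
  rw [h, hpull, sub_add_cancel]

end Groth.Agent.KRR40.BlowSurj
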