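import Mathlib.Algebra.Homology.HomotopyCategory.Acyclic
import Mathlib.Algebra.Homology.HomotopyCategory.Pretriangulated
import Mathlib.Algebra.Homology.HomotopyCategory.ShortExact
import Mathlib.Algebra.Homology.ShortComplex.ShortExact
import Mathlib.Algebra.Homology.QuasiIso
import Mathlib.Algebra.Homology.SingleHomology

/-!
Koszul complexes as iterated mapping cones of commuting multiplications on a graded family.
-/

set_option autoImplicit false
set_option linter.style.haveILetI false

noncomputable section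

universe v v' u u'

open CategoryTheory CategoryTheory.Limits CochainComplex

namespace Groth.Agent.KRR40

variable {A : Type u} [Category.{v} A] [Abelian A]

/-- Commuting multiplications of degree one on a graded family. -/
structure ConeData (A : Type u) [Category.{v} A] (r : ℕ) where
  /-- the family -/
  G : ℤ → A
  /-- the multiplications -/
  m : Fin r → ∀ (d e : ℤ), e = d + 1 → (G d ⟶ G e)
  comm : ∀ (a b : Fin r) (c d e : ℤ) (h₁ : d = c + 1) (h₂ : e = d + 1),
    m a c d h₁ ≫ m b d e h₂ = m b c d h₁ ≫ m a d e h₂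

/-- A family of complexes with commuting multiplications. -/
structure ConeStage (A : Type u) [Category.{v} A] [Abelian A] (r : ℕ) where
  /-- the complexes -/
  K : ℤ → CochainComplex A ℤ
  /-- the multiplications -/
  M : Fin r → ∀ (d e : ℤ), e = d + 1 → (K d ⟶ K e)
  comm : ∀ (a b : Fin r) (c d e : ℤ) (h₁ : d = c + 1) (h₂ : e = d + 1),
    M a c d h₁ ≫ M b d e h₂ = M b c d h₁ ≫ M a d e h₂

variable {r : ℕ}

/-- The first stage: the family in degree zero. -/
def ConeData.stage0 (D : ConeData A r) : ConeStage A r where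
  K d := (HomologicalComplex.single A (ComplexShape.up ℤ) 0).obj (D.G d)
  M l d e h := (HomologicalComplex.single A (ComplexShape.up ℤ) 0).map (D.m l d e h)
  comm a b c d e h₁ h₂ := by rw [← Functor.map_comp, ← Functor.map_comp, D.comm]

lemma ConeStage.sq (S : ConeStage A r) (a l : Fin r) (d e : ℤ) (h : e = d + 1) :
    S.M a d (d + 1) rfl ≫ S.M l (d + 1) (e + 1) (by omega) = S.M l d e h ≫ S.M a e (e + 1) rfl := by
  subst h
  exact S.comm a l d (d + 1) (d + 1 + 1) rfl rfl

/-- The cone on one of the multiplications. -/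
def ConeStage.step (S : ConeStage A r) (a : Fin r) : ConeStage A r where
  K d := mappingCone (S.M a d (d + 1) rfl)
  M l d e h := mappingCone.map _ _ (S.M l d e h) (S.M l (d + 1) (e + 1) (by omega)) (S.sq a l d e h)
  comm l b c d e h₁ h₂ := by
    rw [← mappingCone.map_comp, ← mappingCone.map_comp]
    congr 1 <;> exact S.comm _ _ _ _ _ _ _

/-- The iterated cone. -/
def ConeData.kos (D : ConeData A r) : List (Fin r) → ConeStage A r
  | [] => D.stage0
  | a :: L => (D.kos L).step a

/-- Euler characteristic of the iterated cone, on an additive function. -/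
def iterDiff {Γ : Type*} [AddCommGroup Γ] (g : ℤ → Γ) : ℕ → ℤ → Γ
  | 0, d => g d
  | k + 1, d => iterDiff g k (d + 1) - iterDiff g k d

section Acyclic

variable {B : Type u'} [Category.{v'} B] [Abelian B] (Φ : A ⥤ B) [Φ.Additive]

lemma acyclic_cone_of_quasiIso {K L : CochainComplex B ℤ} (φ : K ⟶ L) [QuasiIso φ] :
    (mappingCone φ).Acyclic := by
  refine (HomotopyCategory.quotient_obj_mem_subcategoryAcyclic_iff_acyclic _).1 ?_
  refine ((HomotopyCategory.subcategoryAcyclic B).trW_iff_of_distinguished _
    (HomotopyCategory.mappingCone_triangleh_distinguished φ)).1 ?_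
  rw [← HomotopyCategory.quasiIso_eq_trW_subcategoryAcyclic]
  exact (HomotopyCategory.quotient_map_mem_quasiIso_iff φ).2
    ((HomologicalComplex.mem_quasiIso_iff φ).2 inferInstance)

/-- The split sequence of a degree of a cone. -/
def coneSC {K L : CochainComplex A ℤ} (φ : K ⟶ L) (i : ℤ) : ShortComplex A :=
  ShortComplex.mk ((mappingCone.inr φ).f i) ((mappingCone.fst φ).1.v i (i + 1) rfl)
    (mappingCone.inr_f_fst_v φ i (i + 1) rfl)

/-- It splits. -/
def coneSplit {K L : CochainComplex A ℤ} (φ : K ⟶ L) (i : ℤ) : (coneSC φ i).Splitting where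
  r := (mappingCone.snd φ).v i i (add_zero i)
  s := (mappingCone.inl φ).v (i + 1) i (by omega)
  f_r := by simp [coneSC]
  s_g := by simp [coneSC]
  id := by
    show (mappingCone.snd φ).v i i (add_zero i) ≫ (mappingCone.inr φ).f i +
      (mappingCone.fst φ).1.v i (i + 1) rfl ≫ (mappingCone.inl φ).v (i + 1) i (by omega) = 𝟙 ((mappingCone φ).X i)
    refine (mappingCone.ext_from_iff φ (i + 1) i rfl _ _).2 ⟨?_, ?_⟩ <;> simp

/-- Maps of squares act diagonally on the split sequences. -/
def coneSCMap {K L K' L' : CochainComplex A ℤ} (φ : K ⟶ L) (φ' : K' ⟶ L') (a : K ⟶ K') (b : L ⟶ L')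
    (comm : φ ≫ b = a ≫ φ') (i : ℤ) : coneSC φ i ⟶ coneSC φ' i where
  τ₁ := b.f i
  τ₂ := (mappingCone.map φ φ' a b comm).f i
  τ₃ := a.f (i + 1)
  comm₁₂ := by simp [coneSC, mappingCone.map]
  comm₂₃ := by
    show (mappingCone.map φ φ' a b comm).f i ≫ _ = _ ≫ a.f (i + 1)
    refine (mappingCone.ext_from_iff φ (i + 1) i rfl _ _).2 ⟨?_, ?_⟩ <;> simp [mappingCone.map, coneSC]

/-- The functor turns the multiplications of a stage into isomorphisms. -/
def ConeStage.IsoAt (S : ConeStage A r) (l : Fin r) : Prop :=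
  ∀ (d e : ℤ) (h : e = d + 1) (i : ℤ), IsIso (Φ.map ((S.M l d e h).f i))

lemma ConeStage.isoAt_step {S : ConeStage A r} {l : Fin r} (h : S.IsoAt Φ l) (a : Fin r) :
    (S.step a).IsoAt Φ l := fun d e hde i => by
  let f := Φ.mapShortComplex.map (coneSCMap (S.M a d (d + 1) rfl) (S.M a e (e + 1) rfl) (S.M l d e hde)
    (S.M l (d + 1) (e + 1) (by omega)) (S.sq a l d e hde) i)
  haveI : IsIso f.τ₁ := h _ _ (by omega) i
  haveI : IsIso f.τ₃ := h _ _ hde (i + 1)
  exact ShortComplex.isIso₂_of_shortExact_of_isIso₁₃ f ((coneSplit _ i).map Φ).shortExact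
    ((coneSplit _ i).map Φ).shortExact

lemma ConeData.isoAt_kos (D : ConeData A r) {l : Fin r}
    (h : ∀ (d e : ℤ) (he : e = d + 1), IsIso (Φ.map (D.m l d e he))) : ∀ L : List (Fin r), (D.kos L).IsoAt Φ l
  | [] => fun d e he i => by
    haveI := h d e he
    haveI : IsIso ((Φ.mapHomologicalComplex (ComplexShape.up ℤ)).map
        ((HomologicalComplex.single A (ComplexShape.up ℤ) 0).map (D.m l d e he))) := by
      exact (NatIso.isIso_map_iff (HomologicalComplex.singleMapHomologicalComplex Φ (ComplexShape.up ℤ) 0)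
        (D.m l d e he)).2 (inferInstanceAs (IsIso ((HomologicalComplex.single B (ComplexShape.up ℤ) 0).map (Φ.map (D.m l d e he)))))
    exact inferInstanceAs (IsIso ((HomologicalComplex.eval B (ComplexShape.up ℤ) i).map
      ((Φ.mapHomologicalComplex (ComplexShape.up ℤ)).map
        ((HomologicalComplex.single A (ComplexShape.up ℤ) 0).map (D.m l d e he)))))
  | a :: L => ConeStage.isoAt_step Φ (D.isoAt_kos h L) a

/-- If the functor inverts one of the multiplications occurring in the list, the iterated cone becomes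
acyclic. -/
theorem ConeData.acyclic_kos (D : ConeData A r) {l : Fin r}
    (h : ∀ (d e : ℤ) (he : e = d + 1), IsIso (Φ.map (D.m l d e he))) :
    ∀ L : List (Fin r), l ∈ L → ∀ d, ((Φ.mapHomologicalComplex (ComplexShape.up ℤ)).obj ((D.kos L).K d)).Acyclic
  | [], hl, _ => absurd hl List.not_mem_nil
  | a :: L, hl, d => by
    let φ := (Φ.mapHomologicalComplex (ComplexShape.up ℤ)).map ((D.kos L).M a d (d + 1) rfl)
    haveI : QuasiIso φ := by
      rcases List.mem_cons.1 hl with rfl | hl'
      · haveI : ∀ i, IsIso (φ.f i) := D.isoAt_kos Φ h L d (d + 1) rfl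
        haveI : IsIso φ := HomologicalComplex.Hom.isIso_of_components φ
        infer_instance
      · exact ⟨fun i => by
          rw [quasiIsoAt_iff_isIso_homologyMap]
          exact ((HomologicalComplex.exactAt_iff_isZero_homology _ i).1 (D.acyclic_kos h L hl' d i)).isIso
            ((HomologicalComplex.exactAt_iff_isZero_homology _ i).1 (D.acyclic_kos h L hl' (d + 1) i)) _⟩
    exact fun i => (acyclic_cone_of_quasiIso φ i).of_iso
      (mappingCone.mapHomologicalComplexIso ((D.kos L).M a d (d + 1) rfl) Φ).symm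

end Acyclic

lemma ConeData.isZero_kos_X (D : ConeData A r) : ∀ (L : List (Fin r)) (d i : ℤ),
    (i < -(L.length : ℤ) ∨ 0 < i) → IsZero (((D.kos L).K d).X i)
  | [], d, i, hi => HomologicalComplex.isZero_single_obj_X _ _ _ _ (by simp at hi; omega)
  | a :: L, d, i, hi => by
    simp only [List.length_cons, Nat.cast_add, Nat.cast_one] at hi
    refine IsZero.of_iso ?_ (HomologicalComplex.homotopyCofiber.XIsoBiprod ((D.kos L).M a d (d + 1) rfl) i (i + 1) rfl)
    rw [biprod_isZero_iff]
    exact ⟨D.isZero_kos_X L d (i + 1) (by omega), D.isZero_kos_X L (d + 1) i (by omega)⟩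

end Groth.Agent.KRR40
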