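import Groth.Agent.KRR40.Cone
import Groth.Agent.CohDer42.FiniteDim

/-!
The relation given by an exact iterated cone on an additive function.
-/

set_option autoImplicit false
set_option linter.style.haveILetI false

noncomputable section

universe v u w

open CategoryTheory CategoryTheory.Limits HomologicalComplex
open scoped ZeroObject

namespace Groth.Agent.KRR40

variable {A : Type u} [Category.{v} A] [Abelian A] {Γ : Type w} [AddCommGroup Γ]

/-- Properties suitable for splitting bounded exact complexes, with an additive function. -/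
structure AltData (A : Type u) [Category.{v} A] [Abelian A] (Γ : Type w) [AddCommGroup Γ] where
  /-- closed under kernels of epimorphisms -/
  P₁ : ObjectProperty A
  /-- closed under cokernels of monomorphisms -/
  P₂ : ObjectProperty A
  /-- the function -/
  f : A → Γ
  zero₁ : ∀ X, IsZero X → P₁ X
  zero₂ : ∀ X, IsZero X → P₂ X
  left₁ : ∀ S : ShortComplex A, S.ShortExact → P₁ S.X₂ → P₁ S.X₃ → P₁ S.X₁
  right₂ : ∀ S : ShortComplex A, S.ShortExact → P₂ S.X₁ → P₂ S.X₂ → P₂ S.X₃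
  ext₁ : ∀ S : ShortComplex A, S.ShortExact → P₁ S.X₁ → P₁ S.X₃ → P₁ S.X₂
  ext₂ : ∀ S : ShortComplex A, S.ShortExact → P₂ S.X₁ → P₂ S.X₃ → P₂ S.X₂
  add : ∀ S : ShortComplex A, S.ShortExact → P₁ S.X₁ ∧ P₂ S.X₁ → P₁ S.X₂ ∧ P₂ S.X₂ →
    P₁ S.X₃ ∧ P₂ S.X₃ → f S.X₂ = f S.X₁ + f S.X₃

variable (Q : AltData A Γ)

lemma AltData.f_zero {X : A} (h : IsZero X) : Q.f X = 0 := by
  have hP : Q.P₁ X ∧ Q.P₂ X := ⟨Q.zero₁ X h, Q.zero₂ X h⟩
  have hS : (ShortComplex.mk (𝟙 X) (𝟙 X) (h.eq_of_src _ _)).ShortExact :=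
    { exact := ShortComplex.exact_of_isZero_X₂ _ h }
  simpa using Q.add _ hS hP hP hP

/-- The alternating sum in degrees `0, -1, …, -N`. -/
def AltData.chi (L : CochainComplex A ℤ) (N : ℕ) : Γ :=
  ∑ k ∈ Finset.range (N + 1), (-1 : ℤ) ^ k • Q.f (L.X (-(k : ℤ)))

/-- A bounded exact complex has zero alternating sum. -/
theorem AltData.chi_eq_zero (L : CochainComplex A ℤ) (hL : L.Acyclic) (hP : ∀ i, Q.P₁ (L.X i) ∧ Q.P₂ (L.X i))
    (N : ℕ) (hb : ∀ i : ℤ, i < -(N : ℤ) ∨ 0 < i → IsZero (L.X i)) : Q.chi L N = 0 := by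
  have hS : ∀ i, (CohDer42.FiniteDim.cycSC L i (i + 1)).ShortExact := fun i =>
    CohDer42.FiniteDim.shortExact_cycSC L i (i + 1) (by simp) (by simp) (hL _)
  have hz : ∀ i, IsZero (L.X i) → IsZero (L.cycles i) := fun i h => IsZero.of_mono (L.iCycles i) h
  have hlow : IsZero (L.cycles (-(N : ℤ))) := by
    have h := hS (-(N : ℤ) - 1)
    rw [sub_add_cancel] at h
    have : Epi (L.toCycles (-(N : ℤ) - 1) (-(N : ℤ))) := h.epi_g
    exact IsZero.of_epi (L.toCycles (-(N : ℤ) - 1) (-(N : ℤ))) (hb _ (Or.inl (by omega)))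
  have h₁ : ∀ k : ℕ, Q.P₁ (L.cycles (1 - (k : ℤ))) := by
    intro k
    induction k with
    | zero => exact Q.zero₁ _ (hz _ (hb _ (Or.inr (by norm_num))))
    | succ k ih =>
      refine Q.left₁ _ (hS (1 - ((k + 1 : ℕ) : ℤ))) (hP _).1 ?_
      show Q.P₁ (L.cycles (1 - ((k + 1 : ℕ) : ℤ) + 1))
      rwa [show 1 - ((k + 1 : ℕ) : ℤ) + 1 = 1 - (k : ℤ) by omega]
  have h₂ : ∀ k : ℕ, Q.P₂ (L.cycles (-(N : ℤ) + k)) := by
    intro k
    induction k with
    | zero => exact Q.zero₂ _ (by simpa using hlow)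
    | succ k ih =>
      have := Q.right₂ _ (hS (-(N : ℤ) + k)) ih (hP _).2
      rw [show -(N : ℤ) + ((k + 1 : ℕ) : ℤ) = -(N : ℤ) + k + 1 by omega]
      exact this
  have h : ∀ k, k ≤ N + 1 → Q.P₁ (L.cycles (1 - (k : ℤ))) ∧ Q.P₂ (L.cycles (1 - (k : ℤ))) := by
    intro k hk
    refine ⟨h₁ k, ?_⟩
    have := h₂ (N + 1 - k)
    rwa [show -(N : ℤ) + ((N + 1 - k : ℕ) : ℤ) = 1 - (k : ℤ) by omega] at this
  let g : ℕ → Γ := fun k => (-1 : ℤ) ^ k • Q.f (L.cycles (1 - (k : ℤ)))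
  have key : ∀ k ∈ Finset.range (N + 1), (-1 : ℤ) ^ k • Q.f (L.X (-(k : ℤ))) = g k - g (k + 1) := fun k hk => by
    rw [Finset.mem_range] at hk
    have h3 : -(k : ℤ) + 1 = 1 - (k : ℤ) := by omega
    have h1 : (-(k : ℤ)) = 1 - ((k + 1 : ℕ) : ℤ) := by omega
    have hadd := Q.add _ (hS (-(k : ℤ)))
      (by show Q.P₁ (L.cycles (-(k : ℤ))) ∧ _; rw [h1]; exact h _ (by omega)) (hP _)
      (by show Q.P₁ (L.cycles (-(k : ℤ) + 1)) ∧ _; rw [h3]; exact h _ (by omega))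
    change Q.f (L.X (-(k : ℤ))) = Q.f (L.cycles (-(k : ℤ))) + Q.f (L.cycles (-(k : ℤ) + 1)) at hadd
    rw [hadd, h3, smul_add]
    simp only [g, pow_succ, mul_neg, mul_one, neg_smul, sub_neg_eq_add]
    rw [← h1]
    abel
  rw [AltData.chi, Finset.sum_congr rfl key, Finset.sum_range_sub']
  have e0 : g 0 = 0 := by
    simp [g, Q.f_zero (hz 1 (hb 1 (Or.inr one_pos)))]
  have e1 : g (N + 1) = 0 := by
    simp only [g]
    rw [show 1 - ((N + 1 : ℕ) : ℤ) = -(N : ℤ) by omega, Q.f_zero hlow, smul_zero]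
  rw [e0, e1, sub_zero]

variable {r : ℕ}

lemma ConeData.step_prop (D : ConeData A r) (h : ∀ d : ℤ, 0 ≤ d → Q.P₁ (D.G d) ∧ Q.P₂ (D.G d)) :
    ∀ (L : List (Fin r)) (d i : ℤ), 0 ≤ d →
      Q.P₁ (((D.kos L).K d).X i) ∧ Q.P₂ (((D.kos L).K d).X i)
  | [], d, i, hd => by
    by_cases hi : i = 0
    · subst hi
      let e := HomologicalComplex.singleObjXSelf (ComplexShape.up ℤ) 0 (D.G d)
      let S : ShortComplex A := ShortComplex.mk (0 : (0 : A) ⟶ _) e.hom zero_comp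
      have z : IsZero (0 : A) := isZero_zero A
      have hS : S.ShortExact :=
        { exact := (S.exact_iff_mono rfl).2 (inferInstanceAs (Mono e.hom))
          mono_f := ⟨fun _ _ _ => z.eq_of_tgt _ _⟩
          epi_g := inferInstanceAs (Epi e.hom) }
      exact ⟨Q.ext₁ S hS (Q.zero₁ _ z) (h d hd).1, Q.ext₂ S hS (Q.zero₂ _ z) (h d hd).2⟩
    · have z := HomologicalComplex.isZero_single_obj_X (ComplexShape.up ℤ) 0 (D.G d) i hi
      exact ⟨Q.zero₁ _ z, Q.zero₂ _ z⟩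
  | a :: L, d, i, hd => by
    have hS := (coneSplit ((D.kos L).M a d (d + 1) rfl) i).shortExact
    have h1 := D.step_prop h L (d + 1) i (by omega)
    have h3 := D.step_prop h L d (i + 1) hd
    exact ⟨Q.ext₁ _ hS h1.1 h3.1, Q.ext₂ _ hS h1.2 h3.2⟩


lemma ConeData.chi_kos (D : ConeData A r) (h : ∀ d : ℤ, 0 ≤ d → Q.P₁ (D.G d) ∧ Q.P₂ (D.G d)) :
    ∀ (L : List (Fin r)) (d : ℤ), 0 ≤ d →
      Q.chi ((D.kos L).K d) L.length = iterDiff (fun e => Q.f (D.G e)) L.length d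
  | [], d, hd => by
    have hp := D.step_prop Q h [] d 0 hd
    let e := HomologicalComplex.singleObjXSelf (ComplexShape.up ℤ) 0 (D.G d)
    let S : ShortComplex A := ShortComplex.mk (0 : (0 : A) ⟶ _) e.hom zero_comp
    have z : IsZero (0 : A) := isZero_zero A
    have hS : S.ShortExact :=
      { exact := (S.exact_iff_mono rfl).2 (inferInstanceAs (Mono e.hom))
        mono_f := ⟨fun _ _ _ => z.eq_of_tgt _ _⟩
        epi_g := inferInstanceAs (Epi e.hom) }
    have hadd := Q.add S hS ⟨Q.zero₁ _ z, Q.zero₂ _ z⟩ hp (h d hd)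
    change Q.f (((D.kos []).K d).X 0) = Q.f 0 + Q.f (D.G d) at hadd
    rw [Q.f_zero z, zero_add] at hadd
    simp only [AltData.chi, List.length_nil, zero_add, Finset.sum_range_one, pow_zero, one_smul,
      Nat.cast_zero, neg_zero, hadd, iterDiff]
  | a :: L, d, hd => by
    let N := L.length
    let X₀ := (D.kos L).K d
    let X₁ := (D.kos L).K (d + 1)
    have hterm : ∀ i, Q.f ((((D.kos (a :: L)).K d)).X i) = Q.f (X₁.X i) + Q.f (X₀.X (i + 1)) := fun i =>
      Q.add _ (coneSplit ((D.kos L).M a d (d + 1) rfl) i).shortExact (D.step_prop Q h L (d + 1) i (by omega))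
        (D.step_prop Q h (a :: L) d i hd) (D.step_prop Q h L d (i + 1) hd)
    have hA : ∑ k ∈ Finset.range (N + 1 + 1), (-1 : ℤ) ^ k • Q.f (X₁.X (-(k : ℤ))) = Q.chi X₁ N := by
      rw [Finset.sum_range_succ, Q.f_zero (D.isZero_kos_X L _ _ (Or.inl (by omega))), smul_zero, add_zero]
      rfl
    have hB : ∑ k ∈ Finset.range (N + 1 + 1), (-1 : ℤ) ^ k • Q.f (X₀.X (-(k : ℤ) + 1)) = - Q.chi X₀ N := by
      rw [Finset.sum_range_succ', Q.f_zero (D.isZero_kos_X L _ _ (Or.inr (by omega))), smul_zero, add_zero,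
        AltData.chi, ← Finset.sum_neg_distrib]
      refine Finset.sum_congr rfl fun k _ => ?_
      rw [show -((k + 1 : ℕ) : ℤ) + 1 = -(k : ℤ) by omega, pow_succ, mul_neg, mul_one, neg_smul]
    show Q.chi ((D.kos (a :: L)).K d) (N + 1) = _
    rw [AltData.chi, Finset.sum_congr rfl fun k _ => by rw [hterm, smul_add], Finset.sum_add_distrib, hA, hB,
      D.chi_kos h L (d + 1) (by omega), D.chi_kos h L d hd, List.length_cons]
    simp only [iterDiff, sub_eq_add_neg]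

/-- The relation given by an exact iterated cone. -/
theorem ConeData.iterDiff_eq_zero (D : ConeData A r) (h : ∀ d : ℤ, 0 ≤ d → Q.P₁ (D.G d) ∧ Q.P₂ (D.G d))
    (L : List (Fin r)) (d : ℤ) (hd : 0 ≤ d) (hex : ((D.kos L).K d).Acyclic) :
    iterDiff (fun e => Q.f (D.G e)) L.length d = 0 := by
  rw [← D.chi_kos Q h L d hd]
  exact Q.chi_eq_zero _ hex (fun i => D.step_prop Q h L d i hd) _ fun i hi => D.isZero_kos_X L d i hi

end Groth.Agent.KRR40
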