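import Groth.Agent.CechComp71.Scheme
import Groth.Agent.FMK72.Coproduct
import Groth.Agent.KRR40.TwistLES

/-!
Cohomology of a direct sum vanishes if the cohomology of the summands does.
-/

set_option autoImplicit false
set_option backward.isDefEq.respectTransparency.types false
set_option maxSynthPendingDepth 6
set_option linter.style.haveILetI false

noncomputable section

universe u

open CategoryTheory CategoryTheory.Limits AlgebraicGeometry TopologicalSpace Opposite
open Groth.Agent.QC70

namespace Groth.Agent.KRR40

variable {X : Scheme.{u}} {ι : Type u} [Finite ι] {U : ι → X.Opens}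

/-- Cohomology of direct sums on a scheme with a finite covering by affines with affine intersections. -/
theorem subsingleton_HH_coproduct (hU : ⨆ i, U i = ⊤)
    (hc : ∀ (n : ℕ) (i : Fin (n + 1) → ι), IsAffineOpen (Coh69.cOpen U i)) {κ : Type u} (M : κ → X.Modules)
    (hM : ∀ j, (M j).IsQuasicoherent) (p : ℕ) (h : ∀ j, Subsingleton (Coh.HH X (M j) p)) :
    Subsingleton (Coh.HH X (∐ M) p) := by
  classical
  haveI := isQuasicoherent_coproduct M hM
  refine subsingleton_of_forall_eq 0 fun x => ?_
  obtain ⟨z, rfl⟩ := CechComp71.toHH_surjective hU (CechComp71.acyclicOn_of_isAffineOpen U (∐ M) hc) p x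
  choose S hS using fun i => FMK72.exists_finset_section M (hc p i).isCompact (z.1 i)
  haveI := Fintype.ofFinite (Fin (p + 1) → ι)
  let T := Finset.univ.biUnion S
  let e : (∐ M) ⟶ (∐ M) := ∑ j ∈ T, coprojection M j ≫ Sigma.ι M j
  have hz : CechComp71.zmap ((abFun X).map e) p z = z := by
    refine Subtype.ext (funext fun i => ?_)
    show e.app (Coh69.cOpen U i) (z.1 i) = z.1 i
    refine Eq.trans ?_ (hS i).symm
    rw [FMK72.sum_app, FMK72.sum_app]
    refine (Finset.sum_subset (fun j hj => Finset.mem_biUnion.2 ⟨i, Finset.mem_univ _, hj⟩) fun j _ hj => ?_).symm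
    show (Sigma.ι M j).app _ ((coprojection M j).app _ (z.1 i)) = 0
    rw [hS i, FMK72.sum_app, map_sum, Finset.sum_eq_zero, map_zero]
    intro a ha
    have h3 : (coprojection M a ≫ Sigma.ι M a) ≫ coprojection M j = 0 := by
      rw [Category.assoc, ι_coprojection_ne M (fun hh : a = j => hj (hh ▸ ha)), comp_zero]
    exact congr((Scheme.Modules.Hom.app $h3 (Coh69.cOpen U i)) (z.1 i))
  let G := abFun X ⋙ Sheaf.functorH (Opens.grothendieckTopology X) p
  haveI : G.Additive := by
    dsimp [G]
    infer_instance
  have he : G.map e = 0 := by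
    rw [CategoryTheory.Functor.map_sum]
    refine Finset.sum_eq_zero fun j _ => ?_
    haveI : Subsingleton ↑(G.obj (M j)) := h j
    rw [CategoryTheory.Functor.map_comp, (AddCommGrpCat.isZero_of_subsingleton (G.obj (M j))).eq_of_tgt
      (G.map (coprojection M j)) 0, zero_comp]
  have hn := CechComp71.toHH_natural U hU ((abFun X).map e) p z
  rw [hz] at hn
  exact hn.trans (ConcreteCategory.congr_hom he _)

end Groth.Agent.KRR40
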