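import Groth.Agent.KRR40.PnVanish
import Groth.Agent.KRR40.PnTransfer
import Groth.Agent.KRR40.LFDim
import Groth.Agent.KRR40.Pull
import Groth.Agent.KRR40.RelKoszul
import Groth.Agent.TwTens96.Basic
import Groth.Agent.FMK72.Acyclic

/-!
Finite locally free modules on projective space over a Noetherian base become regular after twisting.
-/

set_option autoImplicit false
set_option linter.style.haveILetI false
set_option backward.isDefEq.respectTransparency.types false
set_option maxSynthPendingDepth 6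

noncomputable section

universe u

open CategoryTheory CategoryTheory.Limits AlgebraicGeometry TopologicalSpace Opposite
open Groth.Agent.Var76.Reg

namespace Groth.Agent.KRR40

variable {n : ℕ} {T : Scheme.{u}} [IsNoetherian T]

/-- Eventual vanishing over an affine open of the base and all its basic opens. -/
theorem exists_vanish_affine {F : (KRR.PY n T).Modules} (hF : FlatMod.IsFinLocFree F) {V : T.Opens}
    (hV : IsAffineOpen V) :
    ∃ J : ℤ, ∀ d : ℤ, J ≤ d → ∀ q : ℕ, 1 ≤ q → ∀ g : Γ(T, V),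
      Subsingleton (Coh69.HE (Coh.toAb (KRR.twF n T d F)) q (KRR.pr n T ⁻¹ᵁ T.basicOpen g)) := by
  haveI : IsNoetherianRing Γ(T, V) := IsLocallyNoetherian.component_noetherian ⟨V, hV⟩
  let j := affPn n T hV
  haveI := isLocallyNoetherian_projSpace n Γ(T, V)
  obtain ⟨J, hJ⟩ := exists_vanish_noetherian n Γ(T, V) ((Scheme.Modules.pullback j).obj F)
    (isCoh_of_vb (vb_pullback j hF))
  refine ⟨J, fun d hd q hq g => ?_⟩
  obtain ⟨e⟩ := nonempty_pullback_affPn_twist n T hV d
  let ψ : (KRR.twF n T d F).restrict j ≅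
      Var76.Reg.tw n Γ(T, V) ((Scheme.Modules.pullback j).obj F) d :=
    (Scheme.Modules.restrictFunctorIsoPullback j).app _ ≪≫ TwTens96.pullTensIso j _ F ≪≫
      EGA73.tensIso e (Iso.refl _) ≪≫ EGA73.tensComm _ _
  have hM : Coh.IsQCoh (KRR.twF n T d F) :=
    isQCoh_twF n T F (Props58.LocFree.isQuasicoherent_of_isFinLocFree hF) d
  haveI : (KRR.twF n T d F).IsQuasicoherent := hM
  haveI : ((KRR.twF n T d F).restrict j).IsQuasicoherent :=
    (SheafOfModules.isQuasicoherent (CohB1.ProjSpace n Γ(T, V)).ringCatSheaf).prop_of_iso ψ.symm (isQCoh_tw n Γ(T, V) _ (isCoh_of_vb (vb_pullback j hF)).1 d)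
  have h0 : Subsingleton (Coh69.HE (Coh.toAb ((KRR.twF n T d F).restrict j)) q
      (⊤ : (CohB1.ProjSpace n Γ(T, V)).Opens)) :=
    haveI := ValVan29.subsingleton_hh_of_iso ψ.symm q (hJ d hd q hq)
    (Coh69.hhEquiv ((KRR.twF n T d F).restrict j) q).symm.toEquiv.subsingleton
  haveI : CompactSpace (CohB1.ProjSpace n Γ(T, V)) :=
    haveI := Approx60.Segre.isProper_toSpec Γ(T, V) n
    QuasiCompact.compactSpace_of_compactSpace (CohB1.ProjSpace.toSpec n Γ(T, V))
  haveI : QuasiSeparatedSpace (CohB1.ProjSpace n Γ(T, V)) :=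
    haveI := Approx60.Segre.isProper_toSpec Γ(T, V) n
    quasiSeparatedSpace_of_quasiSeparated (CohB1.ProjSpace.toSpec n Γ(T, V))
  have hW : (j ≫ KRR.pr n T) ⁻¹ᵁ V = ⊤ := by
    rw [Scheme.Hom.comp_preimage, ← affPn_image_top n T hV, Scheme.Hom.preimage_image_eq]
  have h1 := FMK72.subsingleton_HE_preimage_basicOpen (j ≫ KRR.pr n T) ((KRR.twF n T d F).restrict j) q hW h0 g
  rw [FMK72.subsingleton_HE_restrict_iff, Scheme.Hom.comp_preimage, Scheme.Hom.image_preimage_eq_opensRange_inf,
    inf_eq_right.2 (((KRR.pr n T).preimage_mono (T.basicOpen_le g)).trans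
      (by rw [← Scheme.Hom.image_top_eq_opensRange, affPn_image_top]))] at h1
  exact h1

/-- Every finite locally free module is regular in some degree. -/
theorem exists_rReg {F : (KRR.PY n T).Modules} (hF : FlatMod.IsFinLocFree F) :
    ∃ m : ℕ, RReg n T F m := by
  classical
  choose V hV hyV using fun y : T => exists_isAffineOpen_mem_and_subset (show y ∈ (⊤ : T.Opens) from trivial)
  obtain ⟨s, hs⟩ := isCompact_univ.elim_finite_subcover (fun y => (V y : Set T)) (fun y => (V y).2)
    fun y _ => Set.mem_iUnion.2 ⟨y, (hyV y).1⟩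
  choose J hJ using fun y => exists_vanish_affine hF (hV y)
  obtain ⟨B, hB⟩ : ∃ B : ℤ, ∀ y ∈ s, J y ≤ B := by
    obtain ⟨B, hB⟩ := (s.image J).bddAbove
    exact ⟨B, fun y hy => hB (Finset.mem_image_of_mem J hy)⟩
  refine ⟨(B + n + 1).toNat, fun i hi => ?_⟩
  rcases le_or_gt (n + 1) i with h | h
  · haveI : (KRR.twF n T (((B + n + 1).toNat : ℤ) - i) F).IsQuasicoherent :=
      isQCoh_twF n T F (Props58.LocFree.isQuasicoherent_of_isFinLocFree hF) _
    exact isZero_RpushAb_gt n T _ i h
  · refine Coh69.isZero_RpushAb_of_subsingleton _ _ _ fun U y hy => ?_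
    obtain ⟨z, hz⟩ := Set.mem_iUnion.1 (hs (Set.mem_univ y))
    obtain ⟨hzs, hyz⟩ := Set.mem_iUnion.1 hz
    obtain ⟨g, hgU, hyg⟩ := (hV z).exists_basicOpen_le (⟨y, hy⟩ : U) hyz
    exact ⟨T.basicOpen g, hgU, hyg, hJ z _ (by have := hB z hzs; omega) i hi g⟩

end Groth.Agent.KRR40
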