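import Groth.Agent.RegImm10.BundleBlow

/-!
Over the centre of a blow-up in a Koszul regular family the exceptional divisor is the whole projective bundle.
-/

set_option autoImplicit false
set_option backward.isDefEq.respectTransparency.types false
set_option linter.style.haveILetI false

noncomputable section

universe u

open CategoryTheory CategoryTheory.Limits AlgebraicGeometry TopologicalSpace Opposite MvPolynomial

namespace Groth.Agent.KRR40.ExcChart

open Groth.Agent RegImm10 RegImm10.BundleChart RegImm10.BundleBlow Koszul19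

variable {Y X Y' X₁ P : Scheme.{u}} [IsAffine Y] {f : X ⟶ Y} [IsClosedImmersion f] {φ : Y' ⟶ Y}
  {f₁ : X₁ ⟶ Y'} {ψ : X₁ ⟶ X} {π : P ⟶ Y} {E : Y.Modules} {O1 : P.Modules}
  {q : (Scheme.Modules.pullback π).obj E ⟶ O1} {u : E ⟶ Coh.structureModule Y} {j : Y' ⟶ P} (hjπ : j ≫ π = φ)
  {θ₀ : (Scheme.Modules.pullback j).obj O1 ⟶ Coh.structureModule Y'} {t : ℕ}
  (bs : Module.Basis (Fin (t + 1)) Γ(Y, ⊤) Γ(E, ⊤))

/-- Points over the centre lift locally to the exceptional divisor. -/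
theorem exists_local_lift [E.IsQuasicoherent] (hPB : KRR.IsProjBundle π E O1 q) (hc : Compat hjπ q u θ₀)
    (hb : BlowUp.IsBlowUp φ f.ker) (sq : IsPullback f₁ ψ φ f)
    (hI : f.ker.ideal ⟨⊤, isAffineOpen_top Y⟩ = Ideal.span (Set.range fun k => val u ⊤ (bs k)))
    (hkr : KR (List.ofFn fun k => val u ⊤ (bs k))) (p : ↥(pullback π f)) :
    ∃ (N : (pullback π f).Opens) (σ : (N : Scheme.{u}) ⟶ X₁), p ∈ N ∧
      σ ≫ (f₁ ≫ j) = N.ι ≫ pullback.fst π f ∧ σ ≫ ψ = N.ι ≫ pullback.snd π f := by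
  let hU : IsAffineOpen (⊤ : Y.Opens) := isAffineOpen_top Y
  obtain ⟨A, hA, hAU, γ, hγ, a, hpA, ha⟩ :=
    exists_coord bs hPB (p := pullback.fst π f p) (Set.mem_univ (π (pullback.fst π f p)))
  obtain ⟨cc, hcc⟩ := Om3.EulerLift.exists_unimodular hU bs hA hAU hγ a ha hPB.epi (isQuasicoherent_O1 hPB)
  obtain ⟨k, hk⟩ : ∃ k, pullback.fst π f p ∈ P.basicOpen (a k) := by
    by_contra hne
    push Not at hne
    have h1 : IsUnit (P.presheaf.germ A _ hpA (∑ k, cc k * a k)) := by rw [hcc, map_one]; exact isUnit_one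
    rw [map_sum] at h1
    refine (Finset.sum_induction _ (· ∈ nonunits (P.presheaf.stalk (pullback.fst π f p)))
      (fun _ _ => IsLocalRing.nonunits_add) (zero_mem_nonunits.2 zero_ne_one) fun k _ => ?_) h1
    rw [map_mul]
    exact mul_mem_nonunits_right fun hu' => hne k ((P.mem_basicOpen _ _ hpA).2 hu')
  let e : Equiv.Perm (Fin (t + 1)) := Equiv.swap 0 k
  let b' := bs.reindex e.symm
  have hb' : ∀ m, b' m = bs (e m) := fun m => by simp [b']
  obtain ⟨M, hM⟩ := exists_nChart (π := π) (q := q) (hAU := hAU) b' hA hγ (a ∘ e)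
    (fun m => (ha (e m)).trans (by rw [hb']))
  have hkr' : KR (List.ofFn fun m => val u ⊤ (b' m)) := by
    simp only [hb']
    exact hkr.perm (List.Perm.symm (e.ofFn_comp_perm fun k => val u ⊤ (bs k)))
  have hI' : f.ker.ideal ⟨⊤, hU⟩ = Ideal.span (Set.range fun m => val u ⊤ (b' m)) := by
    rw [hI]
    simp only [hb']
    exact congrArg Ideal.span (e.surjective.range_comp fun k => val u ⊤ (bs k)).symm
  obtain ⟨ψc, hψc⟩ := exists_isStdChart (t := t) hU b' hPB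
  haveI := isOpenImmersion hU b' hPB hψc
  obtain ⟨c, hcimm, hcf, -⟩ := exists_chartMap hb hU (mem_ideal hU b' hI' 0)
  have hdiv : ∀ m, CommRingCat.ofHom (algebraMap Γ(Y, ⊤) (BlowUp.affineAlgebra Γ(Y, ⊤) (f.ker.ideal ⟨⊤, hU⟩) (val u ⊤ (b' 0))))
      (val u ⊤ (b' 0)) ∣ CommRingCat.ofHom (algebraMap Γ(Y, ⊤) _) (val u ⊤ (b' m)) := fun m => by
    obtain ⟨d, hd⟩ := FBlow13.affineAlgebra_div (a := val u ⊤ (b' 0)) (mem_ideal hU b' hI' m)
    exact ⟨d, hd.trans (mul_comm _ _)⟩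
  obtain ⟨τ, hτ, hτC, hτX⟩ := exists_lift hjπ hU b' hPB hc hψc hcf (FBlow13.affineAlgebra_nzd _) hdiv
  let μ : MvPolynomial (Fin t) Γ(Y, ⊤) →ₐ[Γ(Y, ⊤)] BlowUp.affineAlgebra Γ(Y, ⊤) (f.ker.ideal ⟨⊤, hU⟩) (val u ⊤ (b' 0)) :=
    { τ.hom with commutes' := fun r => congr($hτC r) }
  have hsurj : Function.Surjective τ.hom :=
    KoszulBlow.surjective (fun k => val u ⊤ (b' k)) hI'.symm μ hτX
  have hker : RingHom.ker τ.hom = Ideal.ofList (KoszulBlow.rels fun k => val u ⊤ (b' k)) :=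
    KoszulBlow.ker_eq (fun k => val u ⊤ (b' k)) μ hτX hkr'
  let N : (pullback π f).Opens := pullback.fst π f ⁻¹ᵁ ψc.opensRange
  have hpN : p ∈ N := by
    show pullback.fst π f p ∈ Set.range ψc
    rw [range_eq hU b' hPB hψc]
    refine Set.mem_iUnion.2 ⟨M, hM ▸ ?_⟩
    simpa [e] using hk
  have hle : Set.range (N.ι ≫ pullback.fst π f) ⊆ Set.range ψc := by
    rintro _ ⟨z, rfl⟩
    exact z.2
  let h := IsOpenImmersion.lift ψc (N.ι ≫ pullback.fst π f) hle
  have hh : h ≫ ψc = N.ι ≫ pullback.fst π f := IsOpenImmersion.lift_fac _ _ _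
  let ρ : Aff (⊤ : Y.Opens) t ⟶ Γ((N : Scheme.{u}), ⊤) := (Scheme.ΓSpecIso _).inv ≫ h.appTop
  have hρ : (N : Scheme.{u}).toSpecΓ ≫ Spec.map ρ = h := by
    simp only [ρ, Spec.map_comp, ← Scheme.toSpecΓ_naturality_assoc]
    rw [toSpecΓ_SpecMap_ΓSpecIso_inv, Category.comp_id]
  have hρC : ∀ y : Γ(Y, ⊤), ρ (C y) = (N.ι ≫ pullback.snd π f).appTop (f.appTop y) := by
    have h1 : h ≫ Spec.map (strRing (U := (⊤ : Y.Opens)) (t := t)) = ((N.ι ≫ pullback.snd π f) ≫ f) ≫ Y.toSpecΓ := by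
      have h2 : (h ≫ Spec.map (strRing (U := (⊤ : Y.Opens)) (t := t))) ≫ hU.fromSpec =
          (N.ι ≫ pullback.snd π f) ≫ f := by
        rw [Category.assoc, Category.assoc,
          show Spec.map (strRing (U := (⊤ : Y.Opens)) (t := t)) ≫ hU.fromSpec = ψc ≫ π from hψc.1.symm,
          ← Category.assoc h, hh, Category.assoc, pullback.condition]
      rw [← h2, IsAffineOpen.fromSpec_top, Category.assoc, Category.assoc]
      simp [Scheme.isoSpec]
    intro y
    have h3 := congrArg Scheme.Hom.appTop h1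
    rw [Scheme.Hom.comp_appTop, Scheme.Hom.comp_appTop _ Y.toSpecΓ, Scheme.toSpecΓ_appTop] at h3
    have h4 := congr($h3 ((Scheme.ΓSpecIso _).inv y))
    simp only [CommRingCat.comp_apply, Iso.inv_hom_id_apply, Scheme.Hom.comp_appTop] at h4
    refine Eq.trans ?_ h4
    show h.appTop ((Scheme.ΓSpecIso _).inv (C y)) = h.appTop ((Spec.map (strRing (U := (⊤ : Y.Opens)) (t := t))).appTop _)
    exact congrArg h.appTop congr($(Scheme.ΓSpecIso_inv_naturality (strRing (U := (⊤ : Y.Opens)) (t := t))) y)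
  have hzero : ∀ m, ρ (C (val u ⊤ (b' m))) = 0 := fun m => by
    rw [hρC]
    have : val u ⊤ (b' m) ∈ f.ker.ideal ⟨⊤, hU⟩ := hI' ▸ Ideal.subset_span ⟨m, rfl⟩
    rw [Scheme.Hom.ker_apply, RingHom.mem_ker] at this
    exact (congrArg (N.ι ≫ pullback.snd π f).appTop this).trans (map_zero _)
  have hkle : RingHom.ker τ.hom ≤ RingHom.ker ρ.hom := by
    rw [hker, Ideal.ofList, Ideal.span_le]
    intro z hz
    obtain ⟨i, rfl⟩ := List.mem_ofFn.1 hz
    show ρ.hom (C (val u ⊤ (b' 0)) * MvPolynomial.X i - C (val u ⊤ (b' i.succ))) = 0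
    rw [map_sub, map_mul]
    show ρ (C _) * ρ (MvPolynomial.X i) - ρ (C _) = 0
    rw [hzero, hzero, zero_mul, sub_zero]
  let ρ' := CommRingCat.ofHom (RingHom.liftOfSurjective τ.hom hsurj ⟨ρ.hom, hkle⟩)
  have hρ' : τ ≫ ρ' = ρ := CommRingCat.hom_ext (RingHom.liftOfRightInverse_comp _ _ _ _)
  let l := (N : Scheme.{u}).toSpecΓ ≫ Spec.map ρ' ≫ c
  have hlj : l ≫ j = N.ι ≫ pullback.fst π f := by
    rw [← hh, ← hρ, ← hρ', Spec.map_comp]
    simp only [l, Category.assoc, hτ]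
  have hlφ : l ≫ φ = (N.ι ≫ pullback.snd π f) ≫ f := by
    rw [← hjπ, ← Category.assoc, hlj, Category.assoc, Category.assoc, pullback.condition]
  exact ⟨N, sq.lift l (N.ι ≫ pullback.snd π f) hlφ, hpN,
    by rw [← Category.assoc, sq.lift_fst, hlj], sq.lift_snd _ _ _⟩

/-- The exceptional divisor is the bundle over the centre. -/
theorem isIso_lift [E.IsQuasicoherent] [IsClosedImmersion j] (hPB : KRR.IsProjBundle π E O1 q) (hc : Compat hjπ q u θ₀)
    (hb : BlowUp.IsBlowUp φ f.ker) (sq : IsPullback f₁ ψ φ f)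
    (hI : f.ker.ideal ⟨⊤, isAffineOpen_top Y⟩ = Ideal.span (Set.range fun k => val u ⊤ (bs k)))
    (hkr : KR (List.ofFn fun k => val u ⊤ (bs k))) :
    IsIso (pullback.lift (f₁ ≫ j) ψ (by rw [Category.assoc, hjπ, sq.w]) : X₁ ⟶ pullback π f) := by
  set L : X₁ ⟶ pullback π f := pullback.lift (f₁ ≫ j) ψ _
  haveI : IsClosedImmersion f₁ := MorphismProperty.of_isPullback sq.flip inferInstance
  haveI : Mono L := by
    haveI : Mono (L ≫ pullback.fst π f) := by
      rw [pullback.lift_fst]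
      infer_instance
    exact mono_of_mono L (pullback.fst π f)
  choose N σ hpN hσ₁ hσ₂ using exists_local_lift hjπ bs hPB hc hb sq hI hkr
  refine (IsZariskiLocalAtTarget.iff_of_iSup_eq_top (P := MorphismProperty.isomorphisms Scheme.{u}) N ?_).2 fun p => ?_
  · exact top_le_iff.1 fun p _ => Opens.mem_iSup.2 ⟨p, hpN p⟩
  have hσ : σ p ≫ L = (N p).ι := pullback.hom_ext
    (by rw [Category.assoc, pullback.lift_fst, hσ₁]) (by rw [Category.assoc, pullback.lift_snd, hσ₂])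
  let σ' : (N p : Scheme.{u}) ⟶ (L ⁻¹ᵁ N p : Scheme.{u}) := IsOpenImmersion.lift (L ⁻¹ᵁ N p).ι (σ p) (by
    rintro _ ⟨z, rfl⟩
    rw [Scheme.Opens.range_ι]
    show L (σ p z) ∈ N p
    rw [← Scheme.Hom.comp_apply, hσ]
    exact z.2)
  have hs : σ' ≫ L ∣_ N p = 𝟙 _ := by
    rw [← cancel_mono (N p).ι, Category.assoc, morphismRestrict_ι, ← Category.assoc, IsOpenImmersion.lift_fac,
      hσ, Category.id_comp]
  haveI : Mono (L ∣_ N p) := by
    haveI : Mono (L ∣_ N p ≫ (N p).ι) := by rw [morphismRestrict_ι]; infer_instance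
    exact mono_of_mono _ (N p).ι
  exact ⟨σ', by rw [← cancel_mono (L ∣_ N p), Category.assoc, hs, Category.comp_id, Category.id_comp], hs⟩

end Groth.Agent.KRR40.ExcChart
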