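import Groth.Agent.KRR40.Pull
import Groth.Agent.KRR40.TensorPC
import Groth.Agent.KRR40.PKValues
import Groth.Agent.FBase64.ExtPow.Exists
import Groth.Agent.Om3.DetSeq
import Groth.Agent.TwTens96.Basic
import Groth.Agent.Lambda37.Split
import Groth.Agent.Amp73.PullTensor
import Groth.Prelude.Def_FrameBundle
import Groth.Prelude.Def_KRR

/-!
The inverse image on `K` of bundles is a homomorphism of λ-rings with augmentation, and respects the γ-filtration.
-/

set_option autoImplicit false
set_option backward.isDefEq.respectTransparency.types false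
set_option linter.style.haveILetI false

noncomputable section

universe v u

open CategoryTheory CategoryTheory.Limits AlgebraicGeometry Opposite LambdaRing

namespace Groth.Agent.KRR40

variable {X Y : Scheme.{u}}

/-- Constant rank modules are finite locally free. -/
theorem vb_of_rank {E : Y.Modules} {n : ℕ} (hE : FlatMod.IsFinLocFreeOfRank n E) : FlatMod.IsFinLocFree E :=
  fun x => by
    obtain ⟨U, hx, h⟩ := hE x
    exact ⟨U, n, hx, h⟩

/-- Exterior powers of finite locally free modules are finite locally free. -/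
theorem vb_extPow {E L : Y.Modules} {p : ℕ} (hE : FlatMod.IsFinLocFree E)
    (hL : ExtPow.IsExtPow p E L) : FlatMod.IsFinLocFree L := by
  haveI := Props58.LocFree.isQuasicoherent_of_isFinLocFree hE
  haveI := Om3.isQuasicoherent_of_isExtPow hL
  obtain ⟨φ, -⟩ := hL
  refine FlatMor68.LocFree.isFinLocFree_of_sections L fun x => ?_
  obtain ⟨U, k, hxU, ⟨i⟩⟩ := hE x
  obtain ⟨s, hs⟩ := Props58.LocFree.exists_stalkBasis_of_iso i
  obtain ⟨W, hW, hxW, hle⟩ := exists_isAffineOpen_mem_and_subset hxU
  have hb := hs.bijective (W := W) hle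
  let b : Module.Basis (Fin k) Γ(Y, W) Γ(E, W) := Module.Basis.ofEquivFun
    (LinearEquiv.ofBijective (Fintype.linearCombination Γ(Y, W) fun j => QC70.res E hle (s j))
      ((congrArg Function.Bijective (funext fun a => by simp [Fintype.linearCombination_apply])).mp hb)).symm
  haveI : Module.Free Γ(Y, W) Γ(E, W) := Module.Free.of_basis b
  haveI : Module.Finite Γ(Y, W) Γ(E, W) := Module.Finite.of_basis b
  let e := φ ⟨W, hW⟩
  exact ⟨W, hW, hxW, Module.Free.of_basis ((b.exteriorPower p).map e.symm),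
    Module.Finite.of_basis ((b.exteriorPower p).map e.symm)⟩

variable {KX KY : Type v} [CommRing KX] [CommRing KY] {φX : SGA6.Kvb X →+ KX} {φY : SGA6.Kvb Y →+ KY}
  [LambdaOps KX] [LambdaOps KY] {PX : PosStructure KX} {PY : PosStructure KY} {f : X ⟶ Y} {g : KY →+ KX}

/-- A finite locally free module of constant rank pulls back to one. -/
theorem finLocFreeOfRank_pullback (f : X ⟶ Y) {E : Y.Modules} {n : ℕ}
    (hE : FlatMod.IsFinLocFreeOfRank n E) :
    FlatMod.IsFinLocFreeOfRank n ((Scheme.Modules.pullback f).obj E) := by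
  intro y
  obtain ⟨V, hyV, ⟨i⟩⟩ := hE (f y)
  exact ⟨f ⁻¹ᵁ V, hyV, ⟨((Amp73.pullRestrictIso f V).app E).symm ≪≫
      (Scheme.Modules.pullback (f ∣_ V)).mapIso
        (((Scheme.Modules.restrictFunctorIsoPullback V.ι).app E).symm ≪≫ i) ≪≫
      FrB.pullbackFreeIso (f ∣_ V) n⟩⟩

variable [IsLocallyNoetherian X] [IsLocallyNoetherian Y]

/-- The inverse image is multiplicative. -/
theorem isPull_map_mul (hY : KRR.IsModel Y KY PY φY) (hX : KRR.IsModel X KX PX φX)
    (hg : KRR.IsPull f φY φX g) (a b : KY) : g (a * b) = g a * g b := by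
  obtain ⟨a, rfl⟩ := hY.bijective.2 a
  obtain ⟨b, rfl⟩ := hY.bijective.2 b
  have h2 : ∀ E : Y.Modules, FlatMod.IsFinLocFree E → ∀ b : SGA6.Kvb Y,
      g (φY (KRR.cl Y E) * φY b) = g (φY (KRR.cl Y E)) * g (φY b) := fun E hE => DFunLike.congr_fun
    (hom_ext_cl (g := g.comp ((AddMonoidHom.mulLeft (φY (KRR.cl Y E))).comp φY))
      (g' := (AddMonoidHom.mulLeft (g (φY (KRR.cl Y E)))).comp (g.comp φY)) fun F hF => by
        show g (φY (KRR.cl Y E) * φY (KRR.cl Y F)) = g (φY (KRR.cl Y E)) * g (φY (KRR.cl Y F))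
        rw [hY.map_mul E F hE hF, hg E hE, hg F hF, hX.map_mul _ _ (vb_pullback f hE) (vb_pullback f hF)]
        refine (hg _ (vb_tensor hE hF)).trans ?_
        exact congrArg φX (cl_iso_vb (TwTens96.pullTensIso f E F) (vb_tensor (vb_pullback f hE) (vb_pullback f hF))))
  exact DFunLike.congr_fun (hom_ext_cl (g := g.comp ((AddMonoidHom.mulRight (φY b)).comp φY))
    (g' := (AddMonoidHom.mulRight (g (φY b))).comp (g.comp φY)) fun E hE => h2 E hE b) a

/-- The inverse image preserves the unit. -/
theorem isPull_map_one (hY : KRR.IsModel Y KY PY φY) (hX : KRR.IsModel X KX PX φX)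
    (hg : KRR.IsPull f φY φX g) : g 1 = 1 := by
  have hO : FlatMod.IsFinLocFree (Coh.structureModule Y) := (vb_structure _)
  rw [← hY.map_one, hg _ hO, ← hX.map_one]
  exact congrArg φX (cl_iso_vb (PicLoc.pullbackStructureIso f) (vb_structure _))

/-- The inverse image as a ring homomorphism. -/
def pullHom (hY : KRR.IsModel Y KY PY φY) (hX : KRR.IsModel X KX PX φX)
    (hg : KRR.IsPull f φY φX g) : KY →+* KX :=
  { g with map_one' := isPull_map_one hY hX hg, map_mul' := isPull_map_mul hY hX hg }

/-- The inverse image commutes with the λ-operations. -/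
theorem isLambdaHom_pullHom (hY : KRR.IsModel Y KY PY φY) (hX : KRR.IsModel X KX PX φX)
    (hg : KRR.IsPull f φY φX g) : IsLambdaHom (pullHom hY hX hg) := by
  have hpos : ∀ e ∈ PY.pos, PowerSeries.map (pullHom hY hX hg) (lamSeries e) = lamSeries (g e) := by
    intro e he
    obtain ⟨n, E, -, hE, rfl⟩ := (hY.mem_pos_iff e).1 he
    have hE' := (vb_of_rank hE)
    haveI := Props58.LocFree.isQuasicoherent_of_isFinLocFree hE'
    ext i
    obtain ⟨L, hL⟩ := FBase64.ExtPowExists.exists_isExtPow (E := E) (p := i)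
    rw [PowerSeries.coeff_map, Lambda37.coeff_lamSeries, Lambda37.coeff_lamSeries,
      hY.map_lam i E L hE' (vb_extPow hE' hL) hL, hg E hE',
      hX.map_lam i _ _ (vb_pullback f hE') (vb_pullback f (vb_extPow hE' hL)) (Om3.isExtPow_pullback f hL)]
    exact hg L (vb_extPow hE' hL)
  intro i x
  obtain ⟨e, e', he, he', rfl⟩ := PY.exists_sub x
  have h : PowerSeries.map (pullHom hY hX hg) (lamSeries (e - e')) = lamSeries (pullHom hY hX hg (e - e')) := by
    refine (Lambda37.lamSeries_isUnit (g e')).mul_right_cancel ?_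
    rw [map_sub (pullHom hY hX hg)]
    show _ = lamSeries (g e - g e') * _
    rw [Lambda37.lamSeries_sub, ← hpos e he, ← hpos e' he', ← map_mul, Lambda37.lamSeries_sub]
  have := congrArg (PowerSeries.coeff i) h
  simpa using this

/-- The inverse image preserves the augmentation. -/
theorem isPull_aug (hY : KRR.IsModel Y KY PY φY) (hX : KRR.IsModel X KX PX φX)
    (hg : KRR.IsPull f φY φX g) (x : KY) : PX.aug (g x) = PY.aug x := by
  obtain ⟨e, e', he, he', rfl⟩ := PY.exists_sub x
  obtain ⟨n, E, -, hE, rfl⟩ := (hY.mem_pos_iff e).1 he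
  obtain ⟨m, F, -, hF, rfl⟩ := (hY.mem_pos_iff e').1 he'
  rw [map_sub, map_sub, map_sub, hg E (vb_of_rank hE), hg F (vb_of_rank hF), hY.aug_cl n E hE, hY.aug_cl m F hF,
    hX.aug_cl n _ (finLocFreeOfRank_pullback f hE), hX.aug_cl m _ (finLocFreeOfRank_pullback f hF)]

/-- A λ-homomorphism compatible with augmentations respects the γ-filtration. -/
theorem map_mem_gammaFiltration {K K' : Type v} [CommRing K] [CommRing K'] [LambdaOps K] [LambdaOps K']
    {P : PosStructure K} {P' : PosStructure K'} (h : K →+* K') (hl : IsLambdaHom h)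
    (ha : ∀ x, P'.aug (h x) = P.aug x) (n : ℕ) {x : K} (hx : x ∈ gammaFiltration P n) :
    h x ∈ gammaFiltration P' n := by
  rcases Nat.eq_zero_or_pos n with rfl | hn
  · rw [gammaFiltration, if_pos rfl]; trivial
  · rw [gammaFiltration, if_neg hn.ne'] at hx ⊢
    induction hx using AddSubgroup.closure_induction with
    | mem y hy =>
      obtain ⟨l, h1, h2, rfl⟩ := hy
      refine AddSubgroup.subset_closure ⟨l.map fun p => (p.1, h p.2), ?_, ?_, ?_⟩
      · simp only [List.mem_map]
        rintro p ⟨q, hq, rfl⟩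
        show P'.aug (h q.2) = 0
        rw [ha]; exact h1 q hq
      · rwa [List.map_map, show Prod.fst ∘ (fun p : ℕ × K => (p.1, h p.2)) = Prod.fst from rfl]
      · rw [map_list_prod, List.map_map, List.map_map]
        exact congrArg List.prod (List.map_congr_left fun p _ => Lambda37.map_gamma hl p.1 p.2)
    | zero => rw [map_zero]; exact zero_mem _
    | add a b _ _ ha' hb' => rw [map_add]; exact add_mem ha' hb'
    | neg a _ ha' => rw [map_neg]; exact neg_mem ha'

end Groth.Agent.KRR40

namespace Groth.Agent.KRR40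

variable {X Y : Scheme.{u}} [IsLocallyNoetherian X] [IsLocallyNoetherian Y]
  {KX KY : Type v} [CommRing KX] [CommRing KY] {φX : SGA6.Kvb X →+ KX} {φY : SGA6.Kvb Y →+ KY}
  [LambdaOps KX] [LambdaOps KY] {PX : PosStructure KX} {PY : PosStructure KY} {g : KY →+ KX}

/-- Along a morphism with a section, the inverse image detects the γ-filtration. -/
theorem comap_gammaFiltration_of_section {f : X ⟶ Y} (s : Y ⟶ X) (hs : s ≫ f = 𝟙 Y)
    (hY : KRR.IsModel Y KY PY φY) (hX : KRR.IsModel X KX PX φX) (hg : KRR.IsPull f φY φX g) (k : ℕ) :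
    (gammaFiltration PX k).comap g = gammaFiltration PY k := by
  let eX := AddEquiv.ofBijective φX hX.bijective
  let h : KX →+ KY := φY.comp ((pullK s).comp eX.symm.toAddMonoidHom)
  have hh : KRR.IsPull s φX φY h := fun E hE => by
    show φY (pullK s (eX.symm (eX (KRR.cl X E)))) = _
    rw [AddEquiv.symm_apply_apply, pullK_cl s hE]
  have hid : ∀ y, h (g y) = y := by
    intro y
    obtain ⟨z, rfl⟩ := hY.bijective.2 y
    refine DFunLike.congr_fun (hom_ext_cl (g := (h.comp g).comp φY) (g' := φY) fun E hE => ?_) z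
    show h (g (φY (KRR.cl Y E))) = _
    rw [hg E hE, hh _ (vb_pullback f hE)]
    exact congrArg φY (cl_iso_vb ((Scheme.Modules.pullbackComp s f).app E ≪≫
      (Scheme.Modules.pullbackCongr hs).app E ≪≫ (Scheme.Modules.pullbackId Y).app E) hE)
  ext y
  rw [AddSubgroup.mem_comap]
  constructor
  · intro hy
    have := map_mem_gammaFiltration (pullHom hX hY hh) (isLambdaHom_pullHom hX hY hh) (isPull_aug hX hY hh) k hy
    rw [show (pullHom hX hY hh) (g y) = y from hid y] at this
    exact this
  · exact map_mem_gammaFiltration (pullHom hY hX hg) (isLambdaHom_pullHom hY hX hg) (isPull_aug hY hX hg) k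

end Groth.Agent.KRR40
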