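import Groth.Agent.KRR40.ExcSect
import Groth.Agent.KRR40.ExcChart
import Groth.Agent.PB46.Chart
import Groth.Agent.HTop50.AlmostBaseChange
import Groth.Agent.FlatMor68.LocFree
import Groth.Agent.KRR40.LamPull
import Groth.Agent.QC70.ExtCoh
import Groth.Agent.Om3.DetSeq

/-!
The exceptional divisor of a blow-up of an affine scheme in a regular family is projective space over
the centre, the conormal sheaf being `O(1)`.
-/

set_option autoImplicit false
set_option backward.isDefEq.respectTransparency.types false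
set_option linter.style.haveILetI false
set_option synthInstance.maxHeartbeats 200000
set_option maxSynthPendingDepth 6

noncomputable section

universe u

open CategoryTheory CategoryTheory.Limits AlgebraicGeometry TopologicalSpace Opposite

namespace Groth.Agent.KRR40.ExcAffine

open Groth.Agent

variable {Y X Y' X₁ : Scheme.{u}} [IsAffine Y] {f : X ⟶ Y} [IsClosedImmersion f] {φ : Y' ⟶ Y}
  {f₁ : X₁ ⟶ Y'} {ψ : X₁ ⟶ X}

theorem exists_bundle {t : ℕ} {E : Y.Modules} (hE : FlatMod.IsFinLocFreeOfRank (t + 1) E) :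
    ∃ (P : Scheme.{u}) (π : P ⟶ Y) (O1 : P.Modules) (q : (Scheme.Modules.pullback π).obj E ⟶ O1),
      KRR.IsProjBundle π E O1 q := by
  have hq : Coh.IsQCoh E := Props58.LocFree.isQuasicoherent_of_isFinLocFree (KRR40.vb_of_rank hE)
  obtain ⟨𝒮, j, hj, P, π, chart, hP, O, lam, hO⟩ := EGAProj74.exists_projBundle hq
  obtain ⟨χ, hχ⟩ := EGAProj74.exists_canonical hq hj hO hP
  have hinv : PicF.IsInvertible O :=
    EGAProj74.isInvertible_of_isGenDegOne hO (EGAProj74.isGenDegOne_grSym hq hj)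
  have hG : Grass.IsGrass π E 1 O
      (((Scheme.Modules.pullbackPushforwardAdjunction π).homEquiv E O).symm χ) :=
    { rank := Mero90.isFinLocFreeOfRank_of_isInvertible hinv
      epi := EGAProj74.epi_canonical hq hj hO hχ
      univ := fun T g L hL s hs => by
        haveI := hs
        have h := EGAProj74.existsUnique_of_epi hq hj hP hO hχ g L (Cyc90.Dev.isInvertible_of_rank_one hL) s
        simpa only [Grass.quotBC, Category.assoc] using h }
  exact ⟨P, π, O, _, hG.isProjBundle⟩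

theorem exists_chart {t : ℕ} (a : Fin (t + 1) → Γ(Y, ⊤))
    (hI : f.ker.ideal ⟨⊤, isAffineOpen_top Y⟩ = Ideal.span (Set.range a)) (hkr : Koszul19.KR (List.ofFn a))
    (hb : BlowUp.IsBlowUp φ f.ker) (sq : IsPullback f₁ ψ φ f) :
    ∃ χ : KRR.PY t X ⟶ X₁, IsIso χ ∧ χ ≫ ψ = KRR.pr t X ∧
      Nonempty ((Scheme.Modules.pullback χ).obj (Omega.conormal f₁) ≅ Twist.twistOver t X 1) := by
  haveI : IsAffine X := isAffine_of_isAffineHom f
  let hU : IsAffineOpen (⊤ : Y.Opens) := isAffineOpen_top Y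
  obtain ⟨u, bs, hbs, hu⟩ := ExcSect.exists_cosection a
  let E := FlatMod.freeMod Y (t + 1)
  have hv : FlatMod.IsFinLocFree E := QC70.isFinLocFree_freeMod Y (t + 1)
  haveI : E.IsQuasicoherent := Props58.LocFree.isQuasicoherent_of_isFinLocFree hv
  obtain ⟨iE⟩ := FlatMor68.LocFree.restrict_iso_free E hU _ bs.equivFun
  have hE : FlatMod.IsFinLocFreeOfRank (t + 1) E := fun x => ⟨⊤, trivial, ⟨iE⟩⟩
  obtain ⟨P, π, O1, q, hPB⟩ := exists_bundle hE
  obtain ⟨s, hs, hsι⟩ := ExcSect.exists_epi a φ f.ker hI u bs hbs hu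
  have hL : FlatMod.IsFinLocFreeOfRank 1 (ClSub.idealMod (f.ker.comap φ)) :=
    Mero90.isFinLocFreeOfRank_of_isInvertible ((Curves2.isInvertible_idealMod_iff _).2 hb.1)
  obtain ⟨j, ⟨hjπ, e, he⟩, -⟩ := hPB.univ Y' φ _ hL s hs
  let θ₀ : (Scheme.Modules.pullback j).obj O1 ⟶ Coh.structureModule Y' :=
    e.hom ≫ ClSub.idealModι (f.ker.comap φ)
  have hc : RegImm10.BundleBlow.Compat hjπ q u θ₀ := by
    simp only [RegImm10.BundleBlow.Compat, Om3.EulerLift.comp, θ₀, Category.assoc]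
    rw [← hsι, ← he]
    simp only [Category.assoc]
  have hI' : f.ker.ideal ⟨⊤, hU⟩ = Ideal.span (Set.range fun k => RegImm10.BundleBlow.val u ⊤ (bs k)) := by
    simpa only [hu] using hI
  have hkr' : Koszul19.KR (List.ofFn fun k => RegImm10.BundleBlow.val u ⊤ (bs k)) := by
    simpa only [hu] using hkr
  have hJ : ∀ U : Y.affineOpens, f.ker.ideal U = @Ideal.span Γ(Y, U.1) _
      (Set.range fun s : E.val.obj (op U.1) => ((u.val.app (op U.1)).hom s : Γ(Y, U.1))) := by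
    intro U
    rw [← f.ker.map_ideal (U := U) (V := ⟨⊤, hU⟩) (show U ≤ ⟨⊤, hU⟩ from (le_top : U.1 ≤ ⊤)), hI', Ideal.map_span, ← Set.range_comp]
    obtain ⟨b', hb'⟩ := Om3.DetSeq.exists_basis_res (W := ⟨⊤, hU⟩) bs (le_top : U.1 ≤ ⊤)
    refine le_antisymm (Ideal.span_le.2 ?_) (Ideal.span_le.2 ?_)
    · rintro _ ⟨k, rfl⟩
      refine Ideal.subset_span ⟨b' k, ?_⟩
      show OmegaSh.fnSect Y U.1 (u.app U.1 (b' k)) = _
      rw [hb' k, QC70.app_res]
      rfl
    · rintro _ ⟨m, rfl⟩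
      show OmegaSh.fnSect Y U.1 (u.app U.1 m) ∈ _
      rw [← b'.sum_repr m, map_sum, map_sum]
      refine Ideal.sum_mem _ fun k _ => ?_
      rw [Scheme.Modules.Hom.app_smul]
      refine Ideal.mul_mem_left _ _ (Ideal.subset_span ⟨k, ?_⟩)
      rw [hb' k, QC70.app_res]
      rfl
  haveI : IsClosedImmersion j := ((RegImm10.BundleBlow.result_main hjπ hv (fun x =>
    ⟨⟨⊤, hU⟩, trivial, t + 1, bs, (Koszul19.kR_iff _).1 hkr'⟩) hJ hPB hc hb).1).1
  haveI := ExcChart.isIso_lift hjπ bs hPB hc hb sq hI' hkr'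
  let L : X₁ ⟶ pullback π f := pullback.lift (f₁ ≫ j) ψ (by rw [Category.assoc, hjπ, sq.w])
  -- the bundle over the centre
  let ht : IsAffineOpen (⊤ : X.Opens) := isAffineOpen_top X
  let c := ht.fromSpec
  haveI : IsIso c := by simp only [c, IsAffineOpen.fromSpec_top]; infer_instance
  obtain ⟨j₀, hj₀, ⟨σ⟩⟩ := PB46.exists_cart hE hPB (A := Γ(X, ⊤)) (c ≫ f) (U := ⊤) (fun _ _ => trivial) iE
  let a₀ := KRR40.affPn t X ht
  have ha := KRR40.isPullback_affPn t X ht
  haveI : IsIso a₀ := ha.isIso_fst_of_isIso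
  obtain ⟨τ⟩ := KRR40.nonempty_pullback_affPn_twist t X ht 1
  let G := inv a₀ ≫ j₀
  have hG : IsPullback G (KRR.pr t X) π f := by
    refine IsPullback.of_iso hj₀ (@asIso _ _ _ _ a₀ ‹IsIso a₀›) (Iso.refl _) (@asIso _ _ _ _ c ‹IsIso c›) (Iso.refl _) ?_ ?_ ?_ ?_
    · exact (IsIso.hom_inv_id_assoc a₀ j₀).symm
    · exact ha.w.symm
    · simp
    · exact Category.comp_id _
  let χ := hG.isoPullback.hom ≫ inv L
  have h1 : χ ≫ f₁ ≫ j = G := by
    have : L ≫ pullback.fst π f = f₁ ≫ j := pullback.lift_fst _ _ _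
    rw [← this, Category.assoc, IsIso.inv_hom_id_assoc, hG.isoPullback_hom_fst]
  have h2 : χ ≫ ψ = KRR.pr t X := by
    have : L ≫ pullback.snd π f = ψ := pullback.lift_snd _ _ _
    rw [← this, Category.assoc, IsIso.inv_hom_id_assoc, hG.isoPullback_hom_snd]
  have hker : f₁.ker = f.ker.comap φ := HTop50.ker_of_isPullback sq.flip
  refine ⟨χ, inferInstance, h2, ⟨?_⟩⟩
  let eC : Omega.conormal f₁ ≅ (Scheme.Modules.pullback f₁).obj ((Scheme.Modules.pullback j).obj O1) :=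
    (Scheme.Modules.pullback f₁).mapIso (eqToIso (congrArg ClSub.idealMod hker) ≪≫ e.symm)
  exact (Scheme.Modules.pullback χ).mapIso (eC ≪≫ (Scheme.Modules.pullbackComp f₁ j).app O1) ≪≫
    (Scheme.Modules.pullbackComp χ (f₁ ≫ j)).app O1 ≪≫ (Scheme.Modules.pullbackCongr h1).app O1 ≪≫
    ((Scheme.Modules.pullbackComp (inv a₀) j₀).app O1).symm ≪≫
    (Scheme.Modules.pullback (inv a₀)).mapIso (σ ≪≫ τ.symm) ≪≫
    (Scheme.Modules.pullbackComp (inv a₀) a₀).app _ ≪≫
    (Scheme.Modules.pullbackCongr (IsIso.inv_hom_id a₀)).app _ ≪≫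
    (Scheme.Modules.pullbackId _).app _

end Groth.Agent.KRR40.ExcAffine
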