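import Groth.Agent.KRR40.Model
import Groth.Agent.LC15.KoszExact
import Groth.Agent.CAlg9.CIT.Spread
import Groth.Agent.EGA4Alg4.QuasiReg
import Groth.Agent.RR50.Rees
import Groth.Agent.Om3.Intersection
import Groth.Agent.CAlg8.Canon.Basic
import Groth.Agent.Div89.Basic

/-!
A cosection cutting out a regularly immersed closed subscheme of the codimension equal to the rank has,
near every point, a basis with weakly regular values, or with a unit value.
-/

set_option autoImplicit false
set_option backward.isDefEq.respectTransparency false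
set_option linter.style.haveILetI false

noncomputable section

universe u

open CategoryTheory CategoryTheory.Limits AlgebraicGeometry TopologicalSpace Opposite
open RingTheory.Sequence

namespace Groth.Agent.KRR40.KoszChart

open Groth.Agent QC70 CAlg9.CIT

section alg

variable {A : Type u} [CommRing A]

/-- Weak regularity at all the primes of a basic open gives weak regularity over the localisation. -/
theorem isWeaklyRegular_away [IsNoetherianRing A] (s : A) (gs : List A)
    (h : ∀ (P : Ideal A) [P.IsPrime], s ∉ P →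
      IsWeaklyRegular (Localization.AtPrime P) (gs.map (algebraMap A (Localization.AtPrime P))))
    (B : Type u) [CommRing B] [Algebra A B] [IsLocalization.Away s B] :
    IsWeaklyRegular B (gs.map (algebraMap A B)) := by
  rw [isWeaklyRegular_iff_elem]
  intro i x hx
  have hi : (i : ℕ) < gs.length := by simpa using i.2
  let J : Ideal A := Ideal.ofList (gs.take i)
  have hJ : Ideal.ofList ((gs.map (algebraMap A B)).take i) = J.map (algebraMap A B) := by
    rw [Ideal.map_ofList, List.map_take]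
  rw [hJ] at hx ⊢
  obtain ⟨⟨a, u⟩, hau⟩ := IsLocalization.surj (Submonoid.powers s) x
  have hx' : algebraMap A B (gs[(i : ℕ)] * a) ∈ J.map (algebraMap A B) := by
    rw [map_mul, ← hau, ← mul_assoc]
    refine Ideal.mul_mem_right _ _ ?_
    simpa using hx
  rw [← Ideal.unit_mul_mem_iff_mem _ (IsLocalization.map_units B u), mul_comm, hau]
  rw [IsLocalization.algebraMap_mem_map_algebraMap_iff (Submonoid.powers s)] at hx' ⊢
  obtain ⟨m, hm, hma⟩ := hx'
  obtain ⟨k, rfl⟩ := hm
  let K : Ideal A := Submodule.comap (LinearMap.mulRight A a) J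
  have hrad : s ∈ K.radical := by
    rw [Ideal.radical_eq_sInf, Submodule.mem_sInf]
    rintro P ⟨hKP, hP⟩
    by_contra hsP
    haveI := hP
    have h1 := (isWeaklyRegular_iff_elem _).1 (h P hsP) ⟨i, by simpa using hi⟩
      (algebraMap A (Localization.AtPrime P) a) ?_
    · rw [← List.map_take, ← Ideal.map_ofList, algebraMap_mem_map_iff] at h1
      obtain ⟨t, ht, hta⟩ := h1
      exact ht (hKP (show t * a ∈ J from hta))
    · rw [← List.map_take, ← Ideal.map_ofList]
      simp only [Fin.getElem_fin, List.getElem_map]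
      rw [← map_mul, algebraMap_mem_map_iff]
      exact ⟨s ^ k, fun hmem => hsP (hP.mem_of_pow_mem k hmem), hma⟩
  obtain ⟨N, hN⟩ := hrad
  exact ⟨s ^ N, ⟨N, rfl⟩, hN⟩

/-- In a Noetherian local ring, a family inside the maximal ideal generating the same ideal as a weakly
regular family of the same size is weakly regular. -/
theorem isWeaklyRegular_of_span_eq [IsNoetherianRing A] [IsLocalRing A] {c : ℕ} (g f : Fin c → A)
    (hg : IsWeaklyRegular A (List.ofFn g)) (hgf : Ideal.span (Set.range g) = Ideal.span (Set.range f))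
    (hf : ∀ k, f k ∈ IsLocalRing.maximalIdeal A) : IsWeaklyRegular A (List.ofFn f) :=
  EGA4Alg4.isWeaklyRegular_of_isQuasiRegular c A f
    (fun k => by rw [Ring.jacobson_eq_sInf_isMaximal, Submodule.mem_sInf]
                 intro M hM
                 rw [IsLocalRing.eq_maximalIdeal hM]
                 exact hf k)
    (RR50.isQuasiRegular_of_span_eq g f (EGA4Alg4.isQuasiRegular_of_isWeaklyRegular c g hg) hgf)

end alg

variable {Y : Scheme.{u}} {E : Y.Modules} {s : E ⟶ Coh.structureModule Y}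

theorem span_values_eq {n : ℕ} (U : Y.affineOpens) (b : Module.Basis (Fin n) Γ(Y, U.1) Γ(E, U.1)) :
    Ideal.span {a : Γ(Y, U.1) | ∃ e : Γ(E, U.1), (s.app U.1) e = a} =
      Ideal.span (Set.range fun k => KoszSh.secForm s U.1 (b k)) := by
  refine le_antisymm (Ideal.span_le.2 ?_) (Ideal.span_le.2 ?_)
  · rintro _ ⟨e, rfl⟩
    show KoszSh.secForm s U.1 e ∈ _
    rw [← b.sum_repr e, map_sum]
    exact Ideal.sum_mem _ fun k _ => by
      rw [map_smul, smul_eq_mul]
      exact Ideal.mul_mem_left _ _ (Ideal.subset_span ⟨k, rfl⟩)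
  · rintro _ ⟨k, rfl⟩
    exact Ideal.subset_span ⟨b k, rfl⟩

variable {X : Scheme.{u}} (i : X ⟶ Y) [IsClosedImmersion i]

/-- Rank of the conormal module and length of a regular sequence generating the ideal agree. -/
theorem length_eq {d : ℕ} (hci : FlatMod.IsFinLocFreeOfRank d (Omega.conormal i)) {W : Y.affineOpens} {x : X}
    (hx : i x ∈ W.1) {c : ℕ} (g : Fin c → Γ(Y, W.1)) (hg : IsWeaklyRegular Γ(Y, W.1) (List.ofFn g))
    (hI : Ideal.span (Set.range g) = i.ker.ideal W) : c = d := by
  haveI := CAlg8.Canon.qcoh_conormal i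
  have hP : IsAffineOpen (i ⁻¹ᵁ W.1) := W.2.preimage i
  obtain ⟨b⟩ := Om3.exists_basis_conormal i W.2 hP (i.app_surjective W.1 W.2) g
    (Koszul19.kR_of_isWeaklyRegular _ hg) (hI.trans (Scheme.Hom.ker_apply i W))
  obtain ⟨e⟩ := FlatMor68.LocFree.restrict_iso_free _ hP _ b.equivFun
  obtain ⟨t, ht⟩ := Props58.LocFree.exists_stalkBasis_of_iso e
  let φ : (Fin c → X.presheaf.stalk x) →ₗ[X.presheaf.stalk x] (Omega.conormal i).presheaf.stalk x :=
    Fintype.linearCombination (X.presheaf.stalk x) fun j => QC70.germM (Omega.conormal i) (i ⁻¹ᵁ W.1) x hx (t j)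
  have hφ : Function.Bijective φ := by
    refine (congrArg Function.Bijective (funext fun a => ?_)).mp (ht x hx)
    simp [φ, Fintype.linearCombination_apply, Props58.LocFree.germComb]
  have h := (LinearEquiv.ofBijective φ hφ).finrank_eq
  rw [Module.finrank_fin_fun] at h
  exact h.trans (KRR40.rkAt_eq x hci)

/-- The chart. -/
theorem exists_chart [IsLocallyNoetherian Y] {d : ℕ} (hE : FlatMod.IsFinLocFreeOfRank d E)
    (ht : ∀ U : Y.affineOpens, i.ker.ideal U = Ideal.span {a : Γ(Y, U.1) | ∃ e : Γ(E, U.1), (s.app U.1) e = a})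
    (hi : Mor2.IsRegularClosedImmersion i) (hci : FlatMod.IsFinLocFreeOfRank d (Omega.conormal i)) (y : Y) :
    ∃ U : Y.affineOpens, y ∈ U.1 ∧ ∃ b : Module.Basis (Fin d) Γ(Y, U.1) Γ(E, U.1),
      IsWeaklyRegular Γ(Y, U.1) (List.ofFn fun k => KoszSh.secForm s U.1 (b k)) ∨
        ∃ k, IsUnit (KoszSh.secForm s U.1 (b k)) := by
  haveI : E.IsQuasicoherent := Props58.LocFree.isQuasicoherent_of_isFinLocFree (KRR40.vb_of_rank hE)
  obtain ⟨V, hyV, hV⟩ := Om3.DetSeq.exists_basis hE y
  by_cases hy : y ∈ Set.range i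
  · obtain ⟨x, rfl⟩ := hy
    obtain ⟨U₁, hU₁, hyU₁, rs, hrs, hker⟩ := hi.2 x
    obtain ⟨f, hfV, hyf⟩ := hU₁.exists_basicOpen_le (V := V) ⟨i x, hyV⟩ hyU₁
    let W : Y.affineOpens := ⟨Y.basicOpen f, hU₁.basicOpen f⟩
    obtain ⟨b⟩ := hV W.1 hfV
    haveI := hU₁.isLocalization_basicOpen f
    let g : Fin rs.length → Γ(Y, W.1) := fun k => algebraMap Γ(Y, U₁) Γ(Y, Y.basicOpen f) (rs.get k)
    have hg : IsWeaklyRegular Γ(Y, W.1) (List.ofFn g) := by
      have h := hrs.toIsWeaklyRegular.of_isLocalization Γ(Y, Y.basicOpen f) (Submonoid.powers f)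
      rw [← List.ofFn_get rs, List.map_ofFn] at h
      exact h
    have hgI : Ideal.span (Set.range g) = i.ker.ideal W := by
      rw [← Scheme.IdealSheafData.map_ideal (U := W) (V := ⟨U₁, hU₁⟩) i.ker (Y.basicOpen_le f), hker,
        Ideal.ofList, Ideal.map_span]
      refine congrArg Ideal.span ?_
      ext a
      constructor
      · rintro ⟨k, rfl⟩
        exact ⟨rs.get k, List.get_mem rs k, rfl⟩
      · rintro ⟨r, hr, rfl⟩
        obtain ⟨k, rfl⟩ := List.get_of_mem hr
        exact ⟨k, rfl⟩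
    obtain rfl : rs.length = d := length_eq i hci (W := W) hyf g hg hgI
    let v : Fin rs.length → Γ(Y, W.1) := fun k => KoszSh.secForm s W.1 (b k)
    have hgv : Ideal.span (Set.range g) = Ideal.span (Set.range v) := by
      rw [hgI, ht W, span_values_eq W b]
    haveI : IsNoetherianRing Γ(Y, W.1) := IsLocallyNoetherian.component_noetherian W
    let q : Ideal Γ(Y, W.1) := (W.2.primeIdealOf ⟨i x, hyf⟩).asIdeal
    have hvq : ∀ k, v k ∈ q := by
      intro k
      have hmem : v k ∈ i.ker.ideal W := by rw [← hgI, hgv]; exact Ideal.subset_span ⟨k, rfl⟩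
      rw [Scheme.Hom.ker_apply, RingHom.mem_ker] at hmem
      by_contra hk
      letI := Div89.stalkAlg W.1 (i x) hyf
      have hu : IsUnit (Y.presheaf.germ W.1 (i x) hyf (v k)) :=
        (Div89.germ_isUnit_iff W (i x) hyf (v k)).2 hk
      have hu' := hu.map (i.stalkMap x).hom
      rw [show (i.stalkMap x).hom (Y.presheaf.germ W.1 (i x) hyf (v k)) = 0 by
        rw [← CommRingCat.comp_apply, Scheme.Hom.germ_stalkMap, CommRingCat.comp_apply, hmem, map_zero]] at hu'
      exact not_isUnit_zero hu'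
    have hreg : IsWeaklyRegular (Localization.AtPrime q)
        ((List.ofFn v).map (algebraMap Γ(Y, W.1) (Localization.AtPrime q))) := by
      have h := hg.of_isLocalization (Localization.AtPrime q) q.primeCompl
      rw [List.map_ofFn] at h ⊢
      refine isWeaklyRegular_of_span_eq _ _ h ?_ fun k => ?_
      · simp only [Set.range_comp, ← Ideal.map_span, hgv]
      · rw [← Localization.AtPrime.map_eq_maximalIdeal]
        exact Ideal.mem_map_of_mem _ (hvq k)
    obtain ⟨t, htq, ht'⟩ := exists_spread_regular q (List.ofFn v) hreg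
    have hyt : i x ∈ Y.basicOpen t :=
      (Y.mem_basicOpen t (i x) hyf).2 ((Div89.germ_isUnit_iff W (i x) hyf t).2 htq)
    refine ⟨⟨Y.basicOpen t, W.2.basicOpen t⟩, hyt, ?_⟩
    obtain ⟨b', hb'⟩ := Om3.DetSeq.exists_basis_res (W := W) b (Y.basicOpen_le t)
    haveI := W.2.isLocalization_basicOpen t
    refine ⟨b', Or.inl ?_⟩
    have h := isWeaklyRegular_away t (List.ofFn v) ht' Γ(Y, Y.basicOpen t)
    rw [List.map_ofFn] at h
    refine (congrArg (fun l => IsWeaklyRegular Γ(Y, Y.basicOpen t) (List.ofFn l)) (funext fun k => ?_)).mp h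
    rw [hb' k, LC15.KoszExact.secForm_res]
    rfl
  · have hopen : IsOpen (Set.range i)ᶜ := i.isClosedEmbedding.isClosed_range.isOpen_compl
    obtain ⟨W, hW, hyW, hle⟩ := exists_isAffineOpen_mem_and_subset (x := y) (U := V ⊓ ⟨_, hopen⟩) ⟨hyV, hy⟩
    obtain ⟨b⟩ := hV W fun z hz => (hle hz).1
    have htop : i.ker.ideal ⟨W, hW⟩ = ⊤ := by
      have hbot : i ⁻¹ᵁ W = ⊥ := by
        ext z
        exact ⟨fun h => ((hle h).2 ⟨z, rfl⟩).elim, fun h => h.elim⟩
      have : Subsingleton Γ(X, i ⁻¹ᵁ W) := hbot ▸ inferInstance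
      rw [Scheme.Hom.ker_apply, Ideal.eq_top_iff_one, RingHom.mem_ker]
      exact Subsingleton.elim _ _
    have hspan : Ideal.span (Set.range fun k => KoszSh.secForm s W (b k)) = ⊤ := by
      rw [← span_values_eq ⟨W, hW⟩ b, ← ht, htop]
    obtain ⟨k, hk⟩ : ∃ k, KoszSh.secForm s W (b k) ∉ (hW.primeIdealOf ⟨y, hyW⟩).asIdeal := by
      by_contra! h
      exact (hW.primeIdealOf ⟨y, hyW⟩).isPrime.ne_top (top_le_iff.1 (hspan ▸ Ideal.span_le.2 (Set.range_subset_iff.2 h)))
    have hyt : y ∈ Y.basicOpen (KoszSh.secForm s W (b k)) :=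
      (Y.mem_basicOpen _ y hyW).2 ((Div89.germ_isUnit_iff ⟨W, hW⟩ y hyW _).2 hk)
    obtain ⟨b', hb'⟩ := Om3.DetSeq.exists_basis_res (W := ⟨W, hW⟩) b (Y.basicOpen_le (KoszSh.secForm s W (b k)))
    refine ⟨⟨_, hW.basicOpen (KoszSh.secForm s W (b k))⟩, hyt, b', Or.inr ⟨k, ?_⟩⟩
    rw [hb' k, LC15.KoszExact.secForm_res]
    exact RingedSpace.isUnit_res_basicOpen _ _

end Groth.Agent.KRR40.KoszChart
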