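import Groth.Agent.KRR40.ExcAffine
import Groth.Agent.KRR40.KoszChart
import Groth.Agent.PB46.Free
import Groth.Agent.Om3.ConormalCart

/-!
The exceptional divisor of a blow-up in a regularly immersed centre as the projective bundle of the conormal
sheaf, in the form used for computing its K-group.
-/

set_option autoImplicit false
set_option backward.isDefEq.respectTransparency.types false
set_option linter.style.haveILetI false
set_option synthInstance.maxHeartbeats 200000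
set_option maxSynthPendingDepth 6

noncomputable section

universe u

open CategoryTheory CategoryTheory.Limits AlgebraicGeometry TopologicalSpace Opposite

namespace Groth.Agent.KRR40.ExcBundle

open Groth.Agent

/-- Conormal sheaves restrict to opens. -/
theorem nonempty_conormal_iso {Z X Z' X' : Scheme.{u}} {i : Z ⟶ X} {i' : Z' ⟶ X'} {gZ : Z ⟶ Z'} {g : X ⟶ X'}
    [IsClosedImmersion i] [IsClosedImmersion i'] [IsOpenImmersion g] (sq : IsPullback i gZ g i') :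
    Nonempty ((Scheme.Modules.pullback gZ).obj (Omega.conormal i') ≅ Omega.conormal i) := by
  obtain ⟨χ, hχ, -⟩ := Om3.existsUnique_conormalMap (sq.w.symm : gZ ≫ i' = i ≫ g)
  haveI : IsIso χ := (Om3.epi_and_isIso sq hχ).2 inferInstance
  exact ⟨asIso χ⟩

variable {X Y X₁ Y₁ : Scheme.{u}} [IsLocallyNoetherian Y] {f : X ⟶ Y} {φ : Y₁ ⟶ Y} {f₁ : X₁ ⟶ Y₁} {ψ : X₁ ⟶ X}

theorem hasCharts (hf : Mor2.IsRegularClosedImmersion f) {t : ℕ}
    (hC : FlatMod.IsFinLocFreeOfRank (t + 1) (Omega.conormal f)) (hφ : BlowUp.IsBlowUp φ f.ker)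
    (sq : IsPullback f₁ ψ φ f) [IsClosedImmersion f₁] :
    PB46.HasCharts t ψ (Omega.conormal f₁) := by
  haveI := hf.1
  intro W x hx
  obtain ⟨O, hO, hOW⟩ := f.isClosedEmbedding.isInducing.isOpen_iff.1 W.2
  obtain ⟨U₁, hU₁, hxU₁, rs, hrs, hker⟩ := hf.2 x
  obtain ⟨g, hgO, hxg⟩ := hU₁.exists_basicOpen_le (V := (⟨O, hO⟩ : Y.Opens))
    ⟨f x, show f x ∈ O by rw [← Set.mem_preimage, hOW]; exact hx⟩ hxU₁
  let U : Y.Opens := Y.basicOpen g
  have hU : IsAffineOpen U := hU₁.basicOpen g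
  haveI := hU₁.isLocalization_basicOpen g
  let rU : Fin rs.length → Γ(Y, U) := fun k => algebraMap Γ(Y, U₁) Γ(Y, Y.basicOpen g) (rs.get k)
  have hrU : RingTheory.Sequence.IsWeaklyRegular Γ(Y, U) (List.ofFn rU) := by
    have h := hrs.toIsWeaklyRegular.of_isLocalization Γ(Y, Y.basicOpen g) (Submonoid.powers g)
    rw [← List.ofFn_get rs, List.map_ofFn] at h
    exact h
  have hrI : Ideal.span (Set.range rU) = f.ker.ideal ⟨U, hU⟩ := by
    rw [← Scheme.IdealSheafData.map_ideal (U := ⟨U, hU⟩) (V := ⟨U₁, hU₁⟩) f.ker (Y.basicOpen_le g), hker,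
      Ideal.ofList, Ideal.map_span]
    refine congrArg Ideal.span ?_
    ext a
    constructor
    · rintro ⟨k, rfl⟩
      exact ⟨rs.get k, List.get_mem rs k, rfl⟩
    · rintro ⟨r, hr, rfl⟩
      obtain ⟨k, rfl⟩ := List.get_of_mem hr
      exact ⟨k, rfl⟩
  have hlen : rs.length = t + 1 := KRR40.KoszChart.length_eq f hC (W := ⟨U, hU⟩) hxg rU hrU hrI
  haveI : IsAffine (U : Scheme.{u}) := hU
  let a : Fin (t + 1) → Γ((U : Scheme.{u}), ⊤) := fun k => U.topIso.inv (rU (Fin.cast hlen.symm k))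
  have sqf := (isPullback_morphismRestrict f U).flip
  have hker' : (f ∣_ U).ker = f.ker.comap U.ι := HTop50.ker_of_isPullback sqf
  have hI : (f ∣_ U).ker.ideal ⟨⊤, isAffineOpen_top (U : Scheme.{u})⟩ = Ideal.span (Set.range a) := by
    rw [hker', MP99.ideal_comap f.ker U.ι ⟨U, hU⟩ ⟨⊤, isAffineOpen_top (U : Scheme.{u})⟩ (by simp), ← hrI,
      Ideal.map_span, ← Set.range_comp]
    refine congrArg Ideal.span ?_
    rw [← (Fin.castOrderIso hlen.symm).surjective.range_comp]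
    refine congrArg Set.range (funext fun k => ?_)
    show U.ι.appLE U ⊤ _ (rU _) = U.topIso.inv (rU _)
    simp [Scheme.Opens.ι_appLE, Scheme.Opens.topIso_inv]
    rfl
  have hkr : Koszul19.KR (List.ofFn a) := by
    have h := RegImm10.BundleBlow.kR_ringEquiv U.topIso.symm.commRingCatIsoToRingEquiv
      (Koszul19.kR_of_isWeaklyRegular _ hrU)
    rw [List.map_ofFn, List.ofFn_congr hlen] at h
    exact h
  haveI : IsClosedImmersion (f ∣_ U) := IsZariskiLocalAtTarget.restrict ‹_› U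
  have hb : BlowUp.IsBlowUp (φ ∣_ U) (f ∣_ U).ker := hker' ▸ RegImm10.BlowModel.isBlowUp_morphismRestrict hφ U
  have sZ := IsPullback.of_hasPullback (φ ∣_ U) (f ∣_ U)
  haveI : IsClosedImmersion (pullback.fst (φ ∣_ U) (f ∣_ U)) :=
    MorphismProperty.of_isPullback sZ.flip inferInstance
  obtain ⟨χ, hχ, hχp, ⟨eO⟩⟩ := ExcAffine.exists_chart a hI hkr hb sZ
  haveI := hχ
  have sφ := (isPullback_morphismRestrict φ U).flip
  have big : IsPullback (pullback.fst (φ ∣_ U) (f ∣_ U) ≫ (φ ⁻¹ᵁ U).ι) (pullback.snd (φ ∣_ U) (f ∣_ U)) φ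
      ((f ⁻¹ᵁ U).ι ≫ f) := by
    rw [← morphismRestrict_ι]
    exact sZ.paste_horiz sφ
  let m : pullback (φ ∣_ U) (f ∣_ U) ⟶ X₁ := sq.lift
    (pullback.fst (φ ∣_ U) (f ∣_ U) ≫ (φ ⁻¹ᵁ U).ι) (pullback.snd (φ ∣_ U) (f ∣_ U) ≫ (f ⁻¹ᵁ U).ι)
    (by rw [big.w, Category.assoc])
  have hm₁ : m ≫ f₁ = pullback.fst (φ ∣_ U) (f ∣_ U) ≫ (φ ⁻¹ᵁ U).ι := sq.lift_fst _ _ _
  have hm₂ : m ≫ ψ = pullback.snd (φ ∣_ U) (f ∣_ U) ≫ (f ⁻¹ᵁ U).ι := sq.lift_snd _ _ _
  have sm : IsPullback m (pullback.snd (φ ∣_ U) (f ∣_ U)) ψ (f ⁻¹ᵁ U).ι :=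
    IsPullback.of_right (hm₁.symm ▸ big) hm₂ sq
  haveI : IsOpenImmersion (φ ⁻¹ᵁ U).ι := inferInstance
  have sc : IsPullback (pullback.fst (φ ∣_ U) (f ∣_ U)) m (φ ⁻¹ᵁ U).ι f₁ := by
    have h := sm.flip.paste_horiz (isPullback_morphismRestrict f U)
    rw [← sZ.w, ← sq.w] at h
    exact IsPullback.of_right h hm₁.symm (isPullback_morphismRestrict φ U)
  obtain ⟨eC⟩ := nonempty_conormal_iso sc
  refine ⟨f ⁻¹ᵁ U, hU.preimage f, hxg, fun z hz => ?_, χ ≫ m, ?_, ⟨?_⟩⟩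
  · have : z ∈ f ⁻¹' O := hgO hz
    rwa [hOW] at this
  · exact IsPullback.of_iso sm (asIso χ).symm (Iso.refl _) (Iso.refl _) (Iso.refl _)
      (by simp) (by simp [← hχp]) (by simp) (by simp)
  · exact ((Scheme.Modules.pullbackComp χ m).app _).symm ≪≫ (Scheme.Modules.pullback χ).mapIso eC ≪≫ eO

/-- The exceptional divisor as a bundle. -/
theorem exists_taut (hf : Mor2.IsRegularClosedImmersion f) {t : ℕ}
    (hC : FlatMod.IsFinLocFreeOfRank (t + 1) (Omega.conormal f)) (hφ : BlowUp.IsBlowUp φ f.ker)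
    (sq : IsPullback f₁ ψ φ f) [IsClosedImmersion f₁]
    (hC₁ : FlatMod.IsFinLocFreeOfRank 1 (Omega.conormal f₁)) :
    ∃ (Oi : X₁.Modules) (hinv : ClSub.IsInverseOf Oi (Omega.conormal f₁))
      (q : (Scheme.Modules.pullback ψ).obj (Omega.conormal f) ⟶ Omega.conormal f₁), Epi q ∧
      PB46.HasCharts t ψ (Omega.conormal f₁) := by
  haveI := hf.1
  obtain ⟨Oi, -, hinv⟩ := An92.InvMod.exists_inverse (Cyc90.Dev.isInvertible_of_rank_one hC₁)
  obtain ⟨χ, hχ, -⟩ := Om3.existsUnique_conormalMap (sq.w.symm : ψ ≫ f = f₁ ≫ φ)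
  exact ⟨Oi, hinv, χ, (Om3.epi_and_isIso sq hχ).1, hasCharts hf hC hφ sq⟩

end Groth.Agent.KRR40.ExcBundle
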