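import Groth.Agent.RegImm10.BundleBlow
import Groth.Agent.LC15.KoszCopiesSheaf
import Groth.Agent.Crv77.IdealSeq
import Groth.Agent.MP99.Basic
import Groth.Agent.Curves2.IdealFrame
import Groth.Agent.EGAProj74.TildeRows

/-!
A family of generators of the centre of a blow-up as a quotient of a free module onto the ideal of the
exceptional divisor.
-/

set_option autoImplicit false
set_option backward.isDefEq.respectTransparency.types false
set_option linter.style.haveILetI false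

noncomputable section

universe u

open CategoryTheory CategoryTheory.Limits AlgebraicGeometry TopologicalSpace Opposite

namespace Groth.Agent.KRR40.ExcSect

open Groth.Agent QC70

variable {X : Scheme.{u}}

theorem hom_ext_one {M : X.Modules} (α β : Coh.structureModule X ⟶ M)
    (h : α.app ⊤ (OmegaSh.strSect X ⊤ 1) = β.app ⊤ (OmegaSh.strSect X ⊤ 1)) : α = β := by
  refine Scheme.Modules.hom_ext _ _ fun U => ?_
  ext m
  have key : ∀ γ : Coh.structureModule X ⟶ M, γ.app U m =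
      (OmegaSh.fnSect X U m : Γ(X, U)) • res M le_top (γ.app ⊤ (OmegaSh.strSect X ⊤ 1)) := fun γ => by
    rw [← QC70.app_res, ← Scheme.Modules.Hom.app_smul]
    refine congrArg (γ.app U) ?_
    show (m : Γ(X, U)) = (OmegaSh.fnSect X U m : Γ(X, U)) * X.presheaf.map _ (1 : Γ(X, ⊤))
    rw [map_one]
    exact (mul_one (OmegaSh.fnSect X U m)).symm
  rw [key α, key β, h]

variable {t : ℕ} (a : Fin t → Γ(X, ⊤))

/-- The cosection of a free module with the given values. -/
theorem exists_cosection : ∃ u : FlatMod.freeMod X t ⟶ Coh.structureModule X,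
    ∃ b : Module.Basis (Fin t) Γ(X, ⊤) Γ(FlatMod.freeMod X t, ⊤),
      (∀ k, b k = (Sigma.ι (fun _ : Fin t => Coh.structureModule X) k).app ⊤ (OmegaSh.strSect X ⊤ 1)) ∧
      ∀ k, RegImm10.BundleBlow.val u ⊤ (b k) = a k := by
  let α : Fin t → (Coh.structureModule X ⟶ Coh.structureModule X) := fun k =>
    (SheafOfModules.unit X.ringCatSheaf).unitHomEquiv.symm
      (PresheafOfModules.sectionsMk (fun U => X.presheaf.map (homOfLE le_top : U.unop ⟶ ⊤).op (a k))
        fun U V g => by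
          show X.presheaf.map g (X.presheaf.map _ (a k)) = _
          rw [← CommRingCat.comp_apply, ← X.presheaf.map_comp]
          rfl)
  obtain ⟨b, hb⟩ := LC15.KoszCopiesSheaf.exists_free_basis (X := X) t ⊤
  refine ⟨Sigma.desc α, b, hb, fun k => ?_⟩
  rw [hb k]
  show OmegaSh.fnSect X ⊤ ((Sigma.ι (fun _ : Fin t => Coh.structureModule X) k ≫ Sigma.desc α).app ⊤
    (OmegaSh.strSect X ⊤ 1)) = a k
  rw [Sigma.ι_desc]
  show (1 : Γ(X, ⊤)) * X.presheaf.map (homOfLE le_top).op (a k) = a k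
  rw [one_mul, show (homOfLE (le_top : (⊤ : X.Opens) ≤ ⊤)).op = 𝟙 _ from rfl, X.presheaf.map_id]
  rfl

variable {X' : Scheme.{u}} (b : X' ⟶ X) (J : X.IdealSheafData) [IsAffine X]

theorem exists_epi (hJ : J.ideal ⟨⊤, isAffineOpen_top X⟩ = Ideal.span (Set.range a))
    (u : FlatMod.freeMod X t ⟶ Coh.structureModule X)
    (bs : Module.Basis (Fin t) Γ(X, ⊤) Γ(FlatMod.freeMod X t, ⊤))
    (hbs : ∀ k, bs k = (Sigma.ι (fun _ : Fin t => Coh.structureModule X) k).app ⊤ (OmegaSh.strSect X ⊤ 1))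
    (hu : ∀ k, RegImm10.BundleBlow.val u ⊤ (bs k) = a k) :
    ∃ s : (Scheme.Modules.pullback b).obj (FlatMod.freeMod X t) ⟶ ClSub.idealMod (J.comap b),
      Epi s ∧ s ≫ ClSub.idealModι (J.comap b) =
        (Scheme.Modules.pullback b).map u ≫ (PicLoc.pullbackStructureIso b).hom := by
  let K := J.comap b
  let v := (Scheme.Modules.pullback b).map u ≫ (PicLoc.pullbackStructureIso b).hom
  have hmem : ∀ (W : X'.affineOpens) (k : Fin t), X'.presheaf.map (homOfLE (le_top : W.1 ≤ ⊤)).op (b.appTop (a k)) ∈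
      K.ideal W := fun W k => by
    rw [MP99.ideal_comap J b ⟨⊤, isAffineOpen_top X⟩ W le_top, hJ]
    exact Ideal.mem_map_of_mem _ (Ideal.subset_span ⟨k, rfl⟩)
  have hval : ∀ (W : X'.Opens) (k : Fin t),
      v.app W (res _ (le_top : W ≤ b ⁻¹ᵁ ⊤) (Amp73.pullS b (FlatMod.freeMod X t) ⊤ (bs k))) =
        ((X'.presheaf.map (homOfLE (le_top : W ≤ ⊤)).op (b.appTop (a k)) : Γ(X', W)) :
          Γ(Coh.structureModule X', W)) := fun W k => by
    refine (QC70.app_res v _ _).trans ?_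
    refine congrArg (res (Coh.structureModule X') (le_top : W ≤ b ⁻¹ᵁ ⊤)) ?_
    show (PicLoc.pullbackStructureIso b).hom.app (b ⁻¹ᵁ ⊤)
      (((Scheme.Modules.pullback b).map u).app (b ⁻¹ᵁ ⊤) (Amp73.pullS b _ ⊤ (bs k))) = _
    rw [Amp73.map_app_pullS]
    exact (RegImm10.BundleBlow.pullbackStructureIso_pullS' b ⊤ (u.app ⊤ (bs k))).trans
      (congrArg (b.app ⊤) (hu k))
  have hw : v ≫ ClSub.toSubscheme K = 0 := by
    apply ((Scheme.Modules.pullbackPushforwardAdjunction b).homEquiv _ _).injective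
    refine Sigma.hom_ext _ _ fun k => hom_ext_one _ _ ?_
    have e : ∀ γ : (Scheme.Modules.pullback b).obj (FlatMod.freeMod X t) ⟶ ClSub.quotMod K,
        (Sigma.ι (fun _ : Fin t => Coh.structureModule X) k ≫
          (Scheme.Modules.pullbackPushforwardAdjunction b).homEquiv _ _ γ).app ⊤ (OmegaSh.strSect X ⊤ 1) =
        γ.app (b ⁻¹ᵁ ⊤) (Amp73.pullS b _ ⊤ (bs k)) := fun γ => by
      rw [Adjunction.homEquiv_unit, hbs k]
      rfl
    rw [e, e]
    show (ClSub.toSubscheme K).app (b ⁻¹ᵁ ⊤) (v.app (b ⁻¹ᵁ ⊤) (Amp73.pullS b _ ⊤ (bs k))) = 0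
    refine QC70.section_ext (ClSub.quotMod K) _ _ fun p hp => ?_
    obtain ⟨W, hW, hpW, -⟩ := exists_isAffineOpen_mem_and_subset (x := p) (U := (⊤ : X'.Opens)) trivial
    refine ⟨W, le_top, hpW, ?_⟩
    rw [QC70.res_zero, ← QC70.app_res, ← QC70.app_res]
    refine (congrArg ((ClSub.toSubscheme K).app W) (hval W k)).trans ?_
    show K.subschemeι.app W _ = 0
    have h := hmem ⟨W, hW⟩ k
    rw [← K.ker_subschemeι, Scheme.Hom.ker_apply] at h
    exact h
  refine ⟨kernel.lift _ v hw, ?_, kernel.lift_ι _ _ hw⟩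
  refine EGAProj74.epi_of_locally_surjective _ fun W s p => ?_
  obtain ⟨V, hV, hpV, hVW⟩ := exists_isAffineOpen_mem_and_subset (x := p.1) (U := W) p.2
  have hs : OmegaSh.idealSect K V (res (ClSub.idealMod K) hVW s) ∈ K.ideal ⟨V, hV⟩ :=
    Curves2.idealSect_mem_ideal K ⟨V, hV⟩ _
  rw [MP99.ideal_comap J b ⟨⊤, isAffineOpen_top X⟩ ⟨V, hV⟩ le_top, hJ, Ideal.map_span, ← Set.range_comp,
    Ideal.mem_span_range_iff_exists_fun] at hs
  obtain ⟨c, hc⟩ := hs
  refine ⟨V, hVW, hpV, ∑ k, c k • res _ (le_top : V ≤ b ⁻¹ᵁ ⊤) (Amp73.pullS b (FlatMod.freeMod X t) ⊤ (bs k)), ?_⟩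
  haveI : Mono (ClSub.idealModι K) := inferInstanceAs (Mono (kernel.ι (ClSub.toSubscheme K)))
  refine EGAProj74.app_injective_of_mono (ClSub.idealModι K) V ?_
  show (kernel.lift (ClSub.toSubscheme K) v hw ≫ kernel.ι _).app V _ = _
  rw [kernel.lift_ι, map_sum]
  refine Eq.trans (Finset.sum_congr rfl fun k _ => ?_) hc
  rw [Scheme.Modules.Hom.app_smul, hval V k]
  rfl

end Groth.Agent.KRR40.ExcSect
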