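import Groth.Agent.Betti41.Exact
import Groth.Agent.DCX42.Tri
import Groth.Agent.QCTens72.Basic
import Groth.Agent.KRR40.LamPull

/-!
Finite locally free modules over arbitrary schemes.
-/

set_option autoImplicit false
set_option backward.isDefEq.respectTransparency.types false
set_option linter.style.haveILetI false

noncomputable section

universe u

open CategoryTheory CategoryTheory.Limits AlgebraicGeometry TensorProduct

namespace Groth.Agent.KRR40

variable {X : Scheme.{u}}

theorem vbg_tensor {M N : X.Modules} (hM : FlatMod.IsFinLocFree M) (hN : FlatMod.IsFinLocFree N) :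
    FlatMod.IsFinLocFree (CohB1.tensorMod M N) := by
  haveI := Props58.LocFree.isQuasicoherent_of_isFinLocFree hM
  haveI := Props58.LocFree.isQuasicoherent_of_isFinLocFree hN
  haveI := Props58.LocFree.isFP_of_isFinLocFree hM
  haveI := Props58.LocFree.isFP_of_isFinLocFree hN
  haveI := QCTens72.isQuasicoherent_tensorMod M N
  refine FlatMor68.LocFree.isFinLocFree_of_projective_sections _ fun x => ?_
  obtain ⟨U, hU, hxU, -⟩ := exists_isAffineOpen_mem_and_subset (show x ∈ (⊤ : X.Opens) from trivial)
  haveI := Props58.LocFree.projective_sections hM hU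
  haveI := Props58.LocFree.projective_sections hN hU
  haveI := Props58.LocFree.finitePresentation_sections M hU
  haveI := Props58.LocFree.finitePresentation_sections N hU
  exact ⟨U, hU, hxU, Module.Projective.of_equiv (QCTens72.sectionsTensorEquiv M N hU).symm,
    Module.Finite.equiv (QCTens72.sectionsTensorEquiv M N hU).symm⟩

/-- Extensions of finite locally free modules are finite locally free. -/
theorem vbg_X₂ {S : ShortComplex X.Modules} (hS : S.ShortExact) (h₁ : FlatMod.IsFinLocFree S.X₁)
    (h₃ : FlatMod.IsFinLocFree S.X₃) : FlatMod.IsFinLocFree S.X₂ := by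
  refine Betti41.isFinLocFree_of_immersions _ fun x => ?_
  obtain ⟨A, a, hxA, ⟨eA⟩⟩ := h₃ x
  haveI := DCX42.preservesFiniteLimits_restrict A.ι
  haveI := DCX42.preservesFiniteColimits_restrict A.ι
  let G := Scheme.Modules.restrictFunctor A.ι
  let S' := S.map G
  have hS' : S'.ShortExact := hS.map_of_exact G
  haveI : Epi S'.g := hS'.epi_g
  obtain ⟨T, l, hxT, hl⟩ := DCX42.exists_free_lift (M := S'.X₃) eA (𝟙 _) S'.g ⟨x, hxA⟩
  haveI := DCX42.preservesFiniteLimits_restrict T.ι
  haveI := DCX42.preservesFiniteColimits_restrict T.ι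
  let R := Scheme.Modules.restrictFunctor T.ι
  let S'' := S'.map R
  have hS'' : S''.ShortExact := hS'.map_of_exact R
  let sp : S''.Splitting := ShortComplex.Splitting.ofExactOfSection S'' hS''.exact l
    (hl.trans (R.map_id _)) hS''.mono_f
  have h1' : FlatMod.IsFinLocFree S''.X₁ :=
    DCX42.isFinLocFree_restrict (DCX42.isFinLocFree_restrict h₁ A.ι) T.ι
  have h3' : FlatMod.IsFinLocFree S''.X₃ :=
    DCX42.isFinLocFree_restrict (DCX42.isFinLocFree_restrict h₃ A.ι) T.ι
  refine ⟨T, T.ι ≫ A.ι, inferInstance, ⟨⟨⟨x, hxA⟩, hxT⟩, by simp⟩,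
    DCX42.isFinLocFree_of_iso ?_ (DCX42.isFinLocFree_of_iso sp.isoBinaryBiproduct.symm
      (DCX42.isFinLocFree_biprod h1' h3'))⟩
  exact ((Scheme.Modules.restrictFunctorComp T.ι A.ι).app S.X₂).symm

/-- Kernels of epimorphisms of finite locally free modules are finite locally free. -/
theorem vbg_X₁ {S : ShortComplex X.Modules} (hS : S.ShortExact) (h₂ : FlatMod.IsFinLocFree S.X₂)
    (h₃ : FlatMod.IsFinLocFree S.X₃) : FlatMod.IsFinLocFree S.X₁ :=
  Betti41.isFinLocFree_X₁ S hS h₂ h₃

/-- Isomorphic bundles have the same class. -/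
theorem clg_iso {M N : X.Modules} (e : M ≅ N) (hN : FlatMod.IsFinLocFree N) : KRR.cl X M = KRR.cl X N :=
  eq_of_iso_of_add (KRR.cl X) (fun A => FlatMod.IsFinLocFree A)
    (fun S hS h₁ h₂ h₃ => K0Res3.cls_add (P := KRR.vbP X) S hS h₁ h₂ h₃)
    (DCX42.isFinLocFree_of_isZero (isZero_zero _)) e (DCX42.isFinLocFree_of_iso e.symm hN) hN

end Groth.Agent.KRR40
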