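import Groth.Agent.KRR40.ExtFiltAlg
import Groth.Agent.KRR40.VBGen
import Groth.Agent.RB70.AffHom
import Groth.Agent.Mum71.TensorSec
import Groth.Agent.Om3.DetSeq

/-!
The class of an exterior power of an extension of finite locally free modules.
-/

set_option autoImplicit false
set_option backward.isDefEq.respectTransparency.types false
set_option linter.style.haveILetI false

noncomputable section

universe u

open CategoryTheory CategoryTheory.Limits AlgebraicGeometry TopologicalSpace Opposite exteriorPower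
open TensorProduct
open Groth.Agent

namespace Groth.Agent.KRR40.ExtFilt

open ExtFiltAlg

variable {X : Scheme.{u}}

abbrev appL {M N : X.Modules} (φ : M ⟶ N) (U : X.Opens) : Γ(M, U) →ₗ[Γ(X, U)] Γ(N, U) :=
  QC70.appLinear φ U

theorem app_congr {A B : X.Modules} {φ ψ : A ⟶ B} (e : φ = ψ) {U : X.Opens} (s : Γ(A, U)) :
    φ.app U s = ψ.app U s := e ▸ rfl

/-- The class of a zero module vanishes. -/
theorem clg_isZero {M : X.Modules} (h : IsZero M) : KRR.cl X M = 0 := by
  haveI : Mono (𝟙 M) := inferInstance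
  let S : ShortComplex X.Modules := ShortComplex.mk (𝟙 M) (𝟙 M) (h.eq_of_src _ _)
  have hS : S.ShortExact :=
    { exact := ShortComplex.exact_of_isZero_X₂ S h
      mono_f := (inferInstance : Mono (𝟙 M))
      epi_g := (inferInstance : Epi (𝟙 M)) }
  have hv := DCX42.isFinLocFree_of_isZero h
  have h0 : KRR.cl X M = KRR.cl X M + KRR.cl X M := K0Res3.cls_add (P := KRR.vbP X) S hS hv hv hv
  simpa using h0

/-- A morphism out of a tensor product from compatible bilinear maps on affine opens. -/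
theorem exists_tensorHom {P Q H : X.Modules} [P.IsQuasicoherent] [Q.IsQuasicoherent]
    (β : ∀ W : X.affineOpens, Γ(P, W.1) ⊗[Γ(X, W.1)] Γ(Q, W.1) →ₗ[Γ(X, W.1)] Γ(H, W.1))
    (hβ : ∀ (W V : X.affineOpens) (h : W.1 ≤ V.1) (a : Γ(P, V.1)) (b : Γ(Q, V.1)),
      β W (QC70.res P h a ⊗ₜ QC70.res Q h b) = QC70.res H h (β V (a ⊗ₜ b))) :
    ∃ φ : CohB1.tensorMod P Q ⟶ H, ∀ (W : X.affineOpens) (a : Γ(P, W.1)) (b : Γ(Q, W.1)),
      φ.app W.1 (SecTwist.tmul P Q W.1 a b) = β W (a ⊗ₜ b) := by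
  haveI := QCTens72.isQuasicoherent_tensorMod P Q
  choose e he using fun W : X.affineOpens => Mum71.exists_tensor_equiv P Q W.2
  let l : ∀ W : X.affineOpens, Γ(CohB1.tensorMod P Q, W.1) →ₗ[Γ(X, W.1)] Γ(H, W.1) :=
    fun W => (β W).comp (e W).symm.toLinearMap
  have hl0 : ∀ (W : X.affineOpens) (a : Γ(P, W.1)) (b : Γ(Q, W.1)),
      l W (SecTwist.tmul P Q W.1 a b) = β W (a ⊗ₜ b) := fun W a b => by
    show β W ((e W).symm _) = _
    rw [← he, LinearEquiv.symm_apply_apply]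
  have hl : RB70.AffCompat l := fun W V h s => by
    obtain ⟨t, rfl⟩ := (e V).surjective s
    induction t with
    | zero => simp [QC70.res_zero]
    | add x y hx hy => rw [map_add, QC70.res_add, map_add, map_add, hx, hy, QC70.res_add]
    | tmul a b =>
      rw [he, hl0, ← hβ W V h a b, ← hl0 W]
      exact congrArg (l W) (SecTwist.map_tmul P Q (homOfLE h) a b)
  obtain ⟨φ, hφ⟩ := RB70.exists_hom_of_affine l hl
  exact ⟨φ, fun W a b => (hφ W _).trans (hl0 W a b)⟩

/-- A finite locally free module has bases over the small opens. -/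
theorem exists_basis_vb {M : X.Modules} (h : FlatMod.IsFinLocFree M) (x : X) :
    ∃ (U : X.Opens) (n : ℕ), x ∈ U ∧ ∀ W : X.Opens, W ≤ U → Nonempty (Module.Basis (Fin n) Γ(X, W) Γ(M, W)) := by
  obtain ⟨U, n, hx, ⟨i⟩⟩ := h x
  obtain ⟨s, hs⟩ := Props58.LocFree.exists_stalkBasis_of_iso i
  refine ⟨U, n, hx, fun W hW => ⟨Module.Basis.ofEquivFun (LinearEquiv.ofBijective
    (Fintype.linearCombination Γ(X, W) fun j => QC70.res M hW (s j)) ?_).symm⟩⟩
  refine (congrArg Function.Bijective (funext fun a => ?_)).mp (hs.bijective hW)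
  simp [Fintype.linearCombination_apply]

variable {M N : X.Modules} (f : M ⟶ N) (p : ℕ)

/-- The exterior powers of a morphism commute with restriction. -/
theorem resExt_map {U V : X.Opens} (h : V ≤ U) (x : ↥(⋀[Γ(X, U)]^p Γ(M, U))) :
    Om3.resExt N p h (exteriorPower.map p (appL f U) x) = exteriorPower.map p (appL f V) (Om3.resExt M p h x) := by
  refine DFunLike.congr_fun (Om3.semilinear_ext (QC70.resO X h)
    ((Om3.resExt N p h).comp (exteriorPower.map p (appL f U)).toAddMonoidHom)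
    ((exteriorPower.map p (appL f V)).toAddMonoidHom.comp (Om3.resExt M p h))
    (fun r m => ?_) (fun r m => ?_) (ιMulti_span Γ(X, U) p Γ(M, U)) ?_) x
  · show Om3.resExt N p h (exteriorPower.map p (appL f U) (r • m)) = _
    rw [map_smul, Om3.resExt_smul]
    rfl
  · show exteriorPower.map p (appL f V) (Om3.resExt M p h (r • m)) = _
    rw [Om3.resExt_smul, map_smul]
    rfl
  · rintro _ ⟨v, rfl⟩
    show Om3.resExt N p h (exteriorPower.map p (appL f U) (ιMulti _ p v)) =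
      exteriorPower.map p (appL f V) (Om3.resExt M p h (ιMulti _ p v))
    rw [map_apply_ιMulti, Om3.resExt_ιMulti, Om3.resExt_ιMulti, map_apply_ιMulti]
    exact congrArg _ (funext fun i => (QC70.app_res f h (v i)).symm)

/-- The filtration maps commute with restriction. -/
theorem resExt_mu {k i : ℕ} {U V : X.Opens} (h : V ≤ U) (x : ↥(⋀[Γ(X, U)]^i Γ(M, U)))
    (y : ↥(⋀[Γ(X, U)]^(k - i) Γ(N, U))) :
    mu (appL f V) k i (Om3.resExt M i h x ⊗ₜ Om3.resExt N (k - i) h y) =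
      Om3.resExt N k h (mu (appL f U) k i (x ⊗ₜ y)) := by
  by_cases hi : i ≤ k
  swap
  · simp [mu, dif_neg hi]
  refine DFunLike.congr_fun (Om3.semilinear_ext (QC70.resO X h)
    (AddMonoidHom.mk' (fun z => mu (appL f V) k i (Om3.resExt M i h z ⊗ₜ Om3.resExt N (k - i) h y))
      fun a b => by rw [map_add, TensorProduct.add_tmul, map_add])
    (AddMonoidHom.mk' (fun z => Om3.resExt N k h (mu (appL f U) k i (z ⊗ₜ y)))
      fun a b => by rw [TensorProduct.add_tmul, map_add, map_add])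
    (fun r m => ?_) (fun r m => ?_) (ιMulti_span Γ(X, U) i Γ(M, U)) ?_) x
  · exact (congrArg (fun z => mu (appL f V) k i (z ⊗ₜ Om3.resExt N (k - i) h y)) (Om3.resExt_smul M h r m)).trans
      (mu_smul_left _ _ _ _)
  · exact (congrArg (Om3.resExt N k h) (mu_smul_left _ r m y)).trans (Om3.resExt_smul N h r _)
  rintro _ ⟨a, rfl⟩
  show mu (appL f V) k i (Om3.resExt M i h (ιMulti _ i a) ⊗ₜ Om3.resExt N (k - i) h y) =
    Om3.resExt N k h (mu (appL f U) k i (ιMulti _ i a ⊗ₜ y))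
  refine DFunLike.congr_fun (Om3.semilinear_ext (QC70.resO X h)
    (AddMonoidHom.mk' (fun z => mu (appL f V) k i (Om3.resExt M i h (ιMulti _ i a) ⊗ₜ Om3.resExt N (k - i) h z))
      fun a b => by rw [map_add, TensorProduct.tmul_add, map_add])
    (AddMonoidHom.mk' (fun z => Om3.resExt N k h (mu (appL f U) k i (ιMulti _ i a ⊗ₜ z)))
      fun a b => by rw [TensorProduct.tmul_add, map_add, map_add])
    (fun r m => ?_) (fun r m => ?_) (ιMulti_span Γ(X, U) (k - i) Γ(N, U)) ?_) y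
  · exact (congrArg (fun z => mu (appL f V) k i (Om3.resExt M i h (ιMulti _ i a) ⊗ₜ z))
      (Om3.resExt_smul N h r m)).trans (mu_smul_right _ _ _ _)
  · exact (congrArg (Om3.resExt N k h) (mu_smul_right _ r _ m)).trans (Om3.resExt_smul N h r _)
  rintro _ ⟨b, rfl⟩
  show mu (appL f V) k i (Om3.resExt M i h (ιMulti _ i a) ⊗ₜ Om3.resExt N (k - i) h (ιMulti _ (k - i) b)) =
    Om3.resExt N k h (mu (appL f U) k i (ιMulti _ i a ⊗ₜ ιMulti _ (k - i) b))
  have hk : i + (k - i) = k := by omega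
  simp only [mu, dif_pos hi, TensorProduct.lift.tmul, LinearMap.comp_apply, Om3.resExt_ιMulti, map_apply_ιMulti,
    wedge_ιMulti hk]
  refine congrArg _ (funext fun j => ?_)
  simp only [Function.comp_apply]
  refine Fin.addCases (fun l => ?_) (fun l => ?_) (Fin.cast hk.symm j)
  · simp only [Fin.append_left, Function.comp_apply]
    exact QC70.app_res f h (a l)
  · simp only [Fin.append_right]

/-- A short exact sequence with compatible exterior powers. -/
structure Data (X : Scheme.{u}) where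
  /-- the sequence -/
  S : ShortComplex X.Modules
  shortExact : S.ShortExact
  h₁ : FlatMod.IsFinLocFree S.X₁
  h₂ : FlatMod.IsFinLocFree S.X₂
  h₃ : FlatMod.IsFinLocFree S.X₃
  /-- powers of the sub -/
  LA : ℕ → X.Modules
  /-- powers of the middle -/
  LE : ℕ → X.Modules
  /-- powers of the quotient -/
  LC : ℕ → X.Modules
  hA : ∀ i, ExtPow.IsExtPow i S.X₁ (LA i)
  hE : ∀ i, ExtPow.IsExtPow i S.X₂ (LE i)
  hC : ∀ i, ExtPow.IsExtPow i S.X₃ (LC i)
  fA : ∀ i, FlatMod.IsFinLocFree (LA i)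
  fE : ∀ i, FlatMod.IsFinLocFree (LE i)
  fC : ∀ i, FlatMod.IsFinLocFree (LC i)

variable (D : Data X) (k : ℕ)

/-- The graded piece. -/
abbrev G (i : ℕ) : X.Modules := CohB1.tensorMod (D.LA i) (D.LC (k - i))

/-- The source of the step of the filtration. -/
abbrev T (i : ℕ) : X.Modules := CohB1.tensorMod (D.LA i) (D.LE (k - i))

/-- An affine open over which the sequence is a sequence of free modules. -/
def Good (W : X.affineOpens) : Prop :=
  ∃ r m : ℕ, Nonempty (Module.Basis (Fin r) Γ(X, W.1) Γ(D.S.X₁, W.1)) ∧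
    Nonempty (Module.Basis (Fin m) Γ(X, W.1) Γ(D.S.X₃, W.1))

theorem exists_good (x : X) (V : X.Opens) (hx : x ∈ V) :
    ∃ W : X.affineOpens, Good D W ∧ x ∈ W.1 ∧ W.1 ≤ V := by
  obtain ⟨U, r, hU, hU'⟩ := exists_basis_vb D.h₁ x
  obtain ⟨U₂, m, hU₂, hU₂'⟩ := exists_basis_vb D.h₃ x
  obtain ⟨W, hW, hxW, hle⟩ := exists_isAffineOpen_mem_and_subset (show x ∈ V ⊓ U ⊓ U₂ from ⟨⟨hx, hU⟩, hU₂⟩)
  exact ⟨⟨W, hW⟩, ⟨r, m, hU' W fun y hy => (hle hy).1.2, hU₂' W fun y hy => (hle hy).2⟩, hxW,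
    fun y hy => (hle hy).1.1⟩

theorem ext_good {A B : X.Modules} {φ ψ : A ⟶ B}
    (h : ∀ W, Good D W → ∀ s : Γ(A, W.1), φ.app W.1 s = ψ.app W.1 s) : φ = ψ :=
  RB70.hom_ext_affine fun V s => QC70.section_ext B _ _ fun p hp => by
    obtain ⟨W, hW, hpW, hle⟩ := exists_good D p V.1 hp
    refine ⟨W.1, hle, hpW, ?_⟩
    rw [← QC70.app_res, ← QC70.app_res]
    exact h W hW _

theorem epi_of_good {A B : X.Modules} (φ : A ⟶ B)
    (h : ∀ W, Good D W → Function.Surjective (φ.app W.1)) : Epi φ :=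
  ⟨fun a b e => ext_good D fun W hW s => by
    obtain ⟨t, rfl⟩ := h W hW s
    exact app_congr e t⟩

theorem mono_of_good {A B : X.Modules} (φ : A ⟶ B)
    (h : ∀ W, Good D W → ∀ s, φ.app W.1 s = 0 → s = 0) : Mono φ :=
  Preadditive.mono_of_cancel_zero φ fun a e => ext_good D fun W hW s => by
    rw [h W hW (a.app W.1 s) (app_congr e s)]
    rfl

theorem exists_filMaps (i : ℕ) : ∃ (μ : T D k i ⟶ D.LE k) (p : T D k i ⟶ G D k i),
    ∀ W : X.affineOpens, ∃ (eT : ↥(⋀[Γ(X, W.1)]^i Γ(D.S.X₁, W.1)) ⊗[Γ(X, W.1)]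
          ↥(⋀[Γ(X, W.1)]^(k - i) Γ(D.S.X₂, W.1)) ≃ₗ[Γ(X, W.1)] Γ(T D k i, W.1))
        (eG : ↥(⋀[Γ(X, W.1)]^i Γ(D.S.X₁, W.1)) ⊗[Γ(X, W.1)]
          ↥(⋀[Γ(X, W.1)]^(k - i) Γ(D.S.X₃, W.1)) ≃ₗ[Γ(X, W.1)] Γ(G D k i, W.1)),
      (∀ x, μ.app W.1 (eT x) = ((Om3.exists_psi (D.hE k)).choose W) (mu (appL D.S.f W.1) k i x)) ∧
        ∀ x, p.app W.1 (eT x) = eG (pr (appL D.S.g W.1) k i x) := by
  obtain ⟨ψA, hψA⟩ := Om3.exists_psi (D.hA i)
  obtain ⟨ψE, hψE⟩ := Om3.exists_psi (D.hE (k - i))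
  obtain ⟨ψC, hψC⟩ := Om3.exists_psi (D.hC (k - i))
  have hψK := (Om3.exists_psi (D.hE k)).choose_spec
  let ψK := (Om3.exists_psi (D.hE k)).choose
  haveI := Props58.LocFree.isQuasicoherent_of_isFinLocFree (D.fA i)
  haveI := Props58.LocFree.isQuasicoherent_of_isFinLocFree (D.fE (k - i))
  haveI := Props58.LocFree.isQuasicoherent_of_isFinLocFree (D.fC (k - i))
  obtain ⟨μ, hμ⟩ := exists_tensorHom (P := D.LA i) (Q := D.LE (k - i)) (H := D.LE k)
    (fun W => (ψK W).toLinearMap.comp ((mu (appL D.S.f W.1) k i).comp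
      (TensorProduct.congr (ψA W).symm (ψE W).symm).toLinearMap)) fun W V h a b => by
      obtain ⟨a, rfl⟩ := (ψA V).surjective a
      obtain ⟨b, rfl⟩ := (ψE V).surjective b
      simp only [LinearMap.comp_apply, LinearEquiv.coe_coe, TensorProduct.congr_tmul, hψA V W h, hψE V W h,
        LinearEquiv.symm_apply_apply]
      rw [hψK V W h, resExt_mu]
  choose eC heC using fun W : X.affineOpens => Mum71.exists_tensor_equiv (D.LA i) (D.LC (k - i)) W.2
  let eG := fun W : X.affineOpens => (TensorProduct.congr (ψA W) (ψC W)).trans (eC W)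
  obtain ⟨p, hp⟩ := exists_tensorHom (P := D.LA i) (Q := D.LE (k - i)) (H := G D k i)
    (fun W => (eG W).toLinearMap.comp ((pr (appL D.S.g W.1) k i).comp
      (TensorProduct.congr (ψA W).symm (ψE W).symm).toLinearMap)) fun W V h a b => by
      obtain ⟨a, rfl⟩ := (ψA V).surjective a
      obtain ⟨b, rfl⟩ := (ψE V).surjective b
      simp only [LinearMap.comp_apply, LinearEquiv.coe_coe, TensorProduct.congr_tmul, hψA V W h, hψE V W h,
        LinearEquiv.symm_apply_apply, pr, LinearMap.lTensor_tmul, eG, LinearEquiv.trans_apply, heC]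
      rw [← resExt_map, ← hψA V W h, ← hψC V W h]
      exact (SecTwist.map_tmul _ _ (homOfLE h) _ _).symm
  choose eT₀ heT₀ using fun W : X.affineOpens => Mum71.exists_tensor_equiv (D.LA i) (D.LE (k - i)) W.2
  refine ⟨μ, p, fun W => ⟨(TensorProduct.congr (ψA W) (ψE W)).trans (eT₀ W), eG W, fun x => ?_, fun x => ?_⟩⟩
  · induction x with
    | zero => simp
    | add x y hx hy => simp only [map_add, hx, hy]
    | tmul a b =>
      rw [LinearEquiv.trans_apply, TensorProduct.congr_tmul, heT₀, hμ]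
      simp only [LinearMap.comp_apply, LinearEquiv.coe_coe, TensorProduct.congr_tmul, LinearEquiv.symm_apply_apply]
      with_reducible rfl
  · induction x with
    | zero => simp
    | add x y hx hy => simp only [map_add, hx, hy]
    | tmul a b =>
      rw [LinearEquiv.trans_apply, TensorProduct.congr_tmul, heT₀, hp]
      simp

/-- The step of the filtration. -/
def μ (i : ℕ) : T D k i ⟶ D.LE k := (exists_filMaps D k i).choose

/-- The projection on the graded piece. -/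
def π (i : ℕ) : T D k i ⟶ G D k i := (exists_filMaps D k i).choose_spec.choose

theorem spec (i : ℕ) (W : X.affineOpens) :
    ∃ (eT : ↥(⋀[Γ(X, W.1)]^i Γ(D.S.X₁, W.1)) ⊗[Γ(X, W.1)]
          ↥(⋀[Γ(X, W.1)]^(k - i) Γ(D.S.X₂, W.1)) ≃ₗ[Γ(X, W.1)] Γ(T D k i, W.1))
        (eG : ↥(⋀[Γ(X, W.1)]^i Γ(D.S.X₁, W.1)) ⊗[Γ(X, W.1)]
          ↥(⋀[Γ(X, W.1)]^(k - i) Γ(D.S.X₃, W.1)) ≃ₗ[Γ(X, W.1)] Γ(G D k i, W.1)),
      (∀ x, (μ D k i).app W.1 (eT x) = ((Om3.exists_psi (D.hE k)).choose W) (mu (appL D.S.f W.1) k i x)) ∧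
        ∀ x, (π D k i).app W.1 (eT x) = eG (pr (appL D.S.g W.1) k i x) :=
  (exists_filMaps D k i).choose_spec.choose_spec W

/-- The range of a step, on an affine open. -/
theorem mem_range_iff (i : ℕ) (W : X.affineOpens) (z : ↥(⋀[Γ(X, W.1)]^k Γ(D.S.X₂, W.1))) :
    (∃ t, (μ D k i).app W.1 t = ((Om3.exists_psi (D.hE k)).choose W) z) ↔ z ∈ fil (appL D.S.f W.1) k i := by
  obtain ⟨eT, eG, hμ, -⟩ := spec D k i W
  constructor
  · rintro ⟨t, ht⟩
    obtain ⟨x, rfl⟩ := eT.surjective t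
    rw [hμ] at ht
    exact ⟨x, ((Om3.exists_psi (D.hE k)).choose W).injective ht⟩
  · rintro ⟨x, rfl⟩
    exact ⟨eT x, hμ x⟩

variable {D} in
theorem sec_exact {W : X.affineOpens} :
    Function.Injective (appL D.S.f W.1) ∧ Function.Surjective (appL D.S.g W.1) ∧
      ∀ x, appL D.S.g W.1 x = 0 ↔ ∃ y, appL D.S.f W.1 y = x := by
  haveI := D.shortExact.mono_f
  haveI := Props58.LocFree.isQuasicoherent_of_isFinLocFree D.h₁
  exact ⟨QC70.app_injective_of_mono D.S.f W.1, QC70.app_surjective_of_isAffineOpen D.S D.shortExact W.2,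
    fun x => ⟨fun hx => QC70.exists_app_eq_of_exact D.S D.shortExact.exact W.1 x hx,
      fun ⟨y, hy⟩ => hy ▸ QC70.app_f_g D.S W.1 y⟩⟩

variable {D k}

theorem mu_comp (i : ℕ) : μ D k (i + 1) ≫ cokernel.π (μ D k i) = 0 :=
  ext_good D fun W hW s => by
    obtain ⟨z, hz⟩ := ((Om3.exists_psi (D.hE k)).choose W).surjective ((μ D k (i + 1)).app W.1 s)
    obtain ⟨t, ht⟩ := (mem_range_iff D k i W z).2 (fil_succ_le k i ((mem_range_iff D k (i + 1) W z).1 ⟨s, hz.symm⟩))
    show (cokernel.π (μ D k i)).app W.1 ((μ D k (i + 1)).app W.1 s) = _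
    rw [← hz, ← ht]
    exact app_congr (cokernel.condition (μ D k i)) t

theorem exists_of_pi_eq_zero (i : ℕ) (W : X.affineOpens) (z : Γ(D.LE k, W.1))
    (hz : (cokernel.π (μ D k i)).app W.1 z = 0) : ∃ t, (μ D k i).app W.1 t = z := by
  haveI := Props58.LocFree.isQuasicoherent_of_isFinLocFree (KRR40.vbg_tensor (D.fA i) (D.fE (k - i)))
  haveI := Props58.LocFree.isQuasicoherent_of_isFinLocFree (D.fE k)
  obtain ⟨y, hy⟩ := QC70.exists_kernel_app_eq _ W.1 z hz
  let φ := μ D k i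
  haveI := QC70.isQuasicoherent_kernel φ
  let S := ShortComplex.mk (kernel.ι φ) (Abelian.factorThruImage φ) (by
    rw [← cancel_mono (Abelian.image.ι φ), Category.assoc, Abelian.image.fac, kernel.condition, zero_comp])
  have hS : S.ShortExact :=
    { exact := ShortComplex.exact_of_f_is_kernel _ (KernelFork.IsLimit.ofι' _ _
        (fun {A} a ha => ⟨kernel.lift φ a (by
          rw [← Abelian.image.fac φ, reassoc_of% ha, zero_comp]), kernel.lift_ι _ _ _⟩))
      mono_f := (inferInstance : Mono (kernel.ι φ))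
      epi_g := (inferInstance : Epi (Abelian.factorThruImage φ)) }
  obtain ⟨t, ht⟩ := QC70.app_surjective_of_isAffineOpen S hS W.2 y
  refine ⟨t, ?_⟩
  rw [← hy, ← ht]
  exact app_congr (Abelian.image.fac φ).symm t

theorem epi_π (i : ℕ) : Epi (π D k i) :=
  epi_of_good D _ fun W hW s => by
    obtain ⟨eT, eG, -, hp⟩ := spec D k i W
    obtain ⟨x, rfl⟩ := eG.surjective s
    obtain ⟨y, hy⟩ := LinearMap.lTensor_surjective _
      (exteriorPower.map_surjective (sec_exact (D := D) (W := W)).2.1) x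
    exact ⟨eT y, by rw [hp]; exact congrArg eG hy⟩

theorem epi_mu_zero : Epi (μ D k 0) :=
  epi_of_good D _ fun W _ s => by
    obtain ⟨z, rfl⟩ := ((Om3.exists_psi (D.hE k)).choose W).surjective s
    exact (mem_range_iff D k 0 W z).2 (by rw [fil_zero]; trivial)

theorem mu_of_lt {i : ℕ} (h : k < i) : μ D k i = 0 :=
  ext_good D fun W _ s => by
    obtain ⟨z, hz⟩ := ((Om3.exists_psi (D.hE k)).choose W).surjective ((μ D k i).app W.1 s)
    have := (mem_range_iff D k i W z).1 ⟨s, hz.symm⟩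
    rw [fil_of_lt h, Submodule.mem_bot] at this
    rw [← hz, this, map_zero]
    rfl

theorem kernel_π_comp {i : ℕ} (hi : i ≤ k) :
    kernel.ι (π D k i) ≫ μ D k i ≫ cokernel.π (μ D k (i + 1)) = 0 :=
  ext_good D fun W hW s => by
    obtain ⟨r, m, ⟨bA⟩, ⟨bC⟩⟩ := hW
    obtain ⟨eT, eG, hμ, hp⟩ := spec D k i W
    obtain ⟨x, hx⟩ := eT.surjective ((kernel.ι (π D k i)).app W.1 s)
    have h0 : pr (appL D.S.g W.1) k i x = 0 := eG.injective (by
      rw [map_zero, ← hp, hx]
      exact app_congr (kernel.condition (π D k i)) s)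
    have hm := (graded (sec_exact (D := D)).1 (sec_exact (D := D)).2.1 (sec_exact (D := D)).2.2 bA bC hi x).2 h0
    obtain ⟨t, ht⟩ := (mem_range_iff D k (i + 1) W _).2 hm
    show (cokernel.π (μ D k (i + 1))).app W.1 ((μ D k i).app W.1 ((kernel.ι (π D k i)).app W.1 s)) = _
    rw [← hx, hμ, ← ht]
    exact app_congr (cokernel.condition (μ D k (i + 1))) t

/-- The short exact sequence of a step. -/
theorem exists_step {i : ℕ} (hi : i ≤ k) : ∃ S : ShortComplex X.Modules, S.ShortExact ∧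
    Nonempty (S.X₁ ≅ G D k i) ∧ S.X₂ = cokernel (μ D k (i + 1)) ∧ S.X₃ = cokernel (μ D k i) := by
  haveI := epi_π (D := D) (k := k) i
  let ν : G D k i ⟶ cokernel (μ D k (i + 1)) := Abelian.epiDesc (π D k i) _ (kernel_π_comp hi)
  have hν : π D k i ≫ ν = μ D k i ≫ cokernel.π (μ D k (i + 1)) := Abelian.comp_epiDesc _ _ _
  let q : cokernel (μ D k (i + 1)) ⟶ cokernel (μ D k i) :=
    cokernel.desc _ (cokernel.π (μ D k i)) (mu_comp i)
  have w : ν ≫ q = 0 := by
    rw [← cancel_epi (π D k i), reassoc_of% hν, cokernel.π_desc, cokernel.condition, comp_zero]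
  haveI : Epi q := epi_of_epi_fac (cokernel.π_desc _ _ _ : cokernel.π (μ D k (i + 1)) ≫ q = _)
  refine ⟨ShortComplex.mk ν q w, { exact := ?_, mono_f := ?_, epi_g := (inferInstance : Epi q) }, ⟨Iso.refl _⟩, rfl, rfl⟩
  · refine ShortComplex.exact_of_g_is_cokernel _ (CokernelCofork.IsColimit.ofπ' _ _ fun {A} a ha =>
      ⟨cokernel.desc _ (cokernel.π (μ D k (i + 1)) ≫ a) (by
        rw [← reassoc_of% hν, ha, comp_zero]), ?_⟩)
    rw [← cancel_epi (cokernel.π (μ D k (i + 1))), cokernel.π_desc_assoc, cokernel.π_desc]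
  · refine mono_of_good D ν fun W hW z hz => ?_
    obtain ⟨r, m, ⟨bA⟩, ⟨bC⟩⟩ := hW
    obtain ⟨eT, eG, hμ, hp⟩ := spec D k i W
    obtain ⟨w', rfl⟩ := eG.surjective z
    obtain ⟨y, rfl⟩ := LinearMap.lTensor_surjective _
      (exteriorPower.map_surjective (sec_exact (D := D) (W := W)).2.1) w'
    change ν.app W.1 (eG (pr (appL D.S.g W.1) k i y)) = 0 at hz
    show eG (pr (appL D.S.g W.1) k i y) = 0
    rw [← hp] at hz
    have h2 : (cokernel.π (μ D k (i + 1))).app W.1 ((μ D k i).app W.1 (eT y)) = 0 :=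
      (app_congr hν (eT y)).symm.trans hz
    obtain ⟨t, ht⟩ := exists_of_pi_eq_zero (i + 1) W _ h2
    rw [hμ] at ht
    rw [(graded (sec_exact (D := D)).1 (sec_exact (D := D)).2.1 (sec_exact (D := D)).2.2 bA bC hi y).1
      ((mem_range_iff D k (i + 1) W _).1 ⟨t, ht⟩), map_zero]

/-- The exterior power of an extension. -/
theorem cl_extPow (k : ℕ) : KRR.cl X (D.LE k) = ∑ i ∈ Finset.range (k + 1), KRR.cl X (G D k i) := by
  have key : ∀ j, j ≤ k + 1 → FlatMod.IsFinLocFree (cokernel (μ D k j)) ∧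
      KRR.cl X (cokernel (μ D k j)) = ∑ i ∈ Finset.range j, KRR.cl X (G D k i) := by
    intro j
    induction j with
    | zero =>
      intro _
      haveI := epi_mu_zero (D := D) (k := k)
      have hz : IsZero (cokernel (μ D k 0)) := isZero_cokernel_of_epi _
      refine ⟨DCX42.isFinLocFree_of_isZero hz, ?_⟩
      rw [Finset.range_zero, Finset.sum_empty]
      exact clg_isZero hz
    | succ j ih =>
      intro hj
      obtain ⟨hv, hc⟩ := ih (by omega)
      obtain ⟨S, hS, ⟨e⟩, h2, h3⟩ := exists_step (D := D) (k := k) (i := j) (by omega)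
      have hG := KRR40.vbg_tensor (D.fA j) (D.fC (k - j))
      have hS₁ : FlatMod.IsFinLocFree S.X₁ := DCX42.isFinLocFree_of_iso e.symm hG
      have hS₃ : FlatMod.IsFinLocFree S.X₃ := h3 ▸ hv
      have hS₂ := KRR40.vbg_X₂ hS hS₁ hS₃
      refine ⟨h2 ▸ hS₂, ?_⟩
      rw [← h2, Finset.sum_range_succ, ← hc, ← h3, show KRR.cl X S.X₂ = _ from
        K0Res3.cls_add (P := KRR.vbP X) S hS hS₁ hS₂ hS₃, add_comm]
      exact congrArg (KRR.cl X S.X₃ + ·) (KRR40.clg_iso e hG)
  rw [← (key (k + 1) le_rfl).2]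
  haveI : IsIso (cokernel.π (μ D k (k + 1))) := by
    rw [mu_of_lt (Nat.lt_succ_self k)]
    infer_instance
  exact KRR40.clg_iso (asIso (cokernel.π (μ D k (k + 1)))) (key (k + 1) le_rfl).1

end Groth.Agent.KRR40.ExtFilt
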