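import Mathlib.LinearAlgebra.ExteriorPower.Basis
import Mathlib.RingTheory.OrzechProperty
import Mathlib.LinearAlgebra.Dimension.Constructions
import Mathlib.Data.Nat.Choose.Vandermonde
import Mathlib.Algebra.Algebra.Operations

/-!
The filtration of the exterior powers of the middle term of a split exact sequence of free modules.
-/

set_option autoImplicit false

noncomputable section

universe u

open exteriorPower TensorProduct

namespace Groth.Agent.KRR40.ExtFiltAlg

variable {R : Type u} [CommRing R] {A E C : Type u} [AddCommGroup A] [Module R A] [AddCommGroup E] [Module R E]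
  [AddCommGroup C] [Module R C]

/-- The exterior algebra product, as a map of powers. -/
def wedge (a b k : ℕ) (h : a + b = k) : ↥(⋀[R]^a E) →ₗ[R] ↥(⋀[R]^b E) →ₗ[R] ↥(⋀[R]^k E) :=
  LinearMap.mk₂ R (fun x y => ⟨(x : ExteriorAlgebra R E) * (y : ExteriorAlgebra R E), by
      subst h
      show _ ∈ LinearMap.range (ExteriorAlgebra.ι R (M := E)) ^ (a + b)
      rw [pow_add]
      exact Submodule.mul_mem_mul x.2 y.2⟩)
    (fun x x' y => Subtype.ext (by simp [add_mul])) (fun c x y => Subtype.ext (by simp))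
    (fun x y y' => Subtype.ext (by simp [mul_add])) (fun c x y => Subtype.ext (by simp))

@[simp] lemma wedge_val {a b k : ℕ} (h : a + b = k) (x : ↥(⋀[R]^a E)) (y : ↥(⋀[R]^b E)) :
    ((wedge a b k h x y : ↥(⋀[R]^k E)) : ExteriorAlgebra R E) = (x : ExteriorAlgebra R E) * (y : ExteriorAlgebra R E) :=
  rfl

lemma wedge_ιMulti {a b k : ℕ} (h : a + b = k) (s : Fin a → E) (t : Fin b → E) :
    wedge a b k h (ιMulti R a s) (ιMulti R b t) = ιMulti R k (Fin.append s t ∘ Fin.cast h.symm) := by
  subst h
  refine Subtype.ext ?_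
  rw [wedge_val, ιMulti_apply_coe, ιMulti_apply_coe, ιMulti_apply_coe, ExteriorAlgebra.ιMulti_apply,
    ExteriorAlgebra.ιMulti_apply, ExteriorAlgebra.ιMulti_apply, ← List.prod_append, ← List.ofFn_fin_append]
  exact congrArg List.prod (congrArg List.ofFn (funext fun i => by
    refine Fin.addCases (fun j => ?_) (fun j => ?_) i <;> simp))

variable (f : A →ₗ[R] E) (g : E →ₗ[R] C)

/-- The product of the powers of the sub and of the whole; zero beyond the degree. -/
def mu (k i : ℕ) : ↥(⋀[R]^i A) ⊗[R] ↥(⋀[R]^(k - i) E) →ₗ[R] ↥(⋀[R]^k E) :=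
  if h : i ≤ k then TensorProduct.lift ((wedge i (k - i) k (by omega)).comp (exteriorPower.map i f)) else 0

lemma mu_tmul {k i : ℕ} (h : i ≤ k) (x : ↥(⋀[R]^i A)) (y : ↥(⋀[R]^(k - i) E)) :
    (mu f k i (x ⊗ₜ y) : ExteriorAlgebra R E) = (exteriorPower.map i f x : ExteriorAlgebra R E) * y := by
  rw [mu, dif_pos h]
  rfl

lemma mu_smul_left {k i : ℕ} (c : R) (x : ↥(⋀[R]^i A)) (y : ↥(⋀[R]^(k - i) E)) :
    mu f k i ((c • x) ⊗ₜ y) = c • mu f k i (x ⊗ₜ y) := by
  rw [← TensorProduct.smul_tmul', map_smul]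

lemma mu_smul_right {k i : ℕ} (c : R) (x : ↥(⋀[R]^i A)) (y : ↥(⋀[R]^(k - i) E)) :
    mu f k i (x ⊗ₜ (c • y)) = c • mu f k i (x ⊗ₜ y) := by
  rw [TensorProduct.tmul_smul, map_smul]

/-- The projection to the graded piece. -/
def pr (k i : ℕ) : ↥(⋀[R]^i A) ⊗[R] ↥(⋀[R]^(k - i) E) →ₗ[R] ↥(⋀[R]^i A) ⊗[R] ↥(⋀[R]^(k - i) C) :=
  LinearMap.lTensor _ (exteriorPower.map (k - i) g)

lemma map_val {M N : Type u} [AddCommGroup M] [Module R M] [AddCommGroup N] [Module R N] (n : ℕ) (φ : M →ₗ[R] N)
    (x : ↥(⋀[R]^n M)) :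
    (exteriorPower.map n φ x : ExteriorAlgebra R N) = ExteriorAlgebra.map φ x := by
  refine LinearMap.congr_fun (show (Submodule.subtype _).comp (exteriorPower.map n φ) =
    (ExteriorAlgebra.map φ).toLinearMap.comp (Submodule.subtype _) from ?_) x
  refine exteriorPower.linearMap_ext (AlternatingMap.ext fun v => ?_)
  show (exteriorPower.map n φ (ιMulti R n v) : ExteriorAlgebra R N) = ExteriorAlgebra.map φ (ιMulti R n v : ↥(⋀[R]^n M))
  rw [map_apply_ιMulti, ιMulti_apply_coe, ιMulti_apply_coe, ExteriorAlgebra.map_apply_ιMulti]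

lemma range_map_val {M N : Type u} [AddCommGroup M] [Module R M] [AddCommGroup N] [Module R N] (n : ℕ)
    (φ : M →ₗ[R] N) (z : ExteriorAlgebra R N)
    (hz : z ∈ (LinearMap.range ((ExteriorAlgebra.ι R).comp φ)) ^ n) :
    ∃ x : ↥(⋀[R]^n M), (exteriorPower.map n φ x : ExteriorAlgebra R N) = z := by
  have h : (LinearMap.range ((ExteriorAlgebra.ι R).comp φ)) =
      Submodule.map (ExteriorAlgebra.map φ).toLinearMap (LinearMap.range (ExteriorAlgebra.ι R (M := M))) := by
    rw [← LinearMap.range_comp]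
    congr 1
    exact LinearMap.ext fun m => (ExteriorAlgebra.map_apply_ι φ m).symm
  rw [h, ← Submodule.map_pow] at hz
  obtain ⟨x, hx, rfl⟩ := hz
  exact ⟨⟨x, hx⟩, map_val n φ _⟩

section split

variable (σ : C →ₗ[R] E)

/-- The image of the sub. -/
abbrev PP : Submodule R (ExteriorAlgebra R E) := LinearMap.range ((ExteriorAlgebra.ι R).comp f)

/-- The image of a complement. -/
abbrev SS : Submodule R (ExteriorAlgebra R E) := LinearMap.range ((ExteriorAlgebra.ι R).comp σ)

/-- All vectors. -/
abbrev WW : Submodule R (ExteriorAlgebra R E) := LinearMap.range (ExteriorAlgebra.ι R (M := E))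

lemma mul_anticomm (V W : Submodule R (ExteriorAlgebra R E)) (hV : V ≤ WW) (hW : W ≤ WW) : V * W ≤ W * V := by
  rw [Submodule.mul_le]
  intro x hx y hy
  obtain ⟨a, rfl⟩ := hV hx
  obtain ⟨b, rfl⟩ := hW hy
  rw [eq_neg_of_add_eq_zero_left (ExteriorAlgebra.ι_add_mul_swap a b)]
  exact Submodule.neg_mem _ (Submodule.mul_mem_mul hy hx)

lemma mul_pow_anticomm (V W : Submodule R (ExteriorAlgebra R E)) (hV : V ≤ WW) (hW : W ≤ WW) :
    ∀ i : ℕ, V * W ^ i ≤ W ^ i * V
  | 0 => by simp
  | i + 1 => by
    rw [pow_succ, ← mul_assoc]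
    refine (mul_le_mul_left (mul_pow_anticomm V W hV hW i) _).trans ?_
    rw [mul_assoc, mul_assoc]
    exact mul_le_mul_right (mul_anticomm V W hV hW) _

lemma PP_le : PP f ≤ WW := LinearMap.range_comp_le_range _ _

lemma SS_le : SS σ ≤ WW := LinearMap.range_comp_le_range _ _

variable {f g σ}

lemma WW_le (hσ : ∀ y, g (σ y) = y) (hfg : ∀ x, g x = 0 ↔ ∃ y, f y = x) : (WW : Submodule R _) ≤ PP f ⊔ SS σ := by
  rintro _ ⟨e, rfl⟩
  obtain ⟨a, ha⟩ := (hfg (e - σ (g e))).1 (by rw [map_sub, hσ, sub_self])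
  rw [show e = f a + σ (g e) by rw [ha, sub_add_cancel], map_add]
  exact Submodule.add_mem_sup ⟨a, rfl⟩ ⟨g e, rfl⟩

lemma WW_pow_le (hσ : ∀ y, g (σ y) = y) (hfg : ∀ x, g x = 0 ↔ ∃ y, f y = x) :
    ∀ m : ℕ, (WW : Submodule R _) ^ m ≤ ⨆ i ∈ Finset.range (m + 1), PP f ^ i * SS σ ^ (m - i)
  | 0 => le_iSup₂_of_le 0 (by simp) (by simp)
  | m + 1 => by
    rw [pow_succ']
    refine (mul_le_mul' (WW_le hσ hfg) (WW_pow_le hσ hfg m)).trans ?_
    simp only [Submodule.mul_iSup, Submodule.sup_mul]
    refine iSup₂_le fun i hi => sup_le ?_ ?_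
    · rw [Finset.mem_range] at hi
      refine le_iSup₂_of_le (i + 1) (Finset.mem_range.2 (by omega)) ?_
      rw [← mul_assoc, ← pow_succ', show m + 1 - (i + 1) = m - i by omega]
    · rw [Finset.mem_range] at hi
      refine le_iSup₂_of_le i (Finset.mem_range.2 (by omega)) ?_
      rw [← mul_assoc, show m + 1 - i = (m - i) + 1 by omega, pow_succ', ← mul_assoc]
      exact mul_le_mul_left (mul_pow_anticomm _ _ (SS_le σ) (PP_le f) i) _

/-- The complement term. -/
def piece (f : A →ₗ[R] E) (σ : C →ₗ[R] E) (k i : ℕ) :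
    ↥(⋀[R]^i A) ⊗[R] ↥(⋀[R]^(k - i) C) →ₗ[R] ↥(⋀[R]^k E) :=
  (mu f k i).comp (LinearMap.lTensor _ (exteriorPower.map (k - i) σ))

lemma PS_pow_le (σ : C →ₗ[R] E) {k i : ℕ} (hi : i ≤ k) : PP f ^ i * SS σ ^ (k - i) ≤ ⋀[R]^k E := by
  refine (mul_le_mul' (pow_le_pow_left' (PP_le f) _) (pow_le_pow_left' (SS_le σ) _)).trans ?_
  rw [← pow_add, Nat.add_sub_cancel' hi]

lemma map_mem_pow {i : ℕ} (a : ↥(⋀[R]^i A)) : (exteriorPower.map i f a : ExteriorAlgebra R E) ∈ PP f ^ i := by
  have h : (LinearMap.range ((ExteriorAlgebra.ι R).comp f)) =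
      Submodule.map (ExteriorAlgebra.map f).toLinearMap (LinearMap.range (ExteriorAlgebra.ι R (M := A))) := by
    rw [← LinearMap.range_comp]
    congr 1
    exact LinearMap.ext fun m => (ExteriorAlgebra.map_apply_ι f m).symm
  show _ ∈ (LinearMap.range ((ExteriorAlgebra.ι R).comp f)) ^ i
  rw [h, ← Submodule.map_pow, map_val]
  exact ⟨a, a.2, rfl⟩

lemma mem_range_piece {k i : ℕ} (hi : i ≤ k) {z : ↥(⋀[R]^k E)}
    (hz : (z : ExteriorAlgebra R E) ∈ PP f ^ i * SS σ ^ (k - i)) : z ∈ LinearMap.range (piece f σ k i) := by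
  have key : PP f ^ i * SS σ ^ (k - i) ≤
      Submodule.map (Submodule.subtype _) (LinearMap.range (piece f σ k i)) := by
    rw [Submodule.mul_le]
    intro x hx y hy
    obtain ⟨a, rfl⟩ := range_map_val i f x hx
    obtain ⟨c, rfl⟩ := range_map_val (k - i) σ y hy
    refine ⟨_, ⟨a ⊗ₜ c, rfl⟩, ?_⟩
    show ((mu f k i) (a ⊗ₜ exteriorPower.map (k - i) σ c) : ExteriorAlgebra R E) = _
    rw [mu_tmul f hi]
  obtain ⟨w, hw, he⟩ := key hz
  rwa [← Subtype.ext (show (w : ExteriorAlgebra R E) = z from he)]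

end split

variable {f g}

/-- The graded comparison. -/
def theta (f : A →ₗ[R] E) (σ : C →ₗ[R] E) (k : ℕ) :
    ((i : Fin (k + 1)) → ↥(⋀[R]^i.1 A) ⊗[R] ↥(⋀[R]^(k - i.1) C)) →ₗ[R] ↥(⋀[R]^k E) :=
  ∑ i : Fin (k + 1), (piece f σ k i.1).comp (LinearMap.proj i)

lemma theta_apply (σ : C →ₗ[R] E) (k : ℕ) (x : (i : Fin (k + 1)) → ↥(⋀[R]^i.1 A) ⊗[R] ↥(⋀[R]^(k - i.1) C)) :
    theta f σ k x = ∑ i : Fin (k + 1), piece f σ k i.1 (x i) := by
  simp [theta]

theorem bijective_theta {σ : C →ₗ[R] E} (hσ : ∀ y, g (σ y) = y) (hf : Function.Injective f)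
    (hfg : ∀ x, g x = 0 ↔ ∃ y, f y = x) {r m : ℕ} (bA : Module.Basis (Fin r) R A) (bC : Module.Basis (Fin m) R C)
    (k : ℕ) : Function.Bijective (theta f σ k) := by
  classical
  have hsurj : Function.Surjective (theta f σ k) := by
    intro z
    have hz : (z : ExteriorAlgebra R E) ∈ ⨆ i ∈ Finset.range (k + 1), PP f ^ i * SS σ ^ (k - i) :=
      WW_pow_le hσ hfg k z.2
    rw [Submodule.mem_iSup_finset_iff_exists_sum] at hz
    obtain ⟨μ, hμ⟩ := hz
    have hmem : ∀ i : Fin (k + 1), ((μ i.1) : ExteriorAlgebra R E) ∈ ⋀[R]^k E := fun i =>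
      PS_pow_le (f := f) σ (Nat.le_of_lt_succ i.2) (μ i.1).2
    choose x hx using fun i : Fin (k + 1) => mem_range_piece (f := f) (σ := σ) (Nat.le_of_lt_succ i.2)
      (z := ⟨_, hmem i⟩) (μ i.1).2
    refine ⟨x, Subtype.ext ?_⟩
    rw [theta_apply, AddSubmonoidClass.coe_finsetSum, ← hμ, Finset.sum_range]
    exact Finset.sum_congr rfl fun i _ => by rw [hx i]
  have hb : Function.Bijective (f.coprod σ) := by
    refine ⟨(injective_iff_map_eq_zero _).2 fun z hz => ?_, fun x => ?_⟩
    · have hfz : g (f z.1) = 0 := (hfg _).2 ⟨_, rfl⟩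
      have h1 : z.2 = 0 := by
        have := congrArg g hz
        simpa [hσ, hfz] using this
      exact Prod.ext (hf (by simpa [h1] using hz)) h1
    · obtain ⟨y, hy⟩ := (hfg (x - σ (g x))).1 (by rw [map_sub, hσ, sub_self])
      exact ⟨(y, g x), by simp [hy]⟩
  let bE := ((bA.prod bC).reindex finSumFinEquiv).map (LinearEquiv.ofBijective _ hb)
  let B := Pi.basis fun i : Fin (k + 1) => (bA.exteriorPower i.1).tensorProduct (bC.exteriorPower (k - i.1))
  let B' := bE.exteriorPower k
  have hcard : Fintype.card (Σ i : Fin (k + 1), Set.powersetCard (Fin r) i.1 × Set.powersetCard (Fin m) (k - i.1)) =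
      Fintype.card (Set.powersetCard (Fin (r + m)) k) := by
    rw [Fintype.card_sigma]
    simp only [← Nat.card_eq_fintype_card, Nat.card_prod, Set.powersetCard.card, Nat.card_fin]
    rw [Nat.add_choose_eq, Finset.Nat.sum_antidiagonal_eq_sum_range_succ_mk, Finset.sum_range]
  have : Module.Finite R ((i : Fin (k + 1)) → ↥(⋀[R]^i.1 A) ⊗[R] ↥(⋀[R]^(k - i.1) C)) := Module.Finite.of_basis B
  let e := B'.equiv B (Fintype.equivOfCardEq hcard).symm
  refine ⟨?_, hsurj⟩
  have h2 : Function.Surjective (e.toLinearMap.comp (theta f σ k)) := e.surjective.comp hsurj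
  have h3 : Function.Injective (e.toLinearMap.comp (theta f σ k)) :=
    OrzechProperty.injective_of_surjective_endomorphism _ h2
  exact fun a b h => h3 (congrArg e h)

variable (f g) in
/-- The steps of the filtration; the last is zero. -/
def fil (k i : ℕ) : Submodule R ↥(⋀[R]^k E) := LinearMap.range (mu f k i)

lemma fil_zero (k : ℕ) : fil f k 0 = ⊤ := by
  rw [eq_top_iff]
  intro z _
  refine ⟨ιMulti R 0 Fin.elim0 ⊗ₜ z, Subtype.ext ?_⟩
  rw [mu_tmul f k.zero_le, map_apply_ιMulti, ιMulti_apply_coe, ExteriorAlgebra.ιMulti_apply]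
  simp

lemma fil_of_lt {k i : ℕ} (h : k < i) : fil f k i = ⊥ := by
  rw [fil, mu, dif_neg (by omega), LinearMap.range_zero]

lemma mem_fil {k i : ℕ} (hi : i ≤ k) (z : ↥(⋀[R]^k E)) :
    z ∈ fil f k i ↔ (z : ExteriorAlgebra R E) ∈ PP f ^ i * WW ^ (k - i) := by
  constructor
  · rintro ⟨x, rfl⟩
    induction x with
    | zero => simp
    | tmul a b =>
      rw [mu_tmul f hi]
      exact Submodule.mul_mem_mul (map_mem_pow a) b.2
    | add x y hx hy => rw [map_add]; exact add_mem hx hy
  · intro hz
    have key : PP f ^ i * WW ^ (k - i) ≤ Submodule.map (Submodule.subtype _) (fil f k i) := by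
      rw [Submodule.mul_le]
      intro x hx y hy
      obtain ⟨a, rfl⟩ := range_map_val i f x hx
      exact ⟨_, ⟨a ⊗ₜ ⟨y, hy⟩, rfl⟩, by
        show ((mu f k i) (a ⊗ₜ ⟨y, hy⟩) : ExteriorAlgebra R E) = _
        rw [mu_tmul f hi]⟩
    obtain ⟨w, hw, he⟩ := key hz
    rwa [← Subtype.ext (show (w : ExteriorAlgebra R E) = z from he)]

lemma fil_succ_le (k i : ℕ) : fil f k (i + 1) ≤ fil f k i := by
  by_cases hi : i + 1 ≤ k
  · intro z hz
    rw [mem_fil hi] at hz
    rw [mem_fil (by omega)]
    refine (show PP f ^ (i + 1) * WW ^ (k - (i + 1)) ≤ PP f ^ i * WW ^ (k - i) from ?_) hz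
    rw [pow_succ, mul_assoc, show k - i = (k - (i + 1)) + 1 by omega, pow_succ']
    exact mul_le_mul_right (mul_le_mul_left (PP_le f) _) _
  · rw [fil_of_lt (by omega : k < i + 1)]
    exact bot_le

/-- The data of the graded pieces. -/
theorem graded (hf : Function.Injective f) (hg : Function.Surjective g) (hfg : ∀ x, g x = 0 ↔ ∃ y, f y = x)
    {r m : ℕ} (bA : Module.Basis (Fin r) R A) (bC : Module.Basis (Fin m) R C) {k i : ℕ} (hi : i ≤ k)
    (x : ↥(⋀[R]^i A) ⊗[R] ↥(⋀[R]^(k - i) E)) :
    mu f k i x ∈ fil f k (i + 1) ↔ pr g k i x = 0 := by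
  classical
  choose t ht using fun j => hg (bC j)
  let σ : C →ₗ[R] E := bC.constr R t
  have hσ : ∀ y, g (σ y) = y := fun y =>
    LinearMap.congr_fun (bC.ext (fun j => show (g ∘ₗ σ) (bC j) = LinearMap.id (bC j) by simp [σ, ht])) y
  -- the difference with the lifted piece lies one step down
  have hdiff : mu f k i x - piece f σ k i (pr g k i x) ∈ fil f k (i + 1) := by
    induction x with
    | zero => simp
    | add x y hx hy => simpa [add_sub_add_comm] using add_mem hx hy
    | tmul a b =>
      rcases Nat.lt_or_eq_of_le hi with hlt | rfl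
      · rw [mem_fil (by omega)]
        show ((mu f k i (a ⊗ₜ b) : ExteriorAlgebra R E) -
          (mu f k i (a ⊗ₜ exteriorPower.map (k - i) σ (exteriorPower.map (k - i) g b)) : ExteriorAlgebra R E)) ∈ _
        rw [mu_tmul f hi, mu_tmul f hi, ← mul_sub, pow_succ, mul_assoc]
        have ha : (exteriorPower.map i f a : ExteriorAlgebra R E) ∈ PP f ^ i := map_mem_pow a
        refine Submodule.mul_mem_mul ha ?_
        have hd : ∀ (l : List E), (l.map (ExteriorAlgebra.ι R)).prod - ((l.map fun e => σ (g e)).map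
            (ExteriorAlgebra.ι R)).prod ∈ PP f * WW ^ (l.length - 1) := by
          intro l
          induction l with
          | nil => simp
          | cons e l ih =>
            obtain ⟨y, hy⟩ := (hfg (e - σ (g e))).1 (by rw [map_sub, hσ, sub_self])
            simp only [List.map_cons, List.prod_cons, List.length_cons, Nat.add_sub_cancel]
            rw [show ExteriorAlgebra.ι R e * (l.map (ExteriorAlgebra.ι R)).prod -
                ExteriorAlgebra.ι R (σ (g e)) * ((l.map fun e => σ (g e)).map (ExteriorAlgebra.ι R)).prod =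
                ExteriorAlgebra.ι R (e - σ (g e)) * (l.map (ExteriorAlgebra.ι R)).prod +
                ExteriorAlgebra.ι R (σ (g e)) * ((l.map (ExteriorAlgebra.ι R)).prod -
                  ((l.map fun e => σ (g e)).map (ExteriorAlgebra.ι R)).prod) by rw [map_sub, sub_mul, mul_sub]; abel]
            refine add_mem (Submodule.mul_mem_mul ⟨y, by rw [← hy]; rfl⟩ ?_) ?_
            · refine (show LinearMap.range (ExteriorAlgebra.ι R (M := E)) ^ l.length = WW ^ l.length from rfl).le ?_
              clear ih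
              induction l with
              | nil => simp
              | cons x l ih2 =>
                rw [List.map_cons, List.prod_cons, List.length_cons, pow_succ']
                exact Submodule.mul_mem_mul ⟨x, rfl⟩ ih2
            · rcases Nat.eq_zero_or_pos l.length with h0 | h0
              · rw [List.length_eq_zero_iff.mp h0]
                simp
              · have h3 := Submodule.mul_mem_mul (show ExteriorAlgebra.ι R (σ (g e)) ∈ (WW : Submodule R _) from ⟨_, rfl⟩) ih
                refine (show WW * (PP f * WW ^ (l.length - 1)) ≤ PP f * WW ^ l.length from ?_) h3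
                rw [← mul_assoc]
                refine (mul_le_mul_left (mul_anticomm _ _ le_rfl (PP_le f)) _).trans ?_
                rw [mul_assoc, ← pow_succ', Nat.sub_add_cancel h0]
        have hb : ∀ b : ↥(⋀[R]^(k - i) E), (b : ExteriorAlgebra R E) -
            (exteriorPower.map (k - i) σ (exteriorPower.map (k - i) g b) : ExteriorAlgebra R E) ∈
              PP f * WW ^ (k - (i + 1)) := by
          intro b
          have hb' : b ∈ Submodule.span R (Set.range (ιMulti R (k - i) (M := E))) := by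
            rw [ιMulti_span]; trivial
          induction hb' using Submodule.span_induction with
          | mem b hb' =>
            obtain ⟨v, rfl⟩ := hb'
            rw [map_apply_ιMulti, map_apply_ιMulti, ιMulti_apply_coe, ιMulti_apply_coe,
              ExteriorAlgebra.ιMulti_apply, ExteriorAlgebra.ιMulti_apply]
            have := hd (List.ofFn v)
            simpa [List.map_ofFn, Function.comp_def, show k - (i + 1) = k - i - 1 by omega] using this
          | zero => simp
          | add x y _ _ hx hy => simpa [add_sub_add_comm] using add_mem hx hy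
          | smul c x _ hx => simpa [smul_sub] using Submodule.smul_mem _ c hx
        exact hb b
      · have : mu f i i (a ⊗ₜ b) - piece f σ i i (pr g i i (a ⊗ₜ b)) = 0 := by
          refine Subtype.ext ?_
          show ((mu f i i (a ⊗ₜ b) : ExteriorAlgebra R E) -
            (mu f i i (a ⊗ₜ exteriorPower.map (i - i) σ (exteriorPower.map (i - i) g b)) : ExteriorAlgebra R E)) = 0
          rw [mu_tmul f hi, mu_tmul f hi, ← mul_sub]
          have hb0 : ∀ (n : ℕ) (hn : n = 0) (b : ↥(⋀[R]^n E)),
              (exteriorPower.map n σ (exteriorPower.map n g b) : ExteriorAlgebra R E) = b := by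
            rintro n rfl b
            refine congrArg Subtype.val (LinearMap.congr_fun (show (exteriorPower.map 0 σ).comp
              (exteriorPower.map 0 g) = LinearMap.id from exteriorPower.linearMap_ext (AlternatingMap.ext fun v => ?_)) b)
            show exteriorPower.map 0 σ (exteriorPower.map 0 g (ιMulti R 0 v)) = ιMulti R 0 v
            rw [map_apply_ιMulti, map_apply_ιMulti]
            exact congrArg _ (Subsingleton.elim _ _)
          rw [hb0 _ (Nat.sub_self i) b, sub_self, mul_zero]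
        rw [this]
        exact zero_mem _
  constructor
  · intro hx
    -- compare components
    have h1 : piece f σ k i (pr g k i x) ∈ fil f k (i + 1) := by
      simpa using sub_mem hx hdiff
    by_cases hlt : i + 1 ≤ k
    · have h2 : fil f k (i + 1) ≤ ⨆ (j : Fin (k + 1)) (_ : i + 1 ≤ j.1), LinearMap.range (piece f σ k j.1) := by
        intro z hz
        rw [mem_fil hlt] at hz
        have hle : PP f ^ (i + 1) * WW ^ (k - (i + 1)) ≤
            Submodule.map (Submodule.subtype (⋀[R]^k E))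
              (⨆ (j : Fin (k + 1)) (_ : i + 1 ≤ j.1), LinearMap.range (piece f σ k j.1)) := by
          refine (mul_le_mul_right (WW_pow_le hσ hfg _) _).trans ?_
          simp only [Submodule.mul_iSup, Submodule.map_iSup]
          refine iSup₂_le fun l hl => ?_
          rw [Finset.mem_range] at hl
          refine le_iSup₂_of_le ⟨i + 1 + l, by omega⟩ (by simp) ?_
          rw [← mul_assoc, ← pow_add, show k - (i + 1) - l = k - (i + 1 + l) by omega]
          intro w hw
          have hm : w ∈ ⋀[R]^k E := by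
            refine (show PP f ^ (i + 1 + l) * SS σ ^ (k - (i + 1 + l)) ≤ WW ^ k from ?_) hw
            exact (mul_le_mul' (pow_le_pow_left' (PP_le f) _) (pow_le_pow_left' (SS_le σ) _)).trans
              (by rw [← pow_add, show i + 1 + l + (k - (i + 1 + l)) = k by omega])
          exact ⟨⟨w, hm⟩, mem_range_piece (by omega) hw, rfl⟩
        obtain ⟨w, hw, he⟩ := hle hz
        rwa [← Subtype.ext (show (w : ExteriorAlgebra R E) = z from he)]
      have h3 := h2 h1
      obtain ⟨hinj, -⟩ := bijective_theta hσ hf hfg bA bC k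
      have h4 : (⨆ (j : Fin (k + 1)) (_ : i + 1 ≤ j.1), LinearMap.range (piece f σ k j.1)) ≤
          Submodule.map (theta f σ k) (⨅ (j : Fin (k + 1)) (_ : ¬ i + 1 ≤ j.1), LinearMap.ker (LinearMap.proj j)) := by
        refine iSup₂_le fun j hj => ?_
        rintro _ ⟨y, rfl⟩
        refine ⟨Pi.single j y, ?_, ?_⟩
        · simp only [SetLike.mem_coe, Submodule.mem_iInf, LinearMap.mem_ker, LinearMap.proj_apply]
          intro l hl
          exact Pi.single_eq_of_ne (by rintro rfl; exact hl hj) _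
        · rw [theta_apply, Finset.sum_eq_single j (fun b _ hb => by rw [Pi.single_eq_of_ne hb, map_zero]) (by simp),
            Pi.single_eq_same]
      obtain ⟨w, hw, he⟩ := h4 h3
      have hw0 : w ⟨i, by omega⟩ = 0 := by
        have := (Submodule.mem_iInf _).1 ((Submodule.mem_iInf _).1 hw ⟨i, by omega⟩) (by simp)
        simpa using this
      have hs : theta f σ k (Pi.single (⟨i, by omega⟩ : Fin (k + 1)) (pr g k i x)) = piece f σ k i (pr g k i x) := by
        rw [theta_apply, Finset.sum_eq_single (⟨i, by omega⟩ : Fin (k + 1))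
          (fun b _ hb => by rw [Pi.single_eq_of_ne hb, map_zero]) (by simp), Pi.single_eq_same]
      have := congrFun (hinj (he.trans hs.symm)) ⟨i, by omega⟩
      rw [hw0, Pi.single_eq_same] at this
      exact this.symm
    · rw [fil_of_lt (by omega : k < i + 1), Submodule.mem_bot] at h1
      obtain ⟨hinj, -⟩ := bijective_theta hσ hf hfg bA bC k
      have hs : theta f σ k (Pi.single (⟨i, by omega⟩ : Fin (k + 1)) (pr g k i x)) = piece f σ k i (pr g k i x) := by
        rw [theta_apply, Finset.sum_eq_single (⟨i, by omega⟩ : Fin (k + 1))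
          (fun b _ hb => by rw [Pi.single_eq_of_ne hb, map_zero]) (by simp), Pi.single_eq_same]
      have := congrFun (hinj (hs.trans (h1.trans (map_zero _).symm))) ⟨i, by omega⟩
      rwa [Pi.single_eq_same] at this
  · intro hx
    simpa [hx] using hdiff

end Groth.Agent.KRR40.ExtFiltAlg
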