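import Groth.Agent.KRR40.ExtFilt
import Groth.Agent.Amp73.Powers
import Groth.Agent.Amp73.TensorFrame
import Groth.Agent.Mero90.Frames
import Groth.Agent.FBase64.ExtPow.Unique

/-!
The exterior powers of a twist by an invertible module.
-/

set_option autoImplicit false
set_option backward.isDefEq.respectTransparency.types false
set_option linter.style.haveILetI false

noncomputable section

universe u

open CategoryTheory AlgebraicGeometry TopologicalSpace Opposite exteriorPower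
open Groth.Agent

namespace Groth.Agent.KRR40.ExtTwist

open QC70


variable {X : Scheme.{u}} {M N : X.Modules}

/-- Morphisms from compatible linear maps on a stable covering class of affine opens. -/
theorem exists_hom_of_affine_on [M.IsQuasicoherent] (S : X.affineOpens → Prop)
    (hS : ∀ (V : X.affineOpens) (g : Γ(X, V.1)), S V → S ⟨X.basicOpen g, V.2.basicOpen g⟩)
    (hcov : ∀ p : X, ∃ V : X.affineOpens, S V ∧ p ∈ V.1)
    (l : ∀ V : {V : X.affineOpens // S V}, Γ(M, V.1.1) →ₗ[Γ(X, V.1.1)] Γ(N, V.1.1))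
    (hl : ∀ (W V : {V : X.affineOpens // S V}) (h : W.1.1 ≤ V.1.1) (s : Γ(M, V.1.1)),
      l W (res M h s) = res N h (l V s)) :
    ∃ φ : M ⟶ N, ∀ (V : {V : X.affineOpens // S V}) (s : Γ(M, V.1.1)), φ.app V.1.1 s = l V s := by
  let φ₀ := fun V : {V : X.affineOpens // S V} => HomOn.ofLinear V.1.2 (l V)
  have hle : ∀ (V : {V : X.affineOpens // S V}) (g : Γ(X, V.1.1)) (s : Γ(M, X.basicOpen g)),
      (φ₀ V).app (X.basicOpen g) (X.basicOpen_le g) s =
        l ⟨⟨X.basicOpen g, V.1.2.basicOpen g⟩, hS _ g V.2⟩ s := fun V g s => by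
    obtain ⟨n, t, ht⟩ := (isLocAt_of_isQuasicoherent M V.1.2).exists_of g s
    have hu : IsUnit (resO X (X.basicOpen_le g) g ^ n) :=
      (RingedSpace.isUnit_res_basicOpen X.toRingedSpace g).pow n
    apply hu.smul_left_cancel.mp
    rw [← LinearMap.map_smul, ← LinearMap.map_smul (l ⟨⟨X.basicOpen g, V.1.2.basicOpen g⟩, hS _ g V.2⟩), ← ht,
      (φ₀ V).app_res le_rfl, HomOn.ofLinear_app_self,
      hl ⟨⟨X.basicOpen g, V.1.2.basicOpen g⟩, hS _ g V.2⟩ V (X.basicOpen_le g) t]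
  have hc : HomOn.Compatible φ₀ := fun i j T hi hj s => by
    refine section_ext N _ _ fun p hp => ?_
    obtain ⟨T', hT', hpT', hT'le⟩ := exists_isAffineOpen_mem_and_subset (U := T) hp
    obtain ⟨g₁, g', e', hp'⟩ := exists_basicOpen_le_affine_inter i.1.2 hT' p ⟨hi hp, hpT'⟩
    have hD : IsAffineOpen (X.basicOpen g₁) := i.1.2.basicOpen g₁
    have hDT : X.basicOpen g₁ ≤ T := (e'.le.trans (X.basicOpen_le g')).trans hT'le
    obtain ⟨a, b, e, hpa⟩ := exists_basicOpen_le_affine_inter hD j.1.2 p ⟨hp', hj hp⟩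
    have haD : X.basicOpen a ≤ X.basicOpen g₁ := X.basicOpen_le a
    obtain ⟨a', ha'⟩ : ∃ a' : Γ(X, i.1.1), X.basicOpen a' = X.basicOpen a := by
      obtain ⟨a'', h⟩ := IsAffineOpen.basicOpen_basicOpen_is_basicOpen i.1.2 g₁ a
      exact ⟨a'', h⟩
    refine ⟨X.basicOpen a, haD.trans hDT, hpa, ?_⟩
    rw [← (φ₀ i).app_res hi (haD.trans hDT), ← (φ₀ j).app_res hj (haD.trans hDT)]
    have key : ∀ (V : {V : X.affineOpens // S V}) (g : Γ(X, V.1.1)) (O : X.Opens) (hO : O = X.basicOpen g)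
        (hOV : O ≤ V.1.1) (hOa : IsAffineOpen O) (hOS : S ⟨O, hOa⟩) (t : Γ(M, O)),
        (φ₀ V).app O hOV t = l ⟨⟨O, hOa⟩, hOS⟩ t := by
      intro V g O hO hOV hOa hOS t
      subst hO
      exact hle V g t
    rw [key i a' _ ha'.symm _ (hD.basicOpen a) (by
        have := hS _ a (hS _ g₁ i.2); exact this) _,
      key j b _ e _ (hD.basicOpen a) (by have := hS _ a (hS _ g₁ i.2); exact this) _]
  have htop : (⊤ : X.Opens) ≤ ⨆ V : {V : X.affineOpens // S V}, V.1.1 := fun p _ => by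
    obtain ⟨V, hV, hp⟩ := hcov p
    exact Opens.mem_iSup.2 ⟨⟨V, hV⟩, hp⟩
  refine ⟨(HomOn.glue hc htop).toHom, fun V s => ?_⟩
  rw [HomOn.toHom_app, HomOn.glue_app hc htop le_top V le_rfl, HomOn.ofLinear_app_self]

variable {E L : X.Modules}

/-- Tensoring with a frame, as an equivalence. -/
def frameEquiv (F : X.Modules) {U : X.Opens} {e : Γ(L, U)} (he : Var76.LineBundle.IsFrame L U e) :
    Γ(F, U) ≃ₗ[Γ(X, U)] Γ(CohB1.tensorMod F L, U) :=
  LinearEquiv.ofBijective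
    { toFun := fun m => Amp73.tm F L m e
      map_add' := fun a b => Amp73.tm_add_left a b e
      map_smul' := fun a m => Amp73.tm_smul_left a m e }
    (by
      have h0 : Var76.LineBundle.res L (le_refl U) e = e := QC70.res_self e
      refine ⟨fun a b h => Amp73.tm_frame_injective he le_rfl a b (by rw [h0]; exact h), fun z => ?_⟩
      obtain ⟨m, hm⟩ := Amp73.exists_eq_tm_frame he le_rfl z
      exact ⟨m, by rw [h0] at hm; exact hm⟩)

lemma frameEquiv_apply (F : X.Modules) {U : X.Opens} {e : Γ(L, U)} (he : Var76.LineBundle.IsFrame L U e) (m : Γ(F, U)) :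
    frameEquiv F he m = Amp73.tm F L m e := rfl

/-- The local comparison. -/
def phi (k : ℕ) {P Q : X.Modules} {W : X.Opens}
    (ψP : ↥(⋀[Γ(X, W)]^k Γ(CohB1.tensorMod E L, W)) ≃ₗ[Γ(X, W)] Γ(P, W))
    (ψQ : ↥(⋀[Γ(X, W)]^k Γ(E, W)) ≃ₗ[Γ(X, W)] Γ(Q, W)) {e : Γ(L, W)} (he : Var76.LineBundle.IsFrame L W e) :
    Γ(P, W) →ₗ[Γ(X, W)] Γ(CohB1.tensorMod Q (CohB1.tensorPow L k), W) :=
  (frameEquiv Q (Amp73.isFrame_epow he k)).toLinearMap.comp (ψQ.toLinearMap.comp
    ((exteriorPower.map k (frameEquiv E he).symm.toLinearMap).comp ψP.symm.toLinearMap))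

lemma phi_ιMulti (k : ℕ) {P Q : X.Modules} {W : X.Opens}
    (ψP : ↥(⋀[Γ(X, W)]^k Γ(CohB1.tensorMod E L, W)) ≃ₗ[Γ(X, W)] Γ(P, W))
    (ψQ : ↥(⋀[Γ(X, W)]^k Γ(E, W)) ≃ₗ[Γ(X, W)] Γ(Q, W)) {e : Γ(L, W)} (he : Var76.LineBundle.IsFrame L W e)
    (v : Fin k → Γ(E, W)) :
    phi k ψP ψQ he (ψP (ιMulti Γ(X, W) k fun i => Amp73.tm E L (v i) e)) =
      Amp73.tm Q (CohB1.tensorPow L k) (ψQ (ιMulti Γ(X, W) k v)) (Amp73.epow e k) := by
  simp only [phi, LinearMap.comp_apply, LinearEquiv.coe_coe, LinearEquiv.symm_apply_apply, map_apply_ιMulti,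
    frameEquiv_apply]
  refine congrArg (fun z => Amp73.tm Q _ (ψQ (ιMulti Γ(X, W) k z)) _) (funext fun i => ?_)
  show (frameEquiv E he).symm (Amp73.tm E L (v i) e) = v i
  rw [← frameEquiv_apply E he, LinearEquiv.symm_apply_apply]

lemma res_tm' {F G : X.Modules} {U V : X.Opens} (h : V ≤ U) (m : Γ(F, U)) (n : Γ(G, U)) :
    res (CohB1.tensorMod F G) h (Amp73.tm F G m n) = Amp73.tm F G (res F h m) (res G h n) := Amp73.res_tm h m n

lemma res_epow' {U V : X.Opens} (h : V ≤ U) (e : Γ(L, U)) (n : ℕ) :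
    res (CohB1.tensorPow L n) h (Amp73.epow e n) = Amp73.epow (res L h e) n := Amp73.res_epow h e n

/-- The local comparisons are natural. -/
theorem res_phi (k : ℕ) {P Q : X.Modules} {W V : X.Opens} (h : W ≤ V)
    {ψP : ↥(⋀[Γ(X, V)]^k Γ(CohB1.tensorMod E L, V)) ≃ₗ[Γ(X, V)] Γ(P, V)}
    {ψP' : ↥(⋀[Γ(X, W)]^k Γ(CohB1.tensorMod E L, W)) ≃ₗ[Γ(X, W)] Γ(P, W)}
    (hP : ∀ x, res P h (ψP x) = ψP' (Om3.resExt _ k h x))
    {ψQ : ↥(⋀[Γ(X, V)]^k Γ(E, V)) ≃ₗ[Γ(X, V)] Γ(Q, V)}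
    {ψQ' : ↥(⋀[Γ(X, W)]^k Γ(E, W)) ≃ₗ[Γ(X, W)] Γ(Q, W)}
    (hQ : ∀ x, res Q h (ψQ x) = ψQ' (Om3.resExt _ k h x))
    {e : Γ(L, V)} (he : Var76.LineBundle.IsFrame L V e) {e' : Γ(L, W)} (he' : Var76.LineBundle.IsFrame L W e') (s : Γ(P, V)) :
    phi k ψP' ψQ' he' (res P h s) = res _ h (phi k ψP ψQ he s) := by
  obtain ⟨x, rfl⟩ := ψP.surjective s
  refine DFunLike.congr_fun (Om3.semilinear_ext (resO X h)
    (AddMonoidHom.mk' (fun x => phi k ψP' ψQ' he' (res P h (ψP x))) fun a b => by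
      rw [map_add, res_add, map_add])
    (AddMonoidHom.mk' (fun x => res _ h (phi k ψP ψQ he (ψP x))) fun a b => by
      rw [map_add, map_add, res_add])
    (fun r m => ?_) (fun r m => ?_) (ιMulti_span Γ(X, V) k _) ?_) x
  · show phi k ψP' ψQ' he' (res P h (ψP (r • m))) = _
    rw [map_smul, res_smul, map_smul]
    rfl
  · show res _ h (phi k ψP ψQ he (ψP (r • m))) = _
    rw [map_smul, map_smul, res_smul]
    rfl
  rintro _ ⟨v, rfl⟩
  obtain ⟨v, rfl⟩ : ∃ w : Fin k → Γ(E, V), (fun i => Amp73.tm E L (w i) e) = v :=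
    ⟨fun i => (frameEquiv E he).symm (v i), funext fun i => (frameEquiv E he).apply_symm_apply (v i)⟩
  show phi k ψP' ψQ' he' (res P h (ψP (ιMulti _ k fun i => Amp73.tm E L (v i) e))) =
    res _ h (phi k ψP ψQ he (ψP (ιMulti _ k fun i => Amp73.tm E L (v i) e)))
  rw [phi_ιMulti, hP, Om3.resExt_ιMulti, res_tm', hQ, Om3.resExt_ιMulti, res_epow']
  obtain ⟨c, hc⟩ : ∃ c : Γ(X, W), res L h e = c • e' := by
    obtain ⟨c, hc⟩ := (he' W le_rfl).2 (res L h e)
    exact ⟨c, hc.symm.trans (congrArg (c • ·) (QC70.res_self e'))⟩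
  simp only [res_tm', hc, Amp73.tm_smul_right, Amp73.epow_smul]
  rw [AlternatingMap.map_smul_univ, map_smul, map_smul, phi_ιMulti, Fin.prod_const]

/-- Exterior powers of twists. -/
theorem nonempty_iso (hE : FlatMod.IsFinLocFree E) (hL : PicF.IsInvertible L) (k : ℕ) {P Q : X.Modules}
    (hP : ExtPow.IsExtPow k (CohB1.tensorMod E L) P) (hQ : ExtPow.IsExtPow k E Q) :
    Nonempty (P ≅ CohB1.tensorMod Q (CohB1.tensorPow L k)) := by
  haveI := Props58.LocFree.isQuasicoherent_of_isFinLocFree hE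
  haveI := Props58.LocFree.isQuasicoherent_of_isFinLocFree (KRR40.vb_of_isInvertible hL)
  haveI := QCTens72.isQuasicoherent_tensorMod E L
  haveI := Om3.isQuasicoherent_of_isExtPow hP
  haveI := Om3.isQuasicoherent_of_isExtPow hQ
  haveI := Props58.LocFree.isQuasicoherent_of_isFinLocFree
    (KRR40.vb_of_isInvertible (EGA73.isInvertible_tensorPow hL k))
  obtain ⟨ψP, hψP⟩ := Om3.exists_psi hP
  obtain ⟨ψQ, hψQ⟩ := Om3.exists_psi hQ
  let S : X.affineOpens → Prop := fun V => ∃ e : Γ(L, V.1), Var76.LineBundle.IsFrame L V.1 e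
  have hcov : ∀ p : X, ∃ V : X.affineOpens, S V ∧ p ∈ V.1 := fun p => by
    obtain ⟨U, hp, e, he⟩ := Mero90.exists_frame' hL p
    obtain ⟨W, hW, hpW, hle⟩ := exists_isAffineOpen_mem_and_subset hp
    exact ⟨⟨W, hW⟩, ⟨_, he.res hle⟩, hpW⟩
  obtain ⟨φ, hφ⟩ := exists_hom_of_affine_on (M := P) (N := CohB1.tensorMod Q (CohB1.tensorPow L k)) S
    (fun V g ⟨e, he⟩ => ⟨_, he.res (X.basicOpen_le g)⟩) hcov
    (fun V => phi k (ψP V.1) (ψQ V.1) V.2.choose_spec)
    fun W V h s => res_phi k h (hψP V.1 W.1 h) (hψQ V.1 W.1 h) V.2.choose_spec W.2.choose_spec s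
  choose V hV hpV using hcov
  haveI := QCTens72.isQuasicoherent_tensorMod Q (CohB1.tensorPow L k)
  haveI : IsIso φ := EGA73.isIso_of_bijective_cover φ (fun p : X => (V p).1) (fun p => (V p).2)
    (fun p => ⟨p, hpV p⟩) fun p => by
      refine (congrArg Function.Bijective (funext fun s => hφ ⟨V p, hV p⟩ s)).mpr ?_
      have he := (hV p).choose_spec
      exact (frameEquiv Q (Amp73.isFrame_epow he k)).bijective.comp ((ψQ (V p)).bijective.comp
        ((show Function.Bijective (exteriorPower.map k (frameEquiv E he).symm.toLinearMap) from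
          ⟨exteriorPower.map_injective (frameEquiv E he).toLinearMap
            (LinearMap.ext fun x => (frameEquiv E he).apply_symm_apply x),
            exteriorPower.map_surjective (frameEquiv E he).symm.surjective⟩).comp (ψP (V p)).symm.bijective))
  exact ⟨asIso φ⟩

end Groth.Agent.KRR40.ExtTwist
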