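import Groth.Agent.KRR40.PnUnit
import Groth.Agent.Serre71.Finite
import Groth.Agent.Serre71.ProjFinite
import Mathlib.RingTheory.Flat.EquationalCriterion

/-!
Direct images of finite locally free modules without higher cohomology are finite locally free.
-/

set_option autoImplicit false
set_option linter.style.haveILetI false
set_option backward.isDefEq.respectTransparency.types false
set_option maxSynthPendingDepth 6

noncomputable section

universe u

open CategoryTheory CategoryTheory.Limits AlgebraicGeometry TopologicalSpace Opposite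
open Groth.Agent.Var76.Reg Groth.Agent.Var76.LineBundle

namespace Groth.Agent.KRR40

section Basics

variable {X : Scheme.{u}}

lemma flat_stalk_of_vb {F : X.Modules} (hF : FlatMod.IsFinLocFree F) (x : X) :
    Module.Flat (X.presheaf.stalk x) (F.presheaf.stalk x) := by
  haveI := Props58.LocFree.free_stalk_of_isFinLocFree hF x
  infer_instance

lemma preservesColimits_tensorBi (F : X.Modules) : PreservesColimitsOfSize.{u, u} (DCoh.tensorBi.obj F) := by
  have h : PreservesColimitsOfSize.{u, u} (Mod48.tL (O := X.sheaf) F) := ⟨inferInstance⟩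
  exact h

lemma tm_zero_right' {M N : X.Modules} {U : X.Opens} (m : Γ(M, U)) : Amp73.tm M N m (0 : Γ(N, U)) = 0 := by
  have h := Amp73.tm_smul_right (0 : Γ(X, U)) m (0 : Γ(N, U))
  rwa [zero_smul, zero_smul] at h

lemma isFrame_one (U : X.Opens) : IsFrame (Coh.structureModule X) U ((1 : Γ(X, U)) : Γ(Coh.structureModule X, U)) := by
  intro V hV
  have : (fun a : Γ(X, V) => a • res (Coh.structureModule X) hV ((1 : Γ(X, U)) : Γ(Coh.structureModule X, U))) =
      fun a : Γ(X, V) => (a : Γ(Coh.structureModule X, V)) := by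
    funext a
    refine (congrArg (a • ·) (map_one (X.presheaf.map (homOfLE hV).op).hom)).trans ?_
    exact mul_one a
  rw [this]
  exact Function.bijective_id

end Basics

variable (n : ℕ) {A : Type u} [CommRing A] {F : (CohB1.ProjSpace n A).Modules} (hF : FlatMod.IsFinLocFree F)
  (hvan : ∀ i, 1 ≤ i → Subsingleton (Coh.HH (CohB1.ProjSpace n A) F i))

/-- Inverse image from the ring, tensored with a module. -/
abbrev pullTens (F : (CohB1.ProjSpace n A).Modules) :
    (Spec (CommRingCat.of A)).Modules ⥤ (CohB1.ProjSpace n A).Modules :=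
  Scheme.Modules.pullback (CohB1.ProjSpace.toSpec n A) ⋙ DCoh.tensorBi.obj F

/-- The section `m ⊗ g`. -/
def pairS (G : (Spec (CommRingCat.of A)).Modules) (m : Γ(F, ⊤)) (g : Γ(G, ⊤)) :
    Γ((pullTens n F).obj G, ⊤) :=
  Amp73.tm F ((Scheme.Modules.pullback (CohB1.ProjSpace.toSpec n A)).obj G) m
    (Amp73.pullS (CohB1.ProjSpace.toSpec n A) G ⊤ g)

lemma pairS_map {G H : (Spec (CommRingCat.of A)).Modules} (φ : G ⟶ H) (m : Γ(F, ⊤)) (g : Γ(G, ⊤)) :
    ((pullTens n F).map φ).app ⊤ (pairS n G m g) = pairS n H m (φ.app ⊤ g) :=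
  (whiskL_tm F ((Scheme.Modules.pullback (CohB1.ProjSpace.toSpec n A)).map φ) m _).trans
    (congrArg (Amp73.tm F _ m) (Amp73.map_app_pullS (CohB1.ProjSpace.toSpec n A) φ ⊤ g))

lemma pairS_smul (G : (Spec (CommRingCat.of A)).Modules) (a : Γ(Spec (CommRingCat.of A), ⊤)) (m : Γ(F, ⊤)) (g : Γ(G, ⊤)) :
    pairS n G m (a • g) =
      pairS n G ((show Γ(CohB1.ProjSpace n A, ⊤) from (CohB1.ProjSpace.toSpec n A).app ⊤ a) • m) g :=
  ((congrArg (Amp73.tm F _ m) (Amp73.pullS_smul _ G ⊤ a g)).trans (Amp73.tm_smul_right _ m _)).trans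
    (Amp73.tm_smul_left _ m _).symm

lemma pairS_add_left (G : (Spec (CommRingCat.of A)).Modules) (m m' : Γ(F, ⊤)) (g : Γ(G, ⊤)) :
    pairS n G (m + m') g = pairS n G m g + pairS n G m' g :=
  Amp73.tm_add_left (L := F) m m' (Amp73.pullS (CohB1.ProjSpace.toSpec n A) G ⊤ g)

lemma pairS_zero_left (G : (Spec (CommRingCat.of A)).Modules) (g : Γ(G, ⊤)) :
    pairS n G (0 : Γ(F, ⊤)) g = 0 :=
  Amp73.tm_zero_left (L := F) (Amp73.pullS (CohB1.ProjSpace.toSpec n A) G ⊤ g)

lemma pairS_zero_right (G : (Spec (CommRingCat.of A)).Modules) (m : Γ(F, ⊤)) :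
    pairS n G m (0 : Γ(G, ⊤)) = 0 := by
  have h : Amp73.pullS (CohB1.ProjSpace.toSpec n A) G ⊤ (0 : Γ(G, ⊤)) = 0 :=
    map_zero (((Scheme.Modules.pullbackPushforwardAdjunction (CohB1.ProjSpace.toSpec n A)).unit.app G).app ⊤).hom
  unfold pairS
  rw [h]
  exact tm_zero_right' m

lemma pairS_sum {κ : Type*} (G : (Spec (CommRingCat.of A)).Modules) (s : Finset κ) (m : κ → Γ(F, ⊤)) (g : Γ(G, ⊤)) :
    pairS n G (∑ i ∈ s, m i) g = ∑ i ∈ s, pairS n G (m i) g :=
  map_sum (AddMonoidHom.mk' (fun a => pairS n G a g) fun a b => pairS_add_left n G a b g) _ _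

lemma app_sum_pullTens {M N : (Spec (CommRingCat.of A)).Modules} (a : M ⟶ N) {κ : Type*} (s : Finset κ)
    (y : κ → Γ((pullTens n F).obj M, ⊤)) :
    ((pullTens n F).map a).app ⊤ (∑ i ∈ s, y i) = ∑ i ∈ s, ((pullTens n F).map a).app ⊤ (y i) :=
  map_sum (((pullTens n F).map a).app ⊤).hom _ _

/-- The unit of the structure sheaf of the base. -/
abbrev oneS : Γ(Coh.structureModule (Spec (CommRingCat.of A)), ⊤) := (1 : Γ(Spec (CommRingCat.of A), ⊤))

lemma bijective_pairS_one :
    Function.Bijective fun m : Γ(F, ⊤) => pairS n (Coh.structureModule (Spec (CommRingCat.of A))) m oneS := by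
  have he := Amp73.isFrame_pullS (CohB1.ProjSpace.toSpec n A)
    (EGA73.isInvertible_structureModule (X := Spec (CommRingCat.of A))) (isFrame_one ⊤)
  constructor
  · intro a b h
    refine Amp73.tm_frame_injective he le_rfl a b ?_
    rw [Amp73.res_self]
    exact h
  · intro z
    obtain ⟨m, hm⟩ := Amp73.exists_eq_tm_frame he le_rfl z
    rw [Amp73.res_self] at hm
    exact ⟨m, hm⟩

include hF in
lemma shortExact_pullTens {S : ShortComplex (Spec (CommRingCat.of A)).Modules} (hS : S.ShortExact) :
    (S.map (pullTens n F)).ShortExact := by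
  have h1 : (S.map (Scheme.Modules.pullback (CohB1.ProjSpace.toSpec n A))).ShortExact :=
    shortExact_pullback_of_flat (CohB1.ProjSpace.toSpec n A) hS
  have h2 := shortExact_tensor (M := F) (flat_stalk_of_vb hF) h1
  exact h2

lemma isQCoh_free (κ : Type u) : (∐ fun _ : κ => Coh.structureModule (Spec (CommRingCat.of A))).IsQuasicoherent :=
  QC70.isQuasicoherent_coproduct _ fun _ => Mero90.isQCoh_of_isInvertible EGA73.isInvertible_structureModule

include hF hvan in
/-- Vanishing propagates to tensor products with inverse images from the ring. -/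
theorem subsingleton_HH_pullTens :
    ∀ (fuel i : ℕ), 1 ≤ i → n + 1 ≤ i + fuel → ∀ (G : (Spec (CommRingCat.of A)).Modules), Coh.IsQCoh G →
      Subsingleton (Coh.HH (CohB1.ProjSpace n A) ((pullTens n F).obj G) i)
  | 0, i, _, hle, G, hG => by
    haveI : G.IsQuasicoherent := hG
    exact subsingleton_hh_gt n A _ (Amp73.isQCoh_tensorMod (Props58.LocFree.isQuasicoherent_of_isFinLocFree hF)
      (QCPull72.isQuasicoherent_pullback _ G)) i (by omega)
  | fuel + 1, i, hi, hle, G, hG => by
    let q := CohB1.ProjSpace.toSpec n A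
    obtain ⟨κ, π, hπ⟩ := exists_epi_free_affine hG
    have hK : (kernel π).IsQuasicoherent := by
      haveI := isQCoh_free (A := A) κ
      haveI : G.IsQuasicoherent := hG
      exact QC70.isQuasicoherent_kernel π
    refine ValVan29.subsingleton_hh_X₃ (shortExact_pullTens n hF (KData.kernel_shortExact π)) i ?_
      (subsingleton_HH_pullTens fuel (i + 1) (by omega) (by omega) _ hK)
    haveI := preservesColimits_tensorBi F
    haveI : PreservesColimitsOfSize.{u, u} (Scheme.Modules.pullback q) :=
      (Scheme.Modules.pullbackPushforwardAdjunction q).leftAdjoint_preservesColimits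
    haveI : PreservesColimitsOfSize.{u, u} (pullTens n F) := comp_preservesColimits _ _
    let e : (pullTens n F).obj (∐ fun _ : κ => Coh.structureModule (Spec (CommRingCat.of A))) ≅ ∐ fun _ : κ => F :=
      PreservesCoproduct.iso (pullTens n F) _ ≪≫
        Sigma.mapIso fun _ => EGA73.tensIso (Iso.refl F) (PicLoc.pullbackStructureIso q) ≪≫ EGA73.tensUnitRight F
    refine ValVan29.subsingleton_hh_of_iso e.symm i ?_
    exact subsingleton_HH_coproduct (iSup_stdU' n A) (fun m j => Pn71.isAffineOpen_cOpen_stdU n A j) _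
      (fun _ => Props58.LocFree.isQuasicoherent_of_isFinLocFree hF) i fun _ => hvan i hi

include hF hvan in
/-- Global sections of a twisted inverse image are spanned by products. -/
theorem exists_pairS_decomp {G : (Spec (CommRingCat.of A)).Modules} (hG : Coh.IsQCoh G)
    (Y : Γ((pullTens n F).obj G, ⊤)) :
    ∃ (k : ℕ) (m : Fin k → Γ(F, ⊤)) (g : Fin k → Γ(G, ⊤)), Y = ∑ j, pairS n G (m j) (g j) := by
  classical
  let q := CohB1.ProjSpace.toSpec n A
  let O := Coh.structureModule (Spec (CommRingCat.of A))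
  let P := CohB1.ProjSpace n A
  obtain ⟨κ, π, hπ⟩ := exists_epi_free_affine hG
  let F0 := ∐ fun _ : κ => O
  have hK : (kernel π).IsQuasicoherent := by
    haveI := isQCoh_free (A := A) κ
    haveI : G.IsQuasicoherent := hG
    exact QC70.isQuasicoherent_kernel π
  have hS := shortExact_pullTens n hF (KData.kernel_shortExact π)
  haveI hz := subsingleton_HH_pullTens n hF hvan (n + 1) 1 le_rfl (by omega) (kernel π) hK
  obtain ⟨y, rfl⟩ := (Crv77.sec _).surjective Y
  obtain ⟨z, hz'⟩ := (Crv77.exact_g_δ A hS 0 y).1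
    (Subsingleton.elim (α := Coh.HH P ((pullTens n F).obj (kernel π)) 1) _ _)
  let Z : Γ((pullTens n F).obj F0, ⊤) := Crv77.sec _ z
  haveI := preservesColimits_tensorBi F
  haveI : PreservesColimitsOfSize.{u, u} (Scheme.Modules.pullback q) :=
    (Scheme.Modules.pullbackPushforwardAdjunction q).leftAdjoint_preservesColimits
  haveI : PreservesColimitsOfSize.{u, u} (pullTens n F) := comp_preservesColimits _ _
  let Φ := PreservesCoproduct.iso (pullTens n F) (fun _ : κ => O)
  haveI : CompactSpace P :=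
    haveI := Approx60.Segre.isProper_toSpec A n
    QuasiCompact.compactSpace_of_compactSpace q
  let qO : κ → P.Modules := fun _ => (pullTens n F).obj O
  obtain ⟨T, hT⟩ := FMK72.exists_finset_section qO (V := (⊤ : P.Opens))
    (by rw [Opens.coe_top]; exact isCompact_univ) (Φ.hom.app ⊤ Z)
  choose m hm using fun j => (bijective_pairS_one n (F := F)).2 ((QC70.coprojection qO j).app ⊤ (Φ.hom.app ⊤ Z))
  have hZ : Z = ∑ j ∈ T, pairS n F0 (m j) ((Sigma.ι (fun _ : κ => O) j).app ⊤ oneS) := by
    refine (ConcreteCategory.bijective_of_isIso (Φ.hom.app ⊤)).1 ?_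
    rw [hT, FMK72.sum_app]
    refine ((map_sum (Φ.hom.app ⊤).hom _ _).trans (Finset.sum_congr rfl fun j _ => ?_)).symm
    have h1 : (pullTens n F).map (Sigma.ι (fun _ : κ => O) j) ≫ Φ.hom = Sigma.ι qO j :=
      (Iso.eq_comp_inv Φ).1 (ι_comp_sigmaComparison (pullTens n F) (fun _ : κ => O) j).symm
    refine (congrArg (fun v => Φ.hom.app ⊤ v) (pairS_map n (Sigma.ι (fun _ : κ => O) j) (m j) oneS).symm).trans ?_
    refine (congrArg (fun ψ => Scheme.Modules.Hom.app ψ ⊤ (pairS n O (m j) oneS)) h1).trans ?_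
    exact congrArg (fun v => (Sigma.ι qO j).app ⊤ v) (hm j)
  let eT := (Finset.equivFin T).symm
  refine ⟨T.card, fun j => m (eT j).1,
    fun j => π.app ⊤ ((Sigma.ι (fun _ : κ => O) (eT j).1).app ⊤ oneS), ?_⟩
  rw [← hz']
  refine (Crv77.sec_hmap A ((pullTens n F).map π) z).trans ?_
  show ((pullTens n F).map π).app ⊤ Z = _
  rw [hZ, app_sum_pullTens, ← Finset.sum_coe_sort T, ← eT.sum_comp]
  exact Finset.sum_congr rfl fun j _ => pairS_map n π _ _

include hF in
lemma exists_lift_pullTens {M N : (Spec (CommRingCat.of A)).Modules} (φ : M ⟶ N)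
    (hM : M.IsQuasicoherent) (hN : N.IsQuasicoherent) (X' : Γ((pullTens n F).obj M, ⊤))
    (hX' : ((pullTens n F).map φ).app ⊤ X' = 0) :
    ∃ Y : Γ((pullTens n F).obj (kernel φ), ⊤), ((pullTens n F).map (kernel.ι φ)).app ⊤ Y = X' := by
  let S : ShortComplex (Spec (CommRingCat.of A)).Modules :=
    ShortComplex.mk (kernel.ι φ) (Limits.factorThruImage φ)
      (by rw [← cancel_mono (Limits.image.ι φ), Category.assoc, Limits.image.fac, kernel.condition, zero_comp])
  have hS : S.ShortExact :=
    { exact := ShortComplex.exact_of_f_is_kernel S (KernelFork.IsLimit.ofι' (kernel.ι φ) _ fun k hk =>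
        ⟨kernel.lift φ k (by rw [← Limits.image.fac φ, ← Category.assoc, hk, zero_comp]), kernel.lift_ι _ _ _⟩)
      mono_f := inferInstanceAs (Mono (kernel.ι φ))
      epi_g := inferInstanceAs (Epi (Limits.factorThruImage φ)) }
  have hS' := shortExact_pullTens n hF hS
  haveI : Mono (Limits.image.ι φ) := inferInstance
  have hmono : Mono ((pullTens n F).map (Limits.image.ι φ)) := by
    let S₂ : ShortComplex (Spec (CommRingCat.of A)).Modules :=
      ShortComplex.mk (Limits.image.ι φ) (cokernel.π (Limits.image.ι φ)) (cokernel.condition _)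
    have hS₂ : S₂.ShortExact := { exact := ShortComplex.exact_cokernel _ }
    exact (shortExact_pullTens n hF hS₂).mono_f
  haveI := hS'.mono_f
  refine QC70.exists_app_eq_of_exact (S.map (pullTens n F)) hS'.exact _ X' ?_
  refine QC70.app_injective_of_mono ((pullTens n F).map (Limits.image.ι φ)) ⊤ ?_
  refine (Eq.trans ?_ hX').trans (map_zero (((pullTens n F).map (Limits.image.ι φ)).app ⊤).hom).symm
  exact congrArg (fun ψ => Scheme.Modules.Hom.app ψ ⊤ X')
    (((pullTens n F).map_comp (Limits.factorThruImage φ) (Limits.image.ι φ)).symm.trans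
      (congrArg (pullTens n F).map (Limits.image.fac φ)))

/-- A scalar, as an endomorphism of the structure sheaf. -/
def scHom (a : A) : Coh.structureModule (Spec (CommRingCat.of A)) ⟶ Coh.structureModule (Spec (CommRingCat.of A)) :=
  EGA73.unitHom _ ((Scheme.ΓSpecIso (CommRingCat.of A)).inv a)

lemma scHom_app (a : A) (g : Γ(Spec (CommRingCat.of A), ⊤)) :
    (scHom a).app ⊤ (g : Γ(Coh.structureModule (Spec (CommRingCat.of A)), ⊤)) =
      ((g * (Scheme.ΓSpecIso (CommRingCat.of A)).inv a : Γ(Spec (CommRingCat.of A), ⊤)) :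
        Γ(Coh.structureModule (Spec (CommRingCat.of A)), ⊤)) :=
  (EGA73.unitHom_app _ _ ⊤ g).trans
    (congrArg (g * ·) (ConcreteCategory.congr_hom ((Spec (CommRingCat.of A)).presheaf.map_id _) _))

include hF hvan in
/-- The global sections of a finite locally free module without higher cohomology form a flat module. -/
theorem flat_HH_zero : Module.Flat A (Coh.HH (CohB1.ProjSpace n A) F 0) := by
  let q := CohB1.ProjSpace.toSpec n A
  let Sp := Spec (CommRingCat.of A)
  let O := Coh.structureModule Sp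
  let P := CohB1.ProjSpace n A
  let σ := Scheme.ΓSpecIso (CommRingCat.of A)
  refine Module.Flat.iff_forall_isTrivialRelation.2 fun {l} {f} {x} hfx => ?_
  let Ol : Sp.Modules := ⨁ fun _ : Fin l => O
  let φ : Ol ⟶ O := biproduct.desc fun i => scHom (f i)
  have hO : O.IsQuasicoherent := Mero90.isQCoh_of_isInvertible EGA73.isInvertible_structureModule
  have hOl : Ol.IsQuasicoherent :=
    (QC70.isCoh_biproduct _ fun _ => Amp73.isCoh_of_isInvertible EGA73.isInvertible_structureModule).1
  -- the element killed by the relation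
  let X' : Γ((pullTens n F).obj Ol, ⊤) :=
    ∑ i, pairS n Ol (Crv77.sec F (x i)) ((biproduct.ι (fun _ : Fin l => O) i).app ⊤ oneS)
  have h1 : ∀ i, ((pullTens n F).map φ).app ⊤
      (pairS n Ol (Crv77.sec F (x i)) ((biproduct.ι (fun _ : Fin l => O) i).app ⊤ oneS)) =
        pairS n O (Crv77.sec F (f i • x i)) oneS := fun i => by
    rw [pairS_map]
    have hι : biproduct.ι (fun _ : Fin l => O) i ≫ φ = scHom (f i) := biproduct.ι_desc _ _
    refine (congrArg (pairS n O (Crv77.sec F (x i))) (congrArg (fun ψ => Scheme.Modules.Hom.app ψ ⊤ oneS) hι)).trans ?_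
    refine (congrArg (pairS n O _) ((scHom_app (f i) 1).trans (mul_comm (1 : Γ(Sp, ⊤)) (σ.inv (f i))))).trans ?_
    refine (pairS_smul n O (σ.inv (f i)) _ oneS).trans (congrArg (fun m => pairS n O m oneS) ?_)
    exact (Crv77.sec_smul A F (f i) (x i)).symm
  have hX' : ((pullTens n F).map φ).app ⊤ X' = 0 := by
    rw [app_sum_pullTens, Finset.sum_congr rfl fun i _ => h1 i, ← pairS_sum, ← map_sum (Crv77.sec F), hfx, map_zero,
      pairS_zero_left]
  obtain ⟨Y, hY⟩ := exists_lift_pullTens n hF φ hOl hO X' hX'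
  have hK : Coh.IsQCoh (kernel φ) := by
    haveI := hOl
    haveI := hO
    exact QC70.isQuasicoherent_kernel φ
  obtain ⟨k, m, g, rfl⟩ := exists_pairS_decomp n hF hvan hK Y
  let h : Fin k → Fin l → Γ(Sp, ⊤) := fun j i =>
    (kernel.ι φ ≫ biproduct.π (fun _ : Fin l => O) i).app ⊤ (g j)
  have hx : ∀ i, Crv77.sec F (x i) = ∑ j, (show Γ(P, ⊤) from q.app ⊤ (h j i)) • m j := fun i => by
    refine (bijective_pairS_one n (F := F)).1 ?_
    have e1 : ((pullTens n F).map (biproduct.π (fun _ : Fin l => O) i)).app ⊤ X' =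
        pairS n O (Crv77.sec F (x i)) oneS := by
      rw [app_sum_pullTens, Finset.sum_eq_single i]
      · rw [pairS_map]
        exact congrArg (pairS n O (Crv77.sec F (x i))) (congrArg (fun ψ => Scheme.Modules.Hom.app ψ ⊤ oneS)
          (biproduct.ι_π_self (fun _ : Fin l => O) i))
      · intro b _ hb
        rw [pairS_map]
        refine (congrArg (pairS n O (Crv77.sec F (x b))) (congrArg (fun ψ => Scheme.Modules.Hom.app ψ ⊤ oneS)
          (biproduct.ι_π_ne (fun _ : Fin l => O) hb))).trans ?_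
        exact pairS_zero_right n O _
      · exact fun h => absurd (Finset.mem_univ i) h
    refine e1.symm.trans ?_
    rw [← hY, app_sum_pullTens, app_sum_pullTens]
    refine Eq.trans ?_ (pairS_sum n O _ _ _).symm
    refine Finset.sum_congr rfl fun j _ => ?_
    rw [pairS_map, pairS_map]
    refine Eq.trans ?_ (pairS_smul n O (h j i) (m j) oneS)
    exact congrArg (pairS n O (m j)) (mul_one (h j i)).symm
  -- conclusion
  refine ⟨k, fun i j => σ.hom (h j i), fun j => (Crv77.sec F).symm (m j),
    fun i => (Crv77.sec F).injective ?_, fun j => ?_⟩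
  · rw [hx i, map_sum]
    refine Finset.sum_congr rfl fun j _ => ?_
    refine Eq.trans ?_ (Crv77.sec_smul A F _ _).symm
    rw [AddEquiv.apply_symm_apply]
    refine congrArg (· • m j) ?_
    exact congrArg (fun c => (show Γ(P, ⊤) from q.app ⊤ c)) (ConcreteCategory.congr_hom σ.hom_inv_id (h j i)).symm
  · refine (ConcreteCategory.bijective_of_isIso σ.inv).1 ?_
    rw [map_zero, map_sum]
    have hv : φ.app ⊤ ((kernel.ι φ).app ⊤ (g j)) = 0 :=
      congr((Scheme.Modules.Hom.app $(kernel.condition φ) ⊤) (g j))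
    have hd : φ = ∑ i, biproduct.π (fun _ : Fin l => O) i ≫ scHom (f i) := biproduct.desc_eq
    have hv2 : (∑ i, (h j i * σ.inv (f i) : Γ(Sp, ⊤))) = 0 := by
      refine Eq.trans ?_ ((congrArg (fun ψ => Scheme.Modules.Hom.app ψ ⊤ ((kernel.ι φ).app ⊤ (g j))) hd.symm).trans hv)
      refine Eq.trans ?_ (FMK72.sum_app Finset.univ (fun i => biproduct.π (fun _ : Fin l => O) i ≫ scHom (f i)) ⊤ _).symm
      refine Finset.sum_congr (M := Γ(O, ⊤)) rfl fun i _ => ?_
      exact (scHom_app (f i) (h j i)).symm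
    refine Eq.trans (Finset.sum_congr rfl fun i _ => ?_) hv2
    refine (map_mul σ.inv.hom _ _).trans ((mul_comm _ _).trans ?_)
    exact congrArg (· * σ.inv.hom (f i)) (ConcreteCategory.congr_hom σ.hom_inv_id (h j i))

end Groth.Agent.KRR40
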