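import Groth.Agent.KRR40.Splitting
import Groth.Agent.S3789

/-!
The rings of bundles of projective bundles are free over the base.
-/

set_option autoImplicit false

noncomputable section

universe u

open CategoryTheory CategoryTheory.Limits AlgebraicGeometry

namespace Groth.Agent.KRR40

attribute [local instance] kvbRing kvbLambda

theorem freeHyp_proved : FreeHyp.{u} := fun X P _ _ _ _ r E hE π O1 q hPB =>
  Groth.Agent.S3789.result X P r E hE π O1 q hPB (SGA6.Kvb X) (kvbPos X) (AddMonoidHom.id _) (kvb_isModel X)
    (SGA6.Kvb P) (kvbPos P) (AddMonoidHom.id _) (kvb_isModel P) (pullK π) (isPull_pullK π)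

end Groth.Agent.KRR40
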