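import Groth.Agent.KRR40.ExtFilt
import Groth.Agent.KRR40.TensorPC
import Groth.Agent.Lambda37.Basic
import Groth.Agent.FBase64.ExtPow.Unique
import Groth.Prelude.Def_KRR

/-!
The λ-ring of classes of finite locally free modules.
-/

set_option autoImplicit false
set_option backward.isDefEq.respectTransparency.types false
set_option linter.style.haveILetI false

noncomputable section

universe u

open CategoryTheory CategoryTheory.Limits AlgebraicGeometry exteriorPower

namespace Groth.Agent.KRR40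

variable {X : Scheme.{u}}

lemma vb_str : FlatMod.IsFinLocFree (Coh.structureModule X) :=
  KRR40.vb_of_isInvertible EGA73.isInvertible_structureModule

lemma isExtPow_zero_str (E : X.Modules) : ExtPow.IsExtPow 0 E (Coh.structureModule X) := by
  refine ⟨fun U => (exteriorPower.zeroEquiv Γ(X, U.1) (E.val.obj (Opposite.op U.1))).symm, fun U V h e => ?_⟩
  simp only [LinearEquiv.symm_symm]
  show QC70.res (Coh.structureModule X) h (exteriorPower.zeroEquiv Γ(X, U.1) _ (ιMulti _ 0 e)) = _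
  rw [exteriorPower.zeroEquiv_ιMulti]
  refine Eq.trans ?_ (exteriorPower.zeroEquiv_ιMulti (R := Γ(X, V.1)) _).symm
  exact map_one (X.presheaf.map (homOfLE h).op).hom

lemma isExtPow_one_self (E : X.Modules) : ExtPow.IsExtPow 1 E E := by
  refine ⟨fun U => (exteriorPower.oneEquiv Γ(X, U.1) (E.val.obj (Opposite.op U.1))).symm, fun U V h e => ?_⟩
  simp only [LinearEquiv.symm_symm]
  rw [exteriorPower.oneEquiv_ιMulti, exteriorPower.oneEquiv_ιMulti]

/-- Chosen exterior powers. -/
theorem exists_ext (E : X.Modules) (hE : FlatMod.IsFinLocFree E) (i : ℕ) :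
    ∃ L : X.Modules, FlatMod.IsFinLocFree L ∧ ExtPow.IsExtPow i E L := by
  haveI := Props58.LocFree.isQuasicoherent_of_isFinLocFree hE
  obtain ⟨L, hL⟩ := FBase64.ExtPowExists.exists_isExtPow (E := E) (p := i)
  exact ⟨L, KRR40.vb_extPow hE hL, hL⟩

/-- The class of the exterior power. -/
def lamCl (i : ℕ) (E : X.Modules) : SGA6.Kvb X :=
  haveI := Classical.dec (FlatMod.IsFinLocFree E)
  if h : FlatMod.IsFinLocFree E then KRR.cl X (exists_ext E h i).choose else 0

lemma lamCl_eq {i : ℕ} {E L : X.Modules} (hE : FlatMod.IsFinLocFree E) (hL : ExtPow.IsExtPow i E L) :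
    lamCl i E = KRR.cl X L := by
  haveI := Props58.LocFree.isQuasicoherent_of_isFinLocFree hE
  rw [lamCl, dif_pos hE]
  exact KRR40.clg_iso (FBase64.ExtPowExists.nonempty_iso_of_isExtPow (exists_ext E hE i).choose_spec.2 hL).some
    (KRR40.vb_extPow hE hL)

lemma tensor_shortExact_right {N : X.Modules} (hN : FlatMod.IsFinLocFree N) {S : ShortComplex X.Modules}
    (hS : S.ShortExact) (h₁ : FlatMod.IsFinLocFree S.X₁) (h₂ : FlatMod.IsFinLocFree S.X₂)
    (h₃ : FlatMod.IsFinLocFree S.X₃) :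
    KRR.cl X (CohB1.tensorMod N S.X₂) = KRR.cl X (CohB1.tensorMod N S.X₁) + KRR.cl X (CohB1.tensorMod N S.X₃) :=
  K0Res3.cls_add (P := KRR.vbP X) _ (KRR40.shortExact_tensor_vb hN hS) (KRR40.vbg_tensor hN h₁)
    (KRR40.vbg_tensor hN h₂) (KRR40.vbg_tensor hN h₃)

/-- Multiplication by the class of a module. -/
def mulL (N : X.Modules) : SGA6.Kvb X →+ SGA6.Kvb X :=
  haveI := Classical.dec (FlatMod.IsFinLocFree N)
  if h : FlatMod.IsFinLocFree N then
    KRR40.lift₀ (fun M => KRR.cl X (CohB1.tensorMod N M)) fun _ hS h₁ h₂ h₃ => tensor_shortExact_right h hS h₁ h₂ h₃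
  else 0

lemma mulL_cl {N M : X.Modules} (hN : FlatMod.IsFinLocFree N) (hM : FlatMod.IsFinLocFree M) :
    mulL N (KRR.cl X M) = KRR.cl X (CohB1.tensorMod N M) := by
  rw [mulL, dif_pos hN]
  exact KRR40.lift₀_cl (P := KRR.vbP X) _ _ hM

/-- The product of classes. -/
def mulK : SGA6.Kvb X →+ SGA6.Kvb X →+ SGA6.Kvb X :=
  KRR40.lift₀ (fun N => mulL N) fun S hS h₁ h₂ h₃ => KRR40.hom_ext₀ fun M hM => by
    show mulL S.X₂ (KRR.cl X M) = mulL S.X₁ (KRR.cl X M) + mulL S.X₃ (KRR.cl X M)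
    rw [mulL_cl h₁ hM, mulL_cl h₂ hM, mulL_cl h₃ hM,
      KRR40.clg_iso (EGA73.tensComm S.X₁ M) (KRR40.vbg_tensor hM h₁),
      KRR40.clg_iso (EGA73.tensComm S.X₂ M) (KRR40.vbg_tensor hM h₂),
      KRR40.clg_iso (EGA73.tensComm S.X₃ M) (KRR40.vbg_tensor hM h₃)]
    exact tensor_shortExact_right hM hS h₁ h₂ h₃

lemma mulK_cl {N M : X.Modules} (hN : FlatMod.IsFinLocFree N) (hM : FlatMod.IsFinLocFree M) :
    mulK (KRR.cl X N) (KRR.cl X M) = KRR.cl X (CohB1.tensorMod N M) := by
  rw [mulK, show (KRR40.lift₀ (P := KRR.vbP X) (fun N : X.Modules => mulL N) _) (KRR.cl X N) = mulL N from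
    KRR40.lift₀_cl (P := KRR.vbP X) _ _ hN]
  exact mulL_cl hN hM

/-- Induction on classes. -/
theorem addHom_ext {A : Type*} [AddCommGroup A] {g g' : SGA6.Kvb X →+ A}
    (h : ∀ E : X.Modules, FlatMod.IsFinLocFree E → g (KRR.cl X E) = g' (KRR.cl X E)) : g = g' :=
  KRR40.hom_ext₀ h

lemma mulK_comm (x y : SGA6.Kvb X) : mulK x y = mulK y x := by
  refine DFunLike.congr_fun (DFunLike.congr_fun (addHom_ext (g := mulK) (g' := mulK.flip) fun E hE =>
    addHom_ext fun F hF => ?_) x) y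
  show mulK (KRR.cl X E) (KRR.cl X F) = mulK (KRR.cl X F) (KRR.cl X E)
  rw [mulK_cl hE hF, mulK_cl hF hE]
  exact KRR40.clg_iso (EGA73.tensComm E F) (KRR40.vbg_tensor hF hE)

lemma mulK_one (x : SGA6.Kvb X) : mulK (KRR.cl X (Coh.structureModule X)) x = x := by
  refine DFunLike.congr_fun (addHom_ext (g := mulK (KRR.cl X (Coh.structureModule X))) (g' := AddMonoidHom.id _)
    fun E hE => ?_) x
  rw [mulK_cl vb_str hE]
  exact KRR40.clg_iso (EGA73.tensUnitLeft E) hE

lemma mulK_assoc (x y z : SGA6.Kvb X) : mulK (mulK x y) z = mulK x (mulK y z) := by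
  refine DFunLike.congr_fun (DFunLike.congr_fun (DFunLike.congr_fun (addHom_ext
    (g := AddMonoidHom.mk' (fun x => (mulK (X := X)).comp (mulK x)) fun a b => by ext; simp)
    (g' := AddMonoidHom.mk' (fun x => AddMonoidHom.mk' (fun y => (mulK x).comp (mulK y))
      fun a b => by ext; simp) fun a b => by ext; simp)
    fun E hE => addHom_ext fun F hF => addHom_ext fun G hG => ?_) x) y) z
  show mulK (mulK (KRR.cl X E) (KRR.cl X F)) (KRR.cl X G) = mulK (KRR.cl X E) (mulK (KRR.cl X F) (KRR.cl X G))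
  rw [mulK_cl hE hF, mulK_cl hF hG, mulK_cl (KRR40.vbg_tensor hE hF) hG, mulK_cl hE (KRR40.vbg_tensor hF hG)]
  exact KRR40.clg_iso (EGA73.tensAssoc' E F G) (KRR40.vbg_tensor hE (KRR40.vbg_tensor hF hG))

/-- The ring of classes of bundles. -/
abbrev kvbRing (X : Scheme.{u}) : CommRing (SGA6.Kvb X) :=
  { (inferInstance : AddCommGroup (SGA6.Kvb X)) with
    mul := fun x y => mulK x y
    one := KRR.cl X (Coh.structureModule X)
    left_distrib := fun x y z => map_add (mulK x) y z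
    right_distrib := fun x y z => DFunLike.congr_fun (map_add mulK x y) z
    zero_mul := fun x => DFunLike.congr_fun (map_zero mulK) x
    mul_zero := fun x => map_zero (mulK x)
    mul_assoc := mulK_assoc
    one_mul := mulK_one
    mul_one := fun x => (mulK_comm _ _).trans (mulK_one x)
    mul_comm := mulK_comm }

attribute [local instance] kvbRing

/-- The generating series of the exterior powers. -/
def lamT (E : X.Modules) : PowerSeries (SGA6.Kvb X) := PowerSeries.mk fun i => lamCl i E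

lemma lamCl_zero {E : X.Modules} (hE : FlatMod.IsFinLocFree E) : lamCl 0 E = 1 :=
  lamCl_eq hE (isExtPow_zero_str E)

lemma isUnit_lamT {E : X.Modules} (hE : FlatMod.IsFinLocFree E) : IsUnit (lamT E) := by
  rw [PowerSeries.isUnit_iff_constantCoeff, ← PowerSeries.coeff_zero_eq_constantCoeff_apply, lamT,
    PowerSeries.coeff_mk, lamCl_zero hE]
  exact isUnit_one

lemma lamT_add (S : ShortComplex X.Modules) (hS : S.ShortExact) (h₁ : FlatMod.IsFinLocFree S.X₁)
    (h₂ : FlatMod.IsFinLocFree S.X₂) (h₃ : FlatMod.IsFinLocFree S.X₃) : lamT S.X₂ = lamT S.X₁ * lamT S.X₃ := by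
  choose LA hA using exists_ext S.X₁ h₁
  choose LE hE using exists_ext S.X₂ h₂
  choose LC hC using exists_ext S.X₃ h₃
  ext k
  rw [PowerSeries.coeff_mul, lamT, lamT, lamT, PowerSeries.coeff_mk, lamCl_eq h₂ (hE k).2,
    Finset.Nat.sum_antidiagonal_eq_sum_range_succ_mk]
  rw [show KRR.cl X (LE k) = _ from KRR40.ExtFilt.cl_extPow
    (D := ⟨S, hS, h₁, h₂, h₃, LA, LE, LC, fun i => (hA i).2, fun i => (hE i).2, fun i => (hC i).2,
      fun i => (hA i).1, fun i => (hE i).1, fun i => (hC i).1⟩) k]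
  refine Finset.sum_congr rfl fun i _ => ?_
  rw [PowerSeries.coeff_mk, PowerSeries.coeff_mk, lamCl_eq h₁ (hA i).2, lamCl_eq h₃ (hC (k - i)).2]
  exact (mulK_cl (hA i).1 (hC (k - i)).1).symm

/-- The generating series as a homomorphism. -/
def lamHom : SGA6.Kvb X →+ Additive (PowerSeries (SGA6.Kvb X))ˣ :=
  KRR40.lift₀ (fun E =>
    haveI := Classical.dec (FlatMod.IsFinLocFree E)
    if h : FlatMod.IsFinLocFree E then Additive.ofMul (isUnit_lamT h).unit else 0)
    fun S hS h₁ h₂ h₃ => by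
      simp only [dif_pos (show FlatMod.IsFinLocFree S.X₁ from h₁), dif_pos (show FlatMod.IsFinLocFree S.X₂ from h₂),
        dif_pos (show FlatMod.IsFinLocFree S.X₃ from h₃)]
      exact Additive.toMul.injective (Units.ext (lamT_add S hS h₁ h₂ h₃))

/-- The λ-operations. -/
def lamK (i : ℕ) (x : SGA6.Kvb X) : SGA6.Kvb X :=
  PowerSeries.coeff i ((Additive.toMul (lamHom x) : (PowerSeries (SGA6.Kvb X))ˣ) : PowerSeries (SGA6.Kvb X))

lemma lamK_cl (i : ℕ) {E : X.Modules} (hE : FlatMod.IsFinLocFree E) : lamK i (KRR.cl X E) = lamCl i E := by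
  rw [lamK, lamHom, show (KRR40.lift₀ (P := KRR.vbP X) _ _) (KRR.cl X E) = _ from
    KRR40.lift₀_cl (P := KRR.vbP X) _ _ hE, dif_pos hE]
  exact PowerSeries.coeff_mk (R := SGA6.Kvb X) i fun j => lamCl j E

lemma lamK_add (k : ℕ) (x y : SGA6.Kvb X) :
    lamK k (x + y) = ∑ i ∈ Finset.range (k + 1), lamK i x * lamK (k - i) y := by
  rw [lamK, map_add, toMul_add, Units.val_mul, PowerSeries.coeff_mul,
    Finset.Nat.sum_antidiagonal_eq_sum_range_succ_mk]
  rfl

lemma lamK_zero (x : SGA6.Kvb X) : lamK 0 x = 1 := by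
  let c : SGA6.Kvb X →+ Additive (SGA6.Kvb X)ˣ :=
    (Units.map (PowerSeries.constantCoeff : PowerSeries (SGA6.Kvb X) →+* SGA6.Kvb X).toMonoidHom).toAdditive.comp lamHom
  have hc : c = 0 := addHom_ext fun E hE => Additive.toMul.injective (Units.ext (by
    show PowerSeries.constantCoeff ((Additive.toMul (lamHom (KRR.cl X E)) : (PowerSeries (SGA6.Kvb X))ˣ) : PowerSeries (SGA6.Kvb X)) = _
    rw [← PowerSeries.coeff_zero_eq_constantCoeff_apply]
    exact (lamK_cl 0 hE).trans (lamCl_zero hE)))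
  show PowerSeries.coeff 0 _ = 1
  rw [PowerSeries.coeff_zero_eq_constantCoeff_apply]
  exact congrArg (fun z => ((Additive.toMul z : (SGA6.Kvb X)ˣ) : SGA6.Kvb X)) (DFunLike.congr_fun hc x)

lemma lamK_one (x : SGA6.Kvb X) : lamK 1 x = x := by
  refine DFunLike.congr_fun (addHom_ext (g := AddMonoidHom.mk' (fun x => lamK 1 x) fun a b => by
    rw [lamK_add, Finset.sum_range_succ, Finset.sum_range_one, lamK_zero, lamK_zero]
    simp [add_comm]) (g' := AddMonoidHom.id _) fun E hE => ?_) x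
  exact (lamK_cl 1 hE).trans (lamCl_eq hE (isExtPow_one_self E))

/-- The λ-operations, as a structure. -/
abbrev kvbLambda (X : Scheme.{u}) : LambdaRing.LambdaOps (SGA6.Kvb X) where
  lam := lamK
  lam_zero := lamK_zero
  lam_one := lamK_one
  lam_add := lamK_add

theorem isLambdaStructure (X : Scheme.{u}) : SGA6.IsLambdaStructureVb (X := X) mulK lamK := by
  refine ⟨mulK_comm, mulK_assoc, mulK_one, fun E F hE hF => mulK_cl hE hF, fun i E L hE hL => ?_,
    lamK_zero, lamK_one, lamK_add⟩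
  exact (lamK_cl i hE).trans (lamCl_eq hE hL)

end Groth.Agent.KRR40
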