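import Groth.Agent.Cyc90.Dev.BundleUniv
import Groth.Agent.Curves2.ProjLine
import Groth.Agent.S10829
import Groth.Agent.S4691
import Groth.Agent.S5729
import Groth.Agent.S4418
import Groth.Agent.EGA73.RelAmpleTwist
import Groth.Agent.EGA73.RelAmpleComp
import Groth.Agent.KRR40.KvbRing
import Groth.Agent.KRR40.Pull

/-!
The projective bundle of a bundle over a connected Noetherian scheme.
-/

set_option autoImplicit false
set_option linter.style.haveILetI false
set_option backward.isDefEq.respectTransparency.types false

noncomputable section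

universe u

open CategoryTheory CategoryTheory.Limits AlgebraicGeometry TopologicalSpace

namespace Groth.Agent.KRR40

/-- A bundle of positive rank has a projective bundle, connected and Noetherian when the base is, with a
relatively ample `O(1)`. -/
theorem exists_projBundle_ample (X : Scheme.{u}) [IsNoetherian X] [ConnectedSpace ↥X] {r : ℕ}
    {E : X.Modules} (hE : FlatMod.IsFinLocFreeOfRank (r + 1) E) :
    ∃ (P : Scheme.{u}) (_ : IsNoetherian P) (_ : ConnectedSpace ↥P) (π : P ⟶ X) (O1 : P.Modules)
      (q : (Scheme.Modules.pullback π).obj E ⟶ O1),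
      KRR.IsProjBundle π E O1 q ∧ QuasiCompact π ∧ RelAmple.IsRelAmple π O1 ∧
        topologicalKrullDim ↥P ≤ topologicalKrullDim ↥X + r := by
  have hlf : FlatMod.IsFinLocFree E := fun x => by
    obtain ⟨U, hx, h⟩ := hE x
    exact ⟨U, r + 1, hx, h⟩
  have hq : Coh.IsQCoh E := Props58.LocFree.isQuasicoherent_of_isFinLocFree hlf
  obtain ⟨𝒮, j, hj, P, π, chart, hP, O, lam, hO⟩ := EGAProj74.exists_projBundle hq
  obtain ⟨φ, hφ⟩ := EGAProj74.exists_canonical hq hj hO hP
  have hgen := EGAProj74.isGenDegOne_grSym hq hj
  have hinv : PicF.IsInvertible O := EGAProj74.isInvertible_of_isGenDegOne hO hgen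
  have hG : Grass.IsGrass π E 1 O
      (((Scheme.Modules.pullbackPushforwardAdjunction π).homEquiv E O).symm φ) :=
    { rank := Mero90.isFinLocFreeOfRank_of_isInvertible hinv
      epi := EGAProj74.epi_canonical hq hj hO hφ
      univ := fun T g L hL s hs => by
        haveI := hs
        have h := EGAProj74.existsUnique_of_epi hq hj hP hO hφ g L (Cyc90.Dev.isInvertible_of_rank_one hL) s
        simpa only [Grass.quotBC, Category.assoc] using h }
  have hproj : RelProj.IsProjective π := (S5729.result π).2
    ⟨E, 𝒮, j, P, π, chart, 𝟙 P, hq, Props58.LocFree.isFiniteType_of_isFinLocFree hlf, hj, hP,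
      inferInstance, Category.id_comp _⟩
  haveI : IsProper π := (S4418.result π hproj).2
  haveI : IsLocallyNoetherian P := LocallyOfFiniteType.isLocallyNoetherian π
  haveI : CompactSpace ↥P := QuasiCompact.compactSpace_of_compactSpace π
  obtain ⟨hB, -, -⟩ := Cyc90.Dev.projFibres_of_isProjBundle hE hG.isProjBundle
  have hfib : ∀ t : X, _root_.IsConnected (π.base ⁻¹' {t}) := fun t => by
    obtain ⟨-, e, -, -, -⟩ := hB t
    haveI := Curves2.ProjLine.irreducibleSpace (X.residueField t) r
    haveI : ConnectedSpace ↥(π.fiber t) := e.hom.homeomorph.surjective.connectedSpace e.hom.continuous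
    haveI : ConnectedSpace ↥(π.base ⁻¹' {t}) :=
      (π.fiberHomeo t).surjective.connectedSpace (π.fiberHomeo t).continuous
    exact isConnected_iff_connectedSpace.2 inferInstance
  have hsurj : Function.Surjective π.base := fun t => (hfib t).nonempty
  obtain ⟨x₀⟩ := (inferInstance : Nonempty X)
  have hconn : _root_.IsConnected (π.base ⁻¹' connectedComponent x₀) :=
    preimage_connectedComponent_connected hfib
      (π.isClosedMap.isQuotientMap π.continuous hsurj).isCoinducing x₀
  rw [PreconnectedSpace.connectedComponent_eq_univ, Set.preimage_univ] at hconn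
  haveI : ConnectedSpace ↥P := connectedSpace_iff_univ.2 hconn
  refine ⟨P, {}, inferInstance, π, O, _, hG.isProjBundle, inferInstance, EGA73.isRelAmple_relTwist_one hgen hO,
    S4691.result π r fun t => ?_⟩
  obtain ⟨-, e, -, -, -⟩ := hB t
  rw [← e.hom.homeomorph.isHomeomorph.topologicalKrullDim_eq _]
  exact (S10829.result _ r).le

/-- A bundle of positive rank has a projective bundle, connected and Noetherian when the base is. -/
theorem exists_projBundle_connected (X : Scheme.{u}) [IsNoetherian X] [ConnectedSpace ↥X] {r : ℕ}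
    {E : X.Modules} (hE : FlatMod.IsFinLocFreeOfRank (r + 1) E) :
    ∃ (P : Scheme.{u}) (_ : IsNoetherian P) (_ : ConnectedSpace ↥P) (π : P ⟶ X) (O1 : P.Modules)
      (q : (Scheme.Modules.pullback π).obj E ⟶ O1), KRR.IsProjBundle π E O1 q := by
  obtain ⟨P, i₁, i₂, π, O1, q, h, -⟩ := exists_projBundle_ample X hE
  exact ⟨P, i₁, i₂, π, O1, q, h⟩

end Groth.Agent.KRR40
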