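import Groth.Agent.KRR40.LamPull
import Groth.Agent.KRR40.Ample

/-!
The relation satisfied by the tautological class of a projective bundle.
-/

set_option autoImplicit false
set_option backward.isDefEq.respectTransparency.types false
set_option linter.style.haveILetI false

noncomputable section

universe v u

open CategoryTheory CategoryTheory.Limits AlgebraicGeometry LambdaRing

namespace Groth.Agent.KRR40

/-- The alternating relation of a sum of a line element and an element with vanishing higher operations. -/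
theorem alt_sum_eq_zero {K : Type v} [CommRing K] [LambdaOps K] {ℓ k : K} {r : ℕ}
    (hℓ : ∀ i, 2 ≤ i → LambdaOps.lam i ℓ = 0) (hk : LambdaOps.lam (r + 1) k = 0) :
    ∑ i ∈ Finset.range (r + 2), (-1 : K) ^ i * LambdaOps.lam i (k + ℓ) * ℓ ^ (r + 1 - i) = 0 := by
  have hs : ∀ i, LambdaOps.lam (i + 1) (k + ℓ) = LambdaOps.lam (i + 1) k + ℓ * LambdaOps.lam i k := by
    intro i
    have := congrArg (PowerSeries.coeff (i + 1)) (Lambda37.lamSeries_add k ℓ)
    rw [Lambda37.lamSeries_eq_linear hℓ, mul_add, mul_one, map_add, ← mul_assoc, PowerSeries.coeff_succ_mul_X,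
      PowerSeries.coeff_mul_C, Lambda37.coeff_lamSeries, Lambda37.coeff_lamSeries, Lambda37.coeff_lamSeries] at this
    rw [this, mul_comm ℓ]
  let b : ℕ → K := fun i => (-1 : K) ^ i * LambdaOps.lam i k * ℓ ^ (r + 1 - i)
  rw [Finset.sum_range_succ' (n := r + 1), Finset.sum_congr rfl fun i hi => show
    (-1 : K) ^ (i + 1) * LambdaOps.lam (i + 1) (k + ℓ) * ℓ ^ (r + 1 - (i + 1)) = b (i + 1) - b i by
      rw [Finset.mem_range] at hi
      simp only [b, hs, show r + 1 - i = r + 1 - (i + 1) + 1 by omega, pow_succ]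
      ring, Finset.sum_range_sub b]
  simp [b, hk, LambdaOps.lam_zero]

/-- A module of constant rank zero is zero. -/
theorem isZero_of_rank_zero {P : Scheme.{u}} {F : P.Modules} (h : FlatMod.IsFinLocFreeOfRank 0 F) : IsZero F := by
  refine DCK91.isZero_of_stalks fun x => ?_
  obtain ⟨U, hx, ⟨e⟩⟩ := h x
  obtain ⟨s, hs⟩ := Props58.LocFree.exists_stalkBasis_of_iso e
  haveI : Subsingleton ((DCK91.SP x).obj F) := (hs.stalkEquiv x hx).symm.toEquiv.subsingleton
  exact ModuleCat.isZero_of_subsingleton _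

/-- The tautological relation for an invertible quotient of an inverse image. -/
theorem taut_relation {X P : Scheme.{u}} [IsLocallyNoetherian X] [IsLocallyNoetherian P] [ConnectedSpace ↥P]
    {KX KP : Type v} [CommRing KX] [CommRing KP] [LambdaOps KX] [LambdaOps KP] {PX : PosStructure KX}
    {PP : PosStructure KP} {φX : SGA6.Kvb X →+ KX} {φP : SGA6.Kvb P →+ KP} {g : KX →+ KP} {π : P ⟶ X}
    (hX : KRR.IsModel X KX PX φX) (hP : KRR.IsModel P KP PP φP) (hg : KRR.IsPull π φX φP g)
    {r : ℕ} {E : X.Modules} (hE : FlatMod.IsFinLocFreeOfRank (r + 1) E) {O1 : P.Modules}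
    (hO1 : FlatMod.IsFinLocFreeOfRank 1 O1) (q : (Scheme.Modules.pullback π).obj E ⟶ O1) [Epi q] :
    ∑ i ∈ Finset.range (r + 2), (-1 : KP) ^ i * g (LambdaOps.lam i (φX (KRR.cl X E))) *
      φP (KRR.cl P O1) ^ (r + 1 - i) = 0 := by
  have hS : (ShortComplex.mk (kernel.ι q) q (kernel.condition q)).ShortExact :=
    { exact := ShortComplex.exact_of_f_is_kernel _ (kernelIsKernel q) }
  have hπE := finLocFreeOfRank_pullback π hE
  have hkv : FlatMod.IsFinLocFree (kernel q) := vb_X₁ hS (vb_of_rank hπE) (vb_of_rank hO1)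
  have hsum : φP (KRR.cl P ((Scheme.Modules.pullback π).obj E)) =
      φP (KRR.cl P (kernel q)) + φP (KRR.cl P O1) := by
    rw [← map_add]
    exact congrArg φP (K0Res3.cls_add (P := KRR.vbP P) _ hS hkv (vb_of_rank hπE) (vb_of_rank hO1))
  obtain ⟨r', hr'⟩ := exists_rank_of_connected hkv
  obtain rfl : r = r' := by
    have := congrArg PP.aug hsum
    rw [map_add, hP.aug_cl _ _ hπE, hP.aug_cl _ _ hr', hP.aug_cl _ _ hO1] at this
    omega
  have hℓ : φP (KRR.cl P O1) ∈ PP.pos := (hP.mem_pos_iff _).2 ⟨1, O1, le_rfl, hO1, rfl⟩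
  have hk : LambdaOps.lam (r + 1) (φP (KRR.cl P (kernel q))) = 0 := by
    rcases Nat.eq_zero_or_pos r with h0 | hr
    · subst h0
      rw [cl_isZero_vb (isZero_of_rank_zero hr'), map_zero, LambdaOps.lam_one]
    · exact PP.lam_eq_zero _ ((hP.mem_pos_iff _).2 ⟨r, _, hr, hr', rfl⟩) _ (by rw [hP.aug_cl _ _ hr']; omega)
  have hlam : ∀ i, g (LambdaOps.lam i (φX (KRR.cl X E))) =
      LambdaOps.lam i (φP (KRR.cl P (kernel q)) + φP (KRR.cl P O1)) := fun i => by
    rw [← hsum, ← hg E (vb_of_rank hE)]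
    exact isLambdaHom_pullHom hX hP hg i _
  simp only [hlam]
  exact alt_sum_eq_zero (fun i hi => PP.lam_eq_zero _ hℓ i (by rw [hP.aug_cl 1 O1 hO1]; omega)) hk

end Groth.Agent.KRR40
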