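import Groth.Agent.KRR40.ModelEquiv
import Groth.Agent.KRR40.PBStep
import Groth.Agent.KRR40.Taut
import Groth.Agent.S3782

/-!
The splitting property of the rings of bundles, from the freeness of the ring of a projective bundle.
-/

set_option autoImplicit false
set_option linter.style.haveILetI false
set_option backward.isDefEq.respectTransparency.types false

noncomputable section

universe v w u

open CategoryTheory CategoryTheory.Limits AlgebraicGeometry LambdaRing Polynomial

namespace Groth.Agent.KRR40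

attribute [local instance] kvbRing kvbLambda

section alg

variable {K : Type v} [CommRing K] [LambdaOps K] {P : PosStructure K} {e : K} {r : ℕ}

lemma extPoly_eq (hr : P.aug e = r + 1) :
    KRR.extPoly P e = ∑ i ∈ Finset.range (r + 2), C ((-1 : K) ^ i * LambdaOps.lam i e) * X ^ (r + 1 - i) := by
  rw [KRR.extPoly, show (P.aug e).toNat = r + 1 by rw [hr]; omega]

lemma degree_extPoly_sub (hr : P.aug e = r + 1) :
    (KRR.extPoly P e - X ^ (r + 1)).degree ≤ ((r : ℕ) : WithBot ℕ) := by
  rw [extPoly_eq hr, Finset.sum_range_succ']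
  simp only [pow_zero, LambdaOps.lam_zero, one_mul, map_one, Nat.sub_zero, add_sub_cancel_right]
  refine (degree_sum_le _ _).trans (Finset.sup_le fun i _ => (degree_C_mul_X_pow_le _ _).trans ?_)
  exact_mod_cast (by omega : r + 1 - (i + 1) ≤ r)

lemma monic_extPoly (hr : P.aug e = r + 1) : (KRR.extPoly P e).Monic := by
  have h := monic_X_pow_add (n := r + 1) (p := KRR.extPoly P e - X ^ (r + 1))
    ((degree_extPoly_sub hr).trans_lt (by exact_mod_cast Nat.lt_succ_self r))
  rwa [add_sub_cancel] at h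

lemma natDegree_extPoly [Nontrivial K] (hr : P.aug e = r + 1) : (KRR.extPoly P e).natDegree = r + 1 := by
  refine natDegree_eq_of_degree_eq_some ?_
  have h : KRR.extPoly P e = X ^ (r + 1) + (KRR.extPoly P e - X ^ (r + 1)) := by ring
  rw [h, degree_add_eq_left_of_degree_lt, degree_X_pow]
  rw [degree_X_pow]
  exact (degree_extPoly_sub hr).trans_lt (by exact_mod_cast Nat.lt_succ_self r)

lemma nontrivial_of_pos (P : PosStructure K) : Nontrivial K :=
  ⟨⟨1, 0, fun h => one_ne_zero (α := ℤ) (by rw [← map_one P.aug, h, map_zero])⟩⟩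

/-- The `K`-coordinate of `1` in the filtration of the elementary extension. -/
theorem mem_of_mem_sum (hr : P.aug e = r + 1) (F : ℕ → AddSubgroup K) (k : ℕ) {x : K}
    (hx : AdjoinRoot.of (KRR.extPoly P e) x ∈ ⨆ i ∈ Finset.range (r + 1), AddSubgroup.map
      ((AddMonoidHom.mulRight ((AdjoinRoot.root (KRR.extPoly P e) - 1) ^ i)).comp
        (AdjoinRoot.of (KRR.extPoly P e)).toAddMonoidHom) (F (k - i))) : x ∈ F k := by
  haveI := nontrivial_of_pos P
  let p := KRR.extPoly P e
  let N : AddSubgroup (AdjoinRoot p) :=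
    { carrier := {z | ∃ q : K[X], AdjoinRoot.mk p q = z ∧ q.natDegree ≤ r ∧ q.eval 1 ∈ F k}
      zero_mem' := ⟨0, map_zero _, by simp, by simp⟩
      add_mem' := by
        rintro a b ⟨q, rfl, hd, he⟩ ⟨q', rfl, hd', he'⟩
        exact ⟨q + q', map_add _ _ _, natDegree_add_le_of_degree_le hd hd', by rw [eval_add]; exact add_mem he he'⟩
      neg_mem' := by
        rintro a ⟨q, rfl, hd, he⟩
        exact ⟨-q, map_neg _ _, by rwa [natDegree_neg], by rw [eval_neg]; exact neg_mem he⟩ }
  have hle : (⨆ i ∈ Finset.range (r + 1), AddSubgroup.map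
      ((AddMonoidHom.mulRight ((AdjoinRoot.root p - 1) ^ i)).comp (AdjoinRoot.of p).toAddMonoidHom) (F (k - i))) ≤ N := by
    refine iSup₂_le fun i hi => ?_
    rintro _ ⟨a, ha, rfl⟩
    refine ⟨C a * (X - 1) ^ i, by simp [p], ?_, ?_⟩
    · refine (natDegree_C_mul_le _ _).trans (natDegree_pow_le.trans ?_)
      have : (X - 1 : K[X]).natDegree ≤ 1 := by
        rw [← map_one (C : K →+* K[X])]; exact natDegree_X_sub_C_le _
      rw [Finset.mem_range] at hi
      nlinarith
    · rw [eval_mul, eval_C, eval_pow, eval_sub, eval_X, eval_one, sub_self]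
      rcases Nat.eq_zero_or_pos i with rfl | hi'
      · simpa using ha
      · rw [zero_pow hi'.ne', mul_zero]; exact zero_mem _
  obtain ⟨q, hq, hd, he⟩ := hle hx
  have hq0 : q - C x = 0 := by
    by_contra hne
    have hdvd : p ∣ q - C x := by
      rw [← AdjoinRoot.mk_eq_zero, map_sub, hq, AdjoinRoot.mk_C, sub_self]
    refine (monic_extPoly hr).not_dvd_of_natDegree_lt hne ?_ hdvd
    rw [natDegree_extPoly hr]
    exact Nat.lt_succ_of_le (natDegree_sub_le_of_le hd (natDegree_C x).le |>.trans (by simp))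
  rwa [sub_eq_zero.1 hq0, eval_C] at he

end alg

/-- Freeness of the rings of bundles of projective bundles. -/
def FreeHyp : Prop :=
  ∀ (X P : Scheme.{u}) [IsNoetherian X] [ConnectedSpace ↥X] [IsNoetherian P] [ConnectedSpace ↥P]
    (r : ℕ) (E : X.Modules) (_ : FlatMod.IsFinLocFreeOfRank (r + 1) E) (π : P ⟶ X) (O1 : P.Modules)
    (q : (Scheme.Modules.pullback π).obj E ⟶ O1) (_ : KRR.IsProjBundle π E O1 q),
    Function.Bijective (fun a : Fin (r + 1) → SGA6.Kvb X =>
      ∑ i : Fin (r + 1), pullK π (a i) * KRR.cl P O1 ^ (i : ℕ))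

variable (hfree : FreeHyp.{u})

lemma kvb_pull {X P : Scheme.{u}} (π : P ⟶ X) [IsLocallyNoetherian X] [IsLocallyNoetherian P]
    [ConnectedSpace ↥X] [ConnectedSpace ↥P] :
    IsLambdaHom (pullR π) ∧ ∀ x, (kvbPos P).aug (pullR π x) = (kvbPos X).aug x :=
  ⟨isLambdaHom_pullHom _ _ _, isPull_aug (kvb_isModel X) (kvb_isModel P) (isPull_pullK π)⟩

lemma isExtension_pullR {X P : Scheme.{u}} (π : P ⟶ X) [IsLocallyNoetherian X] [IsLocallyNoetherian P]
    [ConnectedSpace ↥X] [ConnectedSpace ↥P] (h : Function.Injective (pullR π)) :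
    IsExtension (kvbPos X) (kvbPos P) (pullR π) where
  isLambdaHom := (kvb_pull π).1
  injective := h
  aug_comp := (kvb_pull π).2
  pos_subset e he := by
    obtain ⟨n, E, hn, hE, rfl⟩ := ((kvb_isModel X).mem_pos_iff e).1 he
    exact ((kvb_isModel P).mem_pos_iff _).2 ⟨n, _, hn, finLocFreeOfRank_pullback π hE,
      (pullK_cl π (vb_of_rank hE)).symm⟩

include hfree in
theorem injective_pullR {X P : Scheme.{u}} [IsNoetherian X] [ConnectedSpace ↥X] [IsNoetherian P]
    [ConnectedSpace ↥P] {r : ℕ} {E : X.Modules} (hE : FlatMod.IsFinLocFreeOfRank (r + 1) E) {π : P ⟶ X}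
    {O1 : P.Modules} {q : (Scheme.Modules.pullback π).obj E ⟶ O1} (hP : KRR.IsProjBundle π E O1 q) :
    Function.Injective (pullR π) := fun a b h => by
  classical
  have key : ∀ c, (fun a : Fin (r + 1) → SGA6.Kvb X =>
      ∑ i : Fin (r + 1), pullK π (a i) * KRR.cl P O1 ^ (i : ℕ)) (Pi.single 0 c) = pullR π c := fun c => by
    dsimp only
    rw [Finset.sum_eq_single 0 (fun i _ hi => by rw [Pi.single_eq_of_ne hi, map_zero, zero_mul])
      (fun h => absurd (Finset.mem_univ _) h), Pi.single_eq_same, Fin.val_zero, pow_zero, mul_one]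
    rfl
  simpa using congrFun ((hfree X P r E hE π O1 q hP).1 ((key a).trans (h.trans (key b).symm))) 0

/-- The splitting property of the standard models. -/
def SplitHyp : Prop :=
  ∀ (Y : Scheme.{u}) [IsNoetherian Y] [ConnectedSpace ↥Y], HasSplitting (SGA6.Kvb Y) (kvbPos Y)

include hfree in
/-- The inverse image to a projective bundle detects the γ-filtration. -/
theorem comap_gammaFiltration_step (hs : SplitHyp.{u}) {X P : Scheme.{u}} [IsNoetherian X] [ConnectedSpace ↥X] [IsNoetherian P]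
    [ConnectedSpace ↥P] {r : ℕ} {E : X.Modules} (hE : FlatMod.IsFinLocFreeOfRank (r + 1) E) {π : P ⟶ X}
    {O1 : P.Modules} {q : (Scheme.Modules.pullback π).obj E ⟶ O1} (hP : KRR.IsProjBundle π E O1 q) (k : ℕ)
    (x : SGA6.Kvb X) (hx : pullR π x ∈ gammaFiltration (kvbPos P) k) : x ∈ gammaFiltration (kvbPos X) k := by
  haveI := hP.epi
  let e := KRR.cl X E
  let l := KRR.cl P O1
  have hr : (kvbPos X).aug e = r + 1 := by simpa using (kvb_isModel X).aug_cl _ _ hE
  have he : e ∈ (kvbPos X).pos := ((kvb_isModel X).mem_pos_iff e).2 ⟨r + 1, E, by omega, hE, rfl⟩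
  haveI := nontrivial_of_pos (kvbPos X)
  let p := KRR.extPoly (kvbPos X) e
  have hroot : p.eval₂ (pullR π) l = 0 := by
    have h := taut_relation (kvb_isModel X) (kvb_isModel P) (isPull_pullK π) hE hP.invertible q
    rw [show p = _ from extPoly_eq hr, eval₂_finsetSum]
    refine Eq.trans (Finset.sum_congr rfl fun i _ => ?_) h
    rw [eval₂_mul, eval₂_C, eval₂_X_pow, map_mul, map_pow, map_neg, map_one]
    rfl
  let Ψ : AdjoinRoot p →+* SGA6.Kvb P := AdjoinRoot.lift (pullR π) l hroot
  have hpd : p.natDegree = r + 1 := natDegree_extPoly hr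
  have hmk : ∀ a : Fin (r + 1) → SGA6.Kvb X, Ψ (AdjoinRoot.mk p (∑ i : Fin (r + 1), C (a i) * Polynomial.X ^ (i : ℕ))) =
      ∑ i : Fin (r + 1), pullK π (a i) * l ^ (i : ℕ) := fun a => by
    rw [AdjoinRoot.lift_mk, eval₂_finsetSum]
    refine Finset.sum_congr rfl fun i _ => ?_
    rw [eval₂_mul, eval₂_C, eval₂_X_pow]
    rfl
  have hrep : ∀ z : AdjoinRoot p, ∃ a : Fin (r + 1) → SGA6.Kvb X,
      z = AdjoinRoot.mk p (∑ i : Fin (r + 1), C (a i) * Polynomial.X ^ (i : ℕ)) := by
    intro z
    obtain ⟨g, rfl⟩ := AdjoinRoot.mk_surjective z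
    refine ⟨fun i => (g %ₘ p).coeff i, ?_⟩
    rw [Fin.sum_univ_eq_sum_range (fun i => C ((g %ₘ p).coeff i) * Polynomial.X ^ i),
      ← (g %ₘ p).as_sum_range_C_mul_X_pow' (n := r + 1)]
    · refine (AdjoinRoot.mk_eq_mk).2 ?_
      rw [modByMonic_eq_sub_mul_div g p]
      exact ⟨g /ₘ p, by ring⟩
    · exact lt_of_lt_of_eq
        (natDegree_modByMonic_lt g (monic_extPoly hr) (fun h => by rw [show p = 1 from h] at hpd; simp at hpd)) hpd
  have hbij : Function.Bijective Ψ := by
    obtain ⟨hi, hs⟩ := hfree X P r E hE π O1 q hP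
    refine ⟨fun z z' h => ?_, fun y => ?_⟩
    · obtain ⟨a, rfl⟩ := hrep z
      obtain ⟨b, rfl⟩ := hrep z'
      rw [hmk, hmk] at h
      rw [hi h]
    · obtain ⟨a, ha⟩ := hs y
      exact ⟨_, (hmk a).trans ha⟩
  let eqv := RingEquiv.ofBijective Ψ hbij
  letI inst : LambdaOps (AdjoinRoot p) :=
    { lam := fun i z => eqv.symm (LambdaOps.lam i (Ψ z))
      lam_zero := fun z => by rw [LambdaOps.lam_zero, map_one]
      lam_one := fun z => by rw [LambdaOps.lam_one]; exact eqv.symm_apply_apply z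
      lam_add := fun j z z' => by
        rw [map_add, LambdaOps.lam_add, map_sum]
        exact Finset.sum_congr rfl fun i _ => map_mul _ _ _ }
  have hΨl : ∀ i z, Ψ (LambdaOps.lam i z) = LambdaOps.lam i (Ψ z) := fun i z => eqv.apply_symm_apply _
  let Pe : PosStructure (AdjoinRoot p) :=
    { aug := (kvbPos P).aug.comp Ψ
      aug_surjective := (kvbPos P).aug_surjective.comp hbij.2
      pos := Ψ ⁻¹' (kvbPos P).pos
      add_mem := fun a b ha hb => by rw [Set.mem_preimage, map_add]; exact (kvbPos P).add_mem _ _ ha hb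
      mul_mem := fun a b ha hb => by rw [Set.mem_preimage, map_mul]; exact (kvbPos P).mul_mem _ _ ha hb
      natCast_mem := fun n hn => by rw [Set.mem_preimage, map_natCast]; exact (kvbPos P).natCast_mem n hn
      exists_sub := fun z => by
        obtain ⟨a, b, ha, hb, h⟩ := (kvbPos P).exists_sub (Ψ z)
        obtain ⟨a, rfl⟩ := hbij.2 a
        obtain ⟨b, rfl⟩ := hbij.2 b
        exact ⟨a, b, ha, hb, hbij.1 (h.trans (map_sub Ψ a b).symm)⟩
      aug_pos := fun z hz => (kvbPos P).aug_pos _ hz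
      lam_eq_zero := fun z hz i hi => hbij.1 (by rw [hΨl, map_zero]; exact (kvbPos P).lam_eq_zero _ hz i hi)
      isUnit_lam := fun z hz => by
        have := ((kvbPos P).isUnit_lam _ hz).map eqv.symm
        exact this }
  have hΨext : IsExtension Pe (kvbPos P) Ψ := ⟨hΨl, hbij.1, fun _ => rfl, fun _ h => h⟩
  have hof : ∀ z, Ψ (AdjoinRoot.of p z) = pullR π z := fun z => AdjoinRoot.lift_of hroot
  have hπext := isExtension_pullR π (injective_pullR hfree hE hP)
  have hext : IsExtension (kvbPos X) Pe (AdjoinRoot.of p) := by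
    refine ⟨fun i z => hbij.1 ?_, fun a b h => hπext.injective ?_, fun z => ?_, fun z hz => ?_⟩
    · rw [hΨl, hof, hof, hπext.isLambdaHom]
    · rw [← hof, h, hof]
    · show (kvbPos P).aug (Ψ _) = _
      rw [hof, hπext.aug_comp]
    · exact (Set.mem_preimage (f := ⇑Ψ)).2 (by rw [hof]; exact hπext.pos_subset z hz)
  have hΨroot : Ψ (AdjoinRoot.root p) = l := AdjoinRoot.lift_root hroot
  have hlpos : l ∈ (kvbPos P).pos := ((kvb_isModel P).mem_pos_iff l).2 ⟨1, O1, le_rfl, hP.invertible, rfl⟩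
  have hlaug : (kvbPos P).aug l = 1 := (kvb_isModel P).aug_cl 1 O1 hP.invertible
  have hroot' : ∀ i, 2 ≤ i → LambdaOps.lam i (AdjoinRoot.root p) = 0 := fun i hi => hbij.1 (by
    rw [hΨl, hΨroot, map_zero]
    exact (kvbPos P).lam_eq_zero l hlpos i (by rw [hlaug]; exact_mod_cast hi))
  have hline : Pe.IsLine (AdjoinRoot.root p) := by
    refine ⟨?_, ?_⟩
    · exact (Set.mem_preimage (f := ⇑Ψ)).2 (by rw [hΨroot]; exact hlpos)
    · show (kvbPos P).aug (Ψ _) = 1; rw [hΨroot, hlaug]
  have hsX := hs X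
  have hsP := hs P
  have h := S3782.result _ (kvbPos X) hsX e he r hr inst Pe hext hroot' hline (hasSplitting_of_extension hΨext hsP) k
  have hmem : AdjoinRoot.of p x ∈ gammaFiltration Pe k := by
    have hl' : IsLambdaHom eqv.symm.toRingHom := fun i z => hbij.1 (by
      show Ψ (eqv.symm _) = Ψ (LambdaOps.lam i (eqv.symm z))
      rw [hΨl]
      exact (eqv.apply_symm_apply _).trans (congrArg _ (eqv.apply_symm_apply z).symm))
    have h1 := map_mem_gammaFiltration (P' := Pe) eqv.symm.toRingHom hl'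
      (fun z => congrArg (kvbPos P).aug (eqv.apply_symm_apply z)) k hx
    rwa [show eqv.symm.toRingHom (pullR π x) = AdjoinRoot.of p x from
      hbij.1 ((eqv.apply_symm_apply _).trans (hof x).symm)] at h1
  rw [h] at hmem
  exact mem_of_mem_sum hr (fun j => gammaFiltration (kvbPos X) j) k hmem

include hfree in
/-- Every bundle splits along an injective inverse image. -/
theorem exists_split : ∀ (m : ℕ) (X : Scheme.{u}) [IsNoetherian X] [ConnectedSpace ↥X] (E : X.Modules),
    FlatMod.IsFinLocFreeOfRank m E →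
    ∃ (X' : Scheme.{u}) (_ : IsNoetherian X') (_ : ConnectedSpace ↥X') (f : X' ⟶ X) (L : Fin m → X'.Modules),
      Function.Injective (pullR f) ∧
      (SplitHyp.{u} → ∀ k x, pullR f x ∈ gammaFiltration (kvbPos X') k → x ∈ gammaFiltration (kvbPos X) k) ∧
      (∀ j, FlatMod.IsFinLocFreeOfRank 1 (L j)) ∧
      pullK f (KRR.cl X E) = ∑ j, KRR.cl X' (L j) := by
  intro m
  induction m with
  | zero =>
    intro X _ _ E hE
    have hid : ∀ z, pullK (𝟙 X) z = z := fun z =>
      DFunLike.congr_fun (hom_ext_cl (g := pullK (𝟙 X)) (g' := AddMonoidHom.id _) fun F hF => by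
        rw [pullK_cl _ hF]
        exact cl_iso_vb ((Scheme.Modules.pullbackId X).app F) hF) z
    refine ⟨X, inferInstance, inferInstance, 𝟙 X, Fin.elim0, fun a b h => ?_, fun _ k x hx => ?_, fun j => j.elim0, ?_⟩
    · rw [← hid a, ← hid b]; exact h
    · rw [← hid x]; exact hx
    · rw [hid, cl_isZero_vb (isZero_of_rank_zero hE)]
      simp
  | succ m ih =>
    intro X _ _ E hE
    obtain ⟨P, _, _, π, O1, q, hP⟩ := exists_projBundle_connected X hE
    haveI := hP.epi
    have hS : (ShortComplex.mk (kernel.ι q) q (kernel.condition q)).ShortExact :=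
      { exact := ShortComplex.exact_of_f_is_kernel _ (kernelIsKernel q) }
    have hπE := finLocFreeOfRank_pullback π hE
    have hkv : FlatMod.IsFinLocFree (kernel q) := vb_X₁ hS (vb_of_rank hπE) (vb_of_rank hP.invertible)
    have hsum : KRR.cl P ((Scheme.Modules.pullback π).obj E) = KRR.cl P (kernel q) + KRR.cl P O1 :=
      K0Res3.cls_add (P := KRR.vbP P) _ hS hkv (vb_of_rank hπE) (vb_of_rank hP.invertible)
    obtain ⟨m', hm'⟩ := exists_rank_of_connected hkv
    obtain rfl : m' = m := by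
      have h := congrArg (kvbPos P).aug hsum
      have a1 := (kvb_isModel P).aug_cl _ _ hπE
      have a2 := (kvb_isModel P).aug_cl _ _ hm'
      have a3 := (kvb_isModel P).aug_cl _ _ hP.invertible
      simp only [AddMonoidHom.id_apply] at a1 a2 a3
      rw [map_add, a1, a2, a3] at h
      omega
    obtain ⟨X', _, _, f, L, hinj, hfil, hL, hsumL⟩ := ih P _ hm'
    have hcomp : ∀ z, pullK (f ≫ π) z = pullK f (pullK π z) := fun z =>
      DFunLike.congr_fun (hom_ext_cl (g := pullK (f ≫ π)) (g' := (pullK f).comp (pullK π)) fun F hF => by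
        show _ = pullK f (pullK π _)
        rw [pullK_cl _ hF, pullK_cl π hF, pullK_cl f (vb_pullback π hF)]
        exact (cl_iso_vb ((Scheme.Modules.pullbackComp f π).app F) (vb_pullback _ hF)).symm) z
    refine ⟨X', inferInstance, inferInstance, f ≫ π, Fin.cons ((Scheme.Modules.pullback f).obj O1) L,
      fun a b h => ?_, fun hs k x hx => ?_, fun j => ?_, ?_⟩
    rotate_left
    · refine comap_gammaFiltration_step hfree hs hE hP k x (hfil hs k _ ?_)
      show pullK f (pullK π x) ∈ _
      rw [← hcomp]; exact hx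
    rotate_left 2
    · refine injective_pullR hfree hE hP (hinj ?_)
      show pullK f (pullK π a) = pullK f (pullK π b)
      rw [← hcomp, ← hcomp]; exact h
    · induction j using Fin.cases with
      | zero => exact finLocFreeOfRank_pullback f hP.invertible
      | succ j => exact hL j
    · rw [hcomp, pullK_cl π (vb_of_rank hE), hsum, map_add, hsumL, pullK_cl f (vb_of_rank hP.invertible),
        Fin.sum_univ_succ, add_comm]
      simp

include hfree in
/-- The rings of bundles have the splitting property. -/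
theorem hasSplitting_model (X : Scheme.{u}) [IsNoetherian X] [ConnectedSpace ↥X] (K : Type (u + 1)) [CommRing K]
    [LambdaOps K] (P : PosStructure K) (φ : SGA6.Kvb X →+ K) (hK : KRR.IsModel X K P φ) : HasSplitting K P := by
  refine ⟨{L | ∃ (Y : Scheme.{u}) (_ : IsNoetherian Y) (_ : ConnectedSpace ↥Y) (ψ : SGA6.Kvb Y →+ L.carrier),
    KRR.IsModel Y L.carrier L.posStr ψ}, ⟨X, inferInstance, inferInstance, φ, hK⟩, ?_⟩
  rintro L ⟨Y, _, _, ψ, hψ⟩ e he
  obtain ⟨n, E, -, hE, rfl⟩ := (hψ.mem_pos_iff e).1 he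
  obtain ⟨Y', _, _, f, Ls, hinj, -, hLs, hsum⟩ := exists_split hfree n Y E hE
  refine ⟨⟨SGA6.Kvb Y', kvbPos Y'⟩, ⟨Y', inferInstance, inferInstance, AddMonoidHom.id _, kvb_isModel Y'⟩,
    (pullR f).comp (modelEquiv hψ).symm.toRingHom, isExtension_comp ?_ (isExtension_pullR f hinj),
    Finset.univ.val.map fun j => KRR.cl Y' (Ls j), ?_, ?_⟩
  · refine ⟨modelEquiv_symm_lam hψ, (modelEquiv hψ).symm.injective, fun x => ?_, fun x hx => ?_⟩
    · obtain ⟨z, rfl⟩ := hψ.bijective.2 x
      show (kvbPos Y).aug ((modelEquiv hψ).symm (modelEquiv hψ z)) = _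
      rw [RingEquiv.symm_apply_apply, modelEquiv_aug hψ]
    · obtain ⟨z, rfl⟩ := hψ.bijective.2 x
      show (modelEquiv hψ).symm (modelEquiv hψ z) ∈ _
      rw [RingEquiv.symm_apply_apply]
      exact (modelEquiv_pos hψ z).1 hx
  · intro x hx
    obtain ⟨j, -, rfl⟩ := Multiset.mem_map.1 hx
    exact ⟨((kvb_isModel Y').mem_pos_iff _).2 ⟨1, Ls j, le_rfl, hLs j, rfl⟩, (kvb_isModel Y').aug_cl 1 _ (hLs j)⟩
  · show _ = pullK f ((modelEquiv hψ).symm (ψ (KRR.cl Y E)))
    rw [← modelEquiv_apply hψ, RingEquiv.symm_apply_apply, hsum]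
    rfl

end Groth.Agent.KRR40
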