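import Groth.Agent.KRR40.LineNil
import Groth.Agent.KRR40.Splitting

/-!
The γ-filtration of a scheme with an ample module stops above its dimension.
-/

set_option autoImplicit false
set_option linter.style.haveILetI false
set_option backward.isDefEq.respectTransparency.types false

noncomputable section

universe v u

open CategoryTheory CategoryTheory.Limits AlgebraicGeometry LambdaRing TopologicalSpace

namespace Groth.Agent.KRR40

attribute [local instance] kvbRing kvbLambda

section alg

variable {K : Type v} [CommRing K] [LambdaOps K] (P : PosStructure K)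

/-- The ideal of the `u - 1`, `u` a line element. -/
def lineIdeal : Ideal K := Ideal.span {y | ∃ u, P.IsLine u ∧ y = u - 1}

lemma esymm_mem_pow {J : Ideal K} {s : Multiset K} (hs : ∀ a ∈ s, a ∈ J) (i : ℕ) : s.esymm i ∈ J ^ i := by
  rw [Multiset.esymm]
  refine multiset_sum_mem _ fun y hy => ?_
  obtain ⟨w, hw, rfl⟩ := Multiset.mem_map.1 hy
  obtain ⟨hle, rfl⟩ := Multiset.mem_powersetCard.1 hw
  clear hy hw
  induction w using Multiset.induction with
  | empty => simp
  | cons a w ih =>
    rw [Multiset.prod_cons, Multiset.card_cons, pow_succ']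
    exact Ideal.mul_mem_mul (hs a (Multiset.mem_of_le hle (Multiset.mem_cons_self a w)))
      (ih ((Multiset.le_cons_self w a).trans hle))

/-- On differences of sums of lines the γ-operations land in the powers of the line ideal. -/
theorem gamma_mem_lineIdeal {s t : Multiset K} (hs : ∀ u ∈ s, P.IsLine u) (ht : ∀ u ∈ t, P.IsLine u)
    (hc : Multiset.card s = Multiset.card t) (k : ℕ) : gamma k (s.sum - t.sum) ∈ lineIdeal P ^ k := by
  have hsum : ∀ w : Multiset K, (∀ u ∈ w, P.IsLine u) → ∀ j, gamma j (w.sum - Multiset.card w) ∈ lineIdeal P ^ j :=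
    fun w hw j => by
      rw [Lambda37.gamma_msum_sub_one (Lambda37.lam_one_eq_zero P) (fun u hu => Lambda37.line_lam P (hw u hu))]
      refine esymm_mem_pow (fun a ha => ?_) j
      obtain ⟨u, hu, rfl⟩ := Multiset.mem_map.1 ha
      exact Ideal.subset_span ⟨u, hw u hu, rfl⟩
  induction k using Nat.strong_induction_on with
  | _ k ih =>
    have h := Lambda37.gamma_add' k (s.sum - t.sum) (t.sum - Multiset.card t)
    rw [show s.sum - t.sum + (t.sum - (Multiset.card t : K)) = s.sum - Multiset.card s by rw [hc]; ring,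
      Finset.sum_range_succ, Nat.sub_self, Lambda37.gamma_zero, mul_one] at h
    rw [show gamma k (s.sum - t.sum) = gamma k (s.sum - Multiset.card s) -
      ∑ i ∈ Finset.range k, gamma i (s.sum - t.sum) * gamma (k - i) (t.sum - Multiset.card t) by rw [h]; ring]
    refine sub_mem (hsum s hs k) (Submodule.sum_mem _ fun i hi => ?_)
    rw [Finset.mem_range] at hi
    have := Ideal.mul_mem_mul (ih i hi) (hsum t ht (k - i))
    rwa [← pow_add, show i + (k - i) = k by omega] at this

end alg

/-- The classes of invertible modules are the line elements. -/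
lemma exists_invertible_of_line {X : Scheme.{u}} [ConnectedSpace ↥X] {z : SGA6.Kvb X}
    (h : (kvbPos X).IsLine z) : ∃ M : X.Modules, PicF.IsInvertible M ∧ KRR.cl X M = z := by
  obtain ⟨n, M, -, hM, rfl⟩ := ((kvb_isModel X).mem_pos_iff z).1 h.1
  obtain rfl : n = 1 := by
    have h1 := (kvb_isModel X).aug_cl n M hM
    rw [h.2] at h1
    exact_mod_cast h1.symm
  exact ⟨M, Cyc90.Dev.isInvertible_of_rank_one hM, rfl⟩

/-- The line ideal is nilpotent of exponent `dim + 1`. -/
theorem lineIdeal_pow_eq_bot {X : Scheme.{u}} [IsNoetherian X] [ConnectedSpace ↥X] {L : X.Modules}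
    (hL : CohB1.IsAmple L) {N : ℕ} (hd : topologicalKrullDim ↥X ≤ (N : WithBot ℕ∞)) :
    ∀ z ∈ lineIdeal (kvbPos X) ^ (N + 1), z = 0 := by
  have key : ∀ (k : ℕ) (z : SGA6.Kvb X), z ∈ lineIdeal (kvbPos X) ^ k → ∀ ms : List X.Modules,
      (∀ M ∈ ms, PicF.IsInvertible M) → k + ms.length = N + 1 →
      z * (ms.map fun M => KRR.cl X M - 1).prod = 0 := by
    intro k
    induction k with
    | zero =>
      intro z _ ms hms hlen
      have h := prod_line_sub_one_eq_zero (kvb_isModel X) hL (noChain_univ N hd) ms hms (by omega)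
      rw [show (ms.map fun M => KRR.cl X M - 1).prod = 0 from h, mul_zero]
    | succ k ih =>
      intro z hz ms hms hlen
      rw [pow_succ] at hz
      refine Submodule.mul_induction_on hz (fun a ha b hb => ?_) fun a b ha hb => by rw [add_mul, ha, hb, add_zero]
      induction hb using Submodule.span_induction with
      | mem y hy =>
        obtain ⟨u, hu, rfl⟩ := hy
        obtain ⟨M, hM, rfl⟩ := exists_invertible_of_line hu
        rw [mul_assoc, show (KRR.cl X M - 1) * (ms.map fun M => KRR.cl X M - 1).prod =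
          ((M :: ms).map fun M => KRR.cl X M - 1).prod from by rw [List.map_cons, List.prod_cons]]
        exact ih a ha (M :: ms) (fun M' h' => (List.mem_cons.1 h').elim (fun e => e ▸ hM) (hms M'))
          (by rw [List.length_cons]; omega)
      | zero => rw [mul_zero, zero_mul]
      | add b c _ _ hb hc => rw [mul_add, add_mul, hb, hc, add_zero]
      | smul r b _ hb => rw [smul_eq_mul, mul_left_comm, mul_assoc r, hb, mul_zero]
  intro z hz
  simpa using key (N + 1) z hz [] (by simp) rfl

/-- A tower of projective bundles, seen through the ideals of lines. -/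
def GoodMap {X' X : Scheme.{u}} [IsNoetherian X'] [ConnectedSpace ↥X'] [IsNoetherian X] [ConnectedSpace ↥X]
    (f : X' ⟶ X) (D : ℕ) : Prop :=
  ((∃ L : X.Modules, CohB1.IsAmple L) → ∃ L : X'.Modules, CohB1.IsAmple L) ∧
    topologicalKrullDim ↥X' ≤ topologicalKrullDim ↥X + D ∧
    ∃ c ∈ lineIdeal (kvbPos X') ^ D, ∀ z, pullR f z * c = 0 → z = 0

lemma map_lineIdeal {X' X : Scheme.{u}} [IsNoetherian X'] [ConnectedSpace ↥X'] [IsNoetherian X] [ConnectedSpace ↥X]
    (f : X' ⟶ X) : (lineIdeal (kvbPos X)).map (pullR f) ≤ lineIdeal (kvbPos X') := by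
  rw [lineIdeal, Ideal.map_span]
  refine Ideal.span_le.2 ?_
  rintro _ ⟨_, ⟨u, hu, rfl⟩, rfl⟩
  refine Ideal.subset_span ⟨pullR f u, ⟨?_, ((kvb_pull f).2 u).trans hu.2⟩, by rw [map_sub, map_one]⟩
  obtain ⟨M, hM, rfl⟩ := exists_invertible_of_line hu
  exact ((kvb_isModel X').mem_pos_iff _).2 ⟨1, _, le_rfl,
    finLocFreeOfRank_pullback f (Mero90.isFinLocFreeOfRank_of_isInvertible hM),
    (pullK_cl f (vb_of_isInvertible hM)).symm⟩

lemma pullR_comp {X'' X' X : Scheme.{u}} [IsNoetherian X''] [ConnectedSpace ↥X''] [IsNoetherian X']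
    [ConnectedSpace ↥X'] [IsNoetherian X] [ConnectedSpace ↥X] (g : X'' ⟶ X') (f : X' ⟶ X) (z : SGA6.Kvb X) :
    pullR (g ≫ f) z = pullR g (pullR f z) :=
  DFunLike.congr_fun (hom_ext_cl (g := pullK (g ≫ f)) (g' := (pullK g).comp (pullK f)) fun F hF => by
    show _ = pullK g (pullK f _)
    rw [pullK_cl _ hF, pullK_cl f hF, pullK_cl g (vb_pullback f hF)]
    exact (cl_iso_vb ((Scheme.Modules.pullbackComp g f).app F) (vb_pullback _ hF)).symm) z

lemma GoodMap.comp {X'' X' X : Scheme.{u}} [IsNoetherian X''] [ConnectedSpace ↥X''] [IsNoetherian X']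
    [ConnectedSpace ↥X'] [IsNoetherian X] [ConnectedSpace ↥X] {g : X'' ⟶ X'} {f : X' ⟶ X} {D' D : ℕ}
    (hg : GoodMap g D') (hf : GoodMap f D) : GoodMap (g ≫ f) (D' + D) := by
  obtain ⟨a', d', c', hc', i'⟩ := hg
  obtain ⟨a, d, c, hc, i⟩ := hf
  refine ⟨fun h => a' (a h), d'.trans ?_, pullR g c * c', ?_, fun z hz => i z (i' _ ?_)⟩
  · rw [show ((D' + D : ℕ) : WithBot ℕ∞) = (D : WithBot ℕ∞) + D' by push_cast; rw [add_comm], ← add_assoc]
    exact add_le_add_left d _ |>.trans le_rfl
  · rw [add_comm, pow_add]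
    refine Ideal.mul_mem_mul ?_ hc'
    have h := Ideal.mem_map_of_mem (pullR g) hc
    rw [Ideal.map_pow] at h
    exact Ideal.pow_right_mono (map_lineIdeal g) D h
  · rw [map_mul, ← pullR_comp, mul_assoc]; exact hz

lemma goodMap_id (X : Scheme.{u}) [IsNoetherian X] [ConnectedSpace ↥X] : GoodMap (𝟙 X) 0 := by
  refine ⟨id, by simp, 1, by simp, fun z hz => ?_⟩
  rw [mul_one] at hz
  rw [← hz]
  exact (DFunLike.congr_fun (hom_ext_cl (g := pullK (𝟙 X)) (g' := AddMonoidHom.id _) fun F hF => by
    rw [pullK_cl _ hF]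
    exact cl_iso_vb ((Scheme.Modules.pullbackId X).app F) hF) z).symm

variable (hfree : FreeHyp.{u})

include hfree in
/-- A bundle splits along a tower. -/
theorem exists_good_split : ∀ (m : ℕ) (X : Scheme.{u}) [IsNoetherian X] [ConnectedSpace ↥X] (E : X.Modules),
    FlatMod.IsFinLocFreeOfRank m E →
    ∃ (X' : Scheme.{u}) (_ : IsNoetherian X') (_ : ConnectedSpace ↥X') (f : X' ⟶ X) (D : ℕ)
      (s : Multiset (SGA6.Kvb X')),
      GoodMap f D ∧ (∀ u ∈ s, (kvbPos X').IsLine u) ∧ s.sum = pullR f (KRR.cl X E) := by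
  intro m
  induction m with
  | zero =>
    intro X _ _ E hE
    refine ⟨X, inferInstance, inferInstance, 𝟙 X, 0, 0, goodMap_id X, by simp, ?_⟩
    rw [cl_isZero_vb (isZero_of_rank_zero hE), map_zero, Multiset.sum_zero]
  | succ m ih =>
    intro X _ _ E hE
    obtain ⟨P, _, _, π, O1, q, hP, hqc, hamp, hdim⟩ := exists_projBundle_ample X hE
    haveI := hqc
    haveI := hP.epi
    have hgood : GoodMap π m := by
      refine ⟨fun ⟨L, hL⟩ => ?_, hdim, (KRR.cl P O1 - 1) ^ m, Ideal.pow_mem_pow (show KRR.cl P O1 - 1 ∈ lineIdeal (kvbPos P) from Ideal.subset_span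
        ⟨_, ⟨((kvb_isModel P).mem_pos_iff _).2 ⟨1, O1, le_rfl, hP.invertible, rfl⟩,
          (kvb_isModel P).aug_cl 1 O1 hP.invertible⟩, rfl⟩) m, fun z hz => ?_⟩
      · obtain ⟨n₀, -, hn⟩ := EGA73.RelAmpleComp.eventually_isAmple_comp π hamp hL
        exact ⟨_, hn n₀ le_rfl⟩
      · have hexp : (KRR.cl P O1 - 1) ^ m = ∑ i : Fin (m + 1),
            ((m.choose i : SGA6.Kvb P) * (-1) ^ (m - (i : ℕ))) * KRR.cl P O1 ^ (i : ℕ) := by
          rw [sub_eq_add_neg, add_pow, Fin.sum_univ_eq_sum_range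
            (fun i => ((m.choose i : SGA6.Kvb P) * (-1) ^ (m - i)) * KRR.cl P O1 ^ i)]
          exact Finset.sum_congr rfl fun i _ => by ring
        have h0 : (fun a : Fin (m + 1) → SGA6.Kvb X => ∑ i : Fin (m + 1), pullK π (a i) * KRR.cl P O1 ^ (i : ℕ))
            (fun i => z * ((m.choose i : SGA6.Kvb X) * (-1) ^ (m - (i : ℕ)))) =
            (fun a : Fin (m + 1) → SGA6.Kvb X => ∑ i : Fin (m + 1), pullK π (a i) * KRR.cl P O1 ^ (i : ℕ)) 0 := by
          dsimp only
          simp only [Pi.zero_apply, map_zero, zero_mul, Finset.sum_const_zero]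
          rw [← hz, hexp, Finset.mul_sum]
          refine Finset.sum_congr rfl fun i _ => ?_
          show pullR π _ * _ = _
          rw [map_mul, map_mul, map_natCast, map_pow, map_neg, map_one, mul_assoc]
        have := congrFun ((hfree X P m E hE π O1 q hP).1 h0) (Fin.last m)
        simpa using this
    have hS : (ShortComplex.mk (kernel.ι q) q (kernel.condition q)).ShortExact :=
      { exact := ShortComplex.exact_of_f_is_kernel _ (kernelIsKernel q) }
    have hπE := finLocFreeOfRank_pullback π hE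
    have hkv : FlatMod.IsFinLocFree (kernel q) := vb_X₁ hS (vb_of_rank hπE) (vb_of_rank hP.invertible)
    have hsum : KRR.cl P ((Scheme.Modules.pullback π).obj E) = KRR.cl P (kernel q) + KRR.cl P O1 :=
      K0Res3.cls_add (P := KRR.vbP P) _ hS hkv (vb_of_rank hπE) (vb_of_rank hP.invertible)
    obtain ⟨m', hm'⟩ := exists_rank_of_connected hkv
    obtain rfl : m' = m := by
      have h := congrArg (kvbPos P).aug hsum
      have a1 := (kvb_isModel P).aug_cl _ _ hπE
      have a2 := (kvb_isModel P).aug_cl _ _ hm'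
      have a3 := (kvb_isModel P).aug_cl _ _ hP.invertible
      simp only [AddMonoidHom.id_apply] at a1 a2 a3
      rw [map_add, a1, a2, a3] at h
      omega
    obtain ⟨X', _, _, f, D, s, hf, hs, hsumL⟩ := ih P _ hm'
    refine ⟨X', inferInstance, inferInstance, f ≫ π, D + m', pullR f (KRR.cl P O1) ::ₘ s, hf.comp hgood,
      fun u hu => ?_, ?_⟩
    · rcases Multiset.mem_cons.1 hu with rfl | hu
      · exact ⟨((kvb_isModel X').mem_pos_iff _).2 ⟨1, _, le_rfl, finLocFreeOfRank_pullback f hP.invertible,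
          (pullK_cl f (vb_of_rank hP.invertible)).symm⟩,
          ((kvb_pull f).2 _).trans ((kvb_isModel P).aug_cl 1 O1 hP.invertible)⟩
      · exact hs u hu
    · rw [pullR_comp, show pullR π (KRR.cl X E) = _ from (pullK_cl π (vb_of_rank hE)).trans hsum, map_add,
        Multiset.sum_cons, hsumL, add_comm]

include hfree in
/-- Finitely many positive elements split along one tower. -/
theorem exists_good_split_list : ∀ (k : ℕ) (X : Scheme.{u}) [IsNoetherian X] [ConnectedSpace ↥X]
    (es : List (SGA6.Kvb X)), es.length = k → (∀ e ∈ es, e ∈ (kvbPos X).pos) →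
    ∃ (X' : Scheme.{u}) (_ : IsNoetherian X') (_ : ConnectedSpace ↥X') (f : X' ⟶ X) (D : ℕ),
      GoodMap f D ∧ ∀ e ∈ es, ∃ s : Multiset (SGA6.Kvb X'), (∀ u ∈ s, (kvbPos X').IsLine u) ∧ s.sum = pullR f e := by
  intro k
  induction k with
  | zero =>
    intro X _ _ es hlen _
    exact ⟨X, inferInstance, inferInstance, 𝟙 X, 0, goodMap_id X, fun e he => by
      rw [List.length_eq_zero_iff.1 hlen] at he; simp at he⟩
  | succ k ih =>
    intro X _ _ es hlen hes
    obtain ⟨e, es, rfl⟩ := List.exists_cons_of_length_eq_add_one hlen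
    obtain ⟨n, E, -, hE, rfl⟩ := ((kvb_isModel X).mem_pos_iff e).1 (hes _ (List.mem_cons_self ..))
    obtain ⟨X₁, _, _, f, D, s, hf, hs, hsum⟩ := exists_good_split hfree n X E hE
    obtain ⟨X', _, _, g, D', hg, hall⟩ := ih X₁ (es.map (pullR f)) (by simpa using hlen) fun e he => by
      obtain ⟨e₀, he₀, rfl⟩ := List.mem_map.1 he
      obtain ⟨n', E', hn', hE', rfl⟩ := ((kvb_isModel X).mem_pos_iff e₀).1 (hes _ (List.mem_cons_of_mem _ he₀))
      exact ((kvb_isModel X₁).mem_pos_iff _).2 ⟨n', _, hn', finLocFreeOfRank_pullback f hE',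
        (pullK_cl f (vb_of_rank hE')).symm⟩
    refine ⟨X', inferInstance, inferInstance, g ≫ f, D' + D, hg.comp hf, fun e he => ?_⟩
    rcases List.mem_cons.1 he with rfl | he
    · refine ⟨s.map (pullR g), fun u hu => ?_, ?_⟩
      · obtain ⟨v, hv, rfl⟩ := Multiset.mem_map.1 hu
        obtain ⟨M, hM, rfl⟩ := exists_invertible_of_line (hs v hv)
        exact ⟨((kvb_isModel X').mem_pos_iff _).2 ⟨1, _, le_rfl,
          finLocFreeOfRank_pullback g (Mero90.isFinLocFreeOfRank_of_isInvertible hM),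
          (pullK_cl g (vb_of_isInvertible hM)).symm⟩, ((kvb_pull g).2 _).trans (hs _ hv).2⟩
      · rw [← map_multiset_sum, hsum, pullR_comp]; rfl
    · obtain ⟨t, ht, htsum⟩ := hall _ (List.mem_map.2 ⟨e, he, rfl⟩)
      exact ⟨t, ht, htsum.trans (pullR_comp g f e).symm⟩

include hfree in
/-- `F^{d+1} = 0` for the standard model. -/
theorem gammaFiltration_kvb_eq_bot (X : Scheme.{u}) [IsNoetherian X] [ConnectedSpace ↥X] (L : X.Modules)
    (hL : CohB1.IsAmple L) (d : ℕ) (hd : topologicalKrullDim ↥X ≤ (d : WithBot ℕ∞)) :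
    gammaFiltration (kvbPos X) (d + 1) = ⊥ := by
  classical
  rw [eq_bot_iff, gammaFiltration, if_neg (Nat.succ_ne_zero d), AddSubgroup.closure_le]
  rintro _ ⟨l, haug, hdeg, rfl⟩
  rw [SetLike.mem_coe, AddSubgroup.mem_bot]
  choose a b ha hb hab using fun x : SGA6.Kvb X => (kvbPos X).exists_sub x
  let es := l.map (fun p => a p.2) ++ l.map (fun p => b p.2)
  obtain ⟨X', _, _, f, D, ⟨hamp, hdim, c, hc, hinj⟩, hsplit⟩ :=
    exists_good_split_list hfree es.length X es rfl fun e he => by
      rcases List.mem_append.1 he with h | h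
      · obtain ⟨p, -, rfl⟩ := List.mem_map.1 h; exact ha _
      · obtain ⟨p, -, rfl⟩ := List.mem_map.1 h; exact hb _
  obtain ⟨L', hL'⟩ := hamp ⟨L, hL⟩
  have hd' : topologicalKrullDim ↥X' ≤ ((d + D : ℕ) : WithBot ℕ∞) := by
    push_cast
    exact hdim.trans (add_le_add hd le_rfl)
  have hterm : ∀ p ∈ l, pullR f (gamma p.1 p.2) ∈ lineIdeal (kvbPos X') ^ p.1 := by
    intro p hp
    obtain ⟨s, hs, hssum⟩ := hsplit (a p.2) (List.mem_append_left _ (List.mem_map.2 ⟨p, hp, rfl⟩))
    obtain ⟨t, ht, htsum⟩ := hsplit (b p.2) (List.mem_append_right _ (List.mem_map.2 ⟨p, hp, rfl⟩))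
    have hxst : pullR f p.2 = s.sum - t.sum := by rw [hab p.2, map_sub, ← hssum, ← htsum]
    have hcard : Multiset.card s = Multiset.card t := by
      have h0 : (kvbPos X').aug s.sum = (kvbPos X').aug t.sum := by
        rw [← sub_eq_zero, ← map_sub, ← hxst, (kvb_pull f).2]; exact haug p hp
      rw [map_multiset_sum, map_multiset_sum, Multiset.map_congr rfl (g := fun _ => (1 : ℤ)) (fun u hu => (hs u hu).2),
        Multiset.map_congr rfl (g := fun _ => (1 : ℤ)) (fun u hu => (ht u hu).2)] at h0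
      simpa using h0
    rw [Lambda37.map_gamma (kvb_pull f).1, hxst]
    exact gamma_mem_lineIdeal _ hs ht hcard p.1
  have hprod : ∀ l' : List (ℕ × SGA6.Kvb X), (∀ p ∈ l', p ∈ l) →
      pullR f (l'.map fun p => gamma p.1 p.2).prod ∈ lineIdeal (kvbPos X') ^ (l'.map Prod.fst).sum := by
    intro l'
    induction l' with
    | nil => intro _; simp
    | cons p l' ih =>
      intro h
      simp only [List.map_cons, List.prod_cons, List.sum_cons, map_mul, pow_add]
      exact Ideal.mul_mem_mul (hterm p (h p (List.mem_cons_self ..))) (ih fun q hq => h q (List.mem_cons_of_mem _ hq))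
  refine hinj _ (lineIdeal_pow_eq_bot hL' hd' _ ?_)
  refine Ideal.pow_le_pow_right (show d + D + 1 ≤ (l.map Prod.fst).sum + D by omega) ?_
  rw [pow_add]
  exact Ideal.mul_mem_mul (hprod l fun p hp => hp) hc

include hfree in
/-- `F^{d+1} = 0` for every model. -/
theorem gammaFiltration_eq_bot_of_dim (X : Scheme.{u}) [IsNoetherian X] [ConnectedSpace ↥X] (L : X.Modules)
    (hL : CohB1.IsAmple L) (d : ℕ) (hd : topologicalKrullDim ↥X ≤ (d : WithBot ℕ∞))
    (K : Type v) [CommRing K] [LambdaOps K] (P : PosStructure K) (φ : SGA6.Kvb X →+ K)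
    (hK : KRR.IsModel X K P φ) : gammaFiltration P (d + 1) = ⊥ := by
  rw [eq_bot_iff]
  intro x hx
  have h := (gammaFiltration_model hK (d + 1) x).2 hx
  rw [gammaFiltration_kvb_eq_bot hfree X L hL d hd, AddSubgroup.mem_bot,
    EmbeddingLike.map_eq_zero_iff] at h
  rw [h]; exact zero_mem _

end Groth.Agent.KRR40
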