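import Groth.Agent.KRR40.PKValues

/-!
The projection formula for the push-forward from projective space.
-/

set_option autoImplicit false
set_option linter.style.haveILetI false
set_option backward.isDefEq.respectTransparency.types false
set_option maxSynthPendingDepth 6

noncomputable section

universe u v w

open CategoryTheory CategoryTheory.Limits AlgebraicGeometry

namespace Groth.Agent.KRR40

theorem pushPr_mul_pull {n : ℕ} {T : Scheme.{u}} [IsNoetherian T] {KP : Type v} {KY : Type w}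
    [CommRing KP] [CommRing KY] [LambdaRing.LambdaOps KP] [LambdaRing.LambdaOps KY]
    {PP : LambdaRing.PosStructure KP} {φP : SGA6.Kvb (KRR.PY n T) →+ KP}
    (hKP : KRR.IsModel (KRR.PY n T) KP PP φP)
    {PY : LambdaRing.PosStructure KY} {φY : SGA6.Kvb T →+ KY} (hKY : KRR.IsModel T KY PY φY)
    {g : KP →+ KY} (hg : KRR.IsPushPr n T φP φY g) {q : KY →+ KP}
    (hq : KRR.IsPull (KRR.pr n T) φY φP q) (x : KP) (y : KY) : g (x * q y) = g x * y := by
  obtain ⟨w, rfl⟩ := hKY.bijective.2 y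
  obtain ⟨z, rfl⟩ := hKP.bijective.2 x
  obtain ⟨z, rfl⟩ := (bijective_regK n T fun _ h => h.1).2 z
  let A : KZero.K0sub (regP n T) →+ SGA6.Kvb T →+ KY :=
    AddMonoidHom.mk' (fun a => g.comp ((AddMonoidHom.mulLeft
        (φP (SGA6.mapSub (𝟭 (KRR.PY n T).Modules) (regP n T) (KRR.vbP (KRR.PY n T)) (fun _ h => h.1) a))).comp
          (q.comp φY)) -
      (AddMonoidHom.mulLeft
        (g (φP (SGA6.mapSub (𝟭 (KRR.PY n T).Modules) (regP n T) (KRR.vbP (KRR.PY n T)) (fun _ h => h.1) a)))).comp φY)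
      fun a b => by
        ext c
        simp only [map_add, AddMonoidHom.sub_apply, AddMonoidHom.comp_apply, AddMonoidHom.coe_mulLeft,
          AddMonoidHom.add_apply, add_mul]
        abel
  suffices h : A = 0 from sub_eq_zero.1 (DFunLike.congr_fun (DFunLike.congr_fun h z) w)
  refine QuotientAddGroup.addMonoidHom_ext _ (FreeAbelianGroup.lift_ext _ _ fun F => hom_ext_cl fun E hE => ?_)
  have hcl : SGA6.mapSub (𝟭 (KRR.PY n T).Modules) (regP n T) (KRR.vbP (KRR.PY n T)) (fun _ h => h.1)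
      ((QuotientAddGroup.mk' (KZero.relSub (regP n T))) (FreeAbelianGroup.of F)) = KRR.cl (KRR.PY n T) F.1 := by
    rw [KRR.cl, show KZero.clSub (KRR.vbP _) F.1 = _ from K0Res3.cls_eq (P := KRR.vbP (KRR.PY n T)) F.2.1]
    rfl
  show g (φP (SGA6.mapSub _ _ _ _ _) * q (φY (KRR.cl T E))) - g (φP (SGA6.mapSub _ _ _ _ _)) * φY (KRR.cl T E) = 0
  rw [hcl, sub_eq_zero, hq E hE, hg F.1 F.2.1 F.2.2, hKP.map_mul _ _ F.2.1 (vb_pullback _ hE),
    hKY.map_mul _ _ (finLocFree_pushPr_of_reg F.2.1 F.2.2) hE]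
  exact pushPr_tensor_pullback hg F.2.1 F.2.2 hE

end Groth.Agent.KRR40
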