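import Groth.Agent.KRR40.PKCore
import Groth.Agent.KRR40.LamPull
import Groth.Agent.KRR40.ProjFormula

/-!
Maps out of `K` of a subscheme of projective space are determined by high twists.
-/

set_option autoImplicit false
set_option backward.isDefEq.respectTransparency.types false
set_option linter.style.haveILetI false

noncomputable section

universe v w u

open CategoryTheory CategoryTheory.Limits AlgebraicGeometry LambdaRing
open Groth.Agent.QC70

namespace Groth.Agent.KRR40

/-- Additive maps agreeing eventually along powers of a unipotent element agree. -/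
theorem eq_of_eventually {K : Type v} [CommRing K] {Γ : Type w} [AddCommGroup Γ] (u : K) {N : ℕ}
    (hu : (u - 1) ^ N = 0) (a b : K →+ Γ) (x : K) {m : ℕ} (h : ∀ e, m ≤ e → a (u ^ e * x) = b (u ^ e * x)) :
    a x = b x := by
  let D : ℕ → ℕ → Γ := fun j e => (a - b) ((u - 1) ^ j * u ^ e * x)
  have hstep : ∀ j e, D (j + 1) e = D j (e + 1) - D j e := fun j e => by
    show (a - b) _ = (a - b) _ - (a - b) _
    rw [← map_sub]
    exact congrArg _ (by ring)
  have hhigh : ∀ j e, m ≤ e → D j e = 0 := by
    intro j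
    induction j with
    | zero => intro e he; simp [D, h e he]
    | succ j ih => intro e he; rw [hstep, ih _ (by omega), ih _ he, sub_zero]
  have hdown : ∀ k j, j + k = N → ∀ e, D j e = 0 := by
    intro k
    induction k with
    | zero => intro j hj e; rw [Nat.add_zero] at hj; subst hj; simp [D, hu]
    | succ k ih =>
      intro j hj e
      have hc : ∀ i, D j (e + i) = D j e := by
        intro i
        induction i with
        | zero => rfl
        | succ i hi => rw [← hi, ← sub_eq_zero, ← add_assoc, ← hstep, ih (j + 1) (by omega)]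
      rw [← hc m, hhigh j _ (by omega)]
  have := hdown N 0 (by omega) 0
  simpa [D, sub_eq_zero] using this

variable {n : ℕ} {T : Scheme.{u}} [IsNoetherian T] [IsLocallyNoetherian (KRR.PY n T)] {KP : Type v}
  [CommRing KP] [LambdaOps KP] {PP : PosStructure KP} {φP : SGA6.Kvb (KRR.PY n T) →+ KP}

/-- The classes of the twists are the powers of the hyperplane class. -/
theorem cl_twistOver (hP : KRR.IsModel (KRR.PY n T) KP PP φP) : ∀ e : ℕ,
    φP (KRR.cl (KRR.PY n T) (Twist.twistOver n T (e : ℤ))) = φP (KRR.cl (KRR.PY n T) (Twist.twistOver n T 1)) ^ e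
  | 0 => by
    obtain ⟨i⟩ := nonempty_twF_zero n T (Coh.structureModule (KRR.PY n T))
    rw [pow_zero, ← hP.map_one, Nat.cast_zero]
    exact congrArg φP (cl_iso_vb ((EGA73.tensUnitRight _).symm ≪≫ i) (vb_structure _))
  | e + 1 => by
    obtain ⟨i⟩ := nonempty_twistOver_add n T (e : ℤ) 1
    rw [pow_succ, ← cl_twistOver hP e, hP.map_mul _ _ (vb_of_isInvertible (isInvertible_twistOver n T _))
      (vb_of_isInvertible (isInvertible_twistOver n T _)), Nat.cast_succ]
    exact congrArg φP (cl_iso_vb i.symm (vb_tensor (vb_of_isInvertible (isInvertible_twistOver n T _))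
      (vb_of_isInvertible (isInvertible_twistOver n T _))))

/-- The hyperplane class is unipotent. -/
theorem twistOver_sub_one_pow (hP : KRR.IsModel (KRR.PY n T) KP PP φP) :
    (φP (KRR.cl (KRR.PY n T) (Twist.twistOver n T 1)) - 1) ^ (n + 1) = 0 := by
  let O := Coh.structureModule (KRR.PY n T)
  let ℓ := φP (KRR.cl (KRR.PY n T) (Twist.twistOver n T 1))
  let Q : AltData (KRR.PY n T).Modules KP :=
    { P₁ := fun M => FlatMod.IsFinLocFree M
      P₂ := fun _ => True
      f := fun M => φP (KRR.cl _ M)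
      zero₁ := fun _ h => vb_of_isZero h
      zero₂ := fun _ _ => trivial
      left₁ := fun _ hS h₂ h₃ => vb_X₁ hS h₂ h₃
      right₂ := fun _ _ _ _ => trivial
      ext₁ := fun _ hS h₁ h₃ => vb_X₂ hS h₁ h₃
      ext₂ := fun _ _ _ _ => trivial
      add := fun S hS h₁ h₂ h₃ => by
        rw [← map_add]
        exact congrArg φP (K0Res3.cls_add (P := KRR.vbP _) S hS h₁.1 h₂.1 h₃.1) }
  have hit : ∀ (k : ℕ) (d : ℤ), 0 ≤ d → iterDiff (fun e => ℓ ^ e.toNat) k d = (ℓ - 1) ^ k * ℓ ^ d.toNat := by
    intro k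
    induction k with
    | zero => intro d _; simp [iterDiff]
    | succ k ih =>
      intro d hd
      rw [iterDiff, ih (d + 1) (by omega), ih d hd, show (d + 1).toNat = d.toNat + 1 by omega]
      ring
  have h := rel_of_altData Q O (fun e _ A hA => ⟨vb_iso hA.some.symm (vb_twF (vb_structure _) e), trivial⟩)
    (fun e => ℓ ^ e.toNat) fun e he A hA => by
      obtain ⟨k, rfl⟩ : ∃ k : ℕ, e = k := ⟨e.toNat, by omega⟩
      rw [Int.toNat_natCast, ← cl_twistOver hP k]
      exact congrArg φP (cl_iso_vb (hA.some ≪≫ EGA73.tensUnitRight _)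
        (vb_of_isInvertible (isInvertible_twistOver n T _)))
  rw [hit (n + 1) 0 le_rfl] at h
  simpa using h

variable {X : Scheme.{u}} [IsLocallyNoetherian X] {KX : Type v} [CommRing KX] [LambdaOps KX]
  {PX : PosStructure KX} {φX : SGA6.Kvb X →+ KX}

/-- Maps out of `K(X)`, for `X` closed in `Pⁿ_T`, agree if they agree on the high twists of each bundle. -/
theorem eq_of_twists (hP : KRR.IsModel (KRR.PY n T) KP PP φP) (hX : KRR.IsModel X KX PX φX)
    (i : X ⟶ KRR.PY n T) [IsClosedImmersion i] {Γ : Type w} [AddCommGroup Γ] (a b : KX →+ Γ)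
    (hab : ∀ E : X.Modules, FlatMod.IsFinLocFree E → ∃ m : ℕ, ∀ e : ℕ, m ≤ e → ∀ E' : X.Modules,
      FlatMod.IsFinLocFree E' →
      Nonempty (E' ≅ CohB1.tensorMod E ((Scheme.Modules.pullback i).obj (Twist.twistOver n T (e : ℤ)))) →
      Nonempty ((Scheme.Modules.pushforward i).obj E' ≅ KRR.twF n T (e : ℤ) ((Scheme.Modules.pushforward i).obj E)) →
      a (φX (KRR.cl X E')) = b (φX (KRR.cl X E'))) : a = b := by
  let eP := AddEquiv.ofBijective φP hP.bijective
  let q : KP →+ KX := φX.comp ((pullK i).comp eP.symm.toAddMonoidHom)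
  have hq : KRR.IsPull i φP φX q := fun E hE => by
    show φX (pullK i (eP.symm (eP (KRR.cl _ E)))) = _
    rw [AddEquiv.symm_apply_apply, pullK_cl i hE]
  let u := q (φP (KRR.cl (KRR.PY n T) (Twist.twistOver n T 1)))
  have hu : (u - 1) ^ (n + 1) = 0 := by
    have := congrArg (pullHom hP hX hq) (twistOver_sub_one_pow hP)
    rwa [map_pow, map_sub, map_one, map_zero] at this
  refine AddMonoidHom.ext fun x => ?_
  obtain ⟨z, rfl⟩ := hX.bijective.2 x
  refine DFunLike.congr_fun (hom_ext_cl (g := a.comp φX) (g' := b.comp φX) fun E hE => ?_) z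
  obtain ⟨m, hm⟩ := hab E hE
  refine eq_of_eventually u hu a b _ (m := m) fun e he => ?_
  have hN := vb_of_isInvertible (isInvertible_twistOver n T (e : ℤ))
  have hcl : u ^ e * φX (KRR.cl X E) =
      φX (KRR.cl X (CohB1.tensorMod E ((Scheme.Modules.pullback i).obj (Twist.twistOver n T (e : ℤ))))) := by
    show (pullHom hP hX hq) _ ^ e * _ = _
    rw [← map_pow, ← cl_twistOver hP e]
    show q _ * _ = _
    rw [hq _ hN, mul_comm, hX.map_mul _ _ hE (vb_pullback i hN)]
    rfl
  rw [hcl]
  haveI := isIso_projHom_closed i E (Twist.twistOver n T (e : ℤ))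
  exact hm e he _ (vb_tensor hE (vb_pullback i hN)) ⟨Iso.refl _⟩
    ⟨(asIso (ValVan29.projHom i E (Twist.twistOver n T (e : ℤ)))).symm ≪≫ EGA73.tensComm _ _⟩

end Groth.Agent.KRR40
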