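import Groth.Agent.KRR40.GammaTwist
import Groth.Agent.Lambda37.Filt
import Groth.Agent.KRR40.PKSection
import Groth.Agent.KRR40.PKProj
import Groth.Agent.KRR40.BaseChange
import Groth.Agent.KRR40.ExtTwist
import Groth.Agent.VB30.Tensor

/-!
The push-forward from projective space and the γ-filtration.
-/

set_option autoImplicit false
set_option linter.style.haveILetI false
set_option backward.isDefEq.respectTransparency.types false
set_option maxSynthPendingDepth 6

noncomputable section

universe v u

open CategoryTheory CategoryTheory.Limits AlgebraicGeometry LambdaRing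
open Groth.Agent

namespace Groth.Agent.KRR40

open KRR40

section line

variable {X : Scheme.{u}} [IsLocallyNoetherian X] {K : Type v} [CommRing K] [LambdaOps K]
  {P : PosStructure K} {φ : SGA6.Kvb X →+ K}

/-- The operations on a twist by an invertible module. -/
theorem lamSeries_mul_line (hK : KRR.IsModel X K P φ) {L : X.Modules} (hL : PicF.IsInvertible L) (a : K) :
    lamSeries (a * φ (KRR.cl X L)) = PowerSeries.rescale (φ (KRR.cl X L)) (lamSeries a) := by
  obtain ⟨z, rfl⟩ := hK.bijective.2 a
  set u := φ (KRR.cl X L) with hu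
  have hLv := vb_of_isInvertible hL
  have hE : ∀ E : X.Modules, FlatMod.IsFinLocFree E →
      lamSeries (φ (KRR.cl X E) * u) = PowerSeries.rescale u (lamSeries (φ (KRR.cl X E))) := fun E hE => by
    ext i
    rw [Lambda37.coeff_lamSeries, PowerSeries.coeff_rescale, Lambda37.coeff_lamSeries]
    haveI := Props58.LocFree.isQuasicoherent_of_isFinLocFree hE
    have hv := vb_tensor hE hLv
    haveI := Props58.LocFree.isQuasicoherent_of_isFinLocFree hv
    obtain ⟨N, hN⟩ := FBase64.ExtPowExists.exists_isExtPow (E := E) (p := i)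
    obtain ⟨M, hM⟩ := FBase64.ExtPowExists.exists_isExtPow (E := CohB1.tensorMod E L) (p := i)
    obtain ⟨e⟩ := ExtTwist.nonempty_iso hE hL i hM hN
    have hpow : ∀ k, u ^ k = φ (KRR.cl X (CohB1.tensorPow L k)) := by
      intro k
      induction k with
      | zero => rw [pow_zero, ← hK.map_one]; rfl
      | succ k ih =>
        rw [pow_succ, ih, hu, hK.map_mul _ _ (vb_of_isInvertible (EGA73.isInvertible_tensorPow hL k)) hLv]
        rfl
    rw [hu, hK.map_mul _ _ hE hLv, show LambdaOps.lam i (φ (KRR.cl X ((DCoh.tensorBi.obj E).obj L))) = _ from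
      hK.map_lam i _ M hv (vb_extPow hv hM) hM, hK.map_lam i _ N hE (vb_extPow hE hN) hN,
      ← hu, hpow, mul_comm, hK.map_mul _ _ (vb_extPow hE hN) (vb_of_isInvertible (EGA73.isInvertible_tensorPow hL i))]
    exact congrArg φ (cl_iso_vb e (vb_tensor (vb_extPow hE hN) (vb_of_isInvertible (EGA73.isInvertible_tensorPow hL i))))
  induction z using QuotientAddGroup.induction_on with
  | H z =>
    induction z using FreeAbelianGroup.induction_on with
    | zero =>
      rw [QuotientAddGroup.mk_zero, map_zero, zero_mul, Lambda37.lamSeries_zero, map_one]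
    | of E =>
      rw [show (QuotientAddGroup.mk (FreeAbelianGroup.of E) : SGA6.Kvb X) = KRR.cl X E.1 from
        (K0Res3.cls_eq (P := KRR.vbP X) E.2).symm]
      exact hE E.1 E.2
    | neg E _ =>
      rw [QuotientAddGroup.mk_neg, show (QuotientAddGroup.mk (FreeAbelianGroup.of E) : SGA6.Kvb X) = KRR.cl X E.1 from
        (K0Res3.cls_eq (P := KRR.vbP X) E.2).symm, map_neg, neg_mul]
      set w := φ (KRR.cl X E.1)
      have h1 : lamSeries (-(w * u)) * lamSeries (w * u) = 1 := by
        rw [← Lambda37.lamSeries_add, neg_add_cancel, Lambda37.lamSeries_zero]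
      have h2 : PowerSeries.rescale u (lamSeries (-w)) * lamSeries (w * u) = 1 := by
        rw [hE E.1 E.2, ← map_mul, ← Lambda37.lamSeries_add, neg_add_cancel, Lambda37.lamSeries_zero, map_one]
      exact (Lambda37.lamSeries_isUnit (w * u)).mul_right_cancel (h1.trans h2.symm)
    | add a b ha hb =>
      rw [QuotientAddGroup.mk_add, map_add, add_mul, Lambda37.lamSeries_add, ha, hb, Lambda37.lamSeries_add, map_mul]

end line

variable {n : ℕ} {T : Scheme.{u}} [IsNoetherian T] {KP KY : Type v} [CommRing KP]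
  [CommRing KY] [LambdaOps KP] [LambdaOps KY] {PP : PosStructure KP} {PY : PosStructure KY}
  {φP : SGA6.Kvb (KRR.PY n T) →+ KP} {φY : SGA6.Kvb T →+ KY}

/-- The hyperplane class. -/
local notation "ℓ" => φP (KRR.cl (KRR.PY n T) (Twist.twistOver n T 1))

variable (φP) in
/-- The filtration generated from the base and the hyperplane class. -/
def bFil (q : KY →+* KP) (PY : PosStructure KY) (k : ℕ) : AddSubgroup KP :=
  AddSubgroup.closure {y | ∃ (i m : ℕ) (a : KY) (c : ℕ), a ∈ gammaFiltration PY m ∧ k ≤ m + i ∧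
    y = q a * ℓ ^ c * (ℓ - 1) ^ i}

/-- The classes of bundles are combinations of twisted inverse images. -/
theorem bFil_zero (hKP : KRR.IsModel (KRR.PY n T) KP PP φP) (hKY : KRR.IsModel T KY PY φY)
    {g : KY →+ KP} (hg : KRR.IsPull (KRR.pr n T) φY φP g) :
    haveI := isLocallyNoetherian_PY n T
    bFil φP (pullHom hKY hKP hg) PY 0 = ⊤ := by
  haveI := isLocallyNoetherian_PY n T
  set q := pullHom hKY hKP hg
  set G := bFil φP q PY 0
  have hgen : ∀ (a : KY) (c : ℕ), q a * ℓ ^ c ∈ G := fun a c =>
    AddSubgroup.subset_closure ⟨0, 0, a, c, Lambda37.mem_filt_zero PY a, Nat.zero_le _, by rw [pow_zero, mul_one]⟩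
  have hℓ : ∀ x ∈ G, ℓ * x ∈ G := fun x hx => by
    refine (show G ≤ G.comap (AddMonoidHom.mulLeft ℓ) from (AddSubgroup.closure_le _).2 ?_) hx
    rintro _ ⟨i, m, a, c, ha, hk, rfl⟩
    exact AddSubgroup.subset_closure ⟨i, m, a, c + 1, ha, hk, by
      show ℓ * (q a * ℓ ^ c * (ℓ - 1) ^ i) = _
      ring⟩
  have hz : ∀ (i : ℕ), ∀ x ∈ G, (ℓ - 1) ^ i * x ∈ G := fun i => by
    induction i with
    | zero => intro x hx; simpa using hx
    | succ i ih =>
      intro x hx
      rw [pow_succ, mul_assoc, sub_mul, one_mul]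
      exact ih _ (sub_mem (hℓ x hx) hx)
  obtain ⟨v, hv, hvG⟩ : ∃ v, v * ℓ = 1 ∧ ∀ x ∈ G, v * x ∈ G := by
    refine ⟨∑ i ∈ Finset.range (n + 1), (-1) ^ i * (ℓ - 1) ^ i, ?_, fun x hx => ?_⟩
    · have h := geom_sum_mul_neg (-(ℓ - 1)) (n + 1)
      rw [neg_pow (ℓ - 1) (n + 1), twistOver_sub_one_pow hKP, mul_zero, sub_zero, sub_neg_eq_add,
        add_sub_cancel] at h
      refine Eq.trans (congrArg (· * ℓ) (Finset.sum_congr rfl fun i _ => (neg_pow (ℓ - 1) i).symm)) h
    · rw [Finset.sum_mul]
      refine sum_mem fun i _ => ?_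
      rcases neg_one_pow_eq_or KP i with h | h <;> rw [h]
      · rw [one_mul]; exact hz i x hx
      · rw [neg_one_mul, neg_mul]; exact neg_mem (hz i x hx)
  have hreg : ∀ F : (KRR.PY n T).Modules, (hF : FlatMod.IsFinLocFree F) → (hr : KRR.IsRegSheaf n T F) →
      φP (KRR.cl _ F) ∈ G := fun F hF hr => by
    have hq := Props58.LocFree.isQuasicoherent_of_isFinLocFree hF
    have hzero : ∀ i, n < i → φP (KRR.cl _ (stage n T F hq hr i).1) = 0 := fun i hi => by
      rw [cl_isZero_vb (isZero_stage n T hq hr i hi), map_zero]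
    have hstep : ∀ i, φP (KRR.cl _ (stage n T F hq hr (i + 1)).1) ∈ G →
        φP (KRR.cl _ (stage n T F hq hr i).1) ∈ G := fun i hi => by
      let Z := (stage n T F hq hr i).1
      have hZ : FlatMod.IsFinLocFree Z := vb_stage hF hr i
      have hp := finLocFree_pushPr_of_reg hZ (stage n T F hq hr i).2.2
      have hS := counit_shortExact (stage n T F hq hr i).2.1 (stage n T F hq hr i).2.2
      have hpp := vb_pullback (KRR.pr n T) hp
      have hk : FlatMod.IsFinLocFree (kernel (cou n T Z)) := vb_X₁ hS hpp hZ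
      have hsum : φP (KRR.cl _ ((Scheme.Modules.pullback (KRR.pr n T)).obj
          ((Scheme.Modules.pushforward (KRR.pr n T)).obj Z))) =
            φP (KRR.cl _ (kernel (cou n T Z))) + φP (KRR.cl _ Z) := by
        rw [← map_add]
        exact congrArg φP (K0Res3.cls_add (P := KRR.vbP _) _ hS hk hpp hZ)
      have hnext : φP (KRR.cl _ (stage n T F hq hr (i + 1)).1) = ℓ * φP (KRR.cl _ (kernel (cou n T Z))) :=
        (hKP.map_mul _ _ (vb_of_isInvertible (isInvertible_twistOver n T 1)) hk).symm
      rw [show φP (KRR.cl _ (stage n T F hq hr i).1) = _ from eq_sub_of_add_eq' hsum.symm]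
      refine sub_mem ?_ ?_
      · rw [← hg _ hp]
        have h0 := hgen (φY (KRR.cl T ((Scheme.Modules.pushforward (KRR.pr n T)).obj Z))) 0
        rw [pow_zero, mul_one] at h0
        exact h0
      · rw [← one_mul (φP (KRR.cl _ (kernel (cou n T Z)))), ← hv, mul_assoc, ← hnext]
        exact hvG _ hi
    have hall : ∀ d i, n + 1 ≤ i + d → φP (KRR.cl _ (stage n T F hq hr i).1) ∈ G := by
      intro d
      induction d with
      | zero => intro i hi; rw [hzero i (by omega)]; exact zero_mem _
      | succ d ih => intro i hi; exact hstep i (ih (i + 1) (by omega))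
    exact hall (n + 1) 0 (by omega)
  rw [eq_top_iff]
  rintro x -
  obtain ⟨z, rfl⟩ := hKP.bijective.2 x
  obtain ⟨w, rfl⟩ := (bijective_regK n T fun _ h => h.1).2 z
  induction w using QuotientAddGroup.induction_on with
  | H w =>
    induction w using FreeAbelianGroup.induction_on with
    | zero => rw [QuotientAddGroup.mk_zero, map_zero, map_zero]; exact zero_mem _
    | of F =>
      refine (congrArg φP ?_).symm ▸ hreg F.1 F.2.1 F.2.2
      rw [KRR.cl, show KZero.clSub (KRR.vbP _) F.1 = _ from K0Res3.cls_eq (P := KRR.vbP (KRR.PY n T)) F.2.1]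
      rfl
    | neg F h => rw [QuotientAddGroup.mk_neg, map_neg, map_neg]; exact neg_mem h
    | add a b ha hb => rw [QuotientAddGroup.mk_add, map_add, map_add]; exact add_mem ha hb

/-- The filtration of projective space is generated from the base and the hyperplane class. -/
theorem gammaFiltration_le (hKP : KRR.IsModel (KRR.PY n T) KP PP φP) (hKY : KRR.IsModel T KY PY φY)
    {g : KY →+ KP} (hg : KRR.IsPull (KRR.pr n T) φY φP g) (k : ℕ) :
    haveI := isLocallyNoetherian_PY n T
    gammaFiltration PP k ≤ bFil φP (pullHom hKY hKP hg) PY k := by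
  haveI := isLocallyNoetherian_PY n T
  set q := pullHom hKY hKP hg
  let B := bFil φP q PY
  have htop : B 0 = ⊤ := bFil_zero hKP hKY hg
  have hanti : ∀ {a b}, a ≤ b → B b ≤ B a := fun {a b} hab => (AddSubgroup.closure_le _).2 (by
    rintro _ ⟨i, m, x, c, hx, hk, rfl⟩
    exact AddSubgroup.subset_closure ⟨i, m, x, c, hx, hab.trans hk, rfl⟩)
  have hmul : ∀ {a b : ℕ} {x y : KP}, x ∈ B a → y ∈ B b → x * y ∈ B (a + b) := fun {a b x y} hx hy => by
    induction hx using AddSubgroup.closure_induction with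
    | mem x hx =>
      induction hy using AddSubgroup.closure_induction with
      | mem y hy =>
        obtain ⟨i, m, x, c, hx, hk, rfl⟩ := hx
        obtain ⟨i', m', y, c', hy, hk', rfl⟩ := hy
        exact AddSubgroup.subset_closure ⟨i + i', m + m', x * y, c + c', Lambda37.filt_mul PY hx hy, by omega, by
          rw [map_mul]; ring⟩
      | zero => simp
      | add u w _ _ hu hw => rw [mul_add]; exact add_mem hu hw
      | neg u _ hu => rw [mul_neg]; exact neg_mem hu
    | zero => simp
    | add u w _ _ hu hw => rw [add_mul]; exact add_mem hu hw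
    | neg u _ hu => rw [neg_mul]; exact neg_mem hu
  let Good : KP → Prop := fun x => ∀ j, gamma j x ∈ B j
  have hzero : Good 0 := fun j => by
    rcases j with _ | j
    · rw [htop]; trivial
    · rw [← Lambda37.coeff_gammaSeries, Lambda37.gammaSeries_zero, PowerSeries.coeff_one, if_neg (Nat.succ_ne_zero j)]
      exact zero_mem _
  have hadd : ∀ {a b}, Good a → Good b → Good (a + b) := fun {a b} ha hb j => by
    rw [Lambda37.gamma_add']
    refine sum_mem fun i hi => ?_
    have := hmul (ha i) (hb (j - i))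
    rwa [Nat.add_sub_cancel' (Nat.lt_succ_iff.mp (Finset.mem_range.mp hi))] at this
  have hneg : ∀ {a}, Good a → Good (-a) := fun {a} ha j => by
    induction j using Nat.strong_induction_on with
    | _ j ih =>
      rcases j with _ | j
      · rw [htop]; trivial
      · have h := Lambda37.gamma_add' (j + 1) a (-a)
        rw [add_neg_cancel, ← Lambda37.coeff_gammaSeries, Lambda37.gammaSeries_zero, PowerSeries.coeff_one,
          if_neg (Nat.succ_ne_zero j), Finset.sum_range_succ', Lambda37.gamma_zero, one_mul, Nat.sub_zero] at h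
        rw [eq_neg_of_add_eq_zero_right h.symm]
        refine neg_mem (sum_mem fun i hi => ?_)
        rw [Finset.mem_range] at hi
        have := hmul (ha (i + 1)) (ih (j + 1 - (i + 1)) (by omega))
        rwa [show i + 1 + (j + 1 - (i + 1)) = j + 1 by omega] at this
  have hinv := isInvertible_twistOver n T
  have hline : ∀ c : ℕ, ℓ ^ c = φP (KRR.cl _ (Twist.twistOver n T (c : ℤ))) := fun c => (cl_twistOver hKP c).symm
  have hz1 : ∀ c : ℕ, ℓ ^ c - 1 ∈ B 1 := fun c => by
    induction c with
    | zero => rw [pow_zero, sub_self]; exact zero_mem _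
    | succ c ih =>
      rw [show ℓ ^ (c + 1) - 1 = (ℓ ^ c - 1) + q 1 * ℓ ^ c * (ℓ - 1) ^ 1 by rw [map_one]; ring]
      exact add_mem ih (AddSubgroup.subset_closure ⟨1, 0, 1, c, Lambda37.mem_filt_zero PY 1, le_rfl, rfl⟩)
  have hz : ∀ c m : ℕ, (ℓ ^ c - 1) ^ m ∈ B m := fun c m => by
    induction m with
    | zero => rw [htop]; trivial
    | succ m ih => rw [pow_succ]; exact hmul ih (hz1 c)
  have hlineGood : ∀ c : ℕ, Good (ℓ ^ c - 1) := fun c j => by
    have h1 : ∀ j, 2 ≤ j → LambdaOps.lam j (ℓ ^ c) = 0 := by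
      have hr := Mero90.isFinLocFreeOfRank_of_isInvertible (hinv (c : ℤ))
      intro j hj
      rw [hline c]
      exact PP.lam_eq_zero _ ((hKP.mem_pos_iff _).2 ⟨1, _, le_rfl, hr, rfl⟩) j (by
        rw [hKP.aug_cl 1 _ hr]; exact_mod_cast hj)
    rw [← Lambda37.coeff_gammaSeries, Lambda37.gammaSeries_linear_sub_one (Lambda37.lam_one_eq_zero PP) h1]
    rcases j with _ | _ | j
    · rw [htop]; trivial
    · simpa using hz1 c
    · rw [map_add, PowerSeries.coeff_one, if_neg (Nat.succ_ne_zero _), zero_add, PowerSeries.coeff_succ_mul_X,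
        PowerSeries.coeff_C, if_neg (Nat.succ_ne_zero _)]
      exact zero_mem _
  have hqGood : ∀ (a : KY) (c : ℕ), PY.aug a = 0 → Good (q a * ℓ ^ c) := fun a c ha j => by
    obtain ⟨d, hd⟩ := GammaTwist.gamma_mul_line (a := q a) (u := ℓ ^ c)
      (by rw [hline c]; exact lamSeries_mul_line hKP (hinv _) (q a)) j
    rw [hd]
    refine sum_mem fun l hl => ?_
    rw [Finset.mem_range] at hl
    have h1 : q (gamma l a) ∈ B l := AddSubgroup.subset_closure
      ⟨0, l, gamma l a, 0, Lambda37.gamma_mem_filt PY l ha, le_rfl, by rw [pow_zero, pow_zero, mul_one, mul_one]⟩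
    rw [Lambda37.map_gamma (isLambdaHom_pullHom hKY hKP hg)] at h1
    have h2 := hmul (hmul (show d l ∈ B 0 by rw [htop]; trivial) h1) (hz c (j - l))
    rwa [show 0 + l + (j - l) = j by omega] at h2
  have haug : ∀ c : ℕ, PP.aug (ℓ ^ c) = 1 := fun c => by
    rw [hline c]; exact hKP.aug_cl 1 _ (Mero90.isFinLocFreeOfRank_of_isInvertible (hinv _))
  let H : AddSubgroup KP :=
    { carrier := {x | Good (x - (PP.aug x : KP))}
      zero_mem' := by simpa using hzero
      add_mem' := fun {a b} ha hb => by
        have := hadd ha hb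
        rwa [show a - (PP.aug a : KP) + (b - (PP.aug b : KP)) = (a + b) - ((PP.aug (a + b) : ℤ) : KP) by
          rw [map_add, Int.cast_add]; ring] at this
      neg_mem' := fun {a} ha => by
        have := hneg ha
        rwa [show -(a - (PP.aug a : KP)) = -a - ((PP.aug (-a) : ℤ) : KP) by
          rw [map_neg, Int.cast_neg]; ring] at this }
  have hHtop : H = ⊤ := by
    rw [eq_top_iff, ← htop]
    refine (AddSubgroup.closure_le _).2 ?_
    rintro _ ⟨i, m, a, c, -, -, rfl⟩
    -- expand the powers of ℓ - 1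
    rw [show q a * ℓ ^ c * (ℓ - 1) ^ i = ∑ l ∈ Finset.range (i + 1),
        q (((-1 : ℤ) ^ (i - l) * i.choose l) • a) * ℓ ^ (c + l) by
      rw [sub_eq_add_neg, add_pow, Finset.mul_sum]
      refine Finset.sum_congr rfl fun l _ => ?_
      rw [map_zsmul, zsmul_eq_mul]
      push_cast
      ring]
    refine sum_mem fun l _ => ?_
    generalize ((-1 : ℤ) ^ (i - l) * i.choose l) • a = b
    show Good (q b * ℓ ^ (c + l) - ((PP.aug (q b * ℓ ^ (c + l)) : ℤ) : KP))
    rw [map_mul, haug, mul_one, show PP.aug (q b) = PY.aug b from isPull_aug hKY hKP hg b]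
    rw [show q b * ℓ ^ (c + l) - (PY.aug b : KP) = q (b - (PY.aug b : KY)) * ℓ ^ (c + l) +
        (PY.aug b : KP) * (ℓ ^ (c + l) - 1) by rw [map_sub, map_intCast]; ring]
    refine hadd (hqGood _ _ (by simp)) ?_
    generalize PY.aug b = z
    induction z with
    | zero => simpa using hzero
    | succ z ih => rw [Int.cast_add, Int.cast_one, add_mul, one_mul]; exact hadd ih (hlineGood _)
    | pred z ih =>
      rw [Int.cast_sub, Int.cast_one, sub_mul, one_mul, sub_eq_add_neg]; exact hadd ih (hneg (hlineGood _))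
  rcases Nat.eq_zero_or_pos k with rfl | hk
  · rw [show bFil φP q PY 0 = ⊤ from htop]
    exact le_top
  rw [gammaFiltration, if_neg hk.ne', AddSubgroup.closure_le]
  rintro _ ⟨lst, haug', hsum, rfl⟩
  refine hanti hsum ?_
  clear hsum
  induction lst with
  | nil => rw [List.map_nil, List.sum_nil, htop]; trivial
  | cons p lst ih =>
    simp only [List.map_cons, List.sum_cons, List.prod_cons]
    refine hmul ?_ (ih fun r hr => haug' r (List.mem_cons_of_mem _ hr))
    have hp : Good (p.2 - (PP.aug p.2 : KP)) := by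
      have : p.2 ∈ H := by rw [hHtop]; trivial
      exact this
    rw [haug' p List.mem_cons_self, Int.cast_zero, sub_zero] at hp
    exact hp p.1

/-- The push-forward lowers the filtration by at most the relative dimension. -/
theorem pushPr_gammaFiltration (hKP : KRR.IsModel (KRR.PY n T) KP PP φP) (hKY : KRR.IsModel T KY PY φY)
    {p : KP →+ KY} (hp : KRR.IsPushPr n T φP φY p) (k : ℕ) {x : KP} (hx : x ∈ gammaFiltration PP k) :
    p x ∈ gammaFiltration PY (k - n) := by
  haveI := isLocallyNoetherian_PY n T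
  let eY := AddEquiv.ofBijective φY hKY.bijective
  let g : KY →+ KP := φP.comp ((pullK (KRR.pr n T)).comp eY.symm.toAddMonoidHom)
  have hg : KRR.IsPull (KRR.pr n T) φY φP g := fun E hE => by
    show φP (pullK (KRR.pr n T) (eY.symm (eY (KRR.cl _ E)))) = _
    rw [AddEquiv.symm_apply_apply, pullK_cl (KRR.pr n T) hE]
  refine (show bFil φP (pullHom hKY hKP hg) PY k ≤ (gammaFiltration PY (k - n)).comap p from
    (AddSubgroup.closure_le _).2 ?_) (gammaFiltration_le hKP hKY hg k hx)
  rintro _ ⟨i, m, a, c, ha, hk, rfl⟩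
  show p _ ∈ gammaFiltration PY (k - n)
  rcases le_or_gt i n with hi | hi
  · rw [show pullHom hKY hKP hg a * ℓ ^ c * (ℓ - 1) ^ i = (ℓ ^ c * (ℓ - 1) ^ i) * g a by
      rw [mul_assoc, mul_comm]; rfl]
    rw [KRR40.pushPr_mul_pull hKP hKY hp hg]
    exact Lambda37.filt_anti PY (by omega) (Lambda37.filt_ideal PY _ ha)
  · obtain ⟨d, rfl⟩ : ∃ d, i = n + 1 + d := ⟨i - (n + 1), by omega⟩
    rw [pow_add, twistOver_sub_one_pow hKP, zero_mul, mul_zero, map_zero]
    exact zero_mem _

end Groth.Agent.KRR40
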