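import Groth.Agent.Lambda37.Basic
import Mathlib.RingTheory.PowerSeries.Substitution

/-!
The γ-operations of a product with a line element.
-/

set_option autoImplicit false
set_option linter.style.haveILetI false

noncomputable section

universe v

open PowerSeries LambdaRing Groth.Agent.Lambda37

namespace Groth.Agent.KRR40.GammaTwist

variable {R : Type v} [CommRing R]

/-- The substitution turning γ into γ of a twist. -/
def hT (u z : R) : R⟦X⟧ := C u * X * rescale (-z) (mk 1)

lemma hasSubst_hT (u z : R) : HasSubst (hT u z) := HasSubst.of_constantCoeff_zero' (by simp [hT])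

lemma hT_mul (u z : R) : hT u z * (1 + C z * X) = C u * X := by
  have h : rescale (-z) (mk 1 : R⟦X⟧) * (1 + C z * X) = 1 := by
    have h' := congrArg (rescale (-z)) (mk_one_mul_one_sub_eq_one R)
    rw [map_mul, map_one, map_sub, map_one, rescale_X, map_neg, neg_mul, sub_neg_eq_add] at h'
    exact h'
  rw [hT, mul_assoc, h, mul_one]

lemma subst_gT_hT (u : R) : PowerSeries.subst (hT u (u - 1)) (gT R) = C u * gT R := by
  have hs := hasSubst_hT u (u - 1)
  set h := hT u (u - 1) with hh
  have h1 : (1 - h) * (1 + C (u - 1) * X) = 1 - X := by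
    rw [sub_mul, hT_mul, map_sub, map_one]; ring
  have hgT : PowerSeries.subst h (gT R) * (1 - h) = h := by
    have hg : gT R * (1 - X) = X := by rw [gT, mul_assoc, mk_one_mul_one_sub_eq_one, mul_one]
    have := congrArg (substAlgHom hs) hg
    rw [map_mul, map_sub, map_one, coe_substAlgHom hs, subst_X hs] at this
    exact this
  have key : PowerSeries.subst h (gT R) * (1 - X) = C u * X := by
    rw [← h1, ← mul_assoc, hgT, hh, hT_mul]
  calc PowerSeries.subst h (gT R) = PowerSeries.subst h (gT R) * ((1 - X) * mk 1) := by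
        rw [mul_comm (1 - X) (mk 1 : R⟦X⟧), mk_one_mul_one_sub_eq_one, mul_one]
    _ = C u * gT R := by rw [← mul_assoc, key, mul_assoc]; rfl

lemma coeff_hT_pow (u z : R) (l j : ℕ) :
    ∃ c : R, coeff j (hT u z ^ l) = c * z ^ (j - l) ∧ (j < l → c = 0) := by
  rw [hT, mul_pow, mul_pow, ← map_pow, ← map_pow, mul_assoc, coeff_C_mul, coeff_X_pow_mul']
  split_ifs with h
  · refine ⟨u ^ l * ((-1) ^ (j - l) * coeff (j - l) ((mk 1 : R⟦X⟧) ^ l)), ?_, fun hlt => absurd h (by omega)⟩
    rw [coeff_rescale, neg_pow]
    ring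
  · exact ⟨0, by simp, fun _ => rfl⟩

variable [LambdaOps R]

/-- The γ-operations of a twist lie in the span of the operations and powers of `u - 1`. -/
theorem gamma_mul_line {a u : R} (ha : lamSeries (a * u) = rescale u (lamSeries a)) (j : ℕ) :
    ∃ c : ℕ → R, gamma j (a * u) = ∑ l ∈ Finset.range (j + 1), c l * gamma l a * (u - 1) ^ (j - l) := by
  have hser : gammaSeries (a * u) = PowerSeries.subst (hT u (u - 1)) (gammaSeries a) := by
    rw [gammaSeries_eq_subst, ha, gammaSeries_eq_subst, subst_comp_subst_apply hasSubst_gT (hasSubst_hT u _),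
      subst_gT_hT, rescale_eq_subst, subst_comp_subst_apply (HasSubst.smul_X' u) hasSubst_gT]
    congr 1
    rw [subst_smul hasSubst_gT, subst_X hasSubst_gT, smul_eq_C_mul]
  choose c hc hc0 using fun l => coeff_hT_pow u (u - 1) l j
  refine ⟨c, ?_⟩
  rw [← coeff_gammaSeries, hser, coeff_subst' (hasSubst_hT u _),
    finsum_eq_sum_of_support_subset _ (s := Finset.range (j + 1)) ?_]
  · refine Finset.sum_congr rfl fun l _ => ?_
    rw [coeff_gammaSeries, hc l, smul_eq_mul]
    ring
  · intro l hl
    rw [Function.mem_support] at hl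
    by_contra h
    rw [Finset.coe_range, Set.mem_Iio] at h
    exact hl (by rw [hc l, hc0 l (by omega), zero_mul, smul_zero])

end Groth.Agent.KRR40.GammaTwist
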