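import Groth.Agent.Amp73.GlobGen
import Groth.Agent.Amp73.SemilocalFree
import Groth.Agent.KRR40.ProjKos
import Mathlib.LinearAlgebra.Matrix.NonsingularInverse
import Mathlib.RingTheory.LocalRing.Module

/-!
A bundle spanned by global sections near a point has global sections forming a frame near that point.
-/

set_option autoImplicit false
set_option backward.isDefEq.respectTransparency.types false
set_option linter.style.haveILetI false

noncomputable section

universe u

open CategoryTheory CategoryTheory.Limits AlgebraicGeometry TopologicalSpace Opposite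
open Groth.Agent.Props58.LocFree Groth.Agent.QC70

namespace Groth.Agent.KRR40

variable {X : Scheme.{u}}

/-- Global sections which form a basis at a point form one nearby. -/
theorem exists_stalkBasis_nhd {F : X.Modules} {r : ℕ} {U : X.Opens} {s : Fin r → Γ(F, U)} (hs : StalkBasis s)
    (t : Fin r → Γ(F, ⊤)) {x : X} (hx : x ∈ U) (ht : Function.Bijective (germComb t x trivial)) :
    ∃ (D : X.Opens), x ∈ D ∧ StalkBasis fun i => res F (le_top : D ≤ ⊤) (t i) := by
  classical
  choose a ha using fun i => hs.exists_comb le_rfl (res F (le_top : U ≤ ⊤) (t i))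
  let A : Matrix (Fin r) (Fin r) Γ(X, U) := Matrix.of a
  have key : ∀ (y : X) (hy : y ∈ U) (c : Fin r → X.presheaf.stalk y), germComb t y trivial c =
      germComb s y hy (Matrix.vecMul c (A.map (X.presheaf.germ U y hy))) := by
    intro y hy c
    have h1 : ∀ i, germM F ⊤ y trivial (t i) = ∑ j, X.presheaf.germ U y hy (a i j) • germM F U y hy (s j) :=
      fun i => by
        rw [← germM_res (le_top : U ≤ ⊤) hy, ← ha i, germM_sum]
        refine Finset.sum_congr rfl fun j _ => ?_
        rw [germM_smul, germM_res]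
    simp only [germComb, h1, Finset.smul_sum, smul_smul, Matrix.vecMul, dotProduct, Finset.sum_smul,
      Matrix.map_apply]
    exact Finset.sum_comm
  have hdet : IsUnit (X.presheaf.germ U x hx A.det) := by
    show IsUnit ((X.presheaf.germ U x hx).hom A.det)
    rw [RingHom.map_det, RingHom.mapMatrix_apply, ← Matrix.isUnit_iff_isUnit_det,
      ← Matrix.vecMul_surjective_iff_isUnit]
    have := ht
    rw [funext (key x hx)] at this
    exact ((Function.Bijective.of_comp_iff' (hs x hx) _).1 this).2
  refine ⟨X.basicOpen A.det, (X.mem_basicOpen A.det x hx).2 hdet, fun y hy => ?_⟩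
  rw [funext (germComb_res t le_top y hy), funext (key y (X.basicOpen_le _ hy))]
  refine (hs y _).comp ?_
  have h := (X.mem_basicOpen A.det y (X.basicOpen_le _ hy)).1 hy
  change IsUnit ((X.presheaf.germ U y _).hom A.det) at h
  rw [RingHom.map_det] at h
  let M := A.map (X.presheaf.germ U y (X.basicOpen_le _ hy))
  have hM : IsUnit M := (Matrix.isUnit_iff_isUnit_det _).2 h
  exact ⟨Matrix.vecMul_injective_of_isUnit hM, Matrix.vecMul_surjective_iff_isUnit.2 hM⟩

/-- Where the sections form a basis, the map from the free module is an isomorphism on stalks. -/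
theorem isIso_SP_map_desc {F : X.Modules} {r : ℕ} (t : Fin r → Γ(F, ⊤)) {D : X.Opens}
    (ht : StalkBasis fun i => res F (le_top : D ≤ ⊤) (t i)) {x : X} (hx : x ∈ D) :
    IsIso ((DCK91.SP x).map (Sigma.desc fun i => EGA73.unitHom F (t i) : FlatMod.freeMod X r ⟶ F)) := by
  classical
  refine isIso_SP_map_of_bijective _ (fun W hW => ?_) hx
  let p : FlatMod.freeMod X r ⟶ F := Sigma.desc fun i => EGA73.unitHom F (t i)
  have hi : ∀ i, p.app ⊤ (unitVec X r i) = t i := fun i => by
    refine (ConcreteCategory.congr_hom (congrArg (fun φ => Scheme.Modules.Hom.app φ ⊤)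
      (Sigma.ι_desc (fun i => EGA73.unitHom F (t i)) i)) _).trans ?_
    refine (EGA73.unitHom_app F (t i) ⊤ (1 : Γ(X, ⊤))).trans ?_
    exact (one_smul _ _).trans (res_self _)
  let g : (Fin r → Γ(X, W)) → Γ(FlatMod.freeMod X r, W) := fun a =>
    ∑ i, a i • res (FlatMod.freeMod X r) (le_top : W ≤ ⊤) (unitVec X r i)
  have hg : Function.Bijective g := ⟨fun a b e => free_eq_of_comb e, fun z => free_exists_comb z⟩
  refine (Function.Bijective.of_comp_iff _ hg).1 ?_
  have hfun : (fun z => p.app W z) ∘ g =
      fun a => ∑ i, a i • res F (hW.trans le_rfl) (res F (le_top : D ≤ ⊤) (t i)) := funext fun a => by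
    show p.app W (g a) = _
    simp only [g, map_sum]
    refine Finset.sum_congr rfl fun i _ => ?_
    rw [Scheme.Modules.Hom.app_smul, Mero90.app_res, hi, res_res]
  exact hfun ▸ ht.bijective hW

/-- Spanning near a point gives a frame of global sections near the point. -/
theorem exists_frame_of_spanAt {F : X.Modules} {r : ℕ} (hF : FlatMod.IsFinLocFreeOfRank r F) {x : X}
    {U : X.Opens} (hxU : x ∈ U) (hU : IsAffineOpen U) (hsp : Amp73.SpanAt F U) :
    ∃ (p : FlatMod.freeMod X r ⟶ F) (D : X.Opens), x ∈ D ∧ ∀ y ∈ D, IsIso ((DCK91.SP y).map p) := by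
  classical
  have hlf : FlatMod.IsFinLocFree F := fun y => (hF y).imp fun _ h => ⟨r, h⟩
  obtain ⟨U₀, hx₀, ⟨e⟩⟩ := hF x
  obtain ⟨s, hs⟩ := exists_stalkBasis_of_iso e
  let R := X.presheaf.stalk x
  haveI := hs.free_stalk x hx₀
  haveI := hs.finite_stalk x hx₀
  haveI : Module.FinitePresentation R (F.presheaf.stalk x) :=
    Module.finitePresentation_of_projective R _
  have hspan : Submodule.span R (Set.range fun t : Γ(F, ⊤) => germM F ⊤ x trivial t) = ⊤ := by
    obtain ⟨w, hw⟩ := Amp73.exists_sections_span_stalk F (isQuasicoherent_of_isFinLocFree hlf) ⟨U, hU⟩ x hxU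
      (fun i => germM F U₀ x hx₀ (s i)) (by
        refine eq_top_iff.2 fun z _ => ?_
        obtain ⟨c, hc⟩ := (hs x hx₀).2 z
        rw [← hc]
        exact Submodule.sum_mem _ fun i _ => Submodule.smul_mem _ _ (Submodule.subset_span ⟨i, rfl⟩))
    refine top_le_iff.1 (hw.ge.trans (Submodule.span_le.2 ?_))
    rintro _ ⟨i, rfl⟩
    obtain ⟨c, hc⟩ := (Finsupp.mem_span_range_iff_exists_finsupp (R := Γ(X, U))
      (v := fun t : Γ(F, ⊤) => res F (le_top : U ≤ ⊤) t)).1 (hsp.ge (Submodule.mem_top (x := w i)))
    show germM F U x hxU (w i) ∈ _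
    rw [← hc, Finsupp.sum, germM_sum]
    refine Submodule.sum_mem _ fun t _ => ?_
    rw [germM_smul, germM_res]
    exact Submodule.smul_mem _ _ (Submodule.subset_span ⟨t, rfl⟩)
  obtain ⟨κ, a, b, hb⟩ := Module.exists_basis_of_span_of_flat _ hspan
  let b₀ : Module.Basis (Fin r) R (F.presheaf.stalk x) := Module.Basis.ofEquivFun (hs.stalkEquiv x hx₀).symm
  haveI : Finite κ := Module.Finite.finite_basis b
  let σ : Fin r ≃ κ := b₀.indexEquiv b
  let t : Fin r → Γ(F, ⊤) := fun i => a (σ i)
  have ht : Function.Bijective (germComb t x trivial) := by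
    have hfun : germComb t x trivial = (b.reindex σ.symm).equivFun.symm := funext fun c => by
      rw [Module.Basis.equivFun_symm_apply]
      exact Finset.sum_congr rfl fun i _ => by simp [t, hb]
    rw [hfun]
    exact LinearEquiv.bijective _
  obtain ⟨D, hxD, hD⟩ := exists_stalkBasis_nhd hs t hx₀ ht
  exact ⟨_, D, hxD, fun y hy => isIso_SP_map_desc t hD hy⟩

end Groth.Agent.KRR40
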