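import Groth.Agent.KRR40.ExcBundle
import Groth.Agent.KRR40.LamPull

/-!
The class of the universal sub-bundle of an exceptional divisor, expanded in powers of the tautological class,
and the injectivity of multiplication by its top alternating sum of exterior powers.
-/

set_option autoImplicit false
set_option linter.style.haveILetI false
set_option backward.isDefEq.respectTransparency.types false
set_option maxSynthPendingDepth 6

noncomputable section

universe v u

open CategoryTheory CategoryTheory.Limits AlgebraicGeometry LambdaRing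

namespace Groth.Agent.KRR40.InjBlow

open Groth.Agent

section Algebra

variable {K K' : Type v} [CommRing K] [CommRing K'] [LambdaOps K] [LambdaOps K'] (g : K →+* K')

/-- The alternating sums of the exterior powers. -/
def altSum (c : K) (m : ℕ) : K := ∑ i ∈ Finset.range (m + 1), (-1 : K) ^ i * LambdaOps.lam i c

lemma altSum_zero (c : K) : altSum c 0 = 1 := by simp [altSum, LambdaOps.lam_zero]

lemma altSum_succ (c : K) (m : ℕ) :
    altSum c (m + 1) = altSum c m + (-1 : K) ^ (m + 1) * LambdaOps.lam (m + 1) c := Finset.sum_range_succ _ _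

/-- Removing a line element from a positive element. -/
lemma lam_sub_line {ℓ : K'} (hℓ : ∀ j, 2 ≤ j → LambdaOps.lam j ℓ = 0) (x : K') (i : ℕ) :
    LambdaOps.lam (i + 1) x = LambdaOps.lam (i + 1) (x - ℓ) + LambdaOps.lam i (x - ℓ) * ℓ := by
  conv_lhs => rw [← sub_add_cancel x ℓ]
  rw [LambdaOps.lam_add, Finset.sum_range_succ, Finset.sum_range_succ, Finset.sum_eq_zero, zero_add]
  · simp [LambdaOps.lam_zero, LambdaOps.lam_one, add_comm]
  · intro j hj
    rw [hℓ _ (by have := Finset.mem_range.1 hj; omega), mul_zero]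

variable {g}

lemma altSum_sub_line_succ (hg : IsLambdaHom g) {ℓ : K'} (hℓ : ∀ j, 2 ≤ j → LambdaOps.lam j ℓ = 0) (c : K) :
    ∀ m : ℕ, altSum (g c - ℓ) (m + 1) = g (altSum c (m + 1)) + ℓ * altSum (g c - ℓ) m
  | 0 => by
    simp [altSum, Finset.sum_range_succ, LambdaOps.lam_zero, LambdaOps.lam_one]
    ring
  | m + 1 => by
    have h1 := altSum_sub_line_succ hg hℓ c m
    have h2 := altSum_succ (g c - ℓ) m
    rw [altSum_succ (g c - ℓ) (m + 1), altSum_succ c (m + 1), map_add, map_mul, hg, lam_sub_line hℓ (g c) (m + 1)]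
    simp only [pow_succ, map_mul, map_pow, map_neg, map_one] at h2 ⊢
    linear_combination h1 - ℓ * h2

/-- The expansion in powers of the line element. -/
theorem altSum_sub_line (hg : IsLambdaHom g) {ℓ : K'} (hℓ : ∀ j, 2 ≤ j → LambdaOps.lam j ℓ = 0) (c : K) :
    ∀ m : ℕ, altSum (g c - ℓ) m = ∑ k : Fin (m + 1), g (altSum c (m - k)) * ℓ ^ (k : ℕ)
  | 0 => by simp [altSum_zero]
  | m + 1 => by
    rw [altSum_sub_line_succ hg hℓ c m, altSum_sub_line hg hℓ c m, Finset.mul_sum, Fin.sum_univ_succ (n := m + 1)]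
    congr 1
    · simp
    · refine Finset.sum_congr rfl fun k _ => ?_
      rw [show ((Fin.succ k : Fin (m + 1 + 1)) : ℕ) = (k : ℕ) + 1 from rfl, Nat.succ_sub_succ, pow_succ]
      ring

end Algebra

/-- Multiplication by the alternating sum of the universal sub-bundle is injective on the base. -/
theorem injective {X Y X₁ Y₁ : Scheme.{u}} [IsNoetherian Y] [ConnectedSpace ↥X] [ConnectedSpace ↥X₁]
    {f : X ⟶ Y} (hf : Mor2.IsRegularClosedImmersion f) {t : ℕ}
    (hC : FlatMod.IsFinLocFreeOfRank (t + 1) (Omega.conormal f)) {φ : Y₁ ⟶ Y} (hφ : BlowUp.IsBlowUp φ f.ker)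
    {f₁ : X₁ ⟶ Y₁} {ψ : X₁ ⟶ X} (sq : IsPullback f₁ ψ φ f) [IsClosedImmersion f₁]
    (hC₁ : FlatMod.IsFinLocFreeOfRank 1 (Omega.conormal f₁))
    {KX : Type v} [CommRing KX] [LambdaOps KX] {PX : PosStructure KX} {φX : SGA6.Kvb X →+ KX}
    (hKX : KRR.IsModel X KX PX φX) {KX₁ : Type v} [CommRing KX₁] [LambdaOps KX₁] {PX₁ : PosStructure KX₁}
    {φX₁ : SGA6.Kvb X₁ →+ KX₁} (hKX₁ : KRR.IsModel X₁ KX₁ PX₁ φX₁) {gψ : KX →+ KX₁}
    (hgψ : KRR.IsPull ψ φX φX₁ gψ) :
    Function.Injective fun x : KX =>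
      KRR.lamAlt PX₁ (gψ (φX (KRR.cl X (Omega.conormal f))) - φX₁ (KRR.cl X₁ (Omega.conormal f₁))) * gψ x := by
  haveI := hf.1
  haveI : IsProper φ := RegImm10.BlowModel.isProper_of_isBlowUp
    (fun U => by
      haveI := IsLocallyNoetherian.component_noetherian (X := Y) U
      exact IsNoetherian.noetherian _) hφ
  haveI : CompactSpace ↥X := f.isClosedEmbedding.compactSpace
  haveI : IsLocallyNoetherian Y₁ := LocallyOfFiniteType.isLocallyNoetherian φ
  haveI : IsLocallyNoetherian X := LocallyOfFiniteType.isLocallyNoetherian f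
  haveI : IsLocallyNoetherian X₁ := LocallyOfFiniteType.isLocallyNoetherian f₁
  obtain ⟨Oi, hinv, q, hq, hcharts⟩ := ExcBundle.exists_taut hf hC hφ sq hC₁
  let B : PB46.Bundle t X := ⟨X₁, ψ, Omega.conormal f₁, Oi, hinv, hcharts⟩
  let τ : PB46.Taut B := ⟨Omega.conormal f, hC, q, hq, hC₁⟩
  have hbij := PB46.Taut.bijective_model (B := B) φX φX₁ gψ τ hKX.bijective hKX₁.bijective hKX₁.map_one
    hKX₁.map_mul hgψ
  let g := KRR40.pullHom hKX hKX₁ hgψ
  let c := φX (KRR.cl X (Omega.conormal f))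
  let ℓ := φX₁ (KRR.cl X₁ (Omega.conormal f₁))
  have hc : PX.aug c = ((t + 1 : ℕ) : ℤ) := hKX.aug_cl (t + 1) _ hC
  have hℓ : PX₁.aug ℓ = ((1 : ℕ) : ℤ) := hKX₁.aug_cl 1 _ hC₁
  have hline : ∀ j, 2 ≤ j → LambdaOps.lam j ℓ = 0 := fun j hj =>
    PX₁.lam_eq_zero ℓ ((hKX₁.mem_pos_iff ℓ).2 ⟨1, _, le_rfl, hC₁, rfl⟩) j (by rw [hℓ]; exact_mod_cast hj)
  have haug : PX₁.aug (g c - ℓ) = (t : ℤ) := by
    rw [map_sub, show PX₁.aug (g c) = PX.aug c from KRR40.isPull_aug hKX hKX₁ hgψ c, hc, hℓ]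
    push_cast
    ring
  have halt : KRR.lamAlt PX₁ (g c - ℓ) = altSum (g c - ℓ) t := by
    rw [KRR.lamAlt, haug, Int.toNat_natCast]
    rfl
  intro x y hxy
  change KRR.lamAlt PX₁ (g c - ℓ) * g x = KRR.lamAlt PX₁ (g c - ℓ) * g y at hxy
  rw [halt, altSum_sub_line (KRR40.isLambdaHom_pullHom hKX hKX₁ hgψ) hline] at hxy
  simp only [Finset.sum_mul] at hxy
  have key : ∀ z : KX, (∑ k : Fin (t + 1), g (altSum c (t - k)) * ℓ ^ (k : ℕ) * g z) =
      ∑ k : Fin (t + 1), gψ (altSum c (t - k) * z) * ℓ ^ (k : ℕ) := fun z => Finset.sum_congr rfl fun k _ => by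
    show _ = g (altSum c (t - k) * z) * _
    rw [map_mul]
    ring
  rw [key x, key y] at hxy
  have h := congrFun (hbij.1 (a₁ := fun k : Fin (t + 1) => altSum c (t - k) * x)
    (a₂ := fun k : Fin (t + 1) => altSum c (t - k) * y) hxy) (Fin.last t)
  simpa [altSum_zero] using h

end Groth.Agent.KRR40.InjBlow
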