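import Groth.Agent.Var76.RegKoszul
import Groth.Agent.Amp73.GlobGen

/-!
Extension of sections of Koszul data, and descent of spanning.
-/

set_option autoImplicit false
set_option maxSynthPendingDepth 6

noncomputable section

universe u

open CategoryTheory CategoryTheory.Limits AlgebraicGeometry TopologicalSpace Opposite
open Groth.Agent.Var76.Reg Groth.Agent.Var76.LineBundle Groth.Agent.Var76.ZeroScheme

namespace Groth.Agent.KRR40

variable {X : Scheme.{u}} {r : ℕ} (K : KData X r)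

/-- Iterated multiplication. -/
def kPow (l : Fin r) : ∀ (k : ℕ) (d e : ℤ), e = d + k → (K.G d ⟶ K.G e)
  | 0, _, _, h => eqToHom (congrArg K.G (by omega))
  | k + 1, d, e, h => kPow l k d (d + k) rfl ≫ K.m l (d + k) e (by push_cast at h; omega)

/-- The ratio of two of the maps of Koszul data. -/
structure KRatio where
  /-- the ratio -/
  c : Fin r → (j : Fin r) → Γ(X, K.U j)
  basic : ∀ l j, X.basicOpen (c l j) = K.U l ⊓ K.U j
  eq : ∀ (l j : Fin r) (d e : ℤ) (h : e = d + 1) (V : X.Opens) (hV : V ≤ K.U j) (t : Γ(K.G d, V)),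
    (K.m l d e h).app V t = fres hV (c l j) • (K.m j d e h).app V t

lemma kPow_bijective (j : Fin r) : ∀ (k : ℕ) (d e : ℤ) (h : e = d + k) (V : X.Opens), V ≤ K.U j →
    Function.Bijective ((kPow K j k d e h).app V)
  | 0, d, e, h, V, _ => by
    obtain rfl : e = d := by omega
    simp only [kPow, eqToHom_refl]
    exact Function.bijective_id
  | k + 1, d, e, h, V, hV =>
    (K.bij j (d + k) e (by push_cast at h; omega) V hV).comp (kPow_bijective j k d (d + k) rfl V hV)

variable {K} (R : KRatio K)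

lemma kPow_ratio (l j : Fin r) : ∀ (k : ℕ) (d e : ℤ) (h : e = d + k) (V : X.Opens) (hV : V ≤ K.U j)
    (t : Γ(K.G d, V)),
    (kPow K l k d e h).app V t = fres hV (R.c l j) ^ k • (kPow K j k d e h).app V t
  | 0, d, e, h, V, hV, t => by
    simp only [kPow, pow_zero, one_smul]
  | k + 1, d, e, h, V, hV, t => by
    show (K.m l _ e _).app V ((kPow K l k d _ rfl).app V t) =
      _ • (K.m j _ e _).app V ((kPow K j k d _ rfl).app V t)
    rw [kPow_ratio l j k d _ rfl V hV t, Scheme.Modules.Hom.app_smul, R.eq l j _ _ _ V hV, smul_smul, ← pow_succ]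

variable {W : X.Opens} (hq : ∀ d, Coh.IsQCoh (K.G d)) (haff : ∀ j, IsAffineOpen (W ⊓ K.U j))
  (haff₂ : ∀ i j, IsAffineOpen (W ⊓ K.U i ⊓ K.U j))

include R hq haff haff₂ in
/-- A section over `W ⊓ U l` times a power of the `l`-th map extends to `W`. -/
theorem exists_kPow_extend (l : Fin r) (s : Γ(K.G 0, W ⊓ K.U l)) :
    ∃ (N M : ℕ) (t : Γ(K.G (((0 : ℤ) + N) + M), W)), res _ (inf_le_left : W ⊓ K.U l ≤ W) t =
      (kPow K l M _ _ rfl).app _ ((kPow K l N 0 _ rfl).app _ s) := by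
  classical
  let c : ∀ j, Γ(X, W ⊓ K.U j) := fun j => fres (inf_le_right : W ⊓ K.U j ≤ K.U j) (R.c l j)
  have hc : ∀ j, X.basicOpen (c j) = W ⊓ K.U j ⊓ K.U l := fun j => by
    refine (Scheme.basicOpen_res X (R.c l j) _).trans ?_
    rw [R.basic]
    exact le_antisymm (le_inf inf_le_left (inf_le_right.trans inf_le_left))
      (le_inf inf_le_left (le_inf inf_le_right (inf_le_left.trans inf_le_right)))
  have hBl : ∀ j, X.basicOpen (c j) ≤ W ⊓ K.U l := fun j =>
    (hc j).le.trans (le_inf (inf_le_left.trans inf_le_left) inf_le_right)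
  choose k v hv using fun j => (Amp73.isLocAt (hq 0) (haff j)).exists_of (c j) (res _ (hBl j) s)
  let N := ∑ j, k j
  let d : ℤ := 0 + N
  let y : ∀ j, Γ(K.G d, W ⊓ K.U j) := fun j => (kPow K j N 0 d rfl).app _ (c j ^ (N - k j) • v j)
  have hy : ∀ j, res _ (X.basicOpen_le (c j)) (y j) =
      res _ (hBl j) ((kPow K l N 0 d rfl).app _ s) := fun j => by
    rw [← Mero90.app_res, ← Mero90.app_res, kPow_ratio R l j N 0 d rfl (X.basicOpen (c j))
      ((X.basicOpen_le _).trans inf_le_right), ← Scheme.Modules.Hom.app_smul]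
    refine congrArg _ ?_
    rw [res_smul, show res _ _ (v j) = _ from hv j, smul_smul]
    refine congrArg (· • _) ?_
    show fres _ (c j ^ (N - k j)) * fres _ (c j) ^ k j = _
    rw [Amp73.fres_pow, ← pow_add, Nat.sub_add_cancel
      (Finset.single_le_sum (fun i _ => Nat.zero_le (k i)) (Finset.mem_univ j))]
    exact congrArg (· ^ N) (fres_fres _ _ _)
  have hover : ∀ i j, ∃ m : ℕ, fres (inf_le_right : W ⊓ K.U i ⊓ K.U j ≤ K.U j) (R.c l j) ^ m •
      (res _ (inf_le_left : W ⊓ K.U i ⊓ K.U j ≤ W ⊓ K.U i) (y i) -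
        res _ (le_inf (inf_le_left.trans inf_le_left) inf_le_right : W ⊓ K.U i ⊓ K.U j ≤ W ⊓ K.U j) (y j)) = 0 :=
    fun i j => by
    refine (Amp73.isLocAt (hq d) (haff₂ i j)).eq_zero_of _ _ ?_
    let O := X.basicOpen (fres (inf_le_right : W ⊓ K.U i ⊓ K.U j ≤ K.U j) (R.c l j))
    have hOl : O ≤ K.U l :=
      (Scheme.basicOpen_res X (R.c l j) _).le.trans (inf_le_right.trans ((R.basic l j).le.trans inf_le_left))
    have hO : O ≤ W ⊓ K.U i ⊓ K.U j := X.basicOpen_le _
    have hOi : O ≤ X.basicOpen (c i) := (le_inf (hO.trans inf_le_left) hOl).trans (hc i).ge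
    have hOj : O ≤ X.basicOpen (c j) :=
      (le_inf (hO.trans (le_inf (inf_le_left.trans inf_le_left) inf_le_right)) hOl).trans (hc j).ge
    show res _ hO _ = 0
    rw [Amp73.res_sub', res_res, res_res, ← res_res _ (X.basicOpen_le (c i)) hOi, hy,
      ← res_res _ (X.basicOpen_le (c j)) hOj, hy, res_res, res_res, sub_self]
  choose m hm using hover
  let M := ∑ i, ∑ j, m i j
  let T : ∀ j, Γ(K.G (d + M), W ⊓ K.U j) := fun j => (kPow K l M d _ rfl).app _ (y j)
  have hT : ∀ i j, res _ (inf_le_left : (W ⊓ K.U i) ⊓ (W ⊓ K.U j) ≤ W ⊓ K.U i) (T i) =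
      res _ (inf_le_right : (W ⊓ K.U i) ⊓ (W ⊓ K.U j) ≤ W ⊓ K.U j) (T j) := fun i j => by
    have hle : (W ⊓ K.U i) ⊓ (W ⊓ K.U j) ≤ W ⊓ K.U i ⊓ K.U j :=
      le_inf inf_le_left (inf_le_right.trans inf_le_right)
    have hTr : ∀ (b : Fin r) (O : X.Opens) (hO : O ≤ W ⊓ K.U b), res _ hO (T b) =
        (kPow K l M d _ rfl).app O (res _ hO (y b)) := fun b O hO => (Mero90.app_res _ hO (y b)).symm
    rw [← sub_eq_zero, hTr, hTr, ← map_sub,
      kPow_ratio R l j M d _ rfl _ (inf_le_right.trans inf_le_right), ← Scheme.Modules.Hom.app_smul]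
    refine Eq.trans (congrArg _ ?_) (map_zero ((kPow K j M d _ rfl).app _).hom)
    obtain ⟨q, hq'⟩ : ∃ q, M = q + m i j := ⟨M - m i j, (Nat.sub_add_cancel
      ((Finset.single_le_sum (fun b _ => Nat.zero_le (m i b)) (Finset.mem_univ j)).trans
        (Finset.single_le_sum (fun a _ => Nat.zero_le (∑ b, m a b)) (Finset.mem_univ i)))).symm⟩
    have h0 := congrArg (res _ hle) (hm i j)
    rw [res_smul, show X.presheaf.map (homOfLE hle).op (fres (inf_le_right : W ⊓ K.U i ⊓ K.U j ≤ K.U j) (R.c l j) ^ m i j) =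
      fres (hle.trans inf_le_right) (R.c l j) ^ m i j from (map_pow _ _ _).trans (congrArg (· ^ m i j) (fres_fres _ _ _)), Amp73.res_sub', res_res, res_res, Amp73.res_zero'] at h0
    rw [hq', pow_add, mul_smul, h0, smul_zero]
  obtain ⟨t, ht⟩ := QC70.exists_glue (K.G (d + M)) (fun j => W ⊓ K.U j) (fun _ => inf_le_left)
    (fun x hx => (K.cover x).elim fun j hj => Opens.mem_iSup.2 ⟨j, hx, hj⟩) T hT
  refine ⟨N, M, t, eq_of_locally _ _ _ fun x hx => ?_⟩
  obtain ⟨j, hj⟩ := K.cover x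
  refine ⟨X.basicOpen (c j), hBl j, (hc j).ge ⟨⟨hx.1, hj⟩, hx.2⟩, ?_⟩
  rw [res_res, ← res_res _ (inf_le_left : W ⊓ K.U j ≤ W) (X.basicOpen_le (c j)),
    show res _ (inf_le_left : W ⊓ K.U j ≤ W) t = T j from ht j, ← Mero90.app_res, hy, ← Mero90.app_res]
  exact (congrArg _ (Mero90.app_res _ _ _)).trans (Mero90.app_res _ _ _) |>.trans rfl

section Descent

variable (W) in
/-- The span of the restrictions of sections over `W`. -/
abbrev spanRes (l : Fin r) (d : ℤ) : Submodule Γ(X, W ⊓ K.U l) Γ(K.G d, W ⊓ K.U l) :=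
  Submodule.span Γ(X, W ⊓ K.U l) (Set.range fun t : Γ(K.G d, W) => res _ (inf_le_left : W ⊓ K.U l ≤ W) t)

variable (hsurj : ∀ (d e : ℤ) (h : e = d + 1), 0 ≤ d → Function.Surjective ((K.dd 0 d e h).app W))

include R hsurj in
lemma mem_spanRes_of_succ (l : Fin r) (d e : ℤ) (h : e = d + 1) (hd : 0 ≤ d) (a : Γ(K.G d, W ⊓ K.U l))
    (ha : (K.m l d e h).app _ a ∈ spanRes W (K := K) l e) : a ∈ spanRes W (K := K) l d := by
  let U := W ⊓ K.U l
  let L : Γ(K.G d, U) →ₗ[Γ(X, U)] Γ(K.G e, U) :=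
    { toFun := (K.m l d e h).app U
      map_add' := map_add _
      map_smul' := fun b z => Scheme.Modules.Hom.app_smul _ b z }
  have hmap : spanRes W (K := K) l e ≤ (spanRes W (K := K) l d).map L := by
    rw [Submodule.span_le]
    rintro _ ⟨t, rfl⟩
    obtain ⟨z, rfl⟩ := hsurj d e h hd t
    have e1 : (K.dd 0 d e h).app W z =
        ∑ j, (biproduct.π (fun _ : Fin r => K.C 0 d) j ≫ K.m j d e h).app W z :=
      ((congrArg (fun φ => Scheme.Modules.Hom.app φ W z) (biproduct.desc_eq (f := fun _ : Fin r => K.C 0 d))).trans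
        (Serre71.app_finset_sum _ _ W z))
    show res _ (inf_le_left : U ≤ W) ((K.dd 0 d e h).app W z) ∈ _
    rw [e1]
    refine (congrArg (· ∈ (spanRes W (K := K) l d).map L) (map_sum _ _ _)).mpr (Submodule.sum_mem _ fun j _ => ?_)
    let z' : Γ(K.G d, W) := (biproduct.π (fun _ : Fin r => K.C 0 d) j).app W z
    refine ⟨fres (inf_le_right : U ≤ K.U l) (R.c j l) • res _ (inf_le_left : U ≤ W) z',
      Submodule.smul_mem _ _ (Submodule.subset_span ⟨z', rfl⟩), ?_⟩
    rw [map_smul]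
    refine ((R.eq j l d e h U inf_le_right _).symm.trans ?_)
    exact Mero90.app_res _ (inf_le_left : U ≤ W) _
  obtain ⟨a', ha', he⟩ := hmap ha
  exact (K.bij l d e h U inf_le_right).1 he ▸ ha'

include R hsurj in
lemma mem_spanRes_of_kPow (l : Fin r) : ∀ (k : ℕ) (d e : ℤ) (h : e = d + k), 0 ≤ d →
    ∀ a : Γ(K.G d, W ⊓ K.U l), (kPow K l k d e h).app _ a ∈ spanRes W (K := K) l e →
      a ∈ spanRes W (K := K) l d
  | 0, d, e, h, _, a, ha => by
    obtain rfl : e = d := by omega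
    simpa [kPow] using ha
  | k + 1, d, e, h, hd, a, ha =>
    mem_spanRes_of_kPow l k d _ rfl hd a (mem_spanRes_of_succ R hsurj l _ e (by push_cast at h; omega) (by omega) _ ha)

include R hq haff haff₂ hsurj in
/-- Spanning in degree zero. -/
theorem spanRes_zero_eq_top (l : Fin r) : spanRes W (K := K) l 0 = ⊤ := by
  refine eq_top_iff.2 fun s _ => ?_
  obtain ⟨N, M, t, ht⟩ := exists_kPow_extend R hq haff haff₂ l s
  exact mem_spanRes_of_kPow R hsurj l N 0 _ rfl le_rfl s
    (mem_spanRes_of_kPow R hsurj l M _ _ rfl (by omega) _ (ht ▸ Submodule.subset_span ⟨t, rfl⟩))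

end Descent

end Groth.Agent.KRR40
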