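import Groth.Agent.LC15.KoszExact
import Groth.Agent.LC15.KoszMap
import Groth.Agent.FBase64.ExtPow.Exists
import Groth.Agent.FBase64.ExtPow.Unique
import Groth.Agent.QCAffine72.Affine

/-!
The Koszul complex of a cosection of a quasi-coherent module, with its augmentation to the structure
sheaf of the zero scheme.
-/

set_option autoImplicit false
set_option backward.isDefEq.respectTransparency false
set_option linter.style.haveILetI false

noncomputable section

universe u

open CategoryTheory CategoryTheory.Limits AlgebraicGeometry TopologicalSpace Opposite exteriorPower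

namespace Groth.Agent.KRR40.KoszCx

open Groth.Agent QC70

variable {X : Scheme.{u}} {E : X.Modules} (s : E ⟶ Coh.structureModule X)

theorem contr_contr {A M : Type u} [CommRing A] [AddCommGroup M] [Module A M] (θ : Module.Dual A M) (q : ℕ)
    (x : ↥(⋀[A]^(q + 1 + 1) M)) : DR29.contr θ q (DR29.contr θ (q + 1) x) = 0 :=
  Subtype.ext (CliffordAlgebra.contractLeft_contractLeft θ x.1)

variable {L : ℕ → X.Modules}
  (loc : ∀ (p : ℕ) (U : X.affineOpens), Γ(L p, U.1) ≃ₗ[Γ(X, U.1)] ↥(⋀[Γ(X, U.1)]^p Γ(E, U.1)))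
  (loc_res : ∀ (p : ℕ) (U V : X.affineOpens) (h : V.1 ≤ U.1) (e : Fin p → Γ(E, U.1)),
    res (L p) h ((loc p U).symm (ιMulti _ p e)) = (loc p V).symm (ιMulti _ p fun j => res E h (e j)))

/-- The differential on affine sections. -/
def locD (p : ℕ) (U : X.affineOpens) : Γ(L (p + 1), U.1) →ₗ[Γ(X, U.1)] Γ(L p, U.1) :=
  (loc p U).symm.toLinearMap ∘ₗ DR29.contr (KoszSh.secForm s U.1) p ∘ₗ (loc (p + 1) U).toLinearMap

theorem locD_gen (p : ℕ) (U : X.affineOpens) (e : Fin (p + 1) → Γ(E, U.1)) :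
    locD s loc p U ((loc (p + 1) U).symm (ιMulti _ (p + 1) e)) =
      (loc p U).symm (KoszSh.dGen (KoszSh.secForm s U.1) p e) := by
  show (loc p U).symm (DR29.contr _ p (loc (p + 1) U ((loc (p + 1) U).symm _))) = _
  rw [LinearEquiv.apply_symm_apply, LC15.ExtKoszul.contr_ιMulti]

include loc_res in
theorem locD_res (p : ℕ) (U V : X.affineOpens) (h : V.1 ≤ U.1) (m : Γ(L (p + 1), U.1)) :
    locD s loc p V (res (L (p + 1)) h m) = res (L p) h (locD s loc p U m) := by
  obtain ⟨z, rfl⟩ := (loc (p + 1) U).symm.surjective m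
  have hz : z ∈ Submodule.span Γ(X, U.1) (Set.range (ιMulti Γ(X, U.1) (p + 1))) :=
    (ιMulti_span Γ(X, U.1) (p + 1) Γ(E, U.1)).ge trivial
  induction hz using Submodule.span_induction with
  | mem z hz =>
    obtain ⟨e, rfl⟩ := hz
    rw [loc_res, locD_gen, locD_gen]
    simp only [KoszSh.dGen, map_sum, map_smul]
    refine Finset.sum_congr rfl fun i _ => ?_
    show _ = res (L p) h _
    rw [res_smul, loc_res]
    congr 1
    simp only [LC15.KoszExact.secForm_res, map_mul, map_pow, map_neg, map_one, resO]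
  | zero => rw [map_zero, QC70.res_zero, map_zero, map_zero, QC70.res_zero]
  | add a b _ _ ha hb => rw [map_add, res_add, map_add, map_add, res_add, ha, hb]
  | smul r a _ ha => rw [map_smul, res_smul, map_smul, map_smul, res_smul, ha]

omit loc_res in
theorem exists_cx [E.IsQuasicoherent] : Nonempty (KoszSh.Cx E s) := by
  choose L hL using fun p => FBase64.ExtPowExists.exists_isExtPow (E := E) (p := p)
  choose loc hloc using hL
  have hr : ∀ (p : ℕ) (U V : X.affineOpens) (h : V.1 ≤ U.1) (e : Fin p → Γ(E, U.1)),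
      res (L p) h ((loc p U).symm (ιMulti _ p e)) = (loc p V).symm (ιMulti _ p fun j => res E h (e j)) :=
    fun p U V h e => hloc p U V h e
  have hqc : ∀ p, (L p).IsQuasicoherent := fun p => Om3.isQuasicoherent_of_isExtPow ⟨loc p, hloc p⟩
  have key : ∀ p, ∃ d : L (p + 1) ⟶ L p, ∀ (U : X.affineOpens) (m : Γ(L (p + 1), U.1)),
      d.app U.1 m = locD s loc p U m := fun p => by
    haveI := hqc (p + 1)
    obtain ⟨d, hd, -⟩ := EGAProj74.existsUnique_hom_of_affine (M := L (p + 1)) (N := L p)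
      (fun U => locD s loc p ⟨U.1, U.2⟩)
      (fun U r m => locD_res s loc hr p ⟨U.1, U.2⟩ ⟨_, U.2.basicOpen r⟩ (X.basicOpen_le r) m)
    exact ⟨d, fun U m => hd ⟨U.1, U.2⟩ m⟩
  choose d hd using key
  have sq : ∀ p, d (p + 1) ≫ d p = 0 := fun p => LC15.KoszMap.hom_ext_affine _ _ fun U m => by
    show (d p).app U.1 ((d (p + 1)).app U.1 m) = 0
    rw [hd, hd]
    show (loc p U).symm (DR29.contr _ p (loc (p + 1) U ((loc (p + 1) U).symm _))) = 0
    rw [LinearEquiv.apply_symm_apply]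
    exact (congrArg (loc p U).symm (contr_contr _ p _)).trans (map_zero _)
  exact ⟨{
    K := ChainComplex.of L d sq
    loc := loc
    loc_res := hloc
    rule := fun p U e =>
      (congrArg (fun φ : L (p + 1) ⟶ L p => φ.app U.1 ((loc (p + 1) U).symm (ιMulti _ (p + 1) e)))
        (ChainComplex.of_d L d p)).trans ((hd p U _).trans (locD_gen s loc p U e)) }⟩

variable {s} (C : KoszSh.Cx E s)

/-- The zero term is the structure sheaf. -/
theorem exists_zeroHom [E.IsQuasicoherent] :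
    ∃ ε : C.K.X 0 ⟶ Coh.structureModule X, IsIso ε ∧ ∀ (U : X.affineOpens) (m : Γ(C.K.X 0, U.1)),
      OmegaSh.fnSect X U.1 (ε.app U.1 m) = exteriorPower.zeroEquiv Γ(X, U.1) _ (C.loc 0 U m) := by
  haveI := Om3.isQuasicoherent_of_isExtPow (C.isExtPow 0)
  let l : ∀ U : X.affineOpens, Γ(C.K.X 0, U.1) →ₗ[Γ(X, U.1)] Γ(Coh.structureModule X, U.1) := fun U =>
    { toFun := fun m => OmegaSh.strSect X U.1 (exteriorPower.zeroEquiv Γ(X, U.1) _ (C.loc 0 U m))
      map_add' := fun a b => by simp only [map_add]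
      map_smul' := fun r a => by simp only [map_smul]; rfl }
  have hres : ∀ (U V : X.affineOpens) (h : V.1 ≤ U.1) (m : Γ(C.K.X 0, U.1)),
      l V (res (C.K.X 0) h m) = res (Coh.structureModule X) h (l U m) := by
    intro U V h m
    obtain ⟨z, rfl⟩ := (C.loc 0 U).symm.surjective m
    have hz : z ∈ Submodule.span Γ(X, U.1) (Set.range (ιMulti Γ(X, U.1) 0)) :=
      (ιMulti_span Γ(X, U.1) 0 Γ(E, U.1)).ge trivial
    induction hz using Submodule.span_induction with
    | mem z hz =>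
      obtain ⟨e, rfl⟩ := hz
      rw [show res (C.K.X 0) h ((C.loc 0 U).symm (ιMulti _ 0 e)) = _ from C.loc_res 0 U V h e]
      show OmegaSh.strSect X V.1 _ = res _ h (OmegaSh.strSect X U.1 _)
      rw [LinearEquiv.apply_symm_apply, LinearEquiv.apply_symm_apply, exteriorPower.zeroEquiv_ιMulti,
        exteriorPower.zeroEquiv_ιMulti]
      exact (map_one (X.presheaf.map (homOfLE h).op).hom).symm
    | zero => rw [map_zero, QC70.res_zero, map_zero, map_zero, QC70.res_zero]
    | add a b _ _ ha hb => rw [map_add, res_add, map_add, map_add, res_add, ha, hb]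
    | smul r a _ ha => rw [map_smul, res_smul, map_smul, map_smul, res_smul, ha]
  obtain ⟨ε, hε, -⟩ := EGAProj74.existsUnique_hom_of_affine (M := C.K.X 0) (N := Coh.structureModule X)
    (fun U => l ⟨U.1, U.2⟩) (fun U r m => hres ⟨U.1, U.2⟩ ⟨_, U.2.basicOpen r⟩ (X.basicOpen_le r) m)
  have hε' : ∀ (U : X.affineOpens) (m : Γ(C.K.X 0, U.1)), ε.app U.1 m = l U m := fun U m => hε ⟨U.1, U.2⟩ m
  refine ⟨ε, FBase64.ExtPowExists.isIso_of_affine_bijective ε fun U => ?_, fun U m => ?_⟩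
  · rw [show (⇑(ε.app U.1).hom : _ → _) = l U from funext (hε' U)]
    exact (show Function.Bijective (OmegaSh.strSect X U.1) from ⟨fun a b h => h, fun a => ⟨a, rfl⟩⟩).comp
      ((exteriorPower.zeroEquiv Γ(X, U.1) Γ(E, U.1)).bijective.comp (C.loc 0 U).bijective)
  · rw [hε']
    rfl

/-- The Koszul complex maps onto the structure sheaf of the closed subscheme cut out by the cosection,
exactly in degree zero. -/
theorem exists_aug [E.IsQuasicoherent] {Z : Scheme.{u}} (i : Z ⟶ X) [IsClosedImmersion i]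
    (ht : ∀ U : X.affineOpens, i.ker.ideal U = Ideal.span {a : Γ(X, U.1) | ∃ e : Γ(E, U.1), (s.app U.1) e = a}) :
    ∃ (μ : C.K.X 0 ⟶ (Scheme.Modules.pushforward i).obj (Coh.structureModule Z)) (w : C.K.d 1 0 ≫ μ = 0),
      (ShortComplex.mk _ _ w).Exact ∧ Epi μ := by
  obtain ⟨ε, hε, hεa⟩ := exists_zeroHom C
  have happ : ∀ (U : X.affineOpens) (m : Γ(C.K.X 0, U.1)),
      (ε ≫ QCAffine72.toPushUnit i).app U.1 m =
        (i.app U.1 (exteriorPower.zeroEquiv Γ(X, U.1) _ (C.loc 0 U m)) : Γ(Z, i ⁻¹ᵁ U.1)) := fun U m => by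
    rw [← hεa U m]
    exact QCAffine72.toPushUnit_app i U.1 (OmegaSh.fnSect X U.1 (ε.app U.1 m))
  have hd : ∀ (U : X.affineOpens) (e : Γ(E, U.1)),
      exteriorPower.zeroEquiv Γ(X, U.1) _ (C.loc 0 U ((C.K.d 1 0).app U.1
        ((C.loc 1 U).symm (ιMulti _ 1 fun _ => e)))) = KoszSh.secForm s U.1 e := fun U e => by
    rw [C.rule, LinearEquiv.apply_symm_apply]
    simp [KoszSh.dGen, exteriorPower.zeroEquiv_ιMulti]
  have hmem : ∀ (U : X.affineOpens) (e : Γ(E, U.1)), i.app U.1 (KoszSh.secForm s U.1 e) = 0 := fun U e => by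
    have h : KoszSh.secForm s U.1 e ∈ i.ker.ideal U := by
      rw [ht U]; exact Ideal.subset_span ⟨e, rfl⟩
    rwa [Scheme.Hom.ker_apply, RingHom.mem_ker] at h
  have w : C.K.d 1 0 ≫ (ε ≫ QCAffine72.toPushUnit i) = 0 := LC15.KoszMap.hom_ext_affine _ _ fun U m => by
    show (ε ≫ QCAffine72.toPushUnit i).app U.1 ((C.K.d 1 0).app U.1 m) = 0
    rw [happ]
    obtain ⟨z, rfl⟩ := (C.loc 1 U).symm.surjective m
    have hz : z ∈ Submodule.span Γ(X, U.1) (Set.range (ιMulti Γ(X, U.1) 1)) :=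
      (ιMulti_span Γ(X, U.1) 1 Γ(E, U.1)).ge trivial
    induction hz using Submodule.span_induction with
    | mem z hz =>
      obtain ⟨e, rfl⟩ := hz
      rw [show e = fun _ => e 0 from funext fun j => congrArg e (Subsingleton.elim _ _), hd, hmem]
    | zero => simp only [map_zero]
    | add a b _ _ ha hb => simp only [map_add, ha, hb, add_zero]
    | smul r a _ ha => simp only [map_smul, Scheme.Modules.Hom.app_smul, smul_eq_mul, map_mul, ha, mul_zero]
  refine ⟨_, w, Om3.exact_of_basis _ fun O x hxO => ?_, ?_⟩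
  · obtain ⟨W, hW, hxW, hWO⟩ := exists_isAffineOpen_mem_and_subset (x := x) (U := O) hxO
    refine ⟨W, hxW, hWO, fun m hm => ?_⟩
    have hm' : i.app W (exteriorPower.zeroEquiv Γ(X, W) _ (C.loc 0 ⟨W, hW⟩ m)) = 0 :=
      (happ ⟨W, hW⟩ m).symm.trans hm
    have hspan : ∃ e : Γ(E, W), KoszSh.secForm s W e = exteriorPower.zeroEquiv Γ(X, W) _ (C.loc 0 ⟨W, hW⟩ m) := by
      have h : exteriorPower.zeroEquiv Γ(X, W) _ (C.loc 0 ⟨W, hW⟩ m) ∈ i.ker.ideal ⟨W, hW⟩ := by
        rw [Scheme.Hom.ker_apply, RingHom.mem_ker]; exact hm'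
      rw [ht ⟨W, hW⟩] at h
      have hle : Ideal.span {a : Γ(X, W) | ∃ e : Γ(E, W), (s.app W) e = a} ≤
          (LinearMap.range (KoszSh.secForm s W) : Ideal Γ(X, W)) := Ideal.span_le.2 (by
        rintro a ⟨e, rfl⟩
        exact ⟨e, rfl⟩)
      exact hle h
    obtain ⟨e, he⟩ := hspan
    refine ⟨(C.loc 1 ⟨W, hW⟩).symm (ιMulti _ 1 fun _ => e), (C.loc 0 ⟨W, hW⟩).injective
      ((exteriorPower.zeroEquiv Γ(X, W) _).injective ?_)⟩
    exact (hd ⟨W, hW⟩ e).trans he
  · refine QC70.epi_of_locally_surjective _ fun W m p hp => ?_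
    obtain ⟨V, hV, hpV, hVW⟩ := exists_isAffineOpen_mem_and_subset (x := p) (U := W) hp
    obtain ⟨a, ha⟩ := i.app_surjective V hV
      (res ((Scheme.Modules.pushforward i).obj (Coh.structureModule Z)) hVW m)
    refine ⟨V, hVW, (C.loc 0 ⟨V, hV⟩).symm ((exteriorPower.zeroEquiv Γ(X, V) _).symm a), hpV, ?_⟩
    refine (happ ⟨V, hV⟩ _).trans ?_
    rw [LinearEquiv.apply_symm_apply]
    exact (congrArg (i.app V) (LinearEquiv.apply_symm_apply _ a)).trans ha

end Groth.Agent.KRR40.KoszCx
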