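import Groth.Agent.KRR40.KoszCx
import Groth.Agent.KRR40.KoszChart

/-!
The Koszul resolution of the zero scheme of a regular section, and the class of its structure sheaf.
-/

set_option autoImplicit false
set_option backward.isDefEq.respectTransparency false
set_option linter.style.haveILetI false

noncomputable section

universe v u

open CategoryTheory CategoryTheory.Limits AlgebraicGeometry TopologicalSpace Opposite exteriorPower

namespace Groth.Agent.KRR40.KoszZero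

open Groth.Agent QC70

variable {X Y : Scheme.{u}} {E : Y.Modules} {s : E ⟶ Coh.structureModule Y} (C : KoszSh.Cx E s)

/-- Exactness on an affine open with a basis having a unit value. -/
theorem exact_unit (p : ℕ) {n : ℕ} (U : Y.affineOpens) (b : Module.Basis (Fin n) Γ(Y, U.1) Γ(E, U.1)) (k : Fin n)
    (hk : IsUnit (KoszSh.secForm s U.1 (b k))) (x : Γ(C.K.X (p + 1), U.1))
    (hx : (C.K.d (p + 1) p).app U.1 x = 0) :
    ∃ y, (C.K.d (p + 2) (p + 1)).app U.1 y = x := by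
  rw [LC15.KoszExact.d_app_eq, LinearEquiv.map_eq_zero_iff] at hx
  obtain ⟨u, hu⟩ := hk
  refine ⟨(C.loc (p + 2) U).symm ((↑u⁻¹ : Γ(Y, U.1)) • DR29.wedge (b k) (p + 1) (C.loc (p + 1) U x)), ?_⟩
  rw [LC15.KoszExact.d_app_eq, LinearEquiv.apply_symm_apply, map_smul, DR29.contr_wedge_succ, hx, map_zero,
    sub_zero, ← hu, smul_smul, Units.inv_mul, one_smul, LinearEquiv.symm_apply_apply]

theorem exactAt [IsLocallyNoetherian Y] {d : ℕ} (hE : FlatMod.IsFinLocFreeOfRank d E) (i : X ⟶ Y) [IsClosedImmersion i]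
    (ht : ∀ U : Y.affineOpens, i.ker.ideal U = Ideal.span {a : Γ(Y, U.1) | ∃ e : Γ(E, U.1), (s.app U.1) e = a})
    (hi : Mor2.IsRegularClosedImmersion i) (hci : FlatMod.IsFinLocFreeOfRank d (Omega.conormal i)) (p : ℕ) :
    C.K.ExactAt (p + 1) := by
  haveI : E.IsQuasicoherent := Props58.LocFree.isQuasicoherent_of_isFinLocFree (KRR40.vb_of_rank hE)
  rw [HomologicalComplex.exactAt_iff' C.K (p + 2) (p + 1) p (by simp) (by simp)]
  refine Om3.exact_of_basis _ fun O x hxO => ?_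
  obtain ⟨U, hxU, b, hb⟩ := KoszChart.exists_chart i hE ht hi hci x
  obtain ⟨f, hf, hxf⟩ := U.2.exists_basicOpen_le (V := O) ⟨x, hxO⟩ hxU
  refine ⟨Y.basicOpen f, hxf, hf, ?_⟩
  rcases hb with hreg | ⟨k, hk⟩
  · obtain ⟨b', hb'⟩ := LC15.KoszExact.exists_basis_regular U b hreg f
    exact LC15.KoszExact.exact_affine C ⟨_, U.2.basicOpen f⟩ b' hb' p
  · obtain ⟨b', hb'⟩ := Om3.DetSeq.exists_basis_res (W := U) b (Y.basicOpen_le f)
    refine exact_unit C p ⟨_, U.2.basicOpen f⟩ b' k ?_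
    rw [hb' k, LC15.KoszExact.secForm_res]
    exact hk.map _

theorem isZero_term {d : ℕ} (hE : FlatMod.IsFinLocFreeOfRank d E) {p : ℕ} (hp : d < p) : IsZero (C.K.X p) := by
  haveI : E.IsQuasicoherent := Props58.LocFree.isQuasicoherent_of_isFinLocFree (KRR40.vb_of_rank hE)
  refine (IsZero.iff_id_eq_zero _).2 (RB70.hom_ext_affine fun V m =>
    QC70.section_ext (C.K.X p) _ _ fun q hq => ?_)
  obtain ⟨U, hqU, hU⟩ := Om3.DetSeq.exists_basis hE q
  obtain ⟨W, hW, hqW, hle⟩ := exists_isAffineOpen_mem_and_subset (show q ∈ V.1 ⊓ U from ⟨hq, hqU⟩)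
  obtain ⟨b⟩ := hU W fun y hy => (hle hy).2
  haveI : IsEmpty (Set.powersetCard (Fin d) p) := ⟨fun t => by
    have := t.1.card_le_univ
    rw [t.2, Fintype.card_fin] at this
    omega⟩
  haveI : Subsingleton ↥(⋀[Γ(Y, W)]^p Γ(E, W)) := (b.exteriorPower p).repr.toEquiv.subsingleton
  haveI : Subsingleton Γ(C.K.X p, W) := (C.loc p ⟨W, hW⟩).toEquiv.subsingleton
  exact ⟨W, fun y hy => (hle hy).1, hqW, Subsingleton.elim _ _⟩

omit C in
/-- The Koszul resolution. -/
theorem exists_res [IsLocallyNoetherian Y] {d : ℕ} (hE : FlatMod.IsFinLocFreeOfRank d E) (i : X ⟶ Y) [IsClosedImmersion i]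
    (ht : ∀ U : Y.affineOpens, i.ker.ideal U = Ideal.span {a : Γ(Y, U.1) | ∃ e : Γ(E, U.1), (s.app U.1) e = a})
    (hi : Mor2.IsRegularClosedImmersion i) (hci : FlatMod.IsFinLocFreeOfRank d (Omega.conormal i)) :
    ∃ (C : KoszSh.Cx E s) (π : C.K ⟶ (ChainComplex.single₀ Y.Modules).obj
        ((Scheme.Modules.pushforward i).obj (Coh.structureModule X))),
      KRR.IsLFRes ((Scheme.Modules.pushforward i).obj (Coh.structureModule X)) d C.K π := by
  have hv := KRR40.vb_of_rank hE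
  haveI : E.IsQuasicoherent := Props58.LocFree.isQuasicoherent_of_isFinLocFree hv
  obtain ⟨C⟩ := KoszCx.exists_cx s
  obtain ⟨μ, w, hex, hepi⟩ := KoszCx.exists_aug C i ht
  refine ⟨C, (ChainComplex.toSingle₀Equiv _ _).symm ⟨μ, w⟩, fun p => KRR40.vb_extPow hv (C.isExtPow p),
    fun p hp => isZero_term C hE hp, ⟨fun p => ?_⟩⟩
  cases p with
  | zero =>
    rw [ChainComplex.quasiIsoAt₀_iff, ShortComplex.quasiIso_iff_of_zeros']
    · refine (ShortComplex.exact_and_epi_g_iff_of_iso ?_).2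
        (⟨hex, hepi⟩ : (ShortComplex.mk (C.K.d 1 0) μ w).Exact ∧ Epi μ)
      exact ShortComplex.isoMk (Iso.refl _) (Iso.refl _) (Iso.refl _)
          ((Category.id_comp _).trans (Category.comp_id _).symm) ((Category.id_comp _).trans (Category.comp_id _).symm)
    all_goals first | rfl | exact C.K.shape _ _ (by simp)
  | succ p =>
    rw [quasiIsoAt_iff_exactAt' _ _ (ChainComplex.exactAt_succ_single_obj _ p)]
    exact exactAt C hE i ht hi hci p

omit C in
theorem pushCl_one [IsLocallyNoetherian Y] [ConnectedSpace ↥X] {d : ℕ} (hE : FlatMod.IsFinLocFreeOfRank d E)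
    (i : X ⟶ Y) [IsClosedImmersion i]
    (ht : ∀ U : Y.affineOpens, i.ker.ideal U = Ideal.span {a : Γ(Y, U.1) | ∃ e : Γ(E, U.1), (s.app U.1) e = a})
    (hi : Mor2.IsRegularClosedImmersion i) (hci : FlatMod.IsFinLocFreeOfRank d (Omega.conormal i))
    (KX : Type v) [CommRing KX] [LambdaRing.LambdaOps KX] (PX : LambdaRing.PosStructure KX) (φX : SGA6.Kvb X →+ KX)
    (hKX : KRR.IsModel X KX PX φX)
    (KY : Type v) [CommRing KY] [LambdaRing.LambdaOps KY] (PY : LambdaRing.PosStructure KY) (φY : SGA6.Kvb Y →+ KY)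
    (hKY : KRR.IsModel Y KY PY φY) (h : KX →+ KY) (hh : KRR.IsPushCl i φX φY h) :
    h 1 = KRR.lamAlt PY (φY (KRR.cl Y E)) := by
  obtain ⟨C, π, hπ⟩ := exists_res hE i ht hi hci
  rw [← hKX.map_one, hh _ KRR40.vb_str d C.K π hπ, KRR.lamAlt, hKY.aug_cl d E hE, Int.toNat_natCast]
  refine Finset.sum_congr rfl fun k _ => ?_
  rw [hKY.map_lam k E (C.K.X k) (KRR40.vb_of_rank hE) (hπ.finLocFree k) (C.isExtPow k), zsmul_eq_mul]
  push_cast
  ring

end Groth.Agent.KRR40.KoszZero
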