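import Groth.Agent.KRR40.Nilp
import Groth.Agent.Amp73.Avoid
import Groth.Agent.Amp73.GlobGen

/-!
Products of more than the dimension many classes `[M] - 1` of invertible modules vanish.
-/

set_option autoImplicit false
set_option linter.style.haveILetI false
set_option backward.isDefEq.respectTransparency.types false

noncomputable section

universe v u

open CategoryTheory CategoryTheory.Limits AlgebraicGeometry LambdaRing TopologicalSpace
open Groth.Agent.DCK91

namespace Groth.Agent.KRR40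

variable {X : Scheme.{u}}

/-- No chain of `k` points of `Z`, each a proper generization of the previous ones. -/
def NoChain (Z : Set X) (k : ℕ) : Prop :=
  ∀ p : Fin k → X, (∀ i, p i ∈ Z) → ¬ ∀ i j, i < j → p j ⤳ p i ∧ p j ≠ p i

lemma eq_empty_of_noChain {Z : Set X} (h : NoChain Z 1) : Z = ∅ :=
  Set.eq_empty_iff_forall_notMem.2 fun z hz => h (fun _ => z) (fun _ => hz) fun i j hij => absurd hij (by omega)

lemma noChain_univ (d : ℕ) (hd : topologicalKrullDim ↥X ≤ (d : WithBot ℕ∞)) : NoChain (Set.univ : Set X) (d + 2) := by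
  intro p _ hp
  let c : Fin (d + 2) → IrreducibleCloseds X := fun i =>
    ⟨closure {p i}, isIrreducible_singleton.closure, isClosed_closure⟩
  have hc : StrictMono c := fun i j hij => by
    obtain ⟨hs, hne⟩ := hp i j hij
    refine lt_of_le_of_ne (show closure {p i} ⊆ closure {p j} from specializes_iff_closure_subset.1 hs) fun h => hne ?_
    exact (IsGenericPoint.eq (show IsGenericPoint (p i) (closure {p i}) from rfl)
      (show IsGenericPoint (p j) (closure {p i}) from (congrArg (fun c : IrreducibleCloseds X => (c : Set X)) h).symm)).symm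
  have h := (Order.LTSeries.length_le_krullDim (LTSeries.mk (d + 1) c hc)).trans hd
  have h' : ((d + 1 : ℕ) : WithBot ℕ∞) ≤ (d : WithBot ℕ∞) := h
  exact absurd (by exact_mod_cast h' : d + 1 ≤ d) (by omega)

/-- A finite set of points meeting every component of a closed set. -/
lemma exists_generic_finite [NoetherianSpace ↥X] {Z : Set X} (hZ : IsClosed Z) :
    ∃ S : Set X, S.Finite ∧ S ⊆ Z ∧ ∀ z ∈ Z, ∃ η ∈ S, η ⤳ z := by
  obtain ⟨T, hT, hTc, hTi, rfl⟩ := NoetherianSpace.exists_finite_set_isClosed_irreducible hZ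
  choose g hg using fun t : T => QuasiSober.sober (hTi t.1 t.2) (hTc t.1 t.2)
  haveI := hT.fintype
  refine ⟨Set.range g, Set.finite_range g, ?_, ?_⟩
  · rintro _ ⟨t, rfl⟩
    exact ⟨t.1, t.2, (hg t).mem⟩
  · rintro z ⟨t, ht, hz⟩
    exact ⟨g ⟨t, ht⟩, ⟨_, rfl⟩, (hg ⟨t, ht⟩).specializes hz⟩

lemma noChain_diff {Z : Set X} {G : X.Opens} {S : Set X} (hS : ∀ z ∈ Z, ∃ η ∈ S, η ⤳ z)
    (hSZ : S ⊆ Z) (hSG : S ⊆ G) {k : ℕ} (h : NoChain Z (k + 2)) : NoChain (Z \ G) (k + 1) := by
  intro p hp hchain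
  obtain ⟨η, hη, hsp⟩ := hS (p (Fin.last k)) (hp _).1
  refine h (Fin.snoc p η) (fun i => ?_) fun i j hij => ?_
  · induction i using Fin.lastCases with
    | last => rw [Fin.snoc_last]; exact hSZ hη
    | cast i => rw [Fin.snoc_castSucc]; exact (hp i).1
  · induction j using Fin.lastCases with
    | last =>
      induction i using Fin.lastCases with
      | last => exact absurd hij (lt_irrefl _)
      | cast i =>
        rw [Fin.snoc_last, Fin.snoc_castSucc]
        refine ⟨?_, fun e => (hp i).2 (e ▸ hSG hη)⟩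
        rcases eq_or_lt_of_le (Fin.le_last i) with rfl | hi
        · exact hsp
        · exact hsp.trans (hchain i _ hi).1
    | cast j =>
      induction i using Fin.lastCases with
      | last => exact absurd hij (not_lt.2 (Fin.le_last _))
      | cast i =>
        rw [Fin.snoc_castSucc, Fin.snoc_castSucc]
        exact hchain i j (by simpa using hij)

/-- Where a section generates, it is an isomorphism on stalks. -/
lemma isIso_SP_of_genLocus {M : X.Modules} (s : Coh.structureModule X ⟶ M) {x : X}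
    (hx : x ∈ CohB1.genLocus M s) : IsIso ((SP x).map s) := by
  obtain ⟨U₀, hU, hxU⟩ := Opens.mem_sSup.1 hx
  let U : X.Opens := U₀
  haveI : IsIso ((Scheme.Modules.restrictFunctor U.ι).map s) := hU
  let y : (U : Scheme.{u}) := ⟨x, hxU⟩
  let F : X.Modules ⥤ Ab.{u} := Scheme.Modules.toPresheaf X ⋙ TopCat.Presheaf.stalkFunctor Ab.{u} (U.ι y)
  let G : (U : Scheme.{u}).Modules ⥤ Ab.{u} :=
    Scheme.Modules.toPresheaf (U : Scheme.{u}) ⋙ TopCat.Presheaf.stalkFunctor Ab.{u} y
  haveI h1 : IsIso (G.map ((Scheme.Modules.restrictFunctor U.ι).map s)) := inferInstance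
  haveI : IsIso (F.map s) := (NatIso.isIso_map_iff (Scheme.Modules.restrictStalkNatIso U.ι y) s).1 h1
  have hb : Function.Bijective (F.map s) := (ConcreteCategory.isIso_iff_bijective _).1 inferInstance
  rw [ConcreteCategory.isIso_iff_bijective]
  exact hb

open Var76.LineBundle Var76.ZeroScheme in
/-- Sections of twists of an invertible module generating at prescribed finitely many points. -/
theorem exists_twist_section [IsLocallyNoetherian X] {L : X.Modules} (hL : CohB1.IsAmple L) {S : Set X}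
    (hS : S.Finite) :
    ∃ P : ℕ, ∀ M : X.Modules, PicF.IsInvertible M → ∃ n₀ : ℕ, ∀ n, n₀ ≤ n →
      ∃ s : Coh.structureModule X ⟶ CohB1.tensorMod (CohB1.tensorMod M (CohB1.tensorPow L n)) (CohB1.tensorPow L P),
        S ⊆ CohB1.genLocus _ s := by
  classical
  haveI := hL.2.1
  let S₀ : Set X := {z ∈ S | ∀ z' ∈ S, z ⤳ z' → z' ⤳ z}
  have hdom : ∀ x ∈ S, ∃ z ∈ S₀, x ⤳ z := by
    intro x hx
    obtain ⟨z, ⟨hz, hxz⟩, hmin⟩ := (hS.subset (fun z hz => hz.1 : {z ∈ S | x ⤳ z} ⊆ S)).exists_minimalFor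
      (fun z => closure ({z} : Set X)) _ ⟨x, hx, specializes_refl x⟩
    refine ⟨z, ⟨hz, fun z' hz' hzz' => ?_⟩, hxz⟩
    exact specializes_iff_closure_subset.2 (hmin ⟨hz', hxz.trans hzz'⟩ (specializes_iff_closure_subset.1 hzz'))
  have hS₀ : S₀.Finite := hS.subset fun z hz => hz.1
  have := hS₀.fintype
  have hsec : ∀ z : S₀, ∃ (n : ℕ) (s : Coh.structureModule X ⟶ CohB1.tensorPow L (n + 1)),
      z.1 ∈ CohB1.genLocus _ s ∧ ∀ z' : S₀, z' ≠ z → z'.1 ∉ CohB1.genLocus _ s := by
    intro z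
    let C : Set X := ⋃ z' ∈ {z' : S₀ | z' ≠ z}, closure {z'.1}
    have hC : IsClosed C := (Set.toFinite _).isClosed_biUnion fun _ _ => isClosed_closure
    have hzC : z.1 ∈ (⟨Cᶜ, hC.isOpen_compl⟩ : X.Opens) := by
      intro hz
      obtain ⟨z', hne, hz'⟩ := Set.mem_iUnion₂.1 hz
      have h1 : z'.1 ⤳ z.1 := specializes_iff_mem_closure.2 hz'
      exact hne (Subtype.ext ((h1.antisymm (z'.2.2 z.1 z.2.1 h1)).eq))
    obtain ⟨_, ⟨n, s, rfl⟩, hzG, hle, -⟩ := Amp73.exists_affine_genSet_le hL z.1 _ hzC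
    exact ⟨n, s, hzG, fun z' hne hz' => hle hz' (Set.mem_iUnion₂.2 ⟨z', hne, subset_closure rfl⟩)⟩
  choose n s hs hne using hsec
  obtain ⟨m, σ, hσ⟩ := Amp73.exists_common_exponent hL.1 n s
  refine ⟨m + 1, fun M hM => ?_⟩
  obtain ⟨n₀, hn₀⟩ := Amp73.eventually_spanAt_twist hL (Amp73.isCoh_of_isInvertible hM)
  refine ⟨n₀, fun k hk => ?_⟩
  let A := CohB1.tensorMod M (CohB1.tensorPow L k)
  have hA : PicF.IsInvertible A := EGA73.isInvertible_tensorMod hM (EGA73.isInvertible_tensorPow hL.1 k)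
  have hPw := EGA73.isInvertible_tensorPow hL.1 (m + 1)
  choose U hxU hU hsp using fun z : S₀ => hn₀ k hk z.1
  choose t ht using fun z : S₀ => Amp73.exists_genLocus_of_spanAt hA (hU z) (hsp z) (hxU z)
  let τ := fun z : S₀ => SecTwist.tmulHom (Var76.Frames.ofSection A (t z)) (σ z)
  have hτ : ∀ z, CohB1.genLocus _ (τ z) = CohB1.genLocus A (Var76.Frames.ofSection A (t z)) ⊓ CohB1.genLocus _ (σ z) :=
    fun z => Amp73.genLocus_tmulHom hA hPw _ _
  refine ⟨Var76.Frames.ofSection _ (∑ i, val _ (τ i) ⊤), fun x hx => ?_⟩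
  obtain ⟨z, hz, hxz⟩ := hdom x hx
  refine hxz.mem_open (Opens.isOpen _) (Amp73.mem_genLocus_sum (EGA73.isInvertible_tensorMod hA hPw) τ
    (j := ⟨z, hz⟩) ?_ fun i hi => ?_)
  · rw [hτ]
    exact ⟨ht _, (hσ _).symm ▸ hs _⟩
  · rw [hτ]
    intro h
    exact hne i ⟨z, hz⟩ (Ne.symm hi) ((hσ i) ▸ h.2)

variable {K : Type v} [CommRing K] [LambdaOps K] {P : PosStructure K} {φ : SGA6.Kvb X →+ K}

/-- The induction over the locus where the complexes are not exact. -/
theorem prod_mul_prod_eq_zero [IsNoetherian X] [ConnectedSpace ↥X] (hK : KRR.IsModel X K P φ) {L : X.Modules}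
    (hL : CohB1.IsAmple L) : ∀ (ms : List X.Modules), (∀ M ∈ ms, PicF.IsInvertible M) →
    ∀ (ts : List (TwoTerm X)) (Z : Set X), IsClosed Z →
      (∀ x, x ∉ Z → ∃ t ∈ ts, IsIso ((SP x).map t.φ)) → NoChain Z (ms.length + 1) →
      (ts.map fun t => φ (KRR.cl X t.B) - φ (KRR.cl X t.A)).prod *
        (ms.map fun M => φ (KRR.cl X M) - 1).prod = 0
  | [], _, ts, Z, _, hts, hZ => by
    rw [prod_sub_eq_zero hK ts fun x => hts x (by rw [eq_empty_of_noChain hZ]; exact Set.notMem_empty x), zero_mul]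
  | M :: ms, hms, ts, Z, hZc, hts, hZ => by
    obtain ⟨S, hS, hSZ, hgen⟩ := exists_generic_finite hZc
    obtain ⟨p, hp⟩ := exists_twist_section hL hS
    have hM := hms M (List.mem_cons_self ..)
    have hO : PicF.IsInvertible (Coh.structureModule X) := EGA73.isInvertible_structureModule
    obtain ⟨n₁, hn₁⟩ := hp M hM
    obtain ⟨n₂, hn₂⟩ := hp _ hO
    let n := n₁ + n₂
    obtain ⟨s₁, hs₁⟩ := hn₁ n (by omega)
    obtain ⟨s₂, hs₂⟩ := hn₂ n (by omega)
    have hPw : ∀ j, FlatMod.IsFinLocFree (CohB1.tensorPow L j) :=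
      fun j => vb_of_isInvertible (EGA73.isInvertible_tensorPow hL.1 j)
    let T := fun N : X.Modules => CohB1.tensorMod (CohB1.tensorMod N (CohB1.tensorPow L n)) (CohB1.tensorPow L p)
    have hT : ∀ N, PicF.IsInvertible N → FlatMod.IsFinLocFree (T N) := fun N hN =>
      vb_tensor (vb_tensor (vb_of_isInvertible hN) (hPw n)) (hPw p)
    let c := φ (KRR.cl X (CohB1.tensorPow L n)) * φ (KRR.cl X (CohB1.tensorPow L p))
    have hcT : ∀ N, PicF.IsInvertible N → φ (KRR.cl X (T N)) = φ (KRR.cl X N) * c := fun N hN => by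
      show _ = φ (KRR.cl X N) * (_ * _)
      rw [← mul_assoc, hK.map_mul _ _ (vb_of_isInvertible hN) (hPw n)]
      exact (hK.map_mul _ _ (vb_tensor (vb_of_isInvertible hN) (hPw n)) (hPw p)).symm
    have hu : IsUnit c := by
      have h1 : ∀ j, IsUnit (φ (KRR.cl X (CohB1.tensorPow L j))) := fun j => by
        have h2 := Mero90.isFinLocFreeOfRank_of_isInvertible (EGA73.isInvertible_tensorPow hL.1 j)
        have h3 := P.isUnit_lam _ ((hK.mem_pos_iff _).2 ⟨1, _, le_rfl, h2, rfl⟩)
        rwa [hK.aug_cl 1 _ h2, show ((1 : ℕ) : ℤ).toNat = 1 from rfl, LambdaOps.lam_one] at h3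
      exact (h1 n).mul (h1 p)
    have step : ∀ (N : X.Modules) (hN : PicF.IsInvertible N) (s : Coh.structureModule X ⟶ T N),
        S ⊆ CohB1.genLocus _ s →
        (ts.map fun t => φ (KRR.cl X t.B) - φ (KRR.cl X t.A)).prod * (φ (KRR.cl X (T N)) - 1) *
          (ms.map fun M => φ (KRR.cl X M) - 1).prod = 0 := fun N hN s hs => by
      have h := prod_mul_prod_eq_zero hK hL ms (fun M' hM' => hms M' (List.mem_cons_of_mem _ hM'))
        (⟨_, _, s, vb_of_isInvertible hO, hT N hN⟩ :: ts) (Z \ CohB1.genLocus _ s)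
        (hZc.sdiff (Opens.isOpen _)) (fun x hx => ?_) (noChain_diff hgen hSZ hs hZ)
      · rw [List.map_cons, List.prod_cons, hK.map_one] at h
        rw [mul_comm (List.prod _) (φ (KRR.cl X (T N)) - 1)]
        exact h
      · by_cases hxZ : x ∈ Z
        · exact ⟨_, List.mem_cons_self .., isIso_SP_of_genLocus s (by_contra fun h => hx ⟨hxZ, h⟩)⟩
        · exact (hts x hxZ).imp fun t h => ⟨List.mem_cons_of_mem _ h.1, h.2⟩
    have e₁ := step M hM s₁ hs₁
    have e₂ := step _ hO s₂ hs₂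
    rw [hcT _ hM] at e₁
    rw [hcT _ hO, hK.map_one, one_mul] at e₂
    rw [List.map_cons, List.prod_cons, ← hu.mul_left_eq_zero]
    linear_combination e₁ - e₂

/-- More than `dim X` factors `[M] - 1` multiply to zero. -/
theorem prod_line_sub_one_eq_zero [IsNoetherian X] [ConnectedSpace ↥X] (hK : KRR.IsModel X K P φ) {L : X.Modules}
    (hL : CohB1.IsAmple L) {k : ℕ} (hk : NoChain (Set.univ : Set X) (k + 1)) (ms : List X.Modules)
    (hms : ∀ M ∈ ms, PicF.IsInvertible M) (hlen : ms.length = k) :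
    (ms.map fun M => φ (KRR.cl X M) - 1).prod = 0 := by
  subst hlen
  simpa using prod_mul_prod_eq_zero hK hL ms hms [] Set.univ isClosed_univ
    (fun x hx => absurd (Set.mem_univ x) hx) hk

end Groth.Agent.KRR40
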