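import Groth.Agent.KRR40.KvbRing
import Groth.Agent.KRR40.Ample
import Groth.Agent.An92.Ample.Inverse
import Groth.Agent.VB30.Tensor

/-!
Models of the λ-ring of bundles exist.
-/

set_option autoImplicit false
set_option backward.isDefEq.respectTransparency.types false
set_option linter.style.haveILetI false

noncomputable section

universe u

open CategoryTheory CategoryTheory.Limits AlgebraicGeometry exteriorPower

namespace Groth.Agent.KRR40

attribute [local instance] kvbRing kvbLambda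

variable {X : Scheme.{u}}

/-- The rank at a point. -/
def rkAt (x : X) (E : X.Modules) : ℕ := Module.finrank (X.presheaf.stalk x) (E.presheaf.stalk x)

lemma rkAt_eq (x : X) {E : X.Modules} {n : ℕ} (hE : FlatMod.IsFinLocFreeOfRank n E) : rkAt x E = n := by
  obtain ⟨U, hx, ⟨i⟩⟩ := hE x
  obtain ⟨s, hs⟩ := Props58.LocFree.exists_stalkBasis_of_iso i
  let c : (Fin n → X.presheaf.stalk x) →ₗ[X.presheaf.stalk x] E.presheaf.stalk x :=
    Fintype.linearCombination (X.presheaf.stalk x) fun j => QC70.germM E U x hx (s j)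
  have hc : Function.Bijective c := by
    refine (congrArg Function.Bijective (funext fun a => ?_)).mp (hs x hx)
    simp [c, Fintype.linearCombination_apply, Props58.LocFree.germComb]
  rw [rkAt, ← (LinearEquiv.ofBijective c hc).finrank_eq, Module.finrank_fin_fun]

lemma free_stalk (x : X) {E : X.Modules} (hE : FlatMod.IsFinLocFree E) :
    Module.Free (X.presheaf.stalk x) (E.presheaf.stalk x) ∧ Module.Finite (X.presheaf.stalk x) (E.presheaf.stalk x) := by
  haveI : E.IsFiniteType := Props58.LocFree.isFiniteType_of_isFinLocFree hE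
  exact ⟨Props58.LocFree.free_stalk_of_isFinLocFree hE x, Props58.LocFree.finite_stalk_of_isFiniteType x⟩

lemma rkAt_add (x : X) (S : ShortComplex X.Modules) (hS : S.ShortExact) (h₁ : FlatMod.IsFinLocFree S.X₁)
    (h₃ : FlatMod.IsFinLocFree S.X₃) : rkAt x S.X₂ = rkAt x S.X₁ + rkAt x S.X₃ := by
  have h := hS.map_of_exact (DCK91.SP x)
  obtain ⟨_, _⟩ := free_stalk x h₁
  obtain ⟨_, _⟩ := free_stalk x h₃
  haveI : Projective (S.map (DCK91.SP x)).X₃ :=
    (projective_iff_hasProjectiveDimensionLE_zero _).mpr (KRR40.pd_zero_of_isFinLocFree h₃ x)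
  have e : ((S.map (DCK91.SP x)).X₁ × (S.map (DCK91.SP x)).X₃) ≃ₗ[X.presheaf.stalk x] (S.map (DCK91.SP x)).X₂ :=
    ((ModuleCat.biprodIsoProd _ _).symm ≪≫ h.splittingOfProjective.isoBinaryBiproduct.symm).toLinearEquiv
  exact e.finrank_eq.symm.trans (Module.finrank_prod (R := X.presheaf.stalk x)
    (M := S.X₁.presheaf.stalk x) (M' := S.X₃.presheaf.stalk x))

/-- The augmentation at a point. -/
def rkHom (x : X) : SGA6.Kvb X →+ ℤ :=
  KRR40.lift₀ (fun E => (rkAt x E : ℤ)) fun S hS h₁ _ h₃ => by exact_mod_cast rkAt_add x S hS h₁ h₃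

lemma rkHom_cl (x : X) {E : X.Modules} (hE : FlatMod.IsFinLocFree E) : rkHom x (KRR.cl X E) = rkAt x E :=
  KRR40.lift₀_cl (P := KRR.vbP X) _ _ hE

lemma rkHom_one (x : X) : rkHom x 1 = 1 := by
  show rkHom x (KRR.cl X (Coh.structureModule X)) = 1
  rw [rkHom_cl x vb_str, rkAt_eq x (Mero90.isFinLocFreeOfRank_of_isInvertible EGA73.isInvertible_structureModule),
    Nat.cast_one]

lemma rkAt_tensor (x : X) {E F : X.Modules} (hE : FlatMod.IsFinLocFree E) (hF : FlatMod.IsFinLocFree F) :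
    rkAt x (CohB1.tensorMod E F) = rkAt x E * rkAt x F := by
  obtain ⟨_, _⟩ := free_stalk x hE
  obtain ⟨_, _⟩ := free_stalk x hF
  haveI := DCK91.isIso_tensorStalk x E F
  exact (asIso (DCK91.tensorStalk x E F)).toLinearEquiv.finrank_eq.symm.trans
    (Module.finrank_tensorProduct (R := X.presheaf.stalk x) (S := X.presheaf.stalk x) (M := E.presheaf.stalk x)
      (M' := F.presheaf.stalk x))

/-- The augmentation, as a ring map. -/
def augAt (x : X) : SGA6.Kvb X →+* ℤ where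
  toFun := rkHom x
  map_one' := rkHom_one x
  map_zero' := map_zero _
  map_add' := map_add _
  map_mul' a b := by
    refine DFunLike.congr_fun (DFunLike.congr_fun (addHom_ext (g := (AddMonoidHom.mk' (fun a => (rkHom x).comp (mulK a))
      fun a b => by ext; simp)) (g' := AddMonoidHom.mk' (fun a => (AddMonoidHom.mulLeft (rkHom x a)).comp (rkHom x))
      fun a b => by ext; simp [add_mul]) fun E hE => addHom_ext fun F hF => ?_) a) b
    show rkHom x (mulK (KRR.cl X E) (KRR.cl X F)) = rkHom x (KRR.cl X E) * rkHom x (KRR.cl X F)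
    rw [mulK_cl hE hF, rkHom_cl x (KRR40.vbg_tensor hE hF), rkHom_cl x hE, rkHom_cl x hF, rkAt_tensor x hE hF]
    push_cast
    rfl

/-- Bundles of positive rank. -/
def posSet (x : X) : Set (SGA6.Kvb X) :=
  {z | ∃ E : X.Modules, FlatMod.IsFinLocFree E ∧ 0 < rkAt x E ∧ KRR.cl X E = z}

lemma pos_add (x : X) {a b : SGA6.Kvb X} (ha : a ∈ posSet x) (hb : b ∈ posSet x) : a + b ∈ posSet x := by
  obtain ⟨E, hE, hE0, rfl⟩ := ha
  obtain ⟨F, hF, -, rfl⟩ := hb
  let S : ShortComplex X.Modules := ShortComplex.mk (biprod.inl : E ⟶ E ⊞ F) biprod.snd biprod.inl_snd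
  have hS : S.ShortExact := (ShortComplex.Splitting.ofHasBinaryBiproduct E F).shortExact
  have hv : FlatMod.IsFinLocFree (E ⊞ F) := DCX42.isFinLocFree_biprod hE hF
  refine ⟨E ⊞ F, hv, ?_, K0Res3.cls_add (P := KRR.vbP X) S hS hE hv hF⟩
  have h : rkAt x S.X₂ = rkAt x E + rkAt x F := rkAt_add x S hS hE hF
  show 0 < rkAt x S.X₂
  omega

lemma exists_sub (x : X) (z : SGA6.Kvb X) : ∃ e f, e ∈ posSet x ∧ f ∈ posSet x ∧ z = e - f := by
  have h1 : (1 : SGA6.Kvb X) ∈ posSet x := ⟨_, vb_str, by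
    rw [rkAt_eq x (Mero90.isFinLocFreeOfRank_of_isInvertible EGA73.isInvertible_structureModule)]
    exact Nat.one_pos, rfl⟩
  have hc : ∀ E, FlatMod.IsFinLocFree E → KRR.cl X E + 1 ∈ posSet x := fun E hE => by
    let S : ShortComplex X.Modules :=
      ShortComplex.mk (biprod.inl : E ⟶ E ⊞ Coh.structureModule X) biprod.snd biprod.inl_snd
    have hS : S.ShortExact := (ShortComplex.Splitting.ofHasBinaryBiproduct E _).shortExact
    have hv : FlatMod.IsFinLocFree (E ⊞ Coh.structureModule X) := DCX42.isFinLocFree_biprod hE vb_str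
    refine ⟨_, hv, ?_, K0Res3.cls_add (P := KRR.vbP X) S hS hE hv vb_str⟩
    have h : rkAt x S.X₂ = rkAt x E + rkAt x (Coh.structureModule X) := rkAt_add x S hS hE vb_str
    have h' := rkAt_eq x (Mero90.isFinLocFreeOfRank_of_isInvertible
      (EGA73.isInvertible_structureModule (X := X)))
    show 0 < rkAt x S.X₂
    omega
  induction z using QuotientAddGroup.induction_on with
  | H z =>
    induction z using FreeAbelianGroup.induction_on with
    | zero => exact ⟨1, 1, h1, h1, (sub_self (1 : SGA6.Kvb X)).symm⟩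
    | of E => exact ⟨_, 1, hc E.1 E.2, h1, by
        rw [add_sub_cancel_right]; exact (K0Res3.cls_eq (P := KRR.vbP X) E.2).symm⟩
    | neg E _ => exact ⟨1, _, h1, hc E.1 E.2, by
        rw [sub_add_cancel_right]; exact (congrArg Neg.neg (K0Res3.cls_eq (P := KRR.vbP X) E.2)).symm⟩
    | add a b ha hb =>
      obtain ⟨e, f, he, hf, h⟩ := ha
      obtain ⟨e', f', he', hf', h'⟩ := hb
      refine ⟨e + e', f + f', pos_add x he he', pos_add x hf hf', ?_⟩
      rw [add_sub_add_comm, ← h, ← h']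
      rfl

lemma rank_rkAt [ConnectedSpace ↥X] (x : X) {E : X.Modules} (hE : FlatMod.IsFinLocFree E) : FlatMod.IsFinLocFreeOfRank (rkAt x E) E := by
  obtain ⟨r, hr⟩ := KRR40.exists_rank_of_connected hE
  rwa [rkAt_eq x hr]

lemma cl_extPow_of_rank_lt {E L : X.Modules} {n i : ℕ} (hE : FlatMod.IsFinLocFreeOfRank n E) (hi : n < i)
    (hL : ExtPow.IsExtPow i E L) : KRR.cl X L = 0 := by
  have hv : FlatMod.IsFinLocFree E := KRR40.vb_of_rank hE
  haveI := Props58.LocFree.isQuasicoherent_of_isFinLocFree hv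
  obtain ⟨ψ, -⟩ := Om3.exists_psi hL
  refine KRR40.ExtFilt.clg_isZero ((IsZero.iff_id_eq_zero _).2 (RB70.hom_ext_affine fun V s =>
    QC70.section_ext L _ _ fun p hp => ?_))
  obtain ⟨U, hpU, hU⟩ := Om3.DetSeq.exists_basis hE p
  obtain ⟨W, hW, hpW, hle⟩ := exists_isAffineOpen_mem_and_subset (show p ∈ V.1 ⊓ U from ⟨hp, hpU⟩)
  obtain ⟨b⟩ := hU W fun y hy => (hle hy).2
  haveI : IsEmpty (Set.powersetCard (Fin n) i) := ⟨fun s => by
    have := s.1.card_le_univ
    rw [s.2, Fintype.card_fin] at this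
    omega⟩
  haveI : Subsingleton ↥(⋀[Γ(X, W)]^i Γ(E, W)) := (b.exteriorPower i).repr.toEquiv.subsingleton
  haveI : Subsingleton Γ(L, W) := (ψ ⟨W, hW⟩).symm.toEquiv.subsingleton
  exact ⟨W, fun y hy => (hle hy).1, hpW, Subsingleton.elim _ _⟩

lemma isInvertible_extPow_top {E D : X.Modules} {n : ℕ} (hE : FlatMod.IsFinLocFreeOfRank n E)
    (hD : ExtPow.IsExtPow n E D) : PicF.IsInvertible D := by
  haveI := Props58.LocFree.isQuasicoherent_of_isFinLocFree (KRR40.vb_of_rank hE)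
  haveI := Om3.isQuasicoherent_of_isExtPow hD
  obtain ⟨ψ, -⟩ := Om3.exists_psi hD
  refine VB30.isInvertible_of_rank_one fun x => ?_
  obtain ⟨U, hU, hU'⟩ := Om3.DetSeq.exists_basis hE x
  obtain ⟨W, hW, hxW, hle⟩ := exists_isAffineOpen_mem_and_subset hU
  obtain ⟨b⟩ := hU' W hle
  let e₁ := LinearEquiv.ofBijective (LinearMap.toSpanSingleton Γ(X, W) _ (ιMulti Γ(X, W) n b))
    (Om3.DetSeq.bijective_smul_top b)
  exact ⟨W, hxW, FlatMor68.LocFree.restrict_iso_free D hW 1
    ((ψ ⟨W, hW⟩).symm ≪≫ₗ e₁.symm ≪≫ₗ (LinearEquiv.funUnique (Fin 1) Γ(X, W) Γ(X, W)).symm)⟩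

/-- The positive structure. -/
def posStructure [ConnectedSpace ↥X] (x : X) : LambdaRing.PosStructure (SGA6.Kvb X) where
  aug := augAt x
  aug_surjective m := ⟨(m : SGA6.Kvb X), by simp⟩
  pos := posSet x
  add_mem _ _ := pos_add x
  mul_mem := by
    rintro _ _ ⟨E, hE, hE0, rfl⟩ ⟨F, hF, hF0, rfl⟩
    exact ⟨_, KRR40.vbg_tensor hE hF, by rw [rkAt_tensor x hE hF]; exact Nat.mul_pos hE0 hF0, (mulK_cl hE hF).symm⟩
  natCast_mem n hn := by
    obtain ⟨m, rfl⟩ := Nat.exists_eq_add_of_le' hn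
    induction m with
    | zero =>
      rw [Nat.zero_add, Nat.cast_one]
      exact ⟨_, vb_str, by
        rw [rkAt_eq x (Mero90.isFinLocFreeOfRank_of_isInvertible EGA73.isInvertible_structureModule)]
        exact Nat.one_pos, rfl⟩
    | succ m ih =>
      rw [Nat.cast_succ]
      exact pos_add x (ih (Nat.succ_pos m)) ⟨_, vb_str, by
        rw [rkAt_eq x (Mero90.isFinLocFreeOfRank_of_isInvertible EGA73.isInvertible_structureModule)]
        exact Nat.one_pos, rfl⟩
  exists_sub := exists_sub x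
  aug_pos := by
    rintro _ ⟨E, hE, hE0, rfl⟩
    show 0 < rkHom x (KRR.cl X E)
    rw [rkHom_cl x hE]
    exact_mod_cast hE0
  lam_eq_zero := by
    rintro _ ⟨E, hE, -, rfl⟩ i hi
    change rkHom x (KRR.cl X E) < (i : ℤ) at hi
    rw [rkHom_cl x hE] at hi
    obtain ⟨L, hLv, hL⟩ := exists_ext E hE i
    show lamK i (KRR.cl X E) = 0
    rw [lamK_cl i hE, lamCl_eq hE hL]
    exact cl_extPow_of_rank_lt (rank_rkAt x hE) (by exact_mod_cast hi) hL
  isUnit_lam := by
    rintro _ ⟨E, hE, -, rfl⟩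
    show IsUnit (lamK (rkHom x (KRR.cl X E)).toNat (KRR.cl X E))
    rw [rkHom_cl x hE, Int.toNat_natCast]
    obtain ⟨L, hLv, hL⟩ := exists_ext E hE (rkAt x E)
    rw [lamK_cl _ hE, lamCl_eq hE hL]
    obtain ⟨N, hN, ⟨e⟩⟩ := An92.InvMod.exists_inverse (isInvertible_extPow_top (rank_rkAt x hE) hL)
    exact IsUnit.of_mul_eq_one_right (KRR.cl X N)
      ((mulK_cl (KRR40.vb_of_isInvertible hN) hLv).trans (KRR40.clg_iso e vb_str))

theorem exists_isModel (X : Scheme.{u}) [ConnectedSpace ↥X] :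
    ∃ (K : Type (u + 1)) (_ : CommRing K) (_ : LambdaRing.LambdaOps K) (P : LambdaRing.PosStructure K)
      (φ : SGA6.Kvb X →+ K), KRR.IsModel X K P φ := by
  obtain ⟨x⟩ := (inferInstance : Nonempty X)
  refine ⟨SGA6.Kvb X, kvbRing X, kvbLambda X, posStructure x, AddMonoidHom.id _,
    ⟨Function.bijective_id, rfl, fun E F hE hF => mulK_cl hE hF, fun i E L hE _ hL =>
      (lamK_cl i hE).trans (lamCl_eq hE hL), fun n E hE => ?_, fun z => ⟨?_, ?_⟩⟩⟩
  · show rkHom x (KRR.cl X E) = n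
    rw [rkHom_cl x (KRR40.vb_of_rank hE), rkAt_eq x hE]
  · rintro ⟨E, hE, hE0, rfl⟩
    exact ⟨rkAt x E, E, hE0, rank_rkAt x hE, rfl⟩
  · rintro ⟨n, E, hn, hE, rfl⟩
    exact ⟨E, KRR40.vb_of_rank hE, (rkAt_eq x hE).symm ▸ hn, rfl⟩

end Groth.Agent.KRR40
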