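import Groth.Agent.KRR40.PKTower

/-!
Comparison of a model with the group of bundles, and transport of the splitting property.
-/

set_option autoImplicit false
set_option linter.style.haveILetI false
set_option backward.isDefEq.respectTransparency.types false

noncomputable section

universe v w u

open CategoryTheory CategoryTheory.Limits AlgebraicGeometry LambdaRing

namespace Groth.Agent.KRR40

attribute [local instance] kvbRing kvbLambda

/-- A ring map commuting with the operations on positive elements commutes with them. -/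
theorem map_lam_of_pos {K : Type v} {K' : Type w} [CommRing K] [CommRing K'] [LambdaOps K] [LambdaOps K']
    {P : PosStructure K} (h : K →+* K') (hpos : ∀ e ∈ P.pos, ∀ i, h (LambdaOps.lam i e) = LambdaOps.lam i (h e))
    (i : ℕ) (x : K) : h (LambdaOps.lam i x) = LambdaOps.lam i (h x) := by
  have hser : ∀ e ∈ P.pos, PowerSeries.map h (lamSeries e) = lamSeries (h e) := fun e he => by
    ext j
    rw [PowerSeries.coeff_map, Lambda37.coeff_lamSeries, Lambda37.coeff_lamSeries, hpos e he j]
  obtain ⟨e, e', he, he', rfl⟩ := P.exists_sub x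
  have hm : PowerSeries.map h (lamSeries (e - e')) = lamSeries (h (e - e')) := by
    refine (Lambda37.lamSeries_isUnit (h e')).mul_right_cancel ?_
    rw [map_sub h, Lambda37.lamSeries_sub, ← hser e he, ← hser e' he', ← map_mul, Lambda37.lamSeries_sub]
  simpa using congrArg (PowerSeries.coeff i) hm

variable {X : Scheme.{u}} [IsLocallyNoetherian X] [ConnectedSpace ↥X] {K : Type v} [CommRing K] [LambdaOps K]
  {P : PosStructure K} {φ : SGA6.Kvb X →+ K}

/-- A model is the group of bundles. -/
def modelEquiv (hK : KRR.IsModel X K P φ) : SGA6.Kvb X ≃+* K :=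
  { AddEquiv.ofBijective φ hK.bijective with
    map_mul' := fun a b => by
      have h2 : ∀ E : X.Modules, FlatMod.IsFinLocFree E → ∀ b : SGA6.Kvb X,
          φ (KRR.cl X E * b) = φ (KRR.cl X E) * φ b := fun E hE => DFunLike.congr_fun
        (hom_ext_cl (g := φ.comp (AddMonoidHom.mulLeft (KRR.cl X E)))
          (g' := (AddMonoidHom.mulLeft (φ (KRR.cl X E))).comp φ) fun F hF => by
            show φ (KRR.cl X E * KRR.cl X F) = φ (KRR.cl X E) * φ (KRR.cl X F)
            rw [hK.map_mul E F hE hF]
            exact congrArg φ (mulK_cl hE hF))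
      exact DFunLike.congr_fun (hom_ext_cl (g := φ.comp (AddMonoidHom.mulRight b))
        (g' := (AddMonoidHom.mulRight (φ b)).comp φ) fun E hE => h2 E hE b) a }

@[simp] lemma modelEquiv_apply (hK : KRR.IsModel X K P φ) (z : SGA6.Kvb X) : modelEquiv hK z = φ z := rfl

lemma modelEquiv_pos (hK : KRR.IsModel X K P φ) (z : SGA6.Kvb X) :
    φ z ∈ P.pos ↔ z ∈ (kvbPos X).pos := by
  rw [hK.mem_pos_iff, (kvb_isModel X).mem_pos_iff]
  exact exists_congr fun n => exists_congr fun E => and_congr_right fun _ => and_congr_right fun _ =>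
    hK.bijective.1.eq_iff

lemma modelEquiv_aug (hK : KRR.IsModel X K P φ) (z : SGA6.Kvb X) : P.aug (φ z) = (kvbPos X).aug z := by
  refine DFunLike.congr_fun (hom_ext_cl (g := P.aug.toAddMonoidHom.comp φ) (g' := (kvbPos X).aug.toAddMonoidHom)
    fun E hE => ?_) z
  obtain ⟨n, hn⟩ := exists_rank_of_connected hE
  exact (hK.aug_cl n E hn).trans ((kvb_isModel X).aug_cl n E hn).symm

lemma modelEquiv_lam (hK : KRR.IsModel X K P φ) (i : ℕ) (z : SGA6.Kvb X) :
    φ (LambdaOps.lam i z) = LambdaOps.lam i (φ z) := by
  refine map_lam_of_pos (P := kvbPos X) (modelEquiv hK).toRingHom (fun e he j => ?_) i z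
  obtain ⟨n, E, -, hE, rfl⟩ := ((kvb_isModel X).mem_pos_iff e).1 he
  have hE' := vb_of_rank hE
  haveI := Props58.LocFree.isQuasicoherent_of_isFinLocFree hE'
  obtain ⟨L, hL⟩ := FBase64.ExtPowExists.exists_isExtPow (E := E) (p := j)
  show φ (lamK j (KRR.cl X E)) = LambdaOps.lam j (φ (KRR.cl X E))
  rw [lamK_cl j hE', lamCl_eq hE' hL, hK.map_lam j E L hE' (vb_extPow hE' hL) hL]

/-- The inverse comparison is an extension. -/
lemma modelEquiv_symm_lam (hK : KRR.IsModel X K P φ) (i : ℕ) (x : K) :
    (modelEquiv hK).symm (LambdaOps.lam i x) = LambdaOps.lam i ((modelEquiv hK).symm x) := by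
  obtain ⟨z, rfl⟩ := hK.bijective.2 x
  rw [← modelEquiv_lam hK, ← modelEquiv_apply hK, ← modelEquiv_apply hK, RingEquiv.symm_apply_apply,
    RingEquiv.symm_apply_apply]

lemma modelEquiv_symm_gamma (hK : KRR.IsModel X K P φ) (k : ℕ) (x : K) :
    (modelEquiv hK).symm (gamma k x) = gamma k ((modelEquiv hK).symm x) := by
  unfold gamma
  split_ifs
  · exact map_one _
  · rw [map_sum]
    refine Finset.sum_congr rfl fun j _ => ?_
    rw [map_mul, map_natCast]
    split_ifs
    · rw [map_zero]
    · rw [modelEquiv_symm_lam]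

/-- The γ-filtration does not depend on the model. -/
theorem gammaFiltration_model (hK : KRR.IsModel X K P φ) (k : ℕ) (x : K) :
    (modelEquiv hK).symm x ∈ gammaFiltration (kvbPos X) k ↔ x ∈ gammaFiltration P k := by
  have haug : ∀ y, (kvbPos X).aug ((modelEquiv hK).symm y) = P.aug y := fun y => by
    conv_rhs => rw [← (modelEquiv hK).apply_symm_apply y]
    exact (modelEquiv_aug hK _).symm
  rcases Nat.eq_zero_or_pos k with rfl | hk
  · simp [gammaFiltration]
  have h : (gammaFiltration (kvbPos X) k) =
      (gammaFiltration P k).map (modelEquiv hK).symm.toAddMonoidHom := by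
    rw [gammaFiltration, if_neg hk.ne', gammaFiltration, if_neg hk.ne', AddMonoidHom.map_closure]
    congr 1
    ext y
    constructor
    · rintro ⟨l, h1, h2, rfl⟩
      refine ⟨_, ⟨l.map fun p => (p.1, modelEquiv hK p.2), ?_, ?_, rfl⟩, ?_⟩
      · simp only [List.mem_map]
        rintro p ⟨q, hq, rfl⟩
        exact (modelEquiv_aug hK q.2).trans (h1 q hq)
      · rwa [List.map_map, show Prod.fst ∘ (fun p : ℕ × SGA6.Kvb X => (p.1, modelEquiv hK p.2)) = Prod.fst from rfl]
      · show (modelEquiv hK).symm _ = _
        rw [map_list_prod, List.map_map, List.map_map]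
        refine congrArg List.prod (List.map_congr_left fun p _ => ?_)
        show (modelEquiv hK).symm (gamma p.1 (modelEquiv hK p.2)) = gamma p.1 p.2
        rw [modelEquiv_symm_gamma, RingEquiv.symm_apply_apply]
    · rintro ⟨_, ⟨l, h1, h2, rfl⟩, rfl⟩
      refine ⟨l.map fun p => (p.1, (modelEquiv hK).symm p.2), ?_, ?_, ?_⟩
      · simp only [List.mem_map]
        rintro p ⟨q, hq, rfl⟩
        exact (haug q.2).trans (h1 q hq)
      · rwa [List.map_map, show Prod.fst ∘ (fun p : ℕ × K => (p.1, (modelEquiv hK).symm p.2)) = Prod.fst from rfl]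
      · show (modelEquiv hK).symm _ = _
        rw [map_list_prod, List.map_map, List.map_map]
        exact congrArg List.prod (List.map_congr_left fun p _ => modelEquiv_symm_gamma hK p.1 p.2)
  rw [h]
  constructor
  · rintro ⟨y, hy, hyx⟩
    rwa [← (modelEquiv hK).symm.injective hyx]
  · exact fun hx => ⟨x, hx, rfl⟩

/-- Extensions compose. -/
theorem isExtension_comp {A B C : Type v} [CommRing A] [CommRing B] [CommRing C] [LambdaOps A] [LambdaOps B]
    [LambdaOps C] {PA : PosStructure A} {PB : PosStructure B} {PC : PosStructure C} {f : A →+* B} {g : B →+* C}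
    (hf : IsExtension PA PB f) (hg : IsExtension PB PC g) : IsExtension PA PC (g.comp f) where
  isLambdaHom i x := by
    show g (f (LambdaOps.lam i x)) = _
    rw [hf.isLambdaHom, hg.isLambdaHom]; rfl
  injective := hg.injective.comp hf.injective
  aug_comp x := (hg.aug_comp _).trans (hf.aug_comp x)
  pos_subset e he := hg.pos_subset _ (hf.pos_subset e he)

/-- The splitting property descends along extensions. -/
theorem hasSplitting_of_extension {A B : Type v} [CommRing A] [CommRing B] [LambdaOps A] [LambdaOps B]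
    {PA : PosStructure A} {PB : PosStructure B} {f : A →+* B} (hf : IsExtension PA PB f)
    (hB : HasSplitting B PB) : HasSplitting A PA := by
  obtain ⟨C, hBC, hC⟩ := hB
  refine ⟨insert ⟨A, PA⟩ C, Set.mem_insert _ _, fun L hL e he => ?_⟩
  rcases hL with rfl | hL
  · obtain ⟨L', hL', g, hg, s, hs, hsum⟩ := hC _ hBC (f e) (hf.pos_subset e he)
    exact ⟨L', Set.mem_insert_of_mem _ hL', g.comp f, isExtension_comp hf hg, s, hs, hsum⟩
  · obtain ⟨L', hL', g, hg, hs⟩ := hC L hL e he
    exact ⟨L', Set.mem_insert_of_mem _ hL', g, hg, hs⟩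

end Groth.Agent.KRR40
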