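import Groth.Agent.KRR40.VBGen
import Groth.Agent.KRR40.ConeK0
import Groth.Agent.DCK91.StalkTensorNat
import Groth.Agent.Mod48.TcAssoc
import Groth.Agent.KRR40.ProjKos

/-!
Products of two-term complexes of bundles, each exact on an open set, the opens covering: the product of the
classes vanishes.
-/

set_option autoImplicit false
set_option backward.isDefEq.respectTransparency.types false
set_option linter.style.haveILetI false

noncomputable section

universe v u

open CategoryTheory CategoryTheory.Limits AlgebraicGeometry MonoidalCategory CochainComplex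
open Groth.Agent.DCK91 Groth.Agent.QC70

namespace Groth.Agent.KRR40

variable {X : Scheme.{u}}

/-- A two-term complex of bundles. -/
structure TwoTerm (X : Scheme.{u}) where
  /-- the source -/
  A : X.Modules
  /-- the target -/
  B : X.Modules
  /-- the map -/
  φ : A ⟶ B
  vbA : FlatMod.IsFinLocFree A
  vbB : FlatMod.IsFinLocFree B

/-- `N ↦ N ⊗ A`. -/
abbrev tensR (A : X.Modules) : X.Modules ⥤ X.Modules := (DCoh.tensorBi (X := X)).flip.obj A

instance additive_tensR (A : X.Modules) : (tensR A).Additive :=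
  inferInstanceAs ((ModSite.tensorBi X.sheaf).flip.obj A).Additive

/-- `K ⊗ A → K ⊗ B`. -/
def TwoTerm.app (t : TwoTerm X) (K : CochainComplex X.Modules ℤ) :
    ((tensR t.A).mapHomologicalComplex (ComplexShape.up ℤ)).obj K ⟶
      ((tensR t.B).mapHomologicalComplex (ComplexShape.up ℤ)).obj K :=
  (NatTrans.mapHomologicalComplex ((DCoh.tensorBi (X := X)).flip.map t.φ) (ComplexShape.up ℤ)).app K

/-- The product complex. -/
def prodK : List (TwoTerm X) → CochainComplex X.Modules ℤ
  | [] => (HomologicalComplex.single X.Modules (ComplexShape.up ℤ) 0).obj (Coh.structureModule X)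
  | t :: L => mappingCone (t.app (prodK L))

lemma vb_prodK : ∀ (L : List (TwoTerm X)) (i : ℤ), FlatMod.IsFinLocFree ((prodK L).X i)
  | [], i => by
    by_cases hi : i = 0
    · subst hi
      exact DCX42.isFinLocFree_of_iso (HomologicalComplex.singleObjXSelf (ComplexShape.up ℤ) 0 _).symm
        (vb_of_isInvertible EGA73.isInvertible_structureModule)
    · exact DCX42.isFinLocFree_of_isZero (HomologicalComplex.isZero_single_obj_X (ComplexShape.up ℤ) 0 _ i hi)
  | t :: L, i => vbg_X₂ (coneSplit (t.app (prodK L)) i).shortExact (vbg_tensor (vb_prodK L i) t.vbB)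
      (vbg_tensor (vb_prodK L (i + 1)) t.vbA)

lemma isZero_prodK : ∀ (L : List (TwoTerm X)) (i : ℤ), (i < -(L.length : ℤ) ∨ 0 < i) → IsZero ((prodK L).X i)
  | [], i, hi => HomologicalComplex.isZero_single_obj_X _ _ _ _ (by simp at hi; omega)
  | t :: L, i, hi => by
    simp only [List.length_cons, Nat.cast_add, Nat.cast_one] at hi
    refine IsZero.of_iso ?_ (HomologicalComplex.homotopyCofiber.XIsoBiprod (t.app (prodK L)) i (i + 1) rfl)
    rw [biprod_isZero_iff]
    exact ⟨(tensR t.A).map_isZero (isZero_prodK L (i + 1) (by omega)),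
      (tensR t.B).map_isZero (isZero_prodK L i (by omega))⟩

/-- Exactness on stalks is kept by tensoring with a bundle. -/
lemma acyclic_stalk_tensR {x : X} {A : X.Modules} (hA : FlatMod.IsFinLocFree A)
    {K : CochainComplex X.Modules ℤ} (hK : (((SP x).mapHomologicalComplex (ComplexShape.up ℤ)).obj K).Acyclic) :
    (((SP x).mapHomologicalComplex (ComplexShape.up ℤ)).obj
      (((tensR A).mapHomologicalComplex (ComplexShape.up ℤ)).obj K)).Acyclic := by
  haveI : Module.Free (X.presheaf.stalk x) ((SP x).obj A) := Props58.LocFree.free_stalk_of_isFinLocFree hA x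
  let e : SP x ⋙ tensorRight ((SP x).obj A) ≅ tensR A ⋙ SP x :=
    NatIso.ofComponents (fun N => asIso (tensorStalk x N A)) (fun f => tensorStalk_left x f A)
  intro i
  refine HomologicalComplex.ExactAt.of_iso ?_ (HomologicalComplex.Hom.isoOfComponents (fun j => e.app (K.X j))
    (fun j k _ => (e.hom.naturality (K.d j k)).symm) :
      ((tensorRight ((SP x).obj A)).mapHomologicalComplex (ComplexShape.up ℤ)).obj
        (((SP x).mapHomologicalComplex (ComplexShape.up ℤ)).obj K) ≅ ((SP x).mapHomologicalComplex (ComplexShape.up ℤ)).obj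
          (((tensR A).mapHomologicalComplex (ComplexShape.up ℤ)).obj K))
  have h := hK i
  rw [HomologicalComplex.exactAt_iff' _ (i - 1) i (i + 1) (by simp) (by simp)] at h ⊢
  rw [ShortComplex.ShortExact.moduleCat_exact_iff_function_exact] at h ⊢
  exact Module.Flat.rTensor_exact ((SP x).obj A) h

/-- Where one of the maps is an isomorphism on stalks, the product complex is exact. -/
lemma acyclic_stalk_prodK (x : X) : ∀ L : List (TwoTerm X), (∃ t ∈ L, IsIso ((SP x).map t.φ)) →
    (((SP x).mapHomologicalComplex (ComplexShape.up ℤ)).obj (prodK L)).Acyclic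
  | [], h => absurd h (by simp)
  | t :: L, h => by
    let ψ := ((SP x).mapHomologicalComplex (ComplexShape.up ℤ)).map (t.app (prodK L))
    haveI : QuasiIso ψ := by
      by_cases ht : IsIso ((SP x).map t.φ)
      · haveI : ∀ i, IsIso (ψ.f i) := fun i => by
          show IsIso ((SP x).map ((DCoh.tensorBi.obj ((prodK L).X i)).map t.φ))
          have := tensorStalk_right x ((prodK L).X i) t.φ
          rw [← IsIso.inv_comp_eq] at this
          rw [← this]
          infer_instance
        haveI : IsIso ψ := HomologicalComplex.Hom.isIso_of_components ψ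
        infer_instance
      · obtain ⟨s, hs, hs'⟩ := h
        have hL := acyclic_stalk_prodK x L ⟨s, (List.mem_cons.1 hs).resolve_left (fun e => ht (e ▸ hs')), hs'⟩
        exact ⟨fun i => by
          rw [quasiIsoAt_iff_isIso_homologyMap]
          exact ((HomologicalComplex.exactAt_iff_isZero_homology _ i).1 (acyclic_stalk_tensR t.vbA hL i)).isIso
            ((HomologicalComplex.exactAt_iff_isZero_homology _ i).1 (acyclic_stalk_tensR t.vbB hL i)) _⟩
    exact fun i => (acyclic_cone_of_quasiIso ψ i).of_iso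
      (mappingCone.mapHomologicalComplexIso (t.app (prodK L)) (SP x)).symm

variable {K : Type v} [CommRing K] [LambdaRing.LambdaOps K] {P : LambdaRing.PosStructure K}
  {φ : SGA6.Kvb X →+ K}

/-- The class of a bundle in a model, with the splitting data. -/
def altVB (φ : SGA6.Kvb X →+ K) : AltData X.Modules K where
  P₁ M := FlatMod.IsFinLocFree M
  P₂ _ := True
  f M := φ (KRR.cl X M)
  zero₁ _ h := DCX42.isFinLocFree_of_isZero h
  zero₂ _ _ := trivial
  left₁ _ hS h₂ h₃ := vbg_X₁ hS h₂ h₃
  right₂ _ _ _ _ := trivial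
  ext₁ _ hS h₁ h₃ := vbg_X₂ hS h₁ h₃
  ext₂ _ _ _ _ := trivial
  add S hS h₁ h₂ h₃ := by
    rw [← map_add]
    exact congrArg φ (K0Res3.cls_add (P := KRR.vbP X) S hS h₁.1 h₂.1 h₃.1)

lemma chi_prodK (hK : KRR.IsModel X K P φ) : ∀ L : List (TwoTerm X),
    (altVB φ).chi (prodK L) L.length = (L.map fun t => φ (KRR.cl X t.B) - φ (KRR.cl X t.A)).prod
  | [] => by
    simp only [AltData.chi, List.length_nil, zero_add, Finset.sum_range_one, pow_zero, one_smul,
      Nat.cast_zero, neg_zero, List.map_nil, List.prod_nil]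
    rw [← hK.map_one]
    exact congrArg φ (clg_iso (HomologicalComplex.singleObjXSelf (ComplexShape.up ℤ) 0 _)
      (vb_of_isInvertible EGA73.isInvertible_structureModule))
  | t :: L => by
    let N := L.length
    let C := prodK L
    let f := fun i => φ (KRR.cl X (C.X i))
    let a := φ (KRR.cl X t.A)
    let b := φ (KRR.cl X t.B)
    have hterm : ∀ i, (altVB φ).f ((prodK (t :: L)).X i) = f i * b + f (i + 1) * a := fun i => by
      refine ((altVB φ).add _ (coneSplit (t.app C) i).shortExact ⟨vbg_tensor (vb_prodK L i) t.vbB, trivial⟩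
        ⟨vb_prodK (t :: L) i, trivial⟩ ⟨vbg_tensor (vb_prodK L (i + 1)) t.vbA, trivial⟩).trans ?_
      exact congrArg₂ (· + ·) (hK.map_mul _ _ (vb_prodK L i) t.vbB).symm
        (hK.map_mul _ _ (vb_prodK L (i + 1)) t.vbA).symm
    have h0 : ∀ i, (i < -(N : ℤ) ∨ 0 < i) → f i = 0 := fun i hi => (altVB φ).f_zero (isZero_prodK L i hi)
    have hchi : ∑ k ∈ Finset.range (N + 1), (-1 : ℤ) ^ k • f (-(k : ℤ)) =
        (L.map fun t => φ (KRR.cl X t.B) - φ (KRR.cl X t.A)).prod := chi_prodK hK L
    show (altVB φ).chi (prodK (t :: L)) (N + 1) = _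
    rw [AltData.chi, Finset.sum_congr rfl fun k _ => by rw [hterm, smul_add, ← smul_mul_assoc, ← smul_mul_assoc],
      Finset.sum_add_distrib, ← Finset.sum_mul, ← Finset.sum_mul, Finset.sum_range_succ,
      h0 (-((N + 1 : ℕ) : ℤ)) (Or.inl (by omega)), smul_zero, add_zero, hchi, Finset.sum_range_succ',
      h0 (-((0 : ℕ) : ℤ) + 1) (Or.inr (by simp)), smul_zero, add_zero,
      Finset.sum_congr rfl fun k _ => show (-1 : ℤ) ^ (k + 1) • f (-((k + 1 : ℕ) : ℤ) + 1) = -((-1 : ℤ) ^ k • f (-(k : ℤ))) by
        rw [show -((k + 1 : ℕ) : ℤ) + 1 = -(k : ℤ) by omega, pow_succ, mul_neg, mul_one, neg_smul],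
      Finset.sum_neg_distrib, hchi, List.map_cons, List.prod_cons]
    ring

/-- A product of two-term complexes which at every point has a factor that is an isomorphism vanishes in `K`. -/
theorem prod_sub_eq_zero (hK : KRR.IsModel X K P φ) (L : List (TwoTerm X))
    (h : ∀ x : X, ∃ t ∈ L, IsIso ((SP x).map t.φ)) :
    (L.map fun t => φ (KRR.cl X t.B) - φ (KRR.cl X t.A)).prod = 0 := by
  rw [← chi_prodK hK L]
  exact (altVB φ).chi_eq_zero _ (acyclic_of_stalks _ fun x => acyclic_stalk_prodK x L (h x))
    (fun i => ⟨vb_prodK L i, trivial⟩) _ fun i hi => isZero_prodK L i hi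

end Groth.Agent.KRR40
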