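import Groth.Agent.KRR40.GenBasis
import Groth.Agent.KRR40.ProdCx
import Groth.Agent.KRR40.Ample

/-!
On a quasi-compact connected scheme with an ample invertible module, the augmentation ideal of `K` is nil.
-/

set_option autoImplicit false
set_option backward.isDefEq.respectTransparency.types false
set_option linter.style.haveILetI false

noncomputable section

universe v u

open CategoryTheory CategoryTheory.Limits AlgebraicGeometry LambdaRing

namespace Groth.Agent.KRR40

variable {X : Scheme.{u}} {K : Type v} [CommRing K] [LambdaOps K] {P : PosStructure K} {φ : SGA6.Kvb X →+ K}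

/-- Classes of free modules are natural numbers, over any scheme. -/
theorem clg_freeMod (hK : KRR.IsModel X K P φ) (m : ℕ) : φ (KRR.cl X (FlatMod.freeMod X m)) = m := by
  have h : ∀ m : ℕ, FlatMod.IsFinLocFree (⨁ fun _ : Fin m => Coh.structureModule X) ∧
      φ (KRR.cl X (⨁ fun _ : Fin m => Coh.structureModule X)) = m := by
    intro m
    induction m with
    | zero =>
      have h0 : IsZero (⨁ fun _ : Fin 0 => Coh.structureModule X) := by
        rw [IsZero.iff_id_eq_zero]; exact biproduct.hom_ext _ _ fun i => i.elim0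
      exact ⟨DCX42.isFinLocFree_of_isZero h0, by rw [Nat.cast_zero]; exact (altVB φ).f_zero h0⟩
    | succ m ih =>
      have hO : FlatMod.IsFinLocFree (Coh.structureModule X) := vb_of_isInvertible EGA73.isInvertible_structureModule
      have hS := QC70.consSC_shortExact (fun _ : Fin (m + 1) => Coh.structureModule X)
      have hv := vbg_X₂ hS hO ih.1
      refine ⟨hv, ?_⟩
      rw [Nat.cast_succ, ← ih.2, ← hK.map_one, ← map_add,
        add_comm (KRR.cl X (⨁ fun _ : Fin m => Coh.structureModule X))]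
      exact congrArg φ (K0Res3.cls_add (P := KRR.vbP X) _ hS hO hv ih.1)
  rw [← (h m).2]
  exact congrArg φ (clg_iso (biproduct.isoCoproduct _).symm (h m).1)

variable [ConnectedSpace ↥X]

/-- High twists of a bundle differ from their rank by nilpotents. -/
theorem eventually_isNilpotent_twist (hK : KRR.IsModel X K P φ) {L : X.Modules} (hL : CohB1.IsAmple L)
    {E : X.Modules} {r : ℕ} (hE : FlatMod.IsFinLocFreeOfRank r E) :
    ∃ n₀ : ℕ, ∀ n, n₀ ≤ n → IsNilpotent (φ (KRR.cl X L) ^ n * φ (KRR.cl X E) - r) := by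
  haveI := hL.2.1
  have hEv := vb_of_rank hE
  have hL1 := Mero90.isFinLocFreeOfRank_of_isInvertible hL.1
  have hLv : FlatMod.IsFinLocFree L := vb_of_rank hL1
  have hcoh : Coh.IsCoh E := ⟨Props58.LocFree.isQuasicoherent_of_isFinLocFree hEv,
    Props58.LocFree.isFiniteType_of_isFinLocFree hEv⟩
  obtain ⟨n₀, h⟩ := Amp73.eventually_spanAt_twist hL hcoh
  refine ⟨n₀, fun n hn => ?_⟩
  have hPv : ∀ j, FlatMod.IsFinLocFree (CohB1.tensorPow L j) := fun j =>
    vb_of_isInvertible (EGA73.isInvertible_tensorPow hL.1 j)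
  have hpow : ∀ j, φ (KRR.cl X L) ^ j = φ (KRR.cl X (CohB1.tensorPow L j)) := by
    intro j
    induction j with
    | zero => rw [pow_zero, ← hK.map_one]; rfl
    | succ j ih => rw [pow_succ, ih, hK.map_mul _ _ (hPv j) hLv]; rfl
  let T := CohB1.tensorMod E (CohB1.tensorPow L n)
  have hTv : FlatMod.IsFinLocFree T := vbg_tensor hEv (hPv n)
  have hmul : φ (KRR.cl X L) ^ n * φ (KRR.cl X E) = φ (KRR.cl X T) := by
    rw [mul_comm, hpow, hK.map_mul _ _ hEv (hPv n)]; rfl
  obtain ⟨r', hr'⟩ := exists_rank_of_connected hTv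
  obtain rfl : r = r' := by
    have := congrArg P.aug hmul
    rw [map_mul, map_pow, hK.aug_cl 1 L hL1, hK.aug_cl r E hE, hK.aug_cl r' T hr'] at this
    simpa using this
  choose U hxU hU hsp using h n hn
  choose p D hxD hD using fun x => exists_frame_of_spanAt hr' (hxU x) (hU x) (hsp x)
  obtain ⟨S, hS⟩ := isCompact_univ.elim_finite_subcover (fun x => (D x : Set X)) (fun x => (D x).2)
    (fun x _ => Set.mem_iUnion.2 ⟨x, hxD x⟩)
  have hfree : FlatMod.IsFinLocFree (FlatMod.freeMod X r) := QC70.isFinLocFree_freeMod X r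
  let tt : X → TwoTerm X := fun x => ⟨FlatMod.freeMod X r, T, p x, hfree, hTv⟩
  have hz := prod_sub_eq_zero hK (S.toList.map tt) fun y => by
    obtain ⟨x, hx, hyx⟩ := Set.mem_iUnion₂.1 (hS (Set.mem_univ y))
    exact ⟨tt x, List.mem_map.2 ⟨x, Finset.mem_toList.2 hx, rfl⟩, hD x y hyx⟩
  refine ⟨S.card, ?_⟩
  rw [hmul, ← clg_freeMod hK r, ← Finset.prod_const, ← Finset.prod_map_toList]
  rwa [List.map_map] at hz

/-- The augmentation ideal is nil. -/
theorem isNilpotent_of_aug_eq_zero (hK : KRR.IsModel X K P φ) {L : X.Modules} (hL : CohB1.IsAmple L)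
    {x : K} (hx : P.aug x = 0) : IsNilpotent x := by
  set u := φ (KRR.cl X L) with hu
  obtain ⟨rO, hO⟩ := exists_rank_of_connected (X := X) (vb_of_isInvertible EGA73.isInvertible_structureModule)
  have hr1 : rO = 1 := by
    have := hK.aug_cl rO _ hO
    rw [hK.map_one, map_one] at this
    exact_mod_cast this.symm
  obtain ⟨m₀, hm⟩ := eventually_isNilpotent_twist hK hL hO
  have hum : ∀ n, m₀ ≤ n → IsNilpotent (u ^ n - 1) := fun n hn => by
    simpa [hr1, hK.map_one] using hm n hn
  have key : ∀ (E : X.Modules) (r : ℕ), FlatMod.IsFinLocFreeOfRank r E → IsNilpotent (φ (KRR.cl X E) - r) := by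
    intro E r hE
    obtain ⟨n₀, hn⟩ := eventually_isNilpotent_twist hK hL hE
    let n := max m₀ n₀
    have h := (Commute.all _ _).isNilpotent_sub (hn n (le_max_right _ _))
      ((Commute.all _ _).isNilpotent_mul_right (y := φ (KRR.cl X E)) (hum n (le_max_left _ _)))
    rwa [show φ (KRR.cl X E) - r = u ^ n * φ (KRR.cl X E) - r - (u ^ n - 1) * φ (KRR.cl X E) by ring]
  obtain ⟨a, b, ha, hb, rfl⟩ := P.exists_sub x
  obtain ⟨r, A, -, hA, rfl⟩ := (hK.mem_pos_iff a).1 ha
  obtain ⟨s, B, -, hB, rfl⟩ := (hK.mem_pos_iff b).1 hb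
  rw [map_sub, hK.aug_cl r A hA, hK.aug_cl s B hB, sub_eq_zero, Nat.cast_inj] at hx
  subst hx
  have h := (Commute.all _ _).isNilpotent_sub (key A r hA) (key B r hB)
  rwa [sub_sub_sub_cancel_right] at h

end Groth.Agent.KRR40
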