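import Groth.Agent.Lambda37.Basic
import Mathlib.RingTheory.IntegralClosure.IsIntegral.Basic
import Mathlib.RingTheory.Nilpotent.Lemmas
import Mathlib.RingTheory.TensorProduct.Basic
import Mathlib.RingTheory.Noetherian.Nilpotent
import Mathlib.RingTheory.TensorProduct.Maps
import Mathlib.RingTheory.PrincipalIdealDomain
import Mathlib.Algebra.EuclideanDomain.Int

/-!
Rings with an augmentation to the integers whose augmentation ideal is nil.
-/

set_option autoImplicit false

noncomputable section

universe v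

open TensorProduct LambdaRing

namespace Groth.Agent.KRR40

variable {K : Type v} [CommRing K]

/-- Subrings generated by finitely many elements are finite over `ℤ`, with nilpotent augmentation ideal. -/
theorem nilpotent_fg_of_finite (ε : K →+* ℤ) (hε : ∀ x, ε x = 0 → IsNilpotent x) {S : Set K} (hS : S.Finite)
    (R : Subring K) (hR : R ≤ Subring.closure S) :
    (∃ n : ℕ, ∀ f : Fin n → K, (∀ t, f t ∈ R ∧ ε (f t) = 0) → ∏ t, f t = 0) ∧ R.toAddSubgroup.FG := by
  classical
  have hint : ∀ x : K, IsIntegral ℤ x := fun x => by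
    obtain ⟨N, hN⟩ := hε (x - (ε x : K)) (by simp)
    refine ⟨(Polynomial.X - Polynomial.C (ε x)) ^ N, (Polynomial.monic_X_sub_C _).pow N, ?_⟩
    show Polynomial.eval₂ (algebraMap ℤ K) x _ = 0
    rw [Polynomial.eval₂_pow, Polynomial.eval₂_sub, Polynomial.eval₂_X, Polynomial.eval₂_C]
    simpa using hN
  let A := Algebra.adjoin ℤ S
  have hA : Subring.closure S ≤ A.toSubring := Subring.closure_le.2 Algebra.subset_adjoin
  have hfg : A.toSubmodule.FG := fg_adjoin_of_finite hS fun x _ => hint x
  haveI : IsNoetherian ℤ A.toSubmodule := isNoetherian_of_fg_of_noetherian _ hfg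
  haveI : IsNoetherian ℤ A := ‹IsNoetherian ℤ A.toSubmodule›
  haveI : IsNoetherianRing A := isNoetherian_of_tower ℤ inferInstance
  let I : Ideal A := RingHom.ker (ε.comp (A.val : A →+* K))
  have hI : I ≤ nilradical A := fun a ha => by
    obtain ⟨N, hN⟩ := hε (a : K) ha
    exact ⟨N, Subtype.ext (by simpa using hN)⟩
  obtain ⟨n, hn⟩ := (Ideal.FG.isNilpotent_iff_le_nilradical (IsNoetherian.noetherian I)).2 hI
  refine ⟨⟨n, fun f hf => ?_⟩, ?_⟩
  · let g : Fin n → A := fun t => ⟨f t, hA (hR (hf t).1)⟩
    have h : ∏ t, g t ∈ ∏ _t : Fin n, I := Ideal.prod_mem_prod fun t _ => (hf t).2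
    rw [Finset.prod_const, Finset.card_univ, Fintype.card_fin, hn] at h
    have := congrArg A.val ((Submodule.mem_bot _).1 h)
    simpa [g] using this
  · let M : Submodule ℤ K := R.toAddSubgroup.toIntSubmodule
    have hM : M ≤ A.toSubmodule := fun x hx => hA (hR hx)
    have hMfg : M.FG := by
      have := (IsNoetherian.noetherian (Submodule.comap A.toSubmodule.subtype M)).map A.toSubmodule.subtype
      rwa [Submodule.map_comap_subtype, inf_eq_right.2 hM] at this
    exact (Submodule.fg_iff_addSubgroup_fg M).1 hMfg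

/-- Units after base change are detected by the augmentation. -/
theorem isUnit_tensor_iff (ε : K →+* ℤ) (hε : ∀ x, ε x = 0 → IsNilpotent x) {A : Type*} [CommRing A]
    (y : A ⊗[ℤ] K) : IsUnit y ↔ IsUnit (Algebra.TensorProduct.map (AlgHom.id ℤ A) ε.toIntAlgHom y) := by
  refine ⟨fun h => h.map _, fun h => ?_⟩
  let s := Algebra.TensorProduct.map (AlgHom.id ℤ A) (Algebra.ofId ℤ K)
  let e := Algebra.TensorProduct.map (AlgHom.id ℤ A) ε.toIntAlgHom
  have key : ∀ z : A ⊗[ℤ] K, IsNilpotent (z - s (e z)) := by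
    intro z
    induction z with
    | zero => simp
    | tmul a x =>
      obtain ⟨N, hN⟩ := hε (x - (ε x : K)) (by simp)
      refine ⟨N + 1, ?_⟩
      rw [show (a ⊗ₜ[ℤ] x) - s (e (a ⊗ₜ x)) = a ⊗ₜ (x - (ε x : K)) by simp [s, e, tmul_sub],
        Algebra.TensorProduct.tmul_pow, pow_succ (x - _), hN, zero_mul, tmul_zero]
    | add z w hz hw =>
      rw [map_add, map_add, show z + w - (s (e z) + s (e w)) = (z - s (e z)) + (w - s (e w)) by ring]
      exact (Commute.all _ _).isNilpotent_add hz hw
  rw [show y = s (e y) + (y - s (e y)) by ring]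
  exact (key y).isUnit_add_left_of_commute (h.map s) (Commute.all _ _)

/-- A subring containing the operations of `e + 1` contains those of `e`. -/
theorem lam_mem_of_succ [LambdaOps K] (P : PosStructure K) (e : K) (R : Subring K)
    (h : ∀ i, LambdaOps.lam i (e + 1) ∈ R) : ∀ j, LambdaOps.lam j e ∈ R := by
  have h1 : ∀ i, 2 ≤ i → LambdaOps.lam i (1 : K) = 0 := fun i hi =>
    P.lam_eq_zero 1 (by simpa using P.natCast_mem 1 one_pos) i (by rw [map_one]; exact_mod_cast hi)
  have hl : lamSeries (e + 1) = lamSeries e * (1 + PowerSeries.C (1 : K) * PowerSeries.X) := by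
    rw [Lambda37.lamSeries_add, Lambda37.lamSeries_eq_linear h1]
  intro j
  induction j with
  | zero => rw [LambdaOps.lam_zero]; exact one_mem _
  | succ j ih =>
    have := congrArg (PowerSeries.coeff (j + 1)) hl
    rw [map_one PowerSeries.C, one_mul, mul_add, mul_one, map_add, PowerSeries.coeff_succ_mul_X,
      Lambda37.coeff_lamSeries, Lambda37.coeff_lamSeries, Lambda37.coeff_lamSeries] at this
    have hj := sub_mem (h (j + 1)) ih
    rwa [this, add_sub_cancel_right] at hj

end Groth.Agent.KRR40
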