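import Groth.Agent.KRR40.Nilp
import Groth.Agent.KRR40.SubFG

/-!
Sub-λ-rings of `K` generated by finitely many bundles.
-/

set_option autoImplicit false
set_option backward.isDefEq.respectTransparency.types false
set_option linter.style.haveILetI false

noncomputable section

universe v u

open CategoryTheory CategoryTheory.Limits AlgebraicGeometry LambdaRing

namespace Groth.Agent.KRR40

variable {X : Scheme.{u}} [ConnectedSpace ↥X] {K : Type v} [CommRing K] [LambdaOps K] {P : PosStructure K}
  {φ : SGA6.Kvb X →+ K}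

/-- The subring generated by the exterior powers of finitely many bundles is finite over `ℤ`, with nilpotent
augmentation ideal. -/
theorem augIdeal_nilpotent_fg (hK : KRR.IsModel X K P φ) {L : X.Modules} (hL : CohB1.IsAmple L)
    {k : ℕ} (E : Fin k → X.Modules) (hE : ∀ i, FlatMod.IsFinLocFree (E i)) (R : Subring K)
    (hR : R = Subring.closure {y : K | ∃ (i : Fin k) (j : ℕ), y = LambdaOps.lam j (φ (KRR.cl X (E i)))}) :
    (∃ n : ℕ, ∀ f : Fin n → K, (∀ t, f t ∈ R ∧ P.aug (f t) = 0) → ∏ t, f t = 0) ∧ R.toAddSubgroup.FG := by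
  classical
  have hO : FlatMod.IsFinLocFree (Coh.structureModule X) := vb_of_isInvertible EGA73.isInvertible_structureModule
  choose r hr using fun i => exists_rank_of_connected (X := X) (DCX42.isFinLocFree_biprod (hE i) hO)
  have hcl : ∀ i, φ (KRR.cl X (E i ⊞ Coh.structureModule X)) = φ (KRR.cl X (E i)) + 1 := fun i => by
    rw [← hK.map_one, ← map_add]
    have hB : (ShortComplex.mk (biprod.inl : E i ⟶ E i ⊞ Coh.structureModule X) biprod.snd
        biprod.inl_snd).ShortExact := ShortComplex.Splitting.shortExact { r := biprod.fst, s := biprod.inr }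
    exact congrArg φ (K0Res3.cls_add (P := KRR.vbP X) _ hB (hE i) (DCX42.isFinLocFree_biprod (hE i) hO) hO)
  choose rE hrE using fun i => exists_rank_of_connected (X := X) (hE i)
  have hpos : ∀ i, φ (KRR.cl X (E i)) + 1 ∈ P.pos := fun i => by
    refine (hK.mem_pos_iff _).2 ⟨r i, _, ?_, hr i, hcl i⟩
    have := congrArg P.aug (hcl i)
    rw [map_add, map_one, hK.aug_cl _ _ (hr i), hK.aug_cl _ _ (hrE i)] at this
    omega
  let S : Set K := ⋃ i : Fin k, (fun j => LambdaOps.lam j (φ (KRR.cl X (E i)) + 1)) ''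
    (Finset.range ((P.aug (φ (KRR.cl X (E i)) + 1)).toNat + 1) : Set ℕ)
  refine nilpotent_fg_of_finite P.aug (fun x hx => isNilpotent_of_aug_eq_zero hK hL hx)
    (S := S) (Set.finite_iUnion fun i => (Finset.finite_toSet _).image _) R ?_
  rw [hR, Subring.closure_le]
  rintro _ ⟨i, j, rfl⟩
  refine lam_mem_of_succ P _ (Subring.closure S) (fun m => ?_) j
  by_cases hm : P.aug (φ (KRR.cl X (E i)) + 1) < m
  · rw [P.lam_eq_zero _ (hpos i) m hm]
    exact zero_mem _
  · exact Subring.subset_closure (Set.mem_iUnion.2 ⟨i, m, by simp only [Finset.coe_range, Set.mem_Iio]; omega, rfl⟩)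

end Groth.Agent.KRR40
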