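import Groth.Agent.KRR40.LFDim

/-!
The Grothendieck group of coherent modules of bounded stalkwise projective dimension.
-/

set_option autoImplicit false
set_option linter.style.haveILetI false
set_option backward.isDefEq.respectTransparency.types false

noncomputable section

universe u v

open CategoryTheory CategoryTheory.Limits AlgebraicGeometry
open Groth.Agent.QC70 Groth.Agent.DCK91

namespace Groth.Agent.KRR40

variable (X : Scheme.{u})

/-- Coherent modules with bounded stalkwise projective dimension. -/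
abbrev PC : ObjectProperty X.Modules := fun M => Coh.IsCoh M ∧ ∃ d, PD d M

/-- The class of a module in the Grothendieck group of `PC`. -/
abbrev clP (M : X.Modules) : KZero.K0sub (PC X) := KZero.clSub (PC X) M

variable {X}

instance : (PC X).IsClosedUnderIsomorphisms :=
  ⟨fun e h => ⟨isCoh_of_iso e h.1, h.2.choose, pd_iso e h.2.choose_spec⟩⟩

lemma pc_of_isZero {M : X.Modules} (h : IsZero M) : PC X M := ⟨isCoh_of_isZero h, 0, pd_of_isZero h 0⟩

lemma pc_of_vb [IsLocallyNoetherian X] {M : X.Modules} (h : FlatMod.IsFinLocFree M) : PC X M :=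
  ⟨isCoh_of_vb h, 0, pd_zero_of_isFinLocFree h⟩

lemma pc_X₁ [IsLocallyNoetherian X] {S : ShortComplex X.Modules} (hS : S.ShortExact) (h₂ : PC X S.X₂)
    (h₃ : PC X S.X₃) : PC X S.X₁ := by
  obtain ⟨a, ha⟩ := h₂.2
  obtain ⟨b, hb⟩ := h₃.2
  exact ⟨isCoh_X₁ hS h₂.1 h₃.1, _, pd_X₁ hS (pd_mono (Nat.le_max_left a b) ha)
    (pd_mono (Nat.le_succ_of_le (Nat.le_max_right a b)) hb)⟩

lemma isCoh_X₃ {S : ShortComplex X.Modules} (hS : S.ShortExact) (h₁ : Coh.IsCoh S.X₁) (h₂ : Coh.IsCoh S.X₂) :
    Coh.IsCoh S.X₃ :=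
  isCoh_of_iso ((cokernelIsCokernel S.f).coconePointUniqueUpToIso hS.gIsCokernel) (isCoh_cokernel S.f h₁.1 h₂)

lemma pc_X₃ {S : ShortComplex X.Modules} (hS : S.ShortExact) (h₁ : PC X S.X₁) (h₂ : PC X S.X₂) :
    PC X S.X₃ := by
  obtain ⟨a, ha⟩ := h₁.2
  obtain ⟨b, hb⟩ := h₂.2
  exact ⟨isCoh_X₃ hS h₁.1 h₂.1, _, pd_X₃ hS (pd_mono (Nat.le_max_left a b) ha)
    (pd_mono (Nat.le_succ_of_le (Nat.le_max_right a b)) hb)⟩

section Hom

variable {C : Type*} [Category C] [Abelian C] {D : Type*} [Category D] [Abelian D]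
  {P : ObjectProperty C} {A : Type*} [AddCommGroup A]

/-- The homomorphism out of `K₀` given by an additive invariant. -/
def lift₀ (χ : C → A)
    (hχ : ∀ S : ShortComplex C, S.ShortExact → P S.X₁ → P S.X₂ → P S.X₃ → χ S.X₂ = χ S.X₁ + χ S.X₃) :
    KZero.K0sub P →+ A :=
  QuotientAddGroup.lift _ (FreeAbelianGroup.lift fun E : Subtype P => χ E.1)
    (by
      rw [KZero.relSub, AddSubgroup.closure_le]
      rintro _ ⟨S, h₁, h₂, h₃, hS, rfl⟩
      simp only [SetLike.mem_coe, AddMonoidHom.mem_ker, map_sub, FreeAbelianGroup.lift_apply_of]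
      rw [sub_sub, sub_eq_zero]
      exact hχ S hS h₁ h₂ h₃)

lemma lift₀_cl (χ : C → A) (hχ) {E : C} (hE : P E) : lift₀ (P := P) χ hχ (KZero.clSub P E) = χ E := by
  rw [show KZero.clSub P E = _ from K0Res3.cls_eq (P := P) hE]
  exact FreeAbelianGroup.lift_apply_of _ _

lemma hom_ext₀ {g g' : KZero.K0sub P →+ A}
    (h : ∀ E : C, P E → g (KZero.clSub P E) = g' (KZero.clSub P E)) : g = g' := by
  refine QuotientAddGroup.addMonoidHom_ext _ (FreeAbelianGroup.lift_ext _ _ fun E => ?_)
  have h0 := h E.1 E.2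
  rw [show KZero.clSub P E.1 = _ from K0Res3.cls_eq (P := P) E.2] at h0
  exact h0

lemma cls_of_isZero {Z : C} (hZ : IsZero Z) (h : P Z) : KZero.clSub P Z = 0 := by
  have hS : (ShortComplex.mk (0 : Z ⟶ Z) (0 : Z ⟶ Z) (comp_zero)).ShortExact :=
    { exact := ShortComplex.exact_of_isZero_X₂ _ hZ
      mono_f := hZ.mono _
      epi_g := hZ.epi _ }
  have e := K0Res3.cls_add (P := P) _ hS h h h
  exact left_eq_add.mp e

lemma cls_iso {M N : C} (e : M ≅ N) [P.IsClosedUnderIsomorphisms] (hM : P M) (hZ : ∀ Z : C, IsZero Z → P Z) :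
    KZero.clSub P M = KZero.clSub P N := by
  have hS := K0Res3.shortExact_of_isIso e.hom
  have hz : IsZero (cokernel e.hom) := isZero_cokernel_of_epi e.hom
  have h := K0Res3.cls_add (P := P) _ hS hM (P.prop_of_iso e hM) (hZ _ hz)
  rw [show K0Res3.cls P (cokernel e.hom) = 0 from cls_of_isZero hz (hZ _ hz), add_zero] at h
  exact h.symm

end Hom

variable [IsLocallyNoetherian X]

/-- The comparison from finite locally free modules. -/
def toP : SGA6.Kvb X →+ KZero.K0sub (PC X) :=
  lift₀ (clP X) fun S hS h₁ h₂ h₃ => K0Res3.cls_add S hS (pc_of_vb h₁) (pc_of_vb h₂) (pc_of_vb h₃)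

lemma toP_cl {M : X.Modules} (h : FlatMod.IsFinLocFree M) : toP (KRR.cl X M) = clP X M :=
  lift₀_cl (P := KRR.vbP X) _ _ h

theorem bijective_toP (hX : KRR.HasEnoughLocFree X) : Function.Bijective (toP (X := X)) := by
  refine (hyp hX (P := PC X) (fun _ => pc_of_vb) (fun M h => h.1) (fun M h => h.2)
    fun _ hS => pc_X₁ hS).bijective_of _ fun M hM => ?_
  exact toP_cl hM

/-- `(-1)^j a_j + (-1)^(j+1) a_(j+1)` telescopes. -/
private lemma alt_sum {A : Type v} [AddCommGroup A] (x z : ℕ → A) (n : ℕ)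
    (h : ∀ k, x (k + 1) = z (k + 1) + z k) (h0 : x 0 = z 0 + 0) :
    ∑ k ∈ Finset.range (n + 1), (-1 : ℤ) ^ k • x k = (-1 : ℤ) ^ n • z n := by
  induction n with
  | zero => simpa using h0
  | succ n ih =>
    rw [Finset.sum_range_succ, ih, h n, pow_succ, mul_neg_one, smul_add, neg_smul, neg_smul]
    abel

/-- The Euler characteristic of a finite resolution. -/
theorem clP_eq_sum {F : X.Modules} {n : ℕ} {L : ChainComplex X.Modules ℕ}
    {π : L ⟶ (ChainComplex.single₀ X.Modules).obj F} (h : KRR.IsLFRes F n L π) :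
    PC X F ∧ clP X F = ∑ k ∈ Finset.range (n + 1), (-1 : ℤ) ^ k • clP X (L.X k) := by
  haveI := h.quasiIso
  have hex : ∀ i, 1 ≤ i → L.ExactAt i := fun i hi => by
    obtain ⟨j, rfl⟩ : ∃ j, i = j + 1 := ⟨i - 1, by omega⟩
    rw [← quasiIsoAt_iff_exactAt' π (j + 1) (ChainComplex.exactAt_succ_single_obj F j)]
    infer_instance
  let e : L.homology 0 ≅ F := isoOfQuasiIsoAt π 0 ≪≫ HomologicalComplex.singleObjHomologySelfIso _ 0 F
  have hL := fun k => pc_of_vb (h.finLocFree k)
  have hB : PC X (kernel (L.homologyπ 0)) ∧ PC X (L.homology 0) ∧ ∀ k, PC X (L.cycles (k + 1)) := by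
    have hd : ∀ j k : ℕ, k + j = n + 1 → 1 ≤ k → PC X (L.cycles k) := by
      intro j
      induction j with
      | zero => exact fun k hk _ => pc_of_isZero (IsZero.of_mono (L.iCycles k) (h.isZero k (by omega)))
      | succ j ih =>
        intro k hk h1
        exact pc_X₃ (cyclesSeq_shortExact L (hex k h1)) (ih (k + 1) (by omega) (by omega)) (hL _)
    have hall : ∀ k, PC X (L.cycles (k + 1)) := fun k => by
      rcases le_or_gt (k + 1) (n + 1) with hk | hk
      · exact hd (n + 1 - (k + 1)) (k + 1) (by omega) (by omega)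
      · exact pc_of_isZero (IsZero.of_mono (L.iCycles _) (h.isZero _ (by omega)))
    have hB : PC X (kernel (L.homologyπ 0)) := pc_X₃ (degOne_shortExact L) (hall 0) (hL 1)
    exact ⟨hB, pc_X₃ (degZero_shortExact L) hB ((PC X).prop_of_iso (cycles_zero_iso L).some.symm (hL 0)), hall⟩
  obtain ⟨hB, hA, hZ⟩ := hB
  refine ⟨(PC X).prop_of_iso e hA, ?_⟩
  have h0' : PC X (L.cycles 0) := (PC X).prop_of_iso (cycles_zero_iso L).some.symm (hL 0)
  have e0 : clP X (L.X 0) = clP X (kernel (L.homologyπ 0)) + clP X F := by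
    have ea : clP X (L.cycles 0) = clP X (L.X 0) :=
      cls_iso (P := PC X) (cycles_zero_iso L).some h0' (fun _ => pc_of_isZero)
    have eb : clP X (L.homology 0) = clP X F := cls_iso (P := PC X) e hA (fun _ => pc_of_isZero)
    rw [← ea, ← eb]
    exact K0Res3.cls_add _ (degZero_shortExact L) hB h0' hA
  have e1 : clP X (L.X 1) = clP X (L.cycles 1) + clP X (kernel (L.homologyπ 0)) :=
    K0Res3.cls_add _ (degOne_shortExact L) (hZ 0) (hL 1) hB
  let x : ℕ → KZero.K0sub (PC X) := fun k => clP X (L.X k) - if k = 0 then clP X F else 0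
  let z : ℕ → KZero.K0sub (PC X) := fun k => if k = 0 then clP X (kernel (L.homologyπ 0)) else clP X (L.cycles k)
  have hx : ∀ k, x (k + 1) = z (k + 1) + z k := fun k => by
    cases k with
    | zero => simpa [x, z] using e1
    | succ k =>
      simp only [x, z, Nat.add_one_ne_zero, if_false, sub_zero]
      exact K0Res3.cls_add _ (cyclesSeq_shortExact L (hex (k + 1) (by omega))) (hZ (k + 1)) (hL _) (hZ k)
  have hz : z n = 0 := by
    cases n with
    | zero =>
      have hz1 : clP X (L.X 1) = 0 := cls_of_isZero (h.isZero 1 (by omega)) (hL 1)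
      have hzz : clP X (L.cycles 1) = 0 :=
        cls_of_isZero (IsZero.of_mono (L.iCycles 1) (h.isZero 1 (by omega))) (hZ 0)
      simp only [z, if_true]
      rw [hz1, hzz, zero_add] at e1
      exact e1.symm
    | succ n =>
      simp only [z, Nat.add_one_ne_zero, if_false]
      refine cls_of_isZero ?_ (hZ n)
      -- the top cycles embed in the top term and vanish by exactness
      have hS := cyclesSeq_shortExact L (hex (n + 1) (by omega))
      haveI := hS.epi_g
      exact IsZero.of_epi (L.toCycles (n + 2) (n + 1)) (h.isZero (n + 2) (by omega))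
  have hs := alt_sum x z n hx (by simp [x, z, e0])
  rw [hz, smul_zero] at hs
  simp only [x, smul_sub, Finset.sum_sub_distrib] at hs
  rw [sub_eq_zero] at hs
  rw [hs, Finset.sum_eq_single 0 (fun k _ hk => by simp [hk]) (by simp)]
  simp

end Groth.Agent.KRR40
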