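import Groth.Agent.KRR40.PKApp
import Groth.Agent.KRR40.BaseChange
import Groth.Agent.S2886
import Groth.Agent.H98Proj.SmoothPn

/-!
Compatibility of the two push-forwards along a closed immersion of the base.
-/

set_option autoImplicit false
set_option backward.isDefEq.respectTransparency.types false
set_option linter.style.haveILetI false

noncomputable section

universe v u

open CategoryTheory CategoryTheory.Limits AlgebraicGeometry LambdaRing
open Groth.Agent.QC70

namespace Groth.Agent.KRR40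

variable {X Y : Scheme.{u}} (i : X ⟶ Y)

/-- Projective space is stable under base change. -/
theorem isPullback_projSpaceMap (n : ℕ) :
    IsPullback (KRR.projSpaceMap n i) (KRR.pr n X) (KRR.pr n Y) i := by
  have hX : IsPullback (toZ n X) (KRR.pr n X) (CohB1.ProjSpace.toSpec n (ULift.{u} ℤ))
      (specULiftZIsTerminal.from X) := IsPullback.of_hasPullback _ _
  have hY : IsPullback (toZ n Y) (KRR.pr n Y) (CohB1.ProjSpace.toSpec n (ULift.{u} ℤ))
      (specULiftZIsTerminal.from Y) := IsPullback.of_hasPullback _ _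
  refine IsPullback.of_right ?_ (projSpaceMap_pr i) hY
  rw [projSpaceMap_toZ, specULiftZIsTerminal.hom_ext (i ≫ specULiftZIsTerminal.from Y) (specULiftZIsTerminal.from X)]
  exact hX

/-- Regular closed immersions are stable under precomposition with isomorphisms. -/
theorem isRegularClosedImmersion_iso_comp {X' : Scheme.{u}} (e : X' ≅ X) (hi : Mor2.IsRegularClosedImmersion i) :
    Mor2.IsRegularClosedImmersion (e.hom ≫ i) := by
  obtain ⟨hcl, h⟩ := hi
  haveI := hcl
  refine ⟨inferInstance, fun z => ?_⟩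
  obtain ⟨U, hU, hz, rs, hrs, hker⟩ := h (e.hom z)
  refine ⟨U, hU, hz, rs, hrs, ?_⟩
  rw [← hker, Scheme.Hom.ker_apply, Scheme.Hom.ker_apply]
  exact RingHom.ker_comp_of_injective (i.app U).hom
    (ConcreteCategory.bijective_of_isIso (e.hom.app (i ⁻¹ᵁ U))).1

/-- The induced map of projective spaces is a regular closed immersion. -/
theorem isRegularClosedImmersion_projSpaceMap (n : ℕ) (hi : Mor2.IsRegularClosedImmersion i) :
    Mor2.IsRegularClosedImmersion (KRR.projSpaceMap n i) := by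
  haveI := Groth.Agent.H98Proj.smooth_toBase n Y
  have h := Groth.Agent.S2886.result i (KRR.pr n Y) hi
  have h' := (isPullback_projSpaceMap i n).flip
  have := isRegularClosedImmersion_iso_comp _ h'.isoPullback h
  rwa [IsPullback.isoPullback_hom_snd] at this

variable {i} {n : ℕ}

/-- `i_K ∘ g_K = f_K ∘ j_K`. -/
theorem pushCl_pushPr_comm [IsNoetherian X] [IsNoetherian Y] (hi : Mor2.IsRegularClosedImmersion i)
    (hYe : KRR.HasEnoughLocFree Y) (hPe : KRR.HasEnoughLocFree (KRR.PY n Y))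
    {KX KY KPX KPY : Type v} [CommRing KX] [CommRing KY] [CommRing KPX] [CommRing KPY] [LambdaOps KPX]
    [LambdaOps KPY] {PPX : PosStructure KPX} {PPY : PosStructure KPY} {φX : SGA6.Kvb X →+ KX}
    {φY : SGA6.Kvb Y →+ KY} {φPX : SGA6.Kvb (KRR.PY n X) →+ KPX} {φPY : SGA6.Kvb (KRR.PY n Y) →+ KPY}
    (hφY : Function.Bijective φY) (hKPX : KRR.IsModel (KRR.PY n X) KPX PPX φPX)
    (hKPY : KRR.IsModel (KRR.PY n Y) KPY PPY φPY)
    {gi : KX →+ KY} (hgi : KRR.IsPushCl i φX φY gi)
    {gj : KPX →+ KPY} (hgj : KRR.IsPushCl (KRR.projSpaceMap n i) φPX φPY gj)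
    {gX : KPX →+ KX} (hgX : KRR.IsPushPr n X φPX φX gX) {gY : KPY →+ KY} (hgY : KRR.IsPushPr n Y φPY φY gY) :
    gi.comp gX = gY.comp gj := by
  haveI := isNoetherian_PY n Y
  haveI := isNoetherian_PY n X
  haveI := hi.1
  have hj := isRegularClosedImmersion_projSpaceMap i n hi
  haveI := hj.1
  let j := KRR.projSpaceMap n i
  let eY := AddEquiv.ofBijective φY hφY
  let eP := AddEquiv.ofBijective φPY hKPY.bijective
  refine AddMonoidHom.ext fun y => eY.symm.injective ((bijective_toP hYe).1 ?_)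
  refine DFunLike.congr_fun (eq_of_twists hKPY hKPX j
    ((toP.comp eY.symm.toAddMonoidHom).comp (gi.comp gX)) ((toP.comp eY.symm.toAddMonoidHom).comp (gY.comp gj))
    fun E hE => ?_) y
  have hM := pc_pushforward_vb j hj hPe hE
  obtain ⟨m₁, hm₁⟩ := eventually_pushP hφY hPe hgY _ _ hM.1 hM.2.choose_spec
  obtain ⟨m₂, hm₂⟩ := exists_rReg hE
  refine ⟨max m₁ m₂, fun e he E' hE' ⟨t⟩ ⟨iso⟩ => ?_⟩
  obtain ⟨-, hp, h⟩ := hm₁ e ((le_max_left _ _).trans he)
  have t' : E' ≅ KRR.twF n X (e : ℤ) E :=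
    t ≪≫ EGA73.tensIso (Iso.refl E) (pullTwistIso i (e : ℤ)) ≪≫ EGA73.tensComm _ _
  have hA : Acy n X E' := by
    refine Acy.of_iso t'.symm (acy_of_rReg (isQCoh_of_vb (vb_twF hE _)) (m := 0) ?_ rfl)
    rw [Nat.cast_zero, rReg_twF_iff]
    exact hm₂.mono (isQCoh_of_vb hE) (by have := (le_max_right _ _).trans he; omega)
  have hpX := finLocFree_pushPr hE' hA.isZero_Rpush
  have hb : pushP hφY hPe φPY gY (toP (eP.symm (gj (φPX (KRR.cl _ E'))))) =
      clP Y ((Scheme.Modules.pushforward (KRR.pr n Y)).obj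
        (KRR.twF n Y (e : ℤ) ((Scheme.Modules.pushforward j).obj E))) := by
    refine (congrArg _ ?_).trans h
    rw [toP_pushCl j hj hPe hKPY.bijective hgj, pushVP_cl j hj hPe hE']
    exact cls_iso (P := PC (KRR.PY n Y)) iso (pc_pushforward_vb j hj hPe hE') fun _ => pc_of_isZero
  rw [pushP_toP, show φPY (eP.symm (gj (φPX (KRR.cl _ E')))) = _ from eP.apply_symm_apply _] at hb
  refine Eq.trans ?_ hb.symm
  show toP (eY.symm (gi (gX (φPX (KRR.cl _ E'))))) = _
  rw [pushPr_eq_of_acy hgX hE' hA, toP_pushCl i hi hYe hφY hgi, pushVP_cl i hi hYe hpX]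
  exact cls_iso (P := PC Y) ((Scheme.Modules.pushforwardComp (KRR.pr n X) i).app E' ≪≫
    (Scheme.Modules.pushforwardCongr (projSpaceMap_pr i).symm).app E' ≪≫
    ((Scheme.Modules.pushforwardComp j (KRR.pr n Y)).app E').symm ≪≫
    (Scheme.Modules.pushforward (KRR.pr n Y)).mapIso iso) (pc_pushforward_vb i hi hYe hpX) fun _ => pc_of_isZero

end Groth.Agent.KRR40
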