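import Groth.Agent.KRR40.PKVan
import Groth.Agent.KRR40.PushCl
import Groth.Agent.KRR40.TensorPC
import Groth.Agent.KRR40.PKValues

/-!
The projection from projective space on resolvable modules, after a large twist.
-/

set_option autoImplicit false
set_option backward.isDefEq.respectTransparency.types false
set_option linter.style.haveILetI false

noncomputable section

universe v u

open CategoryTheory CategoryTheory.Limits AlgebraicGeometry
open Groth.Agent.QC70

namespace Groth.Agent.KRR40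

variable {n : ℕ} {T : Scheme.{u}} [IsNoetherian T] {KP KY : Type v} [CommRing KP] [CommRing KY]
  {φP : SGA6.Kvb (KRR.PY n T) →+ KP} {φY : SGA6.Kvb T →+ KY}

/-- `p_*` on `K₀` of resolvable modules, induced by the map on bundles. -/
def pushP [IsLocallyNoetherian (KRR.PY n T)] (hφY : Function.Bijective φY)
    (hP : KRR.HasEnoughLocFree (KRR.PY n T)) (φP : SGA6.Kvb (KRR.PY n T) →+ KP) (g : KP →+ KY) :
    KZero.K0sub (PC (KRR.PY n T)) →+ KZero.K0sub (PC T) :=
  (((toP.comp (AddEquiv.ofBijective φY hφY).symm.toAddMonoidHom).comp g).comp φP).comp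
    (AddEquiv.ofBijective _ (bijective_toP hP)).symm.toAddMonoidHom

variable [IsLocallyNoetherian (KRR.PY n T)]

lemma pushP_toP (hφY : Function.Bijective φY) (hP : KRR.HasEnoughLocFree (KRR.PY n T)) (g : KP →+ KY)
    (z : SGA6.Kvb (KRR.PY n T)) :
    pushP hφY hP φP g (toP z) = toP ((AddEquiv.ofBijective φY hφY).symm (g (φP z))) := by
  show toP ((AddEquiv.ofBijective φY hφY).symm (g (φP
    ((AddEquiv.ofBijective _ (bijective_toP hP)).symm (AddEquiv.ofBijective _ (bijective_toP hP) z))))) = _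
  rw [AddEquiv.symm_apply_apply]

lemma pc_twF {M : (KRR.PY n T).Modules} (hM : PC (KRR.PY n T) M) (e : ℤ) :
    PC (KRR.PY n T) (KRR.twF n T e M) :=
  (PC (KRR.PY n T)).prop_of_iso (EGA73.tensComm _ _)
    (pc_tensor hM (vb_of_isInvertible (isInvertible_twistOver n T e)))

/-- High twists of resolvable modules are acyclic, push forward to resolvable modules, and `p_*` computes `g`. -/
theorem eventually_pushP (hφY : Function.Bijective φY) (hP : KRR.HasEnoughLocFree (KRR.PY n T)) {g : KP →+ KY}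
    (hg : KRR.IsPushPr n T φP φY g) : ∀ (d : ℕ) (M : (KRR.PY n T).Modules), Coh.IsCoh M → PD d M →
    ∃ m : ℕ, ∀ e : ℕ, m ≤ e → Acy n T (KRR.twF n T (e : ℤ) M) ∧
      PC T ((Scheme.Modules.pushforward (KRR.pr n T)).obj (KRR.twF n T (e : ℤ) M)) ∧
      pushP hφY hP φP g (clP _ (KRR.twF n T (e : ℤ) M)) =
        clP T ((Scheme.Modules.pushforward (KRR.pr n T)).obj (KRR.twF n T (e : ℤ) M))
  | 0, M, hM, hd => by
    have hv : FlatMod.IsFinLocFree M := vb_iff.mpr ⟨hM, hd⟩
    obtain ⟨m, hm⟩ := exists_rReg hv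
    refine ⟨m, fun e he => ?_⟩
    have hev := vb_twF hv (e : ℤ)
    have hr : RReg n T (KRR.twF n T (e : ℤ) M) ((0 : ℕ) : ℤ) := by
      rw [Nat.cast_zero, rReg_twF_iff]
      exact hm.mono (isQCoh_of_vb hv) (by omega)
    have hA := acy_of_rReg (isQCoh_of_vb hev) hr rfl
    have hp := finLocFree_pushPr hev hA.isZero_Rpush
    refine ⟨hA, pc_of_vb hp, ?_⟩
    rw [← toP_cl hev, pushP_toP, pushPr_eq_of_acy hg hev hA]
    show toP ((AddEquiv.ofBijective φY hφY).symm (AddEquiv.ofBijective φY hφY (KRR.cl T _))) = _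
    rw [AddEquiv.symm_apply_apply, toP_cl hp]
  | d + 1, M, hM, hd => by
    obtain ⟨E, p, hE, hp⟩ := hP M hM
    have hS := K0Res3.epiSeq_shortExact p
    have hK := isCoh_kernel p (isCoh_of_vb hE) hM.1
    have hKd : PD d (kernel p) := pd_X₁ hS (pd_mono (Nat.zero_le _) (pd_zero_of_isFinLocFree hE)) hd
    obtain ⟨m₁, h₁⟩ := eventually_pushP hφY hP hg d (kernel p) hK hKd
    obtain ⟨m₂, h₂⟩ := eventually_pushP hφY hP hg 0 E (isCoh_of_vb hE) (pd_zero_of_isFinLocFree hE)
    refine ⟨max m₁ m₂, fun e he => ?_⟩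
    obtain ⟨a₁, p₁, e₁⟩ := h₁ e ((le_max_left _ _).trans he)
    obtain ⟨a₂, p₂, e₂⟩ := h₂ e ((le_max_right _ _).trans he)
    have hT := shortExact_tensor_vb (vb_of_isInvertible (isInvertible_twistOver n T (e : ℤ))) hS
    have hA := acy_X₃ hT a₁ a₂
    have hpush := shortExact_push_of_acy hT a₁
    have hp3 := pc_X₃ hpush p₁ p₂
    refine ⟨hA, hp3, ?_⟩
    have hc : clP _ (KRR.twF n T (e : ℤ) E) =
        clP _ (KRR.twF n T (e : ℤ) (kernel p)) + clP _ (KRR.twF n T (e : ℤ) M) :=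
      K0Res3.cls_add _ hT (pc_twF ⟨hK, d, hKd⟩ e) (pc_twF (pc_of_vb hE) e) (pc_twF ⟨hM, d + 1, hd⟩ e)
    have hc' : clP T ((Scheme.Modules.pushforward (KRR.pr n T)).obj (KRR.twF n T (e : ℤ) E)) =
        clP T ((Scheme.Modules.pushforward (KRR.pr n T)).obj (KRR.twF n T (e : ℤ) (kernel p))) +
          clP T ((Scheme.Modules.pushforward (KRR.pr n T)).obj (KRR.twF n T (e : ℤ) M)) :=
      K0Res3.cls_add _ hpush p₁ p₂ hp3
    rw [hc, map_add, e₁, hc', add_right_inj] at e₂
    exact e₂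

end Groth.Agent.KRR40
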