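import Groth.Agent.KRR40.PKApp
import Groth.Agent.S4456
import Groth.Agent.GSS45.SchemeSS

/-!
The Poincaré maps commute with push-forward along a projective regular morphism.
-/

set_option autoImplicit false
set_option backward.isDefEq.respectTransparency.types false
set_option linter.style.haveILetI false

noncomputable section

universe v u

open CategoryTheory CategoryTheory.Limits AlgebraicGeometry LambdaRing
open Groth.Agent.QC70

namespace Groth.Agent.KRR40

/-- Resolvable modules are coherent. -/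
def pcToCoh (X : Scheme.{u}) : KZero.K0sub (PC X) →+ SGA6.Kcoh X :=
  lift₀ (fun M => KZero.clSub (fun A : X.Modules => Coh.IsCoh A) M) fun S hS h₁ h₂ h₃ =>
    K0Res3.cls_add (P := fun A : X.Modules => Coh.IsCoh A) S hS h₁.1 h₂.1 h₃.1

lemma mapSub_vb_cl {X : Scheme.{u}} (h : ∀ M : X.Modules, FlatMod.IsFinLocFree M → Coh.IsCoh M) {M : X.Modules}
    (hM : FlatMod.IsFinLocFree M) :
    SGA6.mapSub (𝟭 X.Modules) (KRR.vbP X) (fun A : X.Modules => Coh.IsCoh A) h (KRR.cl X M) =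
      KZero.clSub (fun A : X.Modules => Coh.IsCoh A) M := by
  rw [KRR.cl, show KZero.clSub (KRR.vbP X) M = _ from K0Res3.cls_eq (P := KRR.vbP X) hM,
    show KZero.clSub (fun A : X.Modules => Coh.IsCoh A) M = _ from
      K0Res3.cls_eq (P := fun A : X.Modules => Coh.IsCoh A) (h M hM)]
  rfl

lemma pcToCoh_toP {X : Scheme.{u}} [IsLocallyNoetherian X]
    (h : ∀ M : X.Modules, FlatMod.IsFinLocFree M → Coh.IsCoh M) (z : SGA6.Kvb X) :
    pcToCoh X (toP z) = SGA6.mapSub (𝟭 X.Modules) (KRR.vbP X) (fun A : X.Modules => Coh.IsCoh A) h z :=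
  DFunLike.congr_fun (hom_ext_cl (g := (pcToCoh X).comp toP)
    (g' := SGA6.mapSub (𝟭 X.Modules) (KRR.vbP X) (fun A : X.Modules => Coh.IsCoh A) h) fun E hE => by
      show pcToCoh X (toP (KRR.cl X E)) = _
      rw [toP_cl hE, mapSub_vb_cl h hE]
      exact lift₀_cl (P := PC X) _ _ (pc_of_vb hE)) z

/-- The higher direct images of a module are the acyclic ones. -/
lemma isZero_Rpush_comp {X P T : Scheme.{u}} [HasInjectiveResolutions X.Modules] (i : X ⟶ P) [IsClosedImmersion i]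
    (p : P ⟶ T) {E : X.Modules} (hE : Coh.IsQCoh E) {q : ℕ}
    (h : IsZero ((Coh.RpushAb p q).obj (Coh.toAb ((Scheme.Modules.pushforward i).obj E)))) :
    IsZero ((Coh.Rpush (i ≫ p) q).obj E) := by
  haveI := hE
  obtain ⟨e⟩ := Groth.Agent.S4456.result i p E q
  obtain ⟨e'⟩ := GSS45.nonempty_toAb_Rpush (i ≫ p) E q
  have hz : IsZero ((abFun T).obj ((Coh.Rpush (i ≫ p) q).obj E)) :=
    IsZero.of_iso (IsZero.of_iso h e.symm) e'
  haveI : (abFun T).Faithful := inferInstanceAs (SheafOfModules.toSheaf T.ringCatSheaf).Faithful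
  rw [IsZero.iff_id_eq_zero] at hz ⊢
  exact (abFun T).map_injective (((abFun T).map_id _).trans (hz.trans ((abFun T).map_zero _ _).symm))

variable {n : ℕ} {X T : Scheme.{u}} [IsNoetherian X] [IsNoetherian T]

/-- `δ ∘ f_K = f_! ∘ δ` for `f = i ≫ p`. -/
theorem poincare_push_comm (hYe : KRR.HasEnoughLocFree T) (hPe : KRR.HasEnoughLocFree (KRR.PY n T))
    [HasInjectiveResolutions X.Modules] (i : X ⟶ KRR.PY n T) (hi : Mor2.IsRegularClosedImmersion i)
    (hX : ∀ M : X.Modules, FlatMod.IsFinLocFree M → Coh.IsCoh M)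
    (hY : ∀ M : T.Modules, FlatMod.IsFinLocFree M → Coh.IsCoh M)
    {KX KP KY : Type v} [CommRing KX] [CommRing KP] [CommRing KY] [LambdaOps KX] [LambdaOps KP]
    {PX : PosStructure KX} {PP : PosStructure KP} {φX : SGA6.Kvb X →+ KX}
    {φP : SGA6.Kvb (KRR.PY n T) →+ KP} {φY : SGA6.Kvb T →+ KY} (hKX : KRR.IsModel X KX PX φX)
    (hKP : KRR.IsModel (KRR.PY n T) KP PP φP) (hφY : Function.Bijective φY)
    {a : KX →+ KP} (ha : KRR.IsPushCl i φX φP a) {b : KP →+ KY} (hb : KRR.IsPushPr n T φP φY b)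
    {N : ℕ} {g : SGA6.Kcoh X →+ SGA6.Kcoh T} (hg : KRR.IsPushCoh (i ≫ KRR.pr n T) N g)
    (x : SGA6.Kvb X) (y : SGA6.Kvb T) (hxy : φY y = b (a (φX x))) :
    SGA6.mapSub (𝟭 T.Modules) (KRR.vbP T) (fun M : T.Modules => Coh.IsCoh M) hY y =
      g (SGA6.mapSub (𝟭 X.Modules) (KRR.vbP X) (fun M : X.Modules => Coh.IsCoh M) hX x) := by
  haveI := isNoetherian_PY n T
  haveI := hi.1
  let eY := AddEquiv.ofBijective φY hφY
  let eX := AddEquiv.ofBijective φX hKX.bijective
  let eP := AddEquiv.ofBijective φP hKP.bijective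
  let δX := SGA6.mapSub (𝟭 X.Modules) (KRR.vbP X) (fun M : X.Modules => Coh.IsCoh M) hX
  have key := DFunLike.congr_fun (eq_of_twists hKP hKX i
    ((pcToCoh T).comp ((toP.comp eY.symm.toAddMonoidHom).comp (b.comp a)))
    (g.comp (δX.comp eX.symm.toAddMonoidHom)) fun E hE => ?_) (φX x)
  · change pcToCoh T (toP (eY.symm (b (a (φX x))))) = g (δX (eX.symm (eX x))) at key
    rw [AddEquiv.symm_apply_apply, ← hxy, show eY.symm (φY y) = y from eY.symm_apply_apply y,
      pcToCoh_toP hY] at key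
    exact key
  have hM := pc_pushforward_vb i hi hPe hE
  obtain ⟨m, hm⟩ := eventually_pushP hφY hPe hb _ _ hM.1 hM.2.choose_spec
  refine ⟨m, fun e he E' hE' _ iso => ?_⟩
  obtain ⟨iso⟩ := iso
  obtain ⟨hA, hp, h⟩ := hm e he
  have hl : pushP hφY hPe φP b (toP (eP.symm (a (φX (KRR.cl X E'))))) =
      clP T ((Scheme.Modules.pushforward (KRR.pr n T)).obj
        (KRR.twF n T (e : ℤ) ((Scheme.Modules.pushforward i).obj E))) := by
    refine (congrArg _ ?_).trans h
    rw [toP_pushCl i hi hPe hKP.bijective ha, pushVP_cl i hi hPe hE']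
    exact cls_iso (P := PC (KRR.PY n T)) iso (pc_pushforward_vb i hi hPe hE') fun _ => pc_of_isZero
  rw [pushP_toP, show φP (eP.symm (a (φX (KRR.cl X E')))) = _ from eP.apply_symm_apply _] at hl
  show pcToCoh T (toP (eY.symm (b (a (φX (KRR.cl X E')))))) = g (δX (eX.symm (eX (KRR.cl X E'))))
  have hpc : pcToCoh T (clP T ((Scheme.Modules.pushforward (KRR.pr n T)).obj
      (KRR.twF n T (e : ℤ) ((Scheme.Modules.pushforward i).obj E)))) = _ := lift₀_cl (P := PC T) _ _ hp
  rw [hl, hpc, AddEquiv.symm_apply_apply, mapSub_vb_cl hX hE', hg.2 E' (hX E' hE'), Finset.sum_range_succ']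
  have hz : ∀ q : ℕ, IsZero ((Coh.Rpush (i ≫ KRR.pr n T) (q + 1)).obj E') := fun q =>
    isZero_Rpush_comp i (KRR.pr n T) (Props58.LocFree.isQuasicoherent_of_isFinLocFree hE')
      ((hA.isZero_Rpush (q + 1) (by omega)).of_iso ((Coh.RpushAb (KRR.pr n T) (q + 1)).mapIso
        ((abFun (KRR.PY n T)).mapIso iso)))
  rw [Finset.sum_eq_zero (fun q _ => by rw [cls_of_isZero (hz q) (isCoh_of_isZero (hz q)), smul_zero]), zero_add,
    pow_zero, one_smul]
  haveI : PreservesFiniteLimits (Scheme.Modules.pushforward (i ≫ KRR.pr n T)) :=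
    haveI := (Scheme.Modules.pullbackPushforwardAdjunction (i ≫ KRR.pr n T)).isRightAdjoint
    inferInstance
  have e0 : (Scheme.Modules.pushforward (KRR.pr n T)).obj (KRR.twF n T (e : ℤ) ((Scheme.Modules.pushforward i).obj E)) ≅
      (Coh.Rpush (i ≫ KRR.pr n T) 0).obj E' :=
    (Scheme.Modules.pushforward (KRR.pr n T)).mapIso iso.symm ≪≫
      (Scheme.Modules.pushforwardComp i (KRR.pr n T)).app E' ≪≫
      ((Scheme.Modules.pushforward (i ≫ KRR.pr n T)).rightDerivedZeroIsoSelf.app E').symm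
  haveI : ObjectProperty.IsClosedUnderIsomorphisms (fun A : T.Modules => Coh.IsCoh A) :=
    ⟨fun e h => isCoh_of_iso e h⟩
  exact cls_iso (P := fun A : T.Modules => Coh.IsCoh A) e0 hp.1 fun _ => isCoh_of_isZero

end Groth.Agent.KRR40
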