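import Groth.Agent.KRR40.GammaPush
import Groth.Agent.KRR40.Model
import Groth.Agent.KRR40.PKBaseClosed
import Groth.Agent.KRR40.EnoughPY
import Groth.Agent.Div89.SectionChart
import Groth.Agent.Div89.RegComp
import Groth.Agent.S3748

/-!
Push-forward on `K` along towers of projective spaces.
-/

set_option autoImplicit false
set_option linter.style.haveILetI false
set_option backward.isDefEq.respectTransparency.types false
set_option maxSynthPendingDepth 6

noncomputable section

universe v u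

open CategoryTheory CategoryTheory.Limits AlgebraicGeometry TopologicalSpace LambdaRing

namespace Groth.Agent.KRR40

open KRR40

attribute [local instance] kvbRing kvbLambda

/-- Idempotent functions on a connected scheme are trivial. -/
theorem idempotent_trivial {Y : Scheme.{u}} [PreconnectedSpace Y] (e : Γ(Y, ⊤)) (he : e * e = e) :
    e = 0 ∨ e = 1 := by
  have hcover : Y.basicOpen e ⊔ Y.basicOpen (1 - e) = ⊤ := by
    refine top_le_iff.1 fun x _ => ?_
    rw [TopologicalSpace.Opens.mem_sup, Scheme.mem_basicOpen_top, Scheme.mem_basicOpen_top, map_sub,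
      map_one]
    exact IsLocalRing.isUnit_or_isUnit_one_sub_self _
  have hinf : Y.basicOpen e ⊓ Y.basicOpen (1 - e) = ⊥ := by
    rw [← Scheme.basicOpen_mul, mul_sub, mul_one, he, sub_self, Scheme.basicOpen_zero]
  have hcl : IsClopen (Y.basicOpen e : Set Y) := by
    refine ⟨?_, (Y.basicOpen e).2⟩
    have : (Y.basicOpen e : Set Y) = (Y.basicOpen (1 - e) : Set Y)ᶜ := by
      ext x
      constructor
      · intro hx hx'
        exact (SetLike.ext_iff.1 hinf x).1 ⟨hx, hx'⟩
      · intro hx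
        rcases (SetLike.ext_iff.1 hcover x).2 trivial with h | h
        · exact h
        · exact absurd h hx
    rw [this]
    exact (Y.basicOpen (1 - e)).2.isClosed_compl
  -- an idempotent which is a unit in no stalk vanishes
  have hz : ∀ f : Γ(Y, ⊤), f * f = f → Y.basicOpen f = ⊥ → f = 0 := fun f hf hb => by
    refine TopCat.Presheaf.section_ext Y.sheaf ⊤ f 0 fun x hx => ?_
    have hlt : IsUnit (1 - Y.presheaf.germ ⊤ x hx f) := by
      refine (IsLocalRing.isUnit_or_isUnit_one_sub_self _).resolve_left fun hu => ?_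
      exact (hb.le ((Y.mem_basicOpen f x hx).2 hu) : x ∈ (⊥ : Y.Opens)).elim
    have h0 : Y.presheaf.germ ⊤ x hx f = 0 := by
      refine hlt.mul_right_eq_zero.1 ?_
      rw [sub_mul, one_mul, ← map_mul, hf, sub_self]
    exact h0.trans (map_zero _).symm
  rcases isClopen_iff.1 hcl with h | h
  · exact Or.inl (hz e he (TopologicalSpace.Opens.ext h))
  · refine Or.inr (sub_eq_zero.1 (hz (1 - e) ?_ ?_)).symm
    · rw [mul_sub, sub_mul, sub_mul, he]; ring
    · rw [← hinf, show Y.basicOpen e = ⊤ from TopologicalSpace.Opens.ext h, top_inf_eq]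

/-- Projective space over a connected scheme is connected. -/
instance connectedSpace_PY (n : ℕ) (T : Scheme.{u}) [ConnectedSpace ↥T] : ConnectedSpace ↥(KRR.PY n T) := by
  obtain ⟨t⟩ := (inferInstance : Nonempty T)
  haveI : Nonempty ↥(KRR.PY n T) := by
    by_contra hne
    rw [not_nonempty_iff] at hne
    haveI : Subsingleton Γ(KRR.PY n T, KRR.pr n T ⁻¹ᵁ ⊤) :=
      ⟨fun a b => TopCat.Presheaf.section_ext (KRR.PY n T).sheaf _ a b fun x => isEmptyElim x⟩
    have h : (1 : Γ(T, ⊤)) = 0 := (bijective_app_pr n ⊤).1 (Subsingleton.elim _ _)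
    have h' := congrArg (T.presheaf.germ ⊤ t trivial) h
    rw [map_one, map_zero] at h'
    exact one_ne_zero h'
  haveI : PreconnectedSpace ↥(KRR.PY n T) := by
    refine preconnectedSpace_iff_clopen.mpr fun W hW => ?_
    let P := KRR.PY n T
    let U : Bool → P.Opens := fun b => bif b then ⟨W, hW.isOpen⟩ else ⟨Wᶜ, hW.compl.isOpen⟩
    let sf : ∀ b, Γ(P, U b) := fun b => bif b then 1 else 0
    have hcompat : TopCat.Presheaf.IsCompatible P.sheaf.1 U sf := by
      intro a b
      cases a <;> cases b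
      · rfl
      · refine TopCat.Presheaf.section_ext P.sheaf _ _ _ fun x hx => absurd hx.2 hx.1
      · refine TopCat.Presheaf.section_ext P.sheaf _ _ _ fun x hx => absurd hx.1 hx.2
      · rfl
    have hcover : (⊤ : P.Opens) ≤ iSup U := fun x _ => by
      by_cases h : x ∈ W
      · exact Opens.mem_iSup.2 ⟨true, h⟩
      · exact Opens.mem_iSup.2 ⟨false, h⟩
    obtain ⟨e, he, -⟩ := P.sheaf.existsUnique_gluing' U ⊤ (fun b => homOfLE le_top) hcover sf hcompat
    have hee : e * e = e := P.sheaf.eq_of_locally_eq' U ⊤ (fun b => homOfLE le_top) hcover _ _ fun b => by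
      refine (map_mul (P.sheaf.obj.map (homOfLE (le_top : U b ≤ ⊤)).op).hom e e).trans ?_
      refine (congrArg₂ (· * ·) (he b) (he b)).trans (Eq.trans ?_ (he b).symm)
      cases b
      · exact mul_zero _
      · exact one_mul _
    obtain ⟨a, ha⟩ := (bijective_app_pr n (⊤ : T.Opens)).2 e
    have haa : a * a = a := (bijective_app_pr n (⊤ : T.Opens)).1 (by rw [map_mul, ha]; exact hee)
    rcases idempotent_trivial a haa with rfl | rfl
    · refine Or.inl (Set.eq_empty_iff_forall_notMem.2 fun x hx => ?_)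
      have h : (0 : Γ(P, U true)) = 1 := by
        refine Eq.trans ?_ (he true)
        rw [← ha, map_zero]
        exact (map_zero _).symm
      have h' := congrArg (P.presheaf.germ (U true) x hx) h
      rw [map_zero, map_one] at h'
      exact zero_ne_one h'
    · refine Or.inr (Set.eq_univ_of_forall fun x => by_contra fun hx => ?_)
      have h : (1 : Γ(P, U false)) = 0 := by
        refine Eq.trans ?_ (he false)
        rw [← ha, map_one]
        exact (map_one _).symm
      have h' := congrArg (P.presheaf.germ (U false) x hx) h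
      rw [map_zero, map_one] at h'
      exact one_ne_zero h'
  exact ⟨inferInstance⟩

/-- A positive structure on the group of bundles of a connected scheme. -/
def kvbPos (X : Scheme.{u}) [ConnectedSpace ↥X] : PosStructure (SGA6.Kvb X) :=
  posStructure (Classical.arbitrary X)

lemma kvb_isModel (X : Scheme.{u}) [ConnectedSpace ↥X] :
    KRR.IsModel X (SGA6.Kvb X) (kvbPos X) (AddMonoidHom.id _) := by
  refine ⟨Function.bijective_id, rfl, fun E F hE hF => mulK_cl hE hF, fun i E L hE _ hL =>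
    (lamK_cl i hE).trans (lamCl_eq hE hL), fun n E hE => ?_, fun z => ⟨?_, ?_⟩⟩
  · show rkHom (Classical.arbitrary X) (KRR.cl X E) = n
    rw [rkHom_cl _ (KRR40.vb_of_rank hE), rkAt_eq _ hE]
  · rintro ⟨E, hE, hE0, rfl⟩
    exact ⟨_, E, hE0, rank_rkAt _ hE, rfl⟩
  · rintro ⟨n, E, hn, hE, rfl⟩
    exact ⟨E, KRR40.vb_of_rank hE, (rkAt_eq (Classical.arbitrary X) hE).symm ▸ hn, rfl⟩

lemma isPull_pullK {X Y : Scheme.{u}} (f : X ⟶ Y) :
    KRR.IsPull f (AddMonoidHom.id _) (AddMonoidHom.id _) (pullK f) := fun _ hE => pullK_cl f hE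

/-- Inverse image as a homomorphism of rings. -/
abbrev pullR {X Y : Scheme.{u}} [IsLocallyNoetherian X] [IsLocallyNoetherian Y] [ConnectedSpace ↥X]
    [ConnectedSpace ↥Y] (f : X ⟶ Y) : SGA6.Kvb Y →+* SGA6.Kvb X :=
  pullHom (kvb_isModel Y) (kvb_isModel X) (isPull_pullK f)

/-- The push-forward from projective space. -/
def prK (n : ℕ) (T : Scheme.{u}) [IsNoetherian T] : SGA6.Kvb (KRR.PY n T) →+ SGA6.Kvb T :=
  (existsUnique_pushPr (n := n) (T := T) (AddMonoidHom.id _) Function.bijective_id (AddMonoidHom.id _)).choose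

lemma prK_spec (n : ℕ) (T : Scheme.{u}) [IsNoetherian T] :
    KRR.IsPushPr n T (AddMonoidHom.id _) (AddMonoidHom.id _) (prK n T) :=
  (existsUnique_pushPr (n := n) (T := T) (AddMonoidHom.id _) Function.bijective_id (AddMonoidHom.id _)).choose_spec.1

/-- Any push-forward from projective space is the standard one. -/
theorem isPushPr_apply {n : ℕ} {T : Scheme.{u}} [IsNoetherian T] {KP KY : Type v} [CommRing KP] [CommRing KY]
    {φP : SGA6.Kvb (KRR.PY n T) →+ KP} {φY : SGA6.Kvb T →+ KY} (hφP : Function.Bijective φP) {g : KP →+ KY}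
    (hg : KRR.IsPushPr n T φP φY g) (x : SGA6.Kvb (KRR.PY n T)) : g (φP x) = φY (prK n T x) := by
  obtain ⟨z, rfl⟩ := (bijective_regK n T fun _ h => h.1).2 x
  refine DFunLike.congr_fun (QuotientAddGroup.addMonoidHom_ext _ (FreeAbelianGroup.lift_ext _ _ fun F => ?_) :
    (g.comp φP).comp (SGA6.mapSub (𝟭 (KRR.PY n T).Modules) (regP n T) (KRR.vbP (KRR.PY n T)) fun _ h => h.1) =
      (φY.comp (prK n T)).comp (SGA6.mapSub (𝟭 (KRR.PY n T).Modules) (regP n T) (KRR.vbP (KRR.PY n T)) fun _ h => h.1)) z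
  have hcl : SGA6.mapSub (𝟭 (KRR.PY n T).Modules) (regP n T) (KRR.vbP (KRR.PY n T)) (fun _ h => h.1)
      ((QuotientAddGroup.mk' (KZero.relSub (regP n T))) (FreeAbelianGroup.of F)) = KRR.cl (KRR.PY n T) F.1 := by
    rw [KRR.cl, show KZero.clSub (KRR.vbP _) F.1 = _ from K0Res3.cls_eq (P := KRR.vbP (KRR.PY n T)) F.2.1]
    rfl
  show g (φP (SGA6.mapSub _ _ _ _ _)) = φY (prK n T (SGA6.mapSub _ _ _ _ _))
  rw [hcl, hg F.1 F.2.1 F.2.2]
  exact congrArg φY (prK_spec n T F.1 F.2.1 F.2.2).symm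

section cl

variable {X Y : Scheme.{u}} (i : X ⟶ Y) (hi : Mor2.IsRegularClosedImmersion i) (hY : KRR.HasEnoughLocFree Y)
  [IsNoetherian X] [IsNoetherian Y]

/-- The push-forward along a regular closed immersion. -/
def clK : SGA6.Kvb X →+ SGA6.Kvb Y :=
  haveI := hi.1
  (AddEquiv.ofBijective toP (bijective_toP hY)).symm.toAddMonoidHom.comp (pushVP i hi hY)

lemma toP_clK (x : SGA6.Kvb X) : haveI := hi.1; toP (clK i hi hY x) = pushVP i hi hY x :=
  haveI := hi.1
  (AddEquiv.ofBijective toP (bijective_toP hY)).apply_symm_apply _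

lemma clK_spec : KRR.IsPushCl i (AddMonoidHom.id _) (AddMonoidHom.id _) (clK i hi hY) := by
  haveI := hi.1
  intro F hF n L π hL
  refine (bijective_toP hY).1 ?_
  simp only [AddMonoidHom.id_apply]
  rw [toP_sum hL, toP_clK, pushVP_cl i hi hY hF]

/-- Any push-forward along a regular closed immersion is the standard one. -/
theorem isPushCl_apply {KX KY : Type v} [CommRing KX] [CommRing KY] {φX : SGA6.Kvb X →+ KX}
    {φY : SGA6.Kvb Y →+ KY} (hφY : Function.Bijective φY) {g : KX →+ KY} (hg : KRR.IsPushCl i φX φY g)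
    (x : SGA6.Kvb X) : g (φX x) = φY (clK i hi hY x) := by
  haveI := hi.1
  have h := toP_pushCl i hi hY hφY hg x
  rw [← toP_clK i hi hY] at h
  have := congrArg φY ((bijective_toP hY).1 h)
  rwa [show φY ((AddEquiv.ofBijective φY hφY).symm (g (φX x))) = _ from
    (AddEquiv.ofBijective φY hφY).apply_symm_apply _] at this

end cl

/-- The functoriality of the push-forward along regular closed immersions. -/
theorem clK_comp {X Y Z : Scheme.{u}} (f : X ⟶ Y) (g : Y ⟶ Z) [IsNoetherian X] [ConnectedSpace ↥X]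
    [IsNoetherian Y] [ConnectedSpace ↥Y] [IsNoetherian Z] [ConnectedSpace ↥Z]
    (hf : Mor2.IsRegularClosedImmersion f) (hg : Mor2.IsRegularClosedImmersion g)
    (hfg : Mor2.IsRegularClosedImmersion (f ≫ g))
    (hY : KRR.HasEnoughLocFree Y) (hZ : KRR.HasEnoughLocFree Z) (x : SGA6.Kvb X) :
    clK (f ≫ g) hfg hZ x = clK g hg hZ (clK f hf hY x) :=
  DFunLike.congr_fun (Groth.Agent.S3748.result f g hf hg hY hZ _ _ _ (kvb_isModel X) _ _ _ (kvb_isModel Y) _ _ _
    (kvb_isModel Z) _ (clK_spec f hf hY) _ (clK_spec g hg hZ) _ (clK_spec (f ≫ g) hfg hZ)) x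

lemma clK_congr {X Y : Scheme.{u}} [IsNoetherian X] [IsNoetherian Y] {f g : X ⟶ Y} (h : f = g)
    (hf : Mor2.IsRegularClosedImmersion f) (hg : Mor2.IsRegularClosedImmersion g) (hY : KRR.HasEnoughLocFree Y) :
    clK f hf hY = clK g hg hY := by
  subst h
  rfl

section iso

variable {X Y : Scheme.{u}}

/-- Direct image along an isomorphism is inverse image along its inverse. -/
def pushIsoPullInv (e : X ≅ Y) : Scheme.Modules.pushforward e.hom ≅ Scheme.Modules.pullback e.inv :=
  let E : X.Modules ≌ Y.Modules := CategoryTheory.Equivalence.mk (Scheme.Modules.pushforward e.hom)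
    (Scheme.Modules.pushforward e.inv)
    ((Scheme.Modules.pushforwardId X).symm ≪≫ Scheme.Modules.pushforwardCongr e.hom_inv_id.symm ≪≫
      (Scheme.Modules.pushforwardComp e.hom e.inv).symm)
    (Scheme.Modules.pushforwardComp e.inv e.hom ≪≫ Scheme.Modules.pushforwardCongr e.inv_hom_id ≪≫
      Scheme.Modules.pushforwardId Y)
  E.toAdjunction.leftAdjointUniq (Scheme.Modules.pullbackPushforwardAdjunction e.inv)

lemma isRegularClosedImmersion_iso (e : X ≅ Y) : Mor2.IsRegularClosedImmersion e.hom := by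
  have h := Div89.SectionReg.isRegularClosedImmersion_section (𝟙 Y) (𝟙 Y) (Category.comp_id _)
  have h' := isRegularClosedImmersion_iso_comp (𝟙 Y) e h
  rwa [Category.comp_id] at h'

lemma clK_iso [IsNoetherian X] [IsNoetherian Y] (e : X ≅ Y) (hY : KRR.HasEnoughLocFree Y) (x : SGA6.Kvb X) :
    clK e.hom (isRegularClosedImmersion_iso e) hY x = pullK e.inv x := by
  refine DFunLike.congr_fun (hom_ext₀ (P := KRR.vbP X)
    (g := clK e.hom (isRegularClosedImmersion_iso e) hY) (g' := pullK e.inv) fun M hM => ?_) x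
  haveI := (isRegularClosedImmersion_iso e).1
  refine (bijective_toP hY).1 ?_
  have hv := vb_pullback e.inv hM
  show toP (clK e.hom _ hY (KRR.cl X M)) = toP (pullK e.inv (KRR.cl X M))
  rw [toP_clK, pushVP_cl e.hom _ hY hM, pullK_cl e.inv hM, toP_cl hv]
  exact cls_iso (P := PC Y) ((pushIsoPullInv e).app M) (pc_pushforward_vb e.hom (isRegularClosedImmersion_iso e) hY hM)
    fun _ => pc_of_isZero

end iso

section maps

@[reassoc]
lemma pjMap_pr {n : ℕ} {Y Y₁ : Scheme.{u}} (φ : Y₁ ⟶ Y) :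
    KRR.projSpaceMap n φ ≫ KRR.pr n Y = KRR.pr n Y₁ ≫ φ := projSpaceMap_pr φ

lemma hom_ext_PY {W : Scheme.{u}} {n : ℕ} {T : Scheme.{u}} {f g : W ⟶ KRR.PY n T}
    (h₁ : f ≫ toZ n T = g ≫ toZ n T) (h₂ : f ≫ KRR.pr n T = g ≫ KRR.pr n T) : f = g :=
  pullback.hom_ext h₁ h₂

/-- A point of projective space over a morphism. -/
def liftPY {W : Scheme.{u}} {n : ℕ} {T : Scheme.{u}} (a : W ⟶ CohB1.ProjSpace n (ULift.{u} ℤ)) (b : W ⟶ T) :
    W ⟶ KRR.PY n T :=
  pullback.lift a b (specULiftZIsTerminal.hom_ext _ _)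

@[reassoc (attr := simp)]
lemma liftPY_toZ {W : Scheme.{u}} {n : ℕ} {T : Scheme.{u}} (a : W ⟶ CohB1.ProjSpace n (ULift.{u} ℤ)) (b : W ⟶ T) :
    liftPY a b ≫ toZ n T = a := pullback.lift_fst _ _ _

@[reassoc (attr := simp)]
lemma liftPY_pr {W : Scheme.{u}} {n : ℕ} {T : Scheme.{u}} (a : W ⟶ CohB1.ProjSpace n (ULift.{u} ℤ)) (b : W ⟶ T) :
    liftPY a b ≫ KRR.pr n T = b := pullback.lift_snd _ _ _

/-- The exchange of the two factors of a tower. -/
def swapPY (n m : ℕ) (Z : Scheme.{u}) : KRR.PY n (KRR.PY m Z) ⟶ KRR.PY m (KRR.PY n Z) :=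
  liftPY (KRR.pr n (KRR.PY m Z) ≫ toZ m Z) (KRR.projSpaceMap n (KRR.pr m Z))

@[reassoc (attr := simp)]
lemma swapPY_toZ (n m : ℕ) (Z : Scheme.{u}) :
    swapPY n m Z ≫ toZ m (KRR.PY n Z) = KRR.pr n (KRR.PY m Z) ≫ toZ m Z := liftPY_toZ _ _

@[reassoc (attr := simp)]
lemma swapPY_pr (n m : ℕ) (Z : Scheme.{u}) :
    swapPY n m Z ≫ KRR.pr m (KRR.PY n Z) = KRR.projSpaceMap n (KRR.pr m Z) := liftPY_pr _ _

@[reassoc (attr := simp)]
lemma swapPY_map (n m : ℕ) (Z : Scheme.{u}) :
    swapPY n m Z ≫ KRR.projSpaceMap m (KRR.pr n Z) = KRR.pr n (KRR.PY m Z) := by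
  refine hom_ext_PY ?_ ?_
  · rw [Category.assoc, projSpaceMap_toZ, swapPY_toZ]
  · rw [Category.assoc, projSpaceMap_pr, swapPY_pr_assoc, projSpaceMap_pr]

lemma swapPY_swapPY (n m : ℕ) (Z : Scheme.{u}) :
    swapPY n m Z ≫ swapPY m n Z = 𝟙 _ := by
  refine hom_ext_PY ?_ ?_
  · rw [Category.assoc, swapPY_toZ, swapPY_pr_assoc, projSpaceMap_toZ, Category.id_comp]
  · rw [Category.assoc, swapPY_pr, swapPY_map, Category.id_comp]

/-- The exchange of the two factors of a tower. -/
def swapIso (n m : ℕ) (Z : Scheme.{u}) : KRR.PY n (KRR.PY m Z) ≅ KRR.PY m (KRR.PY n Z) :=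
  ⟨swapPY n m Z, swapPY m n Z, swapPY_swapPY n m Z, swapPY_swapPY m n Z⟩

lemma isRegularClosedImmersion_pr_section {n : ℕ} {T : Scheme.{u}} (s : T ⟶ KRR.PY n T)
    (hs : s ≫ KRR.pr n T = 𝟙 T) : Mor2.IsRegularClosedImmersion s := by
  haveI : Smooth (KRR.pr n T) := Groth.Agent.H98Proj.smooth_toBase n T
  haveI : IsClosedImmersion s := by
    haveI : IsClosedImmersion (s ≫ KRR.pr n T) := by rw [hs]; infer_instance
    haveI := isSeparated_pr n T
    exact IsClosedImmersion.of_comp s (KRR.pr n T)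
  exact Div89.SectionReg.isRegularClosedImmersion_section (KRR.pr n T) s hs

end maps

section tower

variable {n : ℕ} {T : Scheme.{u}} [IsNoetherian T] [ConnectedSpace ↥T]

/-- The hyperplane class. -/
def hypCl (n : ℕ) (T : Scheme.{u}) : SGA6.Kvb (KRR.PY n T) := KRR.cl (KRR.PY n T) (Twist.twistOver n T 1)

/-- The group of bundles on projective space is generated by twists from the base. -/
theorem eq_of_gens {A : Type*} [AddCommGroup A] (h₁ h₂ : SGA6.Kvb (KRR.PY n T) →+ A)
    (h : haveI := isNoetherian_PY n T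
      ∀ (a : SGA6.Kvb T) (c : ℕ), h₁ (pullR (KRR.pr n T) a * hypCl n T ^ c) = h₂ (pullR (KRR.pr n T) a * hypCl n T ^ c)) :
    h₁ = h₂ := by
  haveI := isNoetherian_PY n T
  set q := pullR (KRR.pr n T)
  set l := hypCl n T
  refine AddMonoidHom.ext fun x => ?_
  have hx : x ∈ bFil (AddMonoidHom.id _) q (kvbPos T) 0 := by
    rw [show bFil (AddMonoidHom.id _) q (kvbPos T) 0 = ⊤ from
      bFil_zero (kvb_isModel (KRR.PY n T)) (kvb_isModel T) (isPull_pullK (KRR.pr n T))]
    trivial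
  refine (show bFil (AddMonoidHom.id _) q (kvbPos T) 0 ≤ (h₁ - h₂).ker from
    (AddSubgroup.closure_le _).2 ?_) hx |> fun hz => sub_eq_zero.1 hz
  rintro _ ⟨i, m, a, c, -, -, rfl⟩
  show (h₁ - h₂) (q a * l ^ c * (l - 1) ^ i) = 0
  induction i generalizing c with
  | zero => rw [pow_zero, mul_one, AddMonoidHom.sub_apply, sub_eq_zero]; exact h a c
  | succ i ih =>
    rw [show q a * l ^ c * (l - 1) ^ (i + 1) = q a * l ^ (c + 1) * (l - 1) ^ i - q a * l ^ c * (l - 1) ^ i by ring,
      map_sub, ih, ih, sub_zero]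

/-- The value of the push-forward on generators. -/
theorem prK_gen (a : SGA6.Kvb T) (c : ℕ) :
    haveI := isNoetherian_PY n T
    prK n T (pullR (KRR.pr n T) a * hypCl n T ^ c) = (n + c).choose c • a := by
  haveI := isNoetherian_PY n T
  have h1 := pushPr_mul_pull (kvb_isModel (KRR.PY n T)) (kvb_isModel T) (prK_spec n T)
    (isPull_pullK (KRR.pr n T)) (hypCl n T ^ c) a
  have h2 : prK n T (hypCl n T ^ c) = (n + c).choose c • (1 : SGA6.Kvb T) := by
    have h := pushPr_twist_nonneg (prK_spec n T) c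
    simp only [AddMonoidHom.id_apply] at h
    rw [(kvb_isModel T).map_one.symm, AddMonoidHom.id_apply, ← h]
    refine congrArg _ ((cl_twistOver (kvb_isModel (KRR.PY n T)) c).symm.trans ?_)
    exact cl_iso_vb (EGA73.tensUnitRight _).symm (vb_twF (vb_structure _) _)
  show prK n T (pullK (KRR.pr n T) a * hypCl n T ^ c) = _
  rw [mul_comm, h1, h2, smul_mul_assoc, one_mul]

/-- The hyperplane class pulls back to the hyperplane class. -/
lemma pullK_hyp {n : ℕ} {W T : Scheme.{u}} (f : W ⟶ KRR.PY n T) :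
    pullK f (hypCl n T) = KRR.cl W ((Scheme.Modules.pullback (f ≫ toZ n T)).obj
      (Twist.twistProjSpace n (ULift.{u} ℤ) 1)) := by
  rw [hypCl, pullK_cl f (vb_of_isInvertible (isInvertible_twistOver n T 1))]
  exact clg_iso ((Scheme.Modules.pullbackComp f (toZ n T)).app _)
    (vb_pullback _ (vb_of_isInvertible (Var76.Reg.isInvertible_twist 1)))

lemma pullK_pullK {A B C : Scheme.{u}} (f : A ⟶ B) (g : B ⟶ C) (x : SGA6.Kvb C) :
    pullK f (pullK g x) = pullK (f ≫ g) x :=
  DFunLike.congr_fun (hom_ext₀ (P := KRR.vbP C) (g := (pullK f).comp (pullK g)) (g' := pullK (f ≫ g))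
    fun M hM => by
      show pullK f (pullK g (KRR.cl C M)) = pullK (f ≫ g) (KRR.cl C M)
      rw [pullK_cl g hM, pullK_cl f (vb_pullback g hM), pullK_cl _ hM]
      exact clg_iso ((Scheme.Modules.pullbackComp f g).app M) (vb_pullback _ hM)) x

/-- Exchanging the factors of a tower commutes with the projections on `K`. -/
theorem prK_swap (n m : ℕ) {Z : Scheme.{u}} [IsNoetherian Z] [ConnectedSpace ↥Z]
    (x : SGA6.Kvb (KRR.PY n (KRR.PY m Z))) :
    haveI := isNoetherian_PY m Z
    haveI := isNoetherian_PY n Z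
    prK m Z (prK n (KRR.PY m Z) x) = prK n Z (prK m (KRR.PY n Z) (pullK (swapPY m n Z) x)) := by
  haveI := isNoetherian_PY m Z
  haveI := isNoetherian_PY n Z
  haveI := isNoetherian_PY n (KRR.PY m Z)
  haveI := isNoetherian_PY m (KRR.PY n Z)
  refine DFunLike.congr_fun (eq_of_gens ((prK m Z).comp (prK n (KRR.PY m Z)))
    (((prK n Z).comp (prK m (KRR.PY n Z))).comp (pullK (swapPY m n Z))) fun a c => ?_) x
  let R := pullR (swapPY m n Z)
  let Rn := pullR (KRR.pr m (KRR.PY n Z))
  show prK m Z (prK n (KRR.PY m Z) _) = prK n Z (prK m (KRR.PY n Z) (R _))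
  rw [prK_gen]
  refine DFunLike.congr_fun (eq_of_gens
    ((prK m Z).comp ((n + c).choose c • AddMonoidHom.id _))
    (((prK n Z).comp (prK m (KRR.PY n Z))).comp
      ((R.toAddMonoidHom.comp (AddMonoidHom.mulRight (hypCl n (KRR.PY m Z) ^ c))).comp
        (pullR (KRR.pr n (KRR.PY m Z))).toAddMonoidHom)) fun y d => ?_) a
  show prK m Z ((n + c).choose c • (pullR (KRR.pr m Z) y * hypCl m Z ^ d)) =
    prK n Z (prK m (KRR.PY n Z) (R (pullR (KRR.pr n (KRR.PY m Z)) (pullR (KRR.pr m Z) y * hypCl m Z ^ d) *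
      hypCl n (KRR.PY m Z) ^ c)))
  rw [map_nsmul, prK_gen, smul_smul]
  have e1 : R (pullR (KRR.pr n (KRR.PY m Z)) (pullR (KRR.pr m Z) y)) = Rn (pullR (KRR.pr n Z) y) := by
    show pullK _ (pullK _ (pullK _ y)) = pullK _ (pullK _ y)
    rw [pullK_pullK, pullK_pullK, pullK_pullK, ← swapPY_map m n Z]
    simp [projSpaceMap_pr]
  have e2 : R (pullR (KRR.pr n (KRR.PY m Z)) (hypCl m Z)) = hypCl m (KRR.PY n Z) := by
    show pullK _ (pullK _ (hypCl m Z)) = _
    rw [pullK_pullK, pullK_hyp, Category.assoc, ← swapPY_toZ n m Z, ← Category.assoc, swapPY_swapPY,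
      Category.id_comp]
    rfl
  have e3 : R (hypCl n (KRR.PY m Z)) = Rn (hypCl n Z) := by
    show pullK _ _ = pullK _ _
    rw [pullK_hyp, pullK_hyp, swapPY_toZ]
  rw [map_mul R, map_mul (pullR (KRR.pr n (KRR.PY m Z))), map_mul R, map_pow (pullR (KRR.pr n (KRR.PY m Z))),
    map_pow R, map_pow R, e1, e2, e3, mul_right_comm, ← map_pow Rn, ← map_mul Rn,
    prK_gen, map_nsmul, prK_gen, smul_smul, mul_comm]

end tower

section core

variable {n m : ℕ} {X Z : Scheme.{u}} [IsNoetherian X] [ConnectedSpace ↥X] [IsNoetherian Z] [ConnectedSpace ↥Z]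

/-- Push-forward along a closed immersion factors through a section. -/
theorem prK_clK_map {W : Scheme.{u}} [IsNoetherian W] [ConnectedSpace ↥W] (hW : KRR.HasEnoughLocFree W)
    (i : X ⟶ W) (hi : Mor2.IsRegularClosedImmersion i) (s : X ⟶ KRR.PY n X) (hs : s ≫ KRR.pr n X = 𝟙 X)
    (h : Mor2.IsRegularClosedImmersion (s ≫ KRR.projSpaceMap n i)) (x : SGA6.Kvb X) :
    haveI := isNoetherian_PY n W
    prK n W (clK (s ≫ KRR.projSpaceMap n i) h (hasEnough_PY n hW) x) = clK i hi hW x := by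
  haveI := isNoetherian_PY n W
  haveI := isNoetherian_PY n X
  haveI := hi.1
  have hX := hasEnough_of_closedImmersion i hW
  have hsr := isRegularClosedImmersion_pr_section s hs
  have hj := isRegularClosedImmersion_projSpaceMap i n hi
  rw [clK_comp s _ hsr hj h (hasEnough_PY n hX) (hasEnough_PY n hW)]
  refine Eq.trans (DFunLike.congr_fun (pushCl_pushPr_comm hi hW (hasEnough_PY n hW) (φX := AddMonoidHom.id _)
    (φY := AddMonoidHom.id _) Function.bijective_id (kvb_isModel (KRR.PY n X)) (kvb_isModel (KRR.PY n W))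
    (clK_spec i hi hW) (clK_spec _ hj (hasEnough_PY n hW)) (prK_spec n X) (prK_spec n W)) _).symm ?_
  exact congrArg (clK i hi hW) (DFunLike.congr_fun (pushPr_pushCl_section n (hasEnough_PY n hX) s hs hsr
    (kvb_isModel (KRR.PY n X)) (kvb_isModel X) (clK_spec s hsr (hasEnough_PY n hX)) (prK_spec n X)) x)

variable (f : X ⟶ Z) (i₁ : X ⟶ KRR.PY n Z) (i₂ : X ⟶ KRR.PY m Z)
  (h₁ : Mor2.IsRegularClosedImmersion i₁) (h₂ : Mor2.IsRegularClosedImmersion i₂)
  (hf₁ : i₁ ≫ KRR.pr n Z = f) (hf₂ : i₂ ≫ KRR.pr m Z = f)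

include hf₁ hf₂

/-- The push-forward does not depend on the factorization. -/
theorem prK_clK_eq (hZ : KRR.HasEnoughLocFree Z) (x : SGA6.Kvb X) :
    haveI := isNoetherian_PY n Z
    haveI := isNoetherian_PY m Z
    prK n Z (clK i₁ h₁ (hasEnough_PY n hZ) x) = prK m Z (clK i₂ h₂ (hasEnough_PY m hZ) x) := by
  haveI := isNoetherian_PY n Z
  haveI := isNoetherian_PY m Z
  haveI := isNoetherian_PY n (KRR.PY m Z)
  haveI := isNoetherian_PY m (KRR.PY n Z)
  haveI := isNoetherian_PY n X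
  haveI := h₁.1
  haveI := h₂.1
  have eZn := hasEnough_PY n hZ
  have eZm := hasEnough_PY m hZ
  let s : X ⟶ KRR.PY n X := liftPY (i₁ ≫ toZ n Z) (𝟙 X)
  let t : X ⟶ KRR.PY m X := liftPY (i₂ ≫ toZ m Z) (𝟙 X)
  have hc : Mor2.IsRegularClosedImmersion (s ≫ KRR.projSpaceMap n i₂) :=
    Div89.RegComp.isRegularClosedImmersion_comp _ _ (isRegularClosedImmersion_pr_section s (liftPY_pr _ _))
      (isRegularClosedImmersion_projSpaceMap i₂ n h₂)
  have hc' : Mor2.IsRegularClosedImmersion (t ≫ KRR.projSpaceMap m i₁) :=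
    Div89.RegComp.isRegularClosedImmersion_comp _ _ (isRegularClosedImmersion_pr_section t (liftPY_pr _ _))
      (isRegularClosedImmersion_projSpaceMap i₁ m h₁)
  have hcc : (s ≫ KRR.projSpaceMap n i₂) ≫ (swapIso n m Z).hom = t ≫ KRR.projSpaceMap m i₁ := by
    refine hom_ext_PY ?_ ?_
    · simp [swapIso, projSpaceMap_toZ, pjMap_pr_assoc, s, t]
    · refine hom_ext_PY ?_ ?_
      · simp [swapIso, projSpaceMap_toZ, projSpaceMap_pr, s, t]
      · simp [swapIso, projSpaceMap_pr, pjMap_pr_assoc, s, t, hf₁, hf₂]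
  rw [← prK_clK_map (n := n) eZm i₂ h₂ s (liftPY_pr _ _) hc x,
    ← prK_clK_map (n := m) eZn i₁ h₁ t (liftPY_pr _ _) hc' x, prK_swap n m]
  refine congrArg (fun z => prK n Z (prK m (KRR.PY n Z) z)) ?_
  have hσ := isRegularClosedImmersion_iso (swapIso n m Z)
  have hcσ : Mor2.IsRegularClosedImmersion ((s ≫ KRR.projSpaceMap n i₂) ≫ (swapIso n m Z).hom) :=
    hcc.symm ▸ hc'
  rw [show pullK (swapPY m n Z) = pullK (swapIso n m Z).inv from rfl,
    ← clK_iso (swapIso n m Z) (hasEnough_PY m eZn), ← clK_comp _ _ hc hσ hcσ (hasEnough_PY n eZm),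
    clK_congr hcc hcσ hc']

end core

section comp

variable {n m l : ℕ} {X Y Z : Scheme.{u}} [IsNoetherian X] [ConnectedSpace ↥X] [IsNoetherian Y]
  [ConnectedSpace ↥Y] [IsNoetherian Z] [ConnectedSpace ↥Z]

/-- The push-forward is functorial. -/
theorem prK_clK_comp (i : X ⟶ KRR.PY n Y) (hi : Mor2.IsRegularClosedImmersion i)
    (j : Y ⟶ KRR.PY m Z) (hj : Mor2.IsRegularClosedImmersion j)
    (k : X ⟶ KRR.PY l Z) (hk : Mor2.IsRegularClosedImmersion k)
    (h : k ≫ KRR.pr l Z = (i ≫ KRR.pr n Y) ≫ j ≫ KRR.pr m Z)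
    (hY : KRR.HasEnoughLocFree Y) (hZ : KRR.HasEnoughLocFree Z) (x : SGA6.Kvb X) :
    haveI := isNoetherian_PY n Y
    haveI := isNoetherian_PY m Z
    haveI := isNoetherian_PY l Z
    prK l Z (clK k hk (hasEnough_PY l hZ) x) =
      prK m Z (clK j hj (hasEnough_PY m hZ) (prK n Y (clK i hi (hasEnough_PY n hY) x))) := by
  haveI := isNoetherian_PY n Y
  haveI := isNoetherian_PY m Z
  haveI := isNoetherian_PY l Z
  haveI := isNoetherian_PY n (KRR.PY m Z)
  haveI := isNoetherian_PY l (KRR.PY m Z)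
  haveI := isNoetherian_PY m (KRR.PY l Z)
  haveI := isNoetherian_PY m X
  haveI := hi.1
  haveI := hj.1
  haveI := hk.1
  have eYn := hasEnough_PY n hY
  have eZm := hasEnough_PY m hZ
  have eZl := hasEnough_PY l hZ
  have hJ := isRegularClosedImmersion_projSpaceMap j n hj
  have hc := Div89.RegComp.isRegularClosedImmersion_comp i _ hi hJ
  let u : X ⟶ KRR.PY m X := liftPY ((i ≫ KRR.pr n Y) ≫ j ≫ toZ m Z) (𝟙 X)
  have hd : Mor2.IsRegularClosedImmersion (u ≫ KRR.projSpaceMap m k) :=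
    Div89.RegComp.isRegularClosedImmersion_comp _ _ (isRegularClosedImmersion_pr_section u (liftPY_pr _ _))
      (isRegularClosedImmersion_projSpaceMap k m hk)
  have hσ := isRegularClosedImmersion_iso (swapIso m l Z)
  have he := Div89.RegComp.isRegularClosedImmersion_comp _ _ hd hσ
  have hpr : ((u ≫ KRR.projSpaceMap m k) ≫ (swapIso m l Z).hom) ≫ KRR.pr l (KRR.PY m Z) =
      (i ≫ KRR.pr n Y) ≫ j := by
    refine hom_ext_PY ?_ ?_
    · simp [swapIso, projSpaceMap_toZ, u]
    · simp [swapIso, projSpaceMap_pr, pjMap_pr_assoc, u, h]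
  have hback : ((u ≫ KRR.projSpaceMap m k) ≫ (swapIso m l Z).hom) ≫ (swapIso l m Z).hom =
      u ≫ KRR.projSpaceMap m k := by
    simp [swapIso, swapPY_swapPY]
  have hσ' := isRegularClosedImmersion_iso (swapIso l m Z)
  have hec : Mor2.IsRegularClosedImmersion
      (((u ≫ KRR.projSpaceMap m k) ≫ (swapIso m l Z).hom) ≫ (swapIso l m Z).hom) := hback.symm ▸ hd
  have e1 : clK j hj eZm (prK n Y (clK i hi eYn x)) =
      prK n (KRR.PY m Z) (clK (i ≫ KRR.projSpaceMap n j) hc (hasEnough_PY n eZm) x) := by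
    rw [clK_comp i _ hi hJ hc eYn (hasEnough_PY n eZm)]
    exact DFunLike.congr_fun (pushCl_pushPr_comm hj eZm (hasEnough_PY n eZm) (φX := AddMonoidHom.id _)
      (φY := AddMonoidHom.id _) Function.bijective_id (kvb_isModel (KRR.PY n Y))
      (kvb_isModel (KRR.PY n (KRR.PY m Z))) (clK_spec j hj eZm) (clK_spec _ hJ (hasEnough_PY n eZm))
      (prK_spec n Y) (prK_spec n (KRR.PY m Z))) _
  rw [e1, prK_clK_eq ((i ≫ KRR.pr n Y) ≫ j) (i ≫ KRR.projSpaceMap n j) _ hc he
    (by rw [Category.assoc, Category.assoc, projSpaceMap_pr]) hpr eZm x, prK_swap]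
  rw [show pullK (swapPY m l Z) = pullK (swapIso l m Z).inv from rfl,
    ← clK_iso (swapIso l m Z) (hasEnough_PY m eZl), ← clK_comp _ _ he hσ' hec (hasEnough_PY l eZm),
    clK_congr hback hec hd, prK_clK_map eZl k hk u (liftPY_pr _ _) hd]

end comp

end Groth.Agent.KRR40
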