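import Groth.Agent.KRR40.PushMap
import Groth.Agent.KRR40.PnUnit

/-!
The push-forward on modules without higher direct images in non-negative twists.
-/

set_option autoImplicit false
set_option linter.style.haveILetI false
set_option backward.isDefEq.respectTransparency.types false
set_option maxSynthPendingDepth 6

noncomputable section

universe u v w

open CategoryTheory CategoryTheory.Limits AlgebraicGeometry
open scoped ZeroObject

namespace Groth.Agent.KRR40

variable {n : ℕ} {T : Scheme.{u}}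

/-- No higher direct images in non-negative twists. -/
def Acy (n : ℕ) (T : Scheme.{u}) (F : (KRR.PY n T).Modules) : Prop :=
  ∀ d : ℤ, 0 ≤ d → ∀ i : ℕ, 1 ≤ i → Van n T F i d

lemma Acy.isZero_Rpush {F : (KRR.PY n T).Modules} (h : Acy n T F) (i : ℕ) (hi : 1 ≤ i) :
    IsZero ((Coh.RpushAb (KRR.pr n T) i).obj (Coh.toAb F)) := by
  obtain ⟨e⟩ := nonempty_twF_zero n T F
  exact (h 0 le_rfl i hi).of_iso ((RF (KRR.pr n T) i).mapIso e.symm)

lemma Acy.twF {F : (KRR.PY n T).Modules} (h : Acy n T F) {e : ℤ} (he : 0 ≤ e) :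
    Acy n T (KRR.twF n T e F) := fun d hd i hi => (van_twF_iff n T F rfl).2 (h (d + e) (by omega) i hi)

lemma Acy.of_iso {F G : (KRR.PY n T).Modules} (e : F ≅ G) (h : Acy n T F) : Acy n T G :=
  fun d hd i hi => van_congr n T e (h d hd i hi)

lemma acy_of_isZero {F : (KRR.PY n T).Modules} (h : IsZero F) : Acy n T F := fun d _ i _ =>
  Functor.map_isZero (RF (KRR.pr n T) i) (Functor.map_isZero (DCoh.tensorBi.obj (Twist.twistOver n T d)) h)

lemma acy_of_rReg {F : (KRR.PY n T).Modules} (hF : Coh.IsQCoh F) {m : ℕ} (h : RReg n T F m) (hm : m = 0) :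
    Acy n T F := fun d hd i hi => by
  subst hm
  exact h.van hF hi (by omega)

lemma acy_X₂ {S : ShortComplex (KRR.PY n T).Modules} (hS : S.ShortExact) (h₁ : Acy n T S.X₁)
    (h₃ : Acy n T S.X₃) : Acy n T S.X₂ := fun d hd i hi => by
  obtain ⟨Δ⟩ := RD97.nonempty_derivedLES (Coh.pushAb (KRR.pr n T))
  exact (Δ.exact₂ _ (twSeq_shortExact n T d hS) i).isZero_X₂ ((h₁ d hd i hi).eq_of_src _ _)
    ((h₃ d hd i hi).eq_of_tgt _ _)

lemma acy_X₃ {S : ShortComplex (KRR.PY n T).Modules} (hS : S.ShortExact) (h₁ : Acy n T S.X₁)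
    (h₂ : Acy n T S.X₂) : Acy n T S.X₃ := fun d hd i hi => by
  obtain ⟨Δ⟩ := RD97.nonempty_derivedLES (Coh.pushAb (KRR.pr n T))
  exact (Δ.exact₃ _ (twSeq_shortExact n T d hS) i (i + 1) rfl).isZero_X₂ ((h₂ d hd i hi).eq_of_src _ _)
    ((h₁ d hd (i + 1) (by omega)).eq_of_tgt _ _)

variable [IsNoetherian T]

lemma shortExact_push_of_acy {S : ShortComplex (KRR.PY n T).Modules} (hS : S.ShortExact) (h₁ : Acy n T S.X₁) :
    (S.map (Scheme.Modules.pushforward (KRR.pr n T))).ShortExact := by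
  have h : ((S.map (Scheme.Modules.pushforward (KRR.pr n T))).map (abFun T)).ShortExact :=
    pushSh_shortExact_of_isZero (KRR.pr n T).base (hS.map_of_exact (abFun (KRR.PY n T)))
      (h₁.isZero_Rpush 1 le_rfl)
  haveI : (abFun T).Faithful := inferInstanceAs (SheafOfModules.toSheaf T.ringCatSheaf).Faithful
  exact { exact := (ShortComplex.exact_map_iff_of_faithful _ (abFun T)).1 h.exact
          mono_f := (abFun T).mono_of_mono_map h.mono_f
          epi_g := (abFun T).epi_of_epi_map h.epi_g }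

variable {KP : Type v} {KY : Type w} [CommRing KP] [CommRing KY] {φP : SGA6.Kvb (KRR.PY n T) →+ KP}
  {φY : SGA6.Kvb T →+ KY} {g : KP →+ KY} (hg : KRR.IsPushPr n T φP φY g)

include hg in
/-- The push-forward is given by the direct image when there are no higher direct images. -/
theorem pushPr_eq_of_acy {F : (KRR.PY n T).Modules} (hF : FlatMod.IsFinLocFree F) (h : Acy n T F) :
    g (φP (KRR.cl (KRR.PY n T) F)) = φY (KRR.cl T ((Scheme.Modules.pushforward (KRR.pr n T)).obj F)) := by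
  haveI := isLocallyNoetherian_PY n T
  obtain ⟨m, hm⟩ := exists_rReg hF
  let δ : (KRR.PY n T).Modules → KY := fun M => g (φP (KRR.cl (KRR.PY n T) M)) -
    φY (KRR.cl T ((Scheme.Modules.pushforward (KRR.pr n T)).obj M))
  suffices key : ∀ (k : ℕ) (M : (KRR.PY n T).Modules), FlatMod.IsFinLocFree M → Acy n T M → RReg n T M k → δ M = 0 from
    sub_eq_zero.1 (key m F hF h hm)
  have hδ : ∀ S : ShortComplex (KRR.PY n T).Modules, S.ShortExact →
      FlatMod.IsFinLocFree S.X₁ ∧ Acy n T S.X₁ → FlatMod.IsFinLocFree S.X₂ ∧ Acy n T S.X₂ →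
      FlatMod.IsFinLocFree S.X₃ ∧ Acy n T S.X₃ → δ S.X₂ = δ S.X₁ + δ S.X₃ := by
    intro S hS h₁ h₂ h₃
    have e1 : KRR.cl _ S.X₂ = KRR.cl _ S.X₁ + KRR.cl _ S.X₃ := K0Res3.cls_add (P := KRR.vbP _) S hS h₁.1 h₂.1 h₃.1
    have e2 : KRR.cl T ((Scheme.Modules.pushforward (KRR.pr n T)).obj S.X₂) =
        KRR.cl T ((Scheme.Modules.pushforward (KRR.pr n T)).obj S.X₁) +
          KRR.cl T ((Scheme.Modules.pushforward (KRR.pr n T)).obj S.X₃) :=
      K0Res3.cls_add (P := KRR.vbP T) _ (shortExact_push_of_acy hS h₁.2) (finLocFree_pushPr h₁.1 h₁.2.isZero_Rpush)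
        (finLocFree_pushPr h₂.1 h₂.2.isZero_Rpush) (finLocFree_pushPr h₃.1 h₃.2.isZero_Rpush)
    simp only [δ, e1, e2, map_add]
    abel
  intro k
  induction k with
  | zero =>
    intro M hM _ hr
    exact sub_eq_zero.2 (hg M hM ((rReg_zero_iff n T M).1 (by simpa using hr)))
  | succ k ih =>
    intro M hM hA hr
    let Q : AltData (KRR.PY n T).Modules KY :=
      { P₁ := fun M => FlatMod.IsFinLocFree M
        P₂ := Acy n T
        f := δ
        zero₁ := fun _ h => vb_of_isZero h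
        zero₂ := fun _ h => acy_of_isZero h
        left₁ := fun _ hS h₂ h₃ => vb_X₁ hS h₂ h₃
        right₂ := fun _ hS h₁ h₂ => acy_X₃ hS h₁ h₂
        ext₁ := fun _ hS h₁ h₃ => vb_X₂ hS h₁ h₃
        ext₂ := fun _ hS h₁ h₃ => acy_X₂ hS h₁ h₃
        add := hδ }
    have hiso : ∀ {A B : (KRR.PY n T).Modules}, (A ≅ B) → FlatMod.IsFinLocFree B ∧ Acy n T B → δ A = δ B :=
      fun {A B} e hB => eq_of_iso_of_add δ (fun M => FlatMod.IsFinLocFree M ∧ Acy n T M) hδ
        ⟨vb_of_isZero (isZero_zero _), acy_of_isZero (isZero_zero _)⟩ e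
        ⟨vb_iso e.symm hB.1, hB.2.of_iso e.symm⟩ hB
    have hP : ∀ d : ℤ, 0 ≤ d → FlatMod.IsFinLocFree (KRR.twF n T d M) ∧ Acy n T (KRR.twF n T d M) :=
      fun d hd => ⟨vb_twF hM d, hA.twF hd⟩
    have key := rel_of_altData Q M
      (fun d hd A hAe => ⟨vb_iso hAe.some.symm (hP d hd).1, (hP d hd).2.of_iso hAe.some.symm⟩)
      (fun d => δ (KRR.twF n T d M)) (fun d hd A hAe => hiso hAe.some (hP d hd))
    obtain ⟨e⟩ := nonempty_twF_zero n T M
    rw [← hiso e ⟨hM, hA⟩, ← eq_of_iterDiff_eq_zero _ n key]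
    rw [iterDiff_congr (g' := fun _ => (0 : KY)) (n + 1) 0 fun d hd _ => by
      split
      · rfl
      · exact ih _ (hP d hd).1 (hP d hd).2
          ((rReg_twF_iff n T M d k).2 (hr.mono (Props58.LocFree.isQuasicoherent_of_isFinLocFree hM)
            (by push_cast; omega)))]
    have hz : ∀ (j : ℕ) (d : ℤ), iterDiff (fun _ : ℤ => (0 : KY)) j d = 0 := by
      intro j
      induction j with
      | zero => exact fun _ => rfl
      | succ j hj => exact fun d => by simp only [iterDiff, hj, sub_zero]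
    rw [hz, smul_zero]

end Groth.Agent.KRR40
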