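import Groth.Agent.Var76.RegMaps
import Groth.Agent.Amp73.ProjGen

/-!
Serre vanishing on projective space over a Noetherian ring.
-/

set_option autoImplicit false
set_option linter.style.haveILetI false
set_option backward.isDefEq.respectTransparency.types false
set_option maxSynthPendingDepth 6

noncomputable section

universe u

open CategoryTheory CategoryTheory.Limits AlgebraicGeometry TopologicalSpace Opposite
open Groth.Agent.Var76.Reg

namespace Groth.Agent.KRR40

variable (n : ℕ) (A : Type u) [CommRing A] [IsNoetherianRing A]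

theorem isLocallyNoetherian_projSpace : IsLocallyNoetherian (CohB1.ProjSpace n A) := by
  haveI := Serre71.isProper_projSpace n A
  exact LocallyOfFiniteType.isLocallyNoetherian (CohB1.ProjSpace.toSpec n A)

/-- Eventual vanishing in one degree, by descending induction. -/
theorem exists_vanish_deg : ∀ (j : ℕ) (G : (CohB1.ProjSpace n A).Modules), Coh.IsCoh G → ∀ q : ℕ, 1 ≤ q →
    n + 1 ≤ q + j → ∃ J : ℤ, ∀ d : ℤ, J ≤ d → Subsingleton (Coh.HH _ (tw n A G d) q) := by
  classical
  haveI := isLocallyNoetherian_projSpace n A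
  intro j
  induction j with
  | zero => exact fun G hG q _ hq => ⟨0, fun d _ => subsingleton_hh_gt n A _ (isQCoh_tw n A G hG.1 d) q (by omega)⟩
  | succ j ih =>
    intro G hG q hq hqj
    obtain ⟨a, ha⟩ := Amp73.exists_epi_negative_twists (𝒜 := CohB1.polyGrading n A) _ (fun f hf => by
      obtain ⟨i, -, rfl⟩ := Finset.mem_image.1 hf
      exact MvPolynomial.isHomogeneous_X A i) (ValVan29.generated (R := A) (N := n)) G hG
    obtain ⟨k, p, hp⟩ := ha a le_rfl
    let O : (CohB1.ProjSpace n A).Modules := Twist.twistProjSpace n A (-(a : ℤ))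
    let e : (⨁ fun _ : Fin k => O) ≅ (∐ fun _ : Fin k => O) := biproduct.isoCoproduct _
    let p' : (⨁ fun _ : Fin k => O) ⟶ G := e.hom ≫ p
    haveI : Epi p' := @epi_comp _ _ _ _ _ e.hom inferInstance p hp
    have hO : Coh.IsCoh O := Amp73.isCoh_of_isInvertible (Var76.Reg.isInvertible_twist _)
    have hK : Coh.IsCoh (kernel p') := QC70.isCoh_kernel p' (QC70.isCoh_biproduct _ fun _ => hO) hG.1
    obtain ⟨J, hJ⟩ := ih (kernel p') hK (q + 1) (by omega) (by omega)
    refine ⟨max J a, fun d hd => ?_⟩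
    have hfl := Mero90.isFinLocFreeOfRank_of_isInvertible (Var76.Reg.isInvertible_twist (n := n) (A := A) d)
    obtain ⟨T, hT, h1, h2, h3⟩ := Crv77.shortExact_twist hfl (KData.kernel_shortExact p')
    show Subsingleton (Coh.HH _ (CohB1.tensorMod G (Twist.twistProjSpace n A d)) q)
    rw [← h3]
    refine ValVan29.subsingleton_hh_X₃ hT q ?_ (h1 ▸ hJ d (le_of_max_le_left hd))
    rw [h2]
    refine QC70.biproduct_induction
      (fun M => Subsingleton (Coh.HH _ (CohB1.tensorMod M (Twist.twistProjSpace n A d)) q))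
      (fun M h => ValVan29.subsingleton_hh_of_isZero
        (ValVan29.isZero_tensorMod h (Var76.Reg.isInvertible_twist d)) q)
      (fun S hS h₁ h₃ => ?_) _ fun _ => ?_
    · obtain ⟨T, hT, h1, h2, h3⟩ := Crv77.shortExact_twist hfl hS
      rw [← h2]
      exact ValVan29.subsingleton_hh_X₂ hT q (h1 ▸ h₁) (h3 ▸ h₃)
    · obtain ⟨t⟩ := EGA73.nonempty_twist_tensor_iso (𝒜 := CohB1.polyGrading n A) (hgen n A) (-(a : ℤ)) d
      refine ValVan29.subsingleton_hh_of_iso t.symm q ?_
      exact Pn71.subsingleton_hh n A (-(a : ℤ) + d) q (fun h => by omega) (fun h => by omega)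

/-- Serre vanishing. -/
theorem exists_vanish_noetherian (G : (CohB1.ProjSpace n A).Modules) (hG : Coh.IsCoh G) :
    ∃ J : ℤ, ∀ d : ℤ, J ≤ d → ∀ q : ℕ, 1 ≤ q → Subsingleton (Coh.HH _ (tw n A G d) q) := by
  classical
  choose J hJ using fun q : Fin n => exists_vanish_deg n A n G hG (q + 1) (by omega) (by omega)
  obtain ⟨B, hB⟩ := Finite.exists_le J
  refine ⟨B, fun d hd q hq => ?_⟩
  rcases le_or_gt q n with h | h
  · obtain ⟨i, rfl⟩ : ∃ i, q = i + 1 := ⟨q - 1, by omega⟩
    exact hJ ⟨i, by omega⟩ d ((hB _).trans hd)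
  · exact subsingleton_hh_gt n A _ (isQCoh_tw n A G hG.1 d) q h

end Groth.Agent.KRR40
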