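import Groth.Agent.KRR40.Pull
import Groth.Agent.KRR40.Regular
import Groth.Agent.KRR40.PC

/-!
Inverse image of a resolution away from the support of the resolved module.
-/

set_option autoImplicit false
set_option linter.style.haveILetI false
set_option backward.isDefEq.respectTransparency.types false

noncomputable section

universe u

open CategoryTheory CategoryTheory.Limits AlgebraicGeometry
open Groth.Agent.DCK91 Groth.Agent.QC70

namespace Groth.Agent.KRR40

variable {Z Y : Scheme.{u}} (h : Z ⟶ Y)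

/-- A short exact sequence whose quotient is projective at the image stays exact under inverse image. -/
theorem shortExact_pullback_of_proj {S : ShortComplex Y.Modules} (hS : S.ShortExact)
    (h₃ : ∀ z : Z, HasProjectiveDimensionLE ((SP (h z)).obj S.X₃) 0) :
    (S.map (Scheme.Modules.pullback h)).ShortExact := by
  refine shortExact_of_stalks _ fun x => ?_
  have hy := hS.map_of_exact (SP (h x))
  haveI : Projective (S.map (SP (h x))).X₃ := (projective_iff_hasProjectiveDimensionLE_zero _).mpr (h₃ x)
  haveI : (extF h x).Additive :=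
    (ModuleCat.extendRestrictScalarsAdj.{u, u, u} (h.stalkMap x).hom).left_adjoint_additive
  exact ShortComplex.shortExact_of_iso (S.mapNatIso (pullStalkIso h x))
    (hy.splittingOfProjective.map (extF h x)).shortExact

variable [IsLocallyNoetherian Y]

/-- The inverse image of a coherent module with free stalks along the image is finite locally free. -/
theorem vb_pullback_of_proj {M : Y.Modules} (hM : Coh.IsCoh M)
    (hp : ∀ z : Z, HasProjectiveDimensionLE ((SP (h z)).obj M) 0) :
    FlatMod.IsFinLocFree ((Scheme.Modules.pullback h).obj M) := by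
  obtain ⟨U, hU, hvb⟩ := Div89.exists_open_freeLocus hM
  have hr : Set.range h ⊆ Set.range U.ι := by
    rw [Scheme.Opens.range_ι]
    rintro _ ⟨z, rfl⟩
    exact (hU _).2 ((hasPD_zero_iff_free hM _).1 (hp z))
  let h' := IsOpenImmersion.lift U.ι h hr
  have e : h' ≫ U.ι = h := IsOpenImmersion.lift_fac _ _ _
  exact LimTop61.isFinLocFree_of_iso
    ((Scheme.Modules.pullback h').mapIso ((Scheme.Modules.restrictFunctorIsoPullback U.ι).app M) ≪≫
      (Scheme.Modules.pullbackComp h' U.ι).app M ≪≫ (Scheme.Modules.pullbackCongr e).app M)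
    (vb_pullback h' hvb)

variable [IsLocallyNoetherian Z]

/-- The alternating sum of the inverse images of the terms of a resolution of a module whose stalks
vanish along the image is zero. -/
theorem sum_pullback_eq_zero {F : Y.Modules} {n : ℕ} {L : ChainComplex Y.Modules ℕ}
    {π : L ⟶ (ChainComplex.single₀ Y.Modules).obj F} (hL : KRR.IsLFRes F n L π)
    (hF : ∀ z : Z, IsZero ((SP (h z)).obj F)) :
    ∑ k ∈ Finset.range (n + 1), (-1 : ℤ) ^ k • KRR.cl Z ((Scheme.Modules.pullback h).obj (L.X k)) = 0 := by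
  haveI := hL.quasiIso
  have hex : ∀ i, 1 ≤ i → L.ExactAt i := fun i hi => by
    obtain ⟨j, rfl⟩ : ∃ j, i = j + 1 := ⟨i - 1, by omega⟩
    rw [← quasiIsoAt_iff_exactAt' π (j + 1) (ChainComplex.exactAt_succ_single_obj F j)]
    infer_instance
  let e : L.homology 0 ≅ F := isoOfQuasiIsoAt π 0 ≪≫ HomologicalComplex.singleObjHomologySelfIso _ 0 F
  -- stalks along the image
  have hX : ∀ (z : Z) (k : ℕ), HasProjectiveDimensionLE ((SP (h z)).obj (L.X k)) 0 :=
    fun z k => pd_zero_of_isFinLocFree (hL.finLocFree k) (h z)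
  have h0 : ∀ z : Z, HasProjectiveDimensionLE ((SP (h z)).obj (L.cycles 0)) 0 := fun z =>
    haveI := hX z 0
    hasProjectiveDimensionLT_of_iso ((SP (h z)).mapIso (cycles_zero_iso L).some.symm) _
  have hB : ∀ z : Z, HasProjectiveDimensionLE ((SP (h z)).obj (kernel (L.homologyπ 0))) 0 := fun z => by
    haveI := ((hF z).of_iso ((SP (h z)).mapIso e)).hasProjectiveDimensionLT_zero
    exact ((degZero_shortExact L).map_of_exact (SP (h z))).hasProjectiveDimensionLT_X₁ 1 (h0 z)
      (hasProjectiveDimensionLT_of_ge ((SP (h z)).obj (L.homology 0)) 0 2 (by omega))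
  have hZ : ∀ (z : Z) (k : ℕ), HasProjectiveDimensionLE ((SP (h z)).obj (L.cycles (k + 1))) 0 := by
    intro z k
    induction k with
    | zero =>
      haveI := hB z
      exact ((degOne_shortExact L).map_of_exact (SP (h z))).hasProjectiveDimensionLT_X₁ 1 (hX z 1)
        (hasProjectiveDimensionLT_of_ge ((SP (h z)).obj (kernel (L.homologyπ 0))) 1 2 (by omega))
    | succ k ih =>
      haveI := ih
      exact ((cyclesSeq_shortExact L (hex (k + 1) (by omega))).map_of_exact (SP (h z))).hasProjectiveDimensionLT_X₁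
        1 (hX z (k + 2)) (hasProjectiveDimensionLT_of_ge ((SP (h z)).obj (L.cycles (k + 1))) 1 2 (by omega))
  -- coherence
  have cX : ∀ k, Coh.IsCoh (L.X k) := fun k => isCoh_of_vb (hL.finLocFree k)
  have c0 : Coh.IsCoh (L.cycles 0) := isCoh_of_iso (cycles_zero_iso L).some.symm (cX 0)
  have cZ : ∀ k, Coh.IsCoh (L.cycles (k + 1)) := fun k =>
    isCoh_of_iso (IsLimit.conePointUniqueUpToIso (kernelIsKernel (L.d (k + 1) k))
      (L.cyclesIsKernel (k + 1) k (by simp))) (isCoh_kernel _ (cX _) (cX _).1)
  have cH : Coh.IsCoh (L.homology 0) :=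
    isCoh_of_iso ((cokernelIsCokernel _).coconePointUniqueUpToIso (L.homologyIsCokernel 1 0 (by simp)))
      (isCoh_cokernel (L.toCycles 1 0) (cX 1).1 c0)
  have cB : Coh.IsCoh (kernel (L.homologyπ 0)) := isCoh_kernel _ c0 cH.1
  -- the classes
  let Φ : Y.Modules → SGA6.Kvb Z := fun M => KRR.cl Z ((Scheme.Modules.pullback h).obj M)
  have add : ∀ S : ShortComplex Y.Modules, S.ShortExact → Coh.IsCoh S.X₁ → Coh.IsCoh S.X₂ → Coh.IsCoh S.X₃ →
      (∀ z : Z, HasProjectiveDimensionLE ((SP (h z)).obj S.X₁) 0) →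
      (∀ z : Z, HasProjectiveDimensionLE ((SP (h z)).obj S.X₂) 0) →
      (∀ z : Z, HasProjectiveDimensionLE ((SP (h z)).obj S.X₃) 0) → Φ S.X₂ = Φ S.X₁ + Φ S.X₃ :=
    fun S hS a b c a' b' c' => K0Res3.cls_add (P := KRR.vbP Z) _ (shortExact_pullback_of_proj h hS c')
      (vb_pullback_of_proj h a a') (vb_pullback_of_proj h b b') (vb_pullback_of_proj h c c')
  have zero : ∀ M : Y.Modules, IsZero M → Φ M = 0 := fun M hM =>
    cls_of_isZero (P := KRR.vbP Z) ((Scheme.Modules.pullback h).map_isZero hM)
      (vb_of_isZero ((Scheme.Modules.pullback h).map_isZero hM))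
  have hFz : Φ (L.homology 0) = 0 := by
    refine cls_of_isZero (P := KRR.vbP Z) ?_ ?_
    · refine isZero_of_stalks fun z => ?_
      exact ((extF h z).map_isZero ((hF z).of_iso ((SP (h z)).mapIso e))).of_iso ((pullStalkIso h z).app _).symm
    · refine vb_pullback_of_proj h cH fun z => ?_
      haveI := ((hF z).of_iso ((SP (h z)).mapIso e)).hasProjectiveDimensionLT_zero
      exact hasProjectiveDimensionLT_of_ge _ 0 1 (by omega)
  have pH : ∀ z : Z, HasProjectiveDimensionLE ((SP (h z)).obj (L.homology 0)) 0 := fun z => by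
    haveI := ((hF z).of_iso ((SP (h z)).mapIso e)).hasProjectiveDimensionLT_zero
    exact hasProjectiveDimensionLT_of_ge _ 0 1 (by omega)
  have e0 : Φ (L.X 0) = Φ (kernel (L.homologyπ 0)) := by
    have a : Φ (L.cycles 0) = Φ (L.X 0) :=
      haveI : (KRR.vbP Z).IsClosedUnderIsomorphisms := ⟨fun e h => vb_iso e h⟩
      cls_iso (P := KRR.vbP Z) ((Scheme.Modules.pullback h).mapIso (cycles_zero_iso L).some)
        (vb_pullback_of_proj h c0 h0) (fun _ => vb_of_isZero)
    rw [← a]
    refine (add _ (degZero_shortExact L) cB c0 cH hB h0 pH).trans ?_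
    show Φ (kernel (L.homologyπ 0)) + Φ (L.homology 0) = _
    rw [hFz, add_zero]
  let z : ℕ → SGA6.Kvb Z := fun k => if k = 0 then Φ (kernel (L.homologyπ 0)) else Φ (L.cycles k)
  have hx : ∀ k, Φ (L.X (k + 1)) = z (k + 1) + z k := fun k => by
    cases k with
    | zero => exact add _ (degOne_shortExact L) (cZ 0) (cX 1) cB (fun w => hZ w 0) (fun w => hX w 1) hB
    | succ k =>
      exact add _ (cyclesSeq_shortExact L (hex (k + 1) (by omega))) (cZ (k + 1)) (cX _) (cZ k)
        (fun w => hZ w (k + 1)) (fun w => hX w (k + 2)) (fun w => hZ w k)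
  have tele : ∀ m, ∑ k ∈ Finset.range (m + 1), (-1 : ℤ) ^ k • Φ (L.X k) = (-1 : ℤ) ^ m • z m := by
    intro m
    induction m with
    | zero => simp [z, e0]
    | succ m ih =>
      rw [Finset.sum_range_succ, ih, hx m, pow_succ, mul_neg_one, smul_add, neg_smul, neg_smul]
      abel
  have hzn : z n = 0 := by
    have h1 := hx n
    rw [zero (L.X (n + 1)) (hL.isZero (n + 1) (by omega))] at h1
    have h2 : z (n + 1) = 0 := by
      simp only [z, Nat.add_one_ne_zero, if_false]
      exact zero _ (IsZero.of_mono (L.iCycles (n + 1)) (hL.isZero _ (by omega)))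
    rw [h2, zero_add] at h1
    exact h1.symm
  have := tele n
  rw [hzn, smul_zero] at this
  exact this

end Groth.Agent.KRR40
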