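import Groth.Agent.KRR40.PushVB
import Groth.Agent.KRR40.KRegular
import Groth.Agent.KRR40.EventReg

/-!
The push-forward from projective space over a Noetherian base on the Grothendieck groups.
-/

set_option autoImplicit false
set_option linter.style.haveILetI false
set_option backward.isDefEq.respectTransparency.types false
set_option maxSynthPendingDepth 6

noncomputable section

universe u v

open CategoryTheory CategoryTheory.Limits AlgebraicGeometry

namespace Groth.Agent.KRR40

variable (n : ℕ) (T : Scheme.{u}) [IsNoetherian T]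

/-- Regular bundles compute the whole group. -/
theorem bijective_regK
    (h : ∀ M : (KRR.PY n T).Modules, regP n T M → FlatMod.IsFinLocFree M) :
    Function.Bijective (SGA6.mapSub (𝟭 (KRR.PY n T).Modules) (regP n T) (KRR.vbP (KRR.PY n T)) h) := by
  haveI := isLocallyNoetherian_PY n T
  refine bijective_of_regular (fun F hF => exists_rReg hF) _ fun M hM => ?_
  rw [clr, show KZero.clSub (regP n T) M = _ from K0Res3.cls_eq (P := regP n T) hM, KRR.cl,
    show KZero.clSub (KRR.vbP _) M = _ from K0Res3.cls_eq (P := KRR.vbP (KRR.PY n T)) (h M hM)]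
  rfl

variable {n T}

lemma finLocFree_pushPr_of_reg {F : (KRR.PY n T).Modules} (hF : FlatMod.IsFinLocFree F)
    (hreg : KRR.IsRegSheaf n T F) : FlatMod.IsFinLocFree ((Scheme.Modules.pushforward (KRR.pr n T)).obj F) :=
  finLocFree_pushPr hF fun i hi =>
    isZero_Rpush_of_reg n T F (Props58.LocFree.isQuasicoherent_of_isFinLocFree hF) hreg i hi

lemma shortExact_push_of_reg {S : ShortComplex (KRR.PY n T).Modules} (hS : S.ShortExact)
    (h₁ : regP n T S.X₁) : (S.map (Scheme.Modules.pushforward (KRR.pr n T))).ShortExact := by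
  haveI := hS.mono_f
  haveI := hS.epi_g
  have hz := isZero_Rpush_of_reg n T S.X₁ (Props58.LocFree.isQuasicoherent_of_isFinLocFree h₁.1) h₁.2 1 le_rfl
  have h := pushSh_shortExact_of_isZero (KRR.pr n T).base (hS.map_of_exact (abFun (KRR.PY n T))) hz
  have h' : ((S.map (Scheme.Modules.pushforward (KRR.pr n T))).map (abFun T)).ShortExact := h
  haveI : (abFun T).Faithful := inferInstanceAs (SheafOfModules.toSheaf T.ringCatSheaf).Faithful
  exact { exact := (ShortComplex.exact_map_iff_of_faithful _ (abFun T)).1 h'.exact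
          mono_f := (abFun T).mono_of_mono_map h'.mono_f
          epi_g := (abFun T).epi_of_epi_map h'.epi_g }

variable (n T) in
/-- The push-forward of regular bundles. -/
def pushReg : KZero.K0sub (regP n T) →+ SGA6.Kvb T :=
  QuotientAddGroup.lift _
    (FreeAbelianGroup.lift fun F => KRR.cl T ((Scheme.Modules.pushforward (KRR.pr n T)).obj F.1)) (by
      rw [KZero.relSub, AddSubgroup.closure_le]
      rintro x ⟨S, h₁, h₂, h₃, hS, rfl⟩
      simp only [SetLike.mem_coe, AddMonoidHom.mem_ker, map_sub, FreeAbelianGroup.lift_apply_of]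
      rw [sub_sub, sub_eq_zero]
      exact K0Res3.cls_add (P := KRR.vbP T) (S.map (Scheme.Modules.pushforward (KRR.pr n T)))
        (shortExact_push_of_reg hS h₁) (finLocFree_pushPr_of_reg h₁.1 h₁.2) (finLocFree_pushPr_of_reg h₂.1 h₂.2)
        (finLocFree_pushPr_of_reg h₃.1 h₃.2))

theorem existsUnique_pushPr {KP : Type v} {KY : Type v} [CommRing KP] [CommRing KY]
    (φP : SGA6.Kvb (KRR.PY n T) →+ KP) (hφ : Function.Bijective φP) (φY : SGA6.Kvb T →+ KY) :
    ∃! g : KP →+ KY, KRR.IsPushPr n T φP φY g := by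
  let ι := SGA6.mapSub (𝟭 (KRR.PY n T).Modules) (regP n T) (KRR.vbP (KRR.PY n T)) fun _ h => h.1
  have hι : Function.Bijective (φP.comp ι) := hφ.comp (bijective_regK n T fun _ h => h.1)
  let e := AddEquiv.ofBijective (φP.comp ι) hι
  have key : ∀ (F : (KRR.PY n T).Modules) (hF : regP n T F),
      φP (KRR.cl (KRR.PY n T) F) = e (clr n T F) := fun F hF => by
    show _ = φP (ι (clr n T F))
    rw [clr, show KZero.clSub (regP n T) F = _ from K0Res3.cls_eq (P := regP n T) hF, KRR.cl,
      show KZero.clSub (KRR.vbP _) F = _ from K0Res3.cls_eq (P := KRR.vbP (KRR.PY n T)) hF.1]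
    rfl
  refine ⟨(φY.comp (pushReg n T)).comp e.symm.toAddMonoidHom, fun F hF hreg => ?_, fun g hg => ?_⟩
  · show φY (pushReg n T (e.symm _)) = _
    rw [key F ⟨hF, hreg⟩, AddEquiv.symm_apply_apply]
    rw [clr, show KZero.clSub (regP n T) F = _ from K0Res3.cls_eq (P := regP n T) ⟨hF, hreg⟩]
    exact congrArg φY (FreeAbelianGroup.lift_apply_of _ _)
  · have h2 : g.comp e.toAddMonoidHom = φY.comp (pushReg n T) := by
      refine QuotientAddGroup.addMonoidHom_ext _ (FreeAbelianGroup.lift_ext _ _ fun F => ?_)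
      have e0 : (QuotientAddGroup.mk' (KZero.relSub (regP n T))) (FreeAbelianGroup.of F) = clr n T F.1 :=
        (K0Res3.cls_eq (P := regP n T) F.2).symm
      show g (e ((QuotientAddGroup.mk' _) (FreeAbelianGroup.of F))) = φY (pushReg n T ((QuotientAddGroup.mk' _) (FreeAbelianGroup.of F)))
      rw [show φY (pushReg n T ((QuotientAddGroup.mk' _) (FreeAbelianGroup.of F))) = _
        from congrArg φY (FreeAbelianGroup.lift_apply_of _ _), e0, ← key _ F.2]
      exact hg F.1 F.2.1 F.2.2
    refine AddMonoidHom.ext fun x => ?_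
    have := DFunLike.congr_fun h2 (e.symm x)
    simp only [AddMonoidHom.comp_apply, AddEquiv.coe_toAddMonoidHom, AddEquiv.apply_symm_apply] at this ⊢
    exact this

theorem eventually_finLocFree_push {F : (KRR.PY n T).Modules} (hF : FlatMod.IsFinLocFree F) :
    ∃ m₀ : ℕ, ∀ m : ℕ, m₀ ≤ m →
      FlatMod.IsFinLocFree ((Scheme.Modules.pushforward (KRR.pr n T)).obj (KRR.twF n T (m : ℤ) F)) := by
  haveI := isLocallyNoetherian_PY n T
  obtain ⟨m₀, h⟩ := exists_rReg hF
  refine ⟨m₀, fun m hm => finLocFree_pushPr_of_reg (vb_twF hF _) ((rReg_zero_iff n T _).1 ?_)⟩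
  rw [rReg_twF_iff]
  exact h.mono (Props58.LocFree.isQuasicoherent_of_isFinLocFree hF) (by omega)

end Groth.Agent.KRR40
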