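import Groth.Agent.Var76.RegBasic
import Groth.Agent.Coh69.RelVanish
import Groth.Agent.Coh69.QcInd
import Groth.Agent.Approx60.Segre
import Groth.Prelude.Def_KRR

/-!
The coordinate covering of projective space over a base and the vanishing above the fibre dimension.
-/

set_option autoImplicit false
set_option linter.style.haveILetI false
set_option backward.isDefEq.respectTransparency.types false

noncomputable section

universe u

open CategoryTheory CategoryTheory.Limits AlgebraicGeometry TopologicalSpace Opposite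

namespace Groth.Agent.KRR40

/-- Vanishing above the number of affines inside an open with affine intersections. -/
theorem subsingleton_HE_iSup_within {X : Scheme.{u}} (W : X.Opens)
    (hd : ∀ V V' : X.Opens, IsAffineOpen V → V ≤ W → IsAffineOpen V' → V' ≤ W → IsAffineOpen (V ⊓ V'))
    (M : X.Modules) [M.IsQuasicoherent] :
    ∀ (t : ℕ) (U : Fin t → X.Opens), (∀ i, IsAffineOpen (U i)) → (∀ i, U i ≤ W) → ∀ n, t ≤ n →
      Subsingleton (Coh69.HE (Coh.toAb M) n (⨆ i, U i)) := by
  intro t
  induction t with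
  | zero =>
    intro U _ _ n _
    rw [show (⨆ i, U i) = ⊥ from iSup_of_empty U]
    cases n with
    | zero =>
      have := Coh69.subsingleton_sections_bot (Coh.toAb M)
      exact Coh69.subsingleton_HE_zero (Coh.toAb M) ⊥
    | succ m => exact Coh69.qcoh_subsingleton_HE M (isAffineOpen_bot X) m
  | succ t ih =>
    intro U hU hW n hn
    have e : (⨆ i, U i) = (⨆ i : Fin t, U i.succ) ⊔ U 0 := by
      refine le_antisymm (iSup_le fun i => ?_) (sup_le (iSup_le fun i => le_iSup U _) (le_iSup U 0))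
      induction i using Fin.cases with
      | zero => exact le_sup_right
      | succ i => exact le_sup_of_le_left (le_iSup (fun i : Fin t => U i.succ) i)
    obtain ⟨m, rfl⟩ : ∃ m, n = m + 1 := ⟨n - 1, by omega⟩
    rw [e]
    refine Coh69.subsingleton_HE_sup (Coh.toAb M) _ _ m ?_ (ih _ (fun i => hU _) (fun i => hW _) _ (by omega))
      (Coh69.qcoh_subsingleton_HE M (hU 0) m)
    rw [iSup_inf_eq]
    exact ih _ (fun i => hd _ _ (hU _) (hW _) (hU _) (hW _)) (fun i => inf_le_left.trans (hW _)) m (by omega)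

variable (n : ℕ) (T : Scheme.{u})

/-- The projection to `Pⁿ` over the integers. -/
abbrev toZ : KRR.PY n T ⟶ CohB1.ProjSpace n (ULift.{u} ℤ) :=
  pullback.fst (CohB1.ProjSpace.toSpec n (ULift.{u} ℤ)) (specULiftZIsTerminal.from T)

/-- The coordinate opens. -/
def cOpen (l : Fin (n + 1)) : (KRR.PY n T).Opens := toZ n T ⁻¹ᵁ Var76.Reg.xOpen n (ULift.{u} ℤ) l

lemma exists_mem_cOpen (x : KRR.PY n T) : ∃ l, x ∈ cOpen n T l :=
  Var76.Reg.exists_mem_xOpen n (ULift.{u} ℤ) (toZ n T x)

instance isSeparated_pr : IsSeparated (KRR.pr n T) := (Approx60.Segre.isProper_toBase n T).toIsSeparated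

instance quasiCompact_pr : QuasiCompact (KRR.pr n T) :=
  haveI := Approx60.Segre.isProper_toBase n T
  inferInstance

/-- The projection restricted to a coordinate open is affine. -/
lemma isAffineHom_cOpen (l : Fin (n + 1)) : IsAffineHom ((cOpen n T l).ι ≫ KRR.pr n T) := by
  let U := Var76.Reg.xOpen n (ULift.{u} ℤ) l
  haveI : IsAffine (U : Scheme.{u}) := Var76.Reg.isAffineOpen_xOpen n (ULift.{u} ℤ) l
  have h : IsPullback ((cOpen n T l).ι ≫ KRR.pr n T) (toZ n T ∣_ U) (specULiftZIsTerminal.from T)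
      (U.ι ≫ CohB1.ProjSpace.toSpec n (ULift.{u} ℤ)) :=
    (isPullback_morphismRestrict (toZ n T) U).flip.paste_horiz (IsPullback.of_hasPullback
      (CohB1.ProjSpace.toSpec n (ULift.{u} ℤ)) (specULiftZIsTerminal.from T)).flip
  exact MorphismProperty.of_isPullback (P := @IsAffineHom) h.flip inferInstance

lemma isAffineOpen_cOpen (l : Fin (n + 1)) {V : T.Opens} (hV : IsAffineOpen V) :
    IsAffineOpen (cOpen n T l ⊓ KRR.pr n T ⁻¹ᵁ V) := by
  haveI := isAffineHom_cOpen n T l
  have h := (hV.preimage ((cOpen n T l).ι ≫ KRR.pr n T)).image_of_isOpenImmersion (cOpen n T l).ι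
  rwa [Scheme.Hom.comp_preimage, Scheme.Hom.image_preimage_eq_opensRange_inf, Scheme.Opens.opensRange_ι] at h

/-- Higher direct images of quasi-coherent modules vanish above degree `n`. -/
theorem isZero_RpushAb_gt (M : (KRR.PY n T).Modules) [M.IsQuasicoherent] (q : ℕ) (hq : n + 1 ≤ q) :
    IsZero ((Coh.RpushAb (KRR.pr n T) q).obj (Coh.toAb M)) :=
  Coh69.isZero_RpushAb_of_subsingleton _ _ _ fun U y hy => by
    obtain ⟨V, hV, hyV, hVU⟩ := exists_isAffineOpen_mem_and_subset hy
    refine ⟨V, hVU, hyV, ?_⟩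
    have hd : ∀ A B : (KRR.PY n T).Opens, IsAffineOpen A → A ≤ KRR.pr n T ⁻¹ᵁ V → IsAffineOpen B →
        B ≤ KRR.pr n T ⁻¹ᵁ V → IsAffineOpen (A ⊓ B) := fun A B hA hA' hB hB' =>
      isAffineHom_diagonal_iff.mp inferInstance V hV A hA' B hB' hA hB
    have h := subsingleton_HE_iSup_within _ hd M (n + 1) (fun l => cOpen n T l ⊓ KRR.pr n T ⁻¹ᵁ V)
      (fun l => isAffineOpen_cOpen n T l hV) (fun l => inf_le_right) q hq
    rwa [show (⨆ l, cOpen n T l ⊓ KRR.pr n T ⁻¹ᵁ V) = KRR.pr n T ⁻¹ᵁ V from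
      le_antisymm (iSup_le fun l => inf_le_right) fun x hx => by
        obtain ⟨l, hl⟩ := exists_mem_cOpen n T x
        exact Opens.mem_iSup.2 ⟨l, hl, hx⟩] at h

end Groth.Agent.KRR40
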