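import Groth.Prelude.Def_KRR
import Mathlib.AlgebraicGeometry.ProjectiveSpectrum.Basic
import Mathlib.RingTheory.MvPolynomial.Homogeneous

/-!
Projective space over any base has a section.
-/

set_option autoImplicit false
set_option backward.isDefEq.respectTransparency.types false

noncomputable section

universe u

open CategoryTheory CategoryTheory.Limits AlgebraicGeometry

namespace Groth.Agent.KRR40

variable (n : ℕ)

/-- The coordinate point `(1 : 0 : ⋯ : 0)` over the integers. -/
def coordPtZ : Spec (CommRingCat.of (ULift.{u} ℤ)) ⟶ CohB1.ProjSpace n (ULift.{u} ℤ) :=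
  let ev : MvPolynomial (Fin (n + 1)) (ULift.{u} ℤ) →+* ULift.{u} ℤ :=
    MvPolynomial.eval (fun i => if i = 0 then 1 else 0)
  Spec.map (CommRingCat.ofHom ((Localization.awayLift ev (MvPolynomial.X 0)
      (show IsUnit (ev (MvPolynomial.X 0)) by
        rw [show ev (MvPolynomial.X 0) = 1 from by simp [ev]]; exact isUnit_one)).comp
    (algebraMap (HomogeneousLocalization.Away (CohB1.polyGrading n (ULift.{u} ℤ)) (MvPolynomial.X 0))
      (Localization.Away (MvPolynomial.X (R := ULift.{u} ℤ) (0 : Fin (n + 1))))))) ≫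
    Proj.awayι (CohB1.polyGrading n (ULift.{u} ℤ)) (MvPolynomial.X 0)
      ((MvPolynomial.mem_homogeneousSubmodule 1 _).2 (MvPolynomial.isHomogeneous_X _ _)) one_pos

/-- The constant section of `Pⁿ_S ⟶ S`. -/
def coordSec (S : Scheme.{u}) : S ⟶ KRR.PY n S :=
  pullback.lift (specULiftZIsTerminal.from S ≫ coordPtZ n) (𝟙 S) (specULiftZIsTerminal.hom_ext _ _)

@[reassoc (attr := simp)]
lemma coordSec_pr (S : Scheme.{u}) : coordSec n S ≫ KRR.pr n S = 𝟙 S :=
  pullback.lift_snd _ _ _

end Groth.Agent.KRR40
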