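import Groth.Agent.Kvb46.Local
import Groth.Agent.KRR40.KvbRing
import Groth.Agent.QCqs72.Basic
import Groth.Agent.LimTop61.PullBC
import Groth.Agent.KRR40.Pull
import Groth.Agent.Mum71.TensorSec

/-!
Modules locally free of rank at most one, and padding a finite locally free module to constant rank.
-/

set_option autoImplicit false
set_option linter.style.haveILetI false
set_option backward.isDefEq.respectTransparency.types false

noncomputable section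

universe u

open CategoryTheory CategoryTheory.Limits AlgebraicGeometry TopologicalSpace Opposite

namespace Groth.Agent.KRR40.SpecialPad

open Groth.Agent QC70

variable {X Y : Scheme.{u}}

/-- Free of rank `k` on the affine opens inside `U`. -/
def BasisOn (M : X.Modules) (U : X.Opens) (k : ℕ) : Prop :=
  ∀ W : X.affineOpens, W.1 ≤ U → Nonempty (Module.Basis (Fin k) Γ(X, W.1) Γ(M, W.1))

/-- Locally free with ranks between `m` and `N`. -/
def RankIn (M : X.Modules) (m N : ℕ) : Prop :=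
  FlatMod.IsFinLocFree M ∧ ∀ x : X, ∃ (U : X.Opens) (k : ℕ), x ∈ U ∧ m ≤ k ∧ k ≤ N ∧ BasisOn M U k

theorem basisOn_of_iso {M : X.Modules} {U : X.Opens} {k : ℕ} (i : M.restrict U.ι ≅ FlatMod.freeMod (U : Scheme.{u}) k) :
    BasisOn M U k := by
  obtain ⟨s, hs⟩ := Props58.LocFree.exists_stalkBasis_of_iso i
  refine fun W hW => ⟨Module.Basis.ofEquivFun (LinearEquiv.ofBijective
    (Fintype.linearCombination Γ(X, W.1) fun j => res M hW (s j)) ?_).symm⟩
  refine (congrArg Function.Bijective (funext fun a => ?_)).mp (hs.bijective hW)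
  simp [Fintype.linearCombination_apply]

theorem rankIn_of_rank {M : X.Modules} {n : ℕ} (h : FlatMod.IsFinLocFreeOfRank n M) : RankIn M n n := by
  refine ⟨fun x => ?_, fun x => ?_⟩
  · obtain ⟨U, hx, hU⟩ := h x
    exact ⟨U, n, hx, hU⟩
  · obtain ⟨U, hx, ⟨i⟩⟩ := h x
    exact ⟨U, n, hx, le_rfl, le_rfl, basisOn_of_iso i⟩

theorem rank_of_rankIn {M : X.Modules} {n : ℕ} (h : RankIn M n n) : FlatMod.IsFinLocFreeOfRank n M := by
  haveI := Props58.LocFree.isQuasicoherent_of_isFinLocFree h.1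
  intro x
  obtain ⟨U, k, hxU, h1, h2, hb⟩ := h.2 x
  obtain rfl : k = n := le_antisymm h2 h1
  obtain ⟨W, hW, hxW, hle⟩ := exists_isAffineOpen_mem_and_subset hxU
  obtain ⟨b⟩ := hb ⟨W, hW⟩ hle
  exact ⟨W, hxW, FlatMor68.LocFree.restrict_iso_free M hW k b.equivFun⟩

theorem exists_rankIn [CompactSpace X] {M : X.Modules} (h : FlatMod.IsFinLocFree M) :
    ∃ N, RankIn M 0 N := by
  classical
  choose U k hx hU using h
  obtain ⟨S, hS⟩ := isCompact_univ.elim_finite_subcover (fun x : X => (U x : Set X)) (fun x => (U x).2)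
    (fun x _ => Set.mem_iUnion.2 ⟨x, hx x⟩)
  refine ⟨S.sup k, fun x => ⟨U x, k x, hx x, hU x⟩, fun x => ?_⟩
  obtain ⟨y, hy, hxy⟩ := Set.mem_iUnion₂.1 (hS (Set.mem_univ x))
  exact ⟨U y, k y, hxy, Nat.zero_le _, Finset.le_sup hy, basisOn_of_iso (hU y).some⟩

theorem flf_of_basisOn {M : X.Modules} [M.IsQuasicoherent]
    (h : ∀ x : X, ∃ (U : X.Opens) (k : ℕ), x ∈ U ∧ BasisOn M U k) : FlatMod.IsFinLocFree M := by
  refine FlatMor68.LocFree.isFinLocFree_of_sections M fun x => ?_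
  obtain ⟨U, k, hxU, hb⟩ := h x
  obtain ⟨W, hW, hxW, hle⟩ := exists_isAffineOpen_mem_and_subset hxU
  obtain ⟨b⟩ := hb ⟨W, hW⟩ hle
  exact ⟨W, hW, hxW, Module.Free.of_basis b, Module.Finite.of_basis b⟩

/-- Locally free of rank at most one. -/
abbrev LE1 (L : X.Modules) : Prop := RankIn L 0 1

theorem le1_of_rank_one {L : X.Modules} (h : FlatMod.IsFinLocFreeOfRank 1 L) : LE1 L :=
  ⟨(rankIn_of_rank h).1, fun x => by
    obtain ⟨U, k, hx, h1, h2, hb⟩ := (rankIn_of_rank h).2 x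
    exact ⟨U, k, hx, Nat.zero_le _, h2, hb⟩⟩

theorem le1_tensor {L L' : X.Modules} (h : LE1 L) (h' : LE1 L') : LE1 (CohB1.tensorMod L L') := by
  haveI := Props58.LocFree.isQuasicoherent_of_isFinLocFree h.1
  haveI := Props58.LocFree.isQuasicoherent_of_isFinLocFree h'.1
  refine ⟨Kvb46.isFinLocFree_tensor h.1 h'.1, fun x => ?_⟩
  obtain ⟨U, k, hxU, -, hk, hb⟩ := h.2 x
  obtain ⟨U', k', hxU', -, hk', hb'⟩ := h'.2 x
  refine ⟨U ⊓ U', k * k', ⟨hxU, hxU'⟩, Nat.zero_le _, Nat.mul_le_mul hk hk', fun W hW => ?_⟩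
  obtain ⟨b⟩ := hb W (hW.trans inf_le_left)
  obtain ⟨b'⟩ := hb' W (hW.trans inf_le_right)
  obtain ⟨eT, -⟩ := Mum71.exists_tensor_equiv L L' W.2
  exact ⟨((b.tensorProduct b').map eT).reindex finProdFinEquiv⟩

theorem le1_pullback (f : Y ⟶ X) {L : X.Modules} (h : LE1 L) : LE1 ((Scheme.Modules.pullback f).obj L) := by
  haveI := Props58.LocFree.isQuasicoherent_of_isFinLocFree h.1
  refine ⟨KRR40.vb_pullback f h.1, fun y => ?_⟩
  obtain ⟨U, k, hxU, -, hk, hb⟩ := h.2 (f y)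
  obtain ⟨W, hW, hxW, hle⟩ := exists_isAffineOpen_mem_and_subset hxU
  obtain ⟨b⟩ := hb ⟨W, hW⟩ hle
  refine ⟨f ⁻¹ᵁ W, k, hxW, Nat.zero_le _, hk, fun V hV => ?_⟩
  let _ := (f.appLE W V.1 hV).hom.toAlgebra
  obtain ⟨e, -⟩ := LimTop61.exists_baseChange_equiv f L hW V.2 hV
  exact ⟨(b.baseChange Γ(Y, V.1)).map e.symm⟩

/-- The higher exterior powers vanish. -/
theorem isZero_extPow {L L' : X.Modules} (h : LE1 L) {p : ℕ} (hp : 2 ≤ p) (hL' : ExtPow.IsExtPow p L L') :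
    IsZero L' := by
  obtain ⟨φ, -⟩ := hL'
  refine (IsZero.iff_id_eq_zero _).2 (RB70.hom_ext_affine fun V m =>
    QC70.section_ext L' _ _ fun q hq => ?_)
  obtain ⟨U, k, hqU, -, hk, hb⟩ := h.2 q
  obtain ⟨W, hW, hqW, hle⟩ := exists_isAffineOpen_mem_and_subset (show q ∈ V.1 ⊓ U from ⟨hq, hqU⟩)
  obtain ⟨b⟩ := hb ⟨W, hW⟩ fun y hy => (hle hy).2
  haveI : IsEmpty (Set.powersetCard (Fin k) p) := ⟨fun t => by
    have := t.1.card_le_univ
    rw [t.2, Fintype.card_fin] at this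
    omega⟩
  haveI : Subsingleton ↥(⋀[Γ(X, W)]^p Γ(L, W)) := (b.exteriorPower p).repr.toEquiv.subsingleton
  haveI : Subsingleton Γ(L', W) :=
    ⟨fun a c => (φ ⟨W, hW⟩).injective ((b.exteriorPower p).repr.injective (Subsingleton.elim _ _))⟩
  exact ⟨W, fun y hy => (hle hy).1, hqW, Subsingleton.elim _ _⟩

/-- Sections of a biproduct. -/
def biprodSec (M M' : X.Modules) (W : X.Opens) :
    Γ(M ⊞ M', W) ≃ₗ[Γ(X, W)] (Γ(M, W) × Γ(M', W)) where
  toFun s := ((biprod.fst : M ⊞ M' ⟶ M).app W s, (biprod.snd : M ⊞ M' ⟶ M').app W s)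
  map_add' s t := by simp [map_add]
  map_smul' r s := by simp [Scheme.Modules.Hom.app_smul]
  invFun p := (biprod.inl : M ⟶ M ⊞ M').app W p.1 + (biprod.inr : M' ⟶ M ⊞ M').app W p.2
  left_inv s := by
    have h := congrArg (fun φ : M ⊞ M' ⟶ M ⊞ M' => φ.app W s) (biprod.total (X := M) (Y := M'))
    exact h
  right_inv p := by
    have h1 : ∀ a, (biprod.fst : M ⊞ M' ⟶ M).app W ((biprod.inl : M ⟶ M ⊞ M').app W a) = a := fun a =>
      congrArg (fun φ : M ⟶ M => φ.app W a) (biprod.inl_fst (X := M) (Y := M'))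
    have h2 : ∀ a, (biprod.fst : M ⊞ M' ⟶ M).app W ((biprod.inr : M' ⟶ M ⊞ M').app W a) = 0 := fun a =>
      congrArg (fun φ : M' ⟶ M => φ.app W a) (biprod.inr_fst (X := M) (Y := M'))
    have h3 : ∀ a, (biprod.snd : M ⊞ M' ⟶ M').app W ((biprod.inl : M ⟶ M ⊞ M').app W a) = 0 := fun a =>
      congrArg (fun φ : M ⟶ M' => φ.app W a) (biprod.inl_snd (X := M) (Y := M'))
    have h4 : ∀ a, (biprod.snd : M ⊞ M' ⟶ M').app W ((biprod.inr : M' ⟶ M ⊞ M').app W a) = a := fun a =>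
      congrArg (fun φ : M' ⟶ M' => φ.app W a) (biprod.inr_snd (X := M) (Y := M'))
    ext <;> simp [h1, h2, h3, h4]

theorem card_eq {M : X.Modules} {W : X.affineOpens} {x : X} (hx : x ∈ W.1) {k l : ℕ}
    (b : Module.Basis (Fin k) Γ(X, W.1) Γ(M, W.1)) (b' : Module.Basis (Fin l) Γ(X, W.1) Γ(M, W.1)) : k = l := by
  haveI : Nonempty ↥W.1 := ⟨⟨x, hx⟩⟩
  simpa using (Module.finrank_eq_card_basis b).symm.trans (Module.finrank_eq_card_basis b')

/-- One step of padding. -/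
theorem pad_step {E : X.Modules} {m N : ℕ} (hm : m < N) (hE : RankIn E m N) :
    ∃ L : X.Modules, LE1 L ∧ RankIn (E ⊞ L) (m + 1) N := by
  let A : X.Opens := sSup {U | BasisOn E U m}
  let B : X.Opens := sSup {U | ∃ k, m + 1 ≤ k ∧ k ≤ N ∧ BasisOn E U k}
  have hcov : ∀ x : X, x ∈ A ∨ x ∈ B := fun x => by
    obtain ⟨U, k, hx, h1, h2, hb⟩ := hE.2 x
    by_cases h : k = m
    · exact Or.inl (Opens.mem_sSup.2 ⟨U, by subst h; exact hb, hx⟩)
    · exact Or.inr (Opens.mem_sSup.2 ⟨U, ⟨k, by omega, h2, hb⟩, hx⟩)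
  have hdisj : ∀ x : X, x ∈ A → x ∈ B → False := fun x hA hB => by
    obtain ⟨U, hU, hxU⟩ := Opens.mem_sSup.1 hA
    obtain ⟨U', ⟨k, hk, -, hU'⟩, hxU'⟩ := Opens.mem_sSup.1 hB
    obtain ⟨W, hW, hxW, hle⟩ := exists_isAffineOpen_mem_and_subset (show x ∈ U ⊓ U' from ⟨hxU, hxU'⟩)
    obtain ⟨b⟩ := hU ⟨W, hW⟩ fun y hy => (hle hy).1
    obtain ⟨b'⟩ := hU' ⟨W, hW⟩ fun y hy => (hle hy).2
    have := card_eq (W := ⟨W, hW⟩) hxW b b'
    omega
  have hcl : IsClosed (Set.range A.ι) := by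
    rw [Scheme.Opens.range_ι, show (A : Set X) = (B : Set X)ᶜ from Set.ext fun x =>
      ⟨fun h hB => hdisj x h hB, fun h => (hcov x).resolve_right h⟩]
    exact B.2.isClosed_compl
  haveI : IsClosedImmersion A.ι := IsClosedImmersion.of_isPreimmersion A.ι hcl
  let S := Coh.structureModule (A : Scheme.{u})
  haveI : S.IsQuasicoherent :=
    Props58.LocFree.isQuasicoherent_of_isFinLocFree KRR40.vb_str
  let L : X.Modules := (Scheme.Modules.pushforward A.ι).obj S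
  haveI : L.IsQuasicoherent := QCqs72.isQuasicoherent_pushforward S A.ι
  have hin : ∀ W : X.affineOpens, W.1 ≤ A → Nonempty (Module.Basis (Fin 1) Γ(X, W.1) Γ(L, W.1)) := fun W hW => by
    haveI : IsIso (A.ι.app W.1) := A.ι.isIso_app W.1 (by rw [Scheme.Opens.opensRange_ι]; exact hW)
    have hb := ConcreteCategory.bijective_of_isIso (A.ι.app W.1)
    let φ : Γ(X, W.1) →ₗ[Γ(X, W.1)] Γ(L, W.1) :=
      { toFun := fun r => (A.ι.app W.1 r : Γ((A : Scheme.{u}), A.ι ⁻¹ᵁ W.1))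
        map_add' := fun a b => map_add _ a b
        map_smul' := fun a b => map_mul (A.ι.app W.1).hom a b }
    exact ⟨(Module.Basis.singleton (Fin 1) Γ(X, W.1)).map (LinearEquiv.ofBijective φ hb)⟩
  have hout : ∀ W : X.affineOpens, W.1 ≤ B → Nonempty (Module.Basis (Fin 0) Γ(X, W.1) Γ(L, W.1)) := fun W hW => by
    have hbot : A.ι ⁻¹ᵁ W.1 = ⊥ := by
      ext ⟨y, hy⟩
      exact ⟨fun h => (hdisj y hy (hW h)).elim, fun h => h.elim⟩
    haveI : Subsingleton Γ((A : Scheme.{u}), A.ι ⁻¹ᵁ W.1) := by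
      rw [hbot]
      infer_instance
    haveI : Subsingleton Γ(L, W.1) := ‹Subsingleton Γ((A : Scheme.{u}), A.ι ⁻¹ᵁ W.1)›
    exact ⟨Module.Basis.empty _⟩
  have hL : LE1 L := by
    have h : ∀ x : X, ∃ (U : X.Opens) (k : ℕ), x ∈ U ∧ 0 ≤ k ∧ k ≤ 1 ∧ BasisOn L U k := fun x =>
      (hcov x).elim (fun h => ⟨A, 1, h, zero_le_one, le_rfl, hin⟩) (fun h => ⟨B, 0, h, le_rfl, zero_le_one, hout⟩)
    exact ⟨flf_of_basisOn fun x => (h x).imp fun U ⟨k, hx, _, _, hb⟩ => ⟨k, hx, hb⟩, h⟩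
  have hsum : ∀ x : X, ∃ (U : X.Opens) (k : ℕ), x ∈ U ∧ m + 1 ≤ k ∧ k ≤ N ∧ BasisOn (E ⊞ L) U k := fun x => by
    rcases hcov x with hA | hB
    · obtain ⟨U, hU, hxU⟩ := Opens.mem_sSup.1 hA
      refine ⟨U ⊓ A, m + 1, ⟨hxU, hA⟩, le_rfl, hm, fun W hW => ?_⟩
      obtain ⟨b⟩ := hU W (hW.trans inf_le_left)
      obtain ⟨c⟩ := hin W (hW.trans inf_le_right)
      exact ⟨((b.prod c).map (biprodSec E L W.1).symm).reindex finSumFinEquiv⟩
    · obtain ⟨U, ⟨k, h1, h2, hU⟩, hxU⟩ := Opens.mem_sSup.1 hB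
      refine ⟨U ⊓ B, k + 0, ⟨hxU, hB⟩, h1, h2, fun W hW => ?_⟩
      obtain ⟨b⟩ := hU W (hW.trans inf_le_left)
      obtain ⟨c⟩ := hout W (hW.trans inf_le_right)
      exact ⟨((b.prod c).map (biprodSec E L W.1).symm).reindex finSumFinEquiv⟩
  refine ⟨L, hL, Kvb46.isFinLocFree_of_shortExact
    (ShortComplex.mk (biprod.inl : E ⟶ E ⊞ L) biprod.snd biprod.inl_snd)
    (ShortComplex.Splitting.ofHasBinaryBiproduct E L).shortExact hE.1 hL.1, hsum⟩

/-- Padding to constant rank, on classes. -/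
theorem exists_pad : ∀ (d : ℕ) {E : X.Modules} {m N : ℕ}, N = m + d → RankIn E m N →
    ∃ (E' : X.Modules) (ls : List X.Modules), FlatMod.IsFinLocFreeOfRank N E' ∧ (∀ L ∈ ls, LE1 L) ∧
      KRR.cl X E' = KRR.cl X E + (ls.map fun L => KRR.cl X L).sum := by
  intro d
  induction d with
  | zero =>
    intro E m N h hE
    obtain rfl : N = m := h
    exact ⟨E, [], rank_of_rankIn hE, by simp, by simp⟩
  | succ d ih =>
    intro E m N h hE
    obtain ⟨L, hL, hEL⟩ := pad_step (show m < N by omega) hE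
    obtain ⟨E', ls, hE', hls, he⟩ := ih (m := m + 1) (by omega) hEL
    refine ⟨E', L :: ls, hE', fun M hM => (List.mem_cons.1 hM).elim (fun h => h ▸ hL) (hls M), ?_⟩
    have hadd : KRR.cl X (E ⊞ L) = KRR.cl X E + KRR.cl X L :=
      Kvb46.cl_add (ShortComplex.mk (biprod.inl : E ⟶ E ⊞ L) biprod.snd biprod.inl_snd)
        (ShortComplex.Splitting.ofHasBinaryBiproduct E L).shortExact hE.1 hEL.1 hL.1
    rw [he, hadd, List.map_cons, List.sum_cons, add_assoc]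

end Groth.Agent.KRR40.SpecialPad
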