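import Groth.Agent.Lam38.UnivZ
import Groth.Agent.Lambda37.Basic

/-!
The universal identities of a special λ-ring hold on the additive span of a multiplicative set of elements
whose higher operations vanish.
-/

set_option autoImplicit false

universe u v

namespace Groth.Agent.KRR40.SpecialSpan

open Finset MvPolynomial LambdaRing Groth.Agent

section Lines

variable {R : Type u} [CommRing R] [LambdaOps R]

/-- Products of elements with vanishing higher operations in a special ring. -/
theorem lam_mul_line (hR : IsSpecial R) {a b : R} (ha : ∀ j, 2 ≤ j → LambdaOps.lam j a = 0)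
    (hb : ∀ j, 2 ≤ j → LambdaOps.lam j b = 0) (n : ℕ) (hn : 2 ≤ n) : LambdaOps.lam n (a * b) = 0 := by
  classical
  obtain ⟨P, hP⟩ := Lambda37.exists_isMulPoly n
  let v : Fin n ⊕ Fin n → R := Sum.elim (fun k : Fin n => if (k : ℕ) = 0 then a else 0)
    (fun k : Fin n => if (k : ℕ) = 0 then b else 0)
  let ρ : MvPolynomial (Fin n ⊕ Fin n) ℤ →ₐ[ℤ] R := aeval v
  have hes : ∀ (x : R) (k : ℕ), aeval (fun i : Fin n => if (i : ℕ) = 0 then x else 0) (esymm (Fin n) ℤ (k + 1)) =
      if k = 0 then x else 0 := by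
    intro x k
    rw [esymm, map_sum]
    split_ifs with hk
    · subst hk
      rw [Finset.powersetCard_one, Finset.sum_map]
      simp only [Function.Embedding.coeFn_mk, Finset.prod_singleton, aeval_X]
      rw [Finset.sum_eq_single (⟨0, by omega⟩ : Fin n) (fun i _ hi => if_neg fun h => hi (Fin.ext h))
        (fun h => absurd (Finset.mem_univ _) h)]
      exact if_pos rfl
    · refine Finset.sum_eq_zero fun t ht => ?_
      rw [map_prod]
      obtain ⟨i, hi, hi0⟩ : ∃ i ∈ t, (i : ℕ) ≠ 0 := by
        by_contra! hne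
        have : t.card ≤ 1 := Finset.card_le_one.2 fun i hi j hj => Fin.ext ((hne i hi).trans (hne j hj).symm)
        rw [(Finset.mem_powersetCard.1 ht).2] at this
        omega
      exact Finset.prod_eq_zero hi (by rw [aeval_X, if_neg hi0])
  have hlam : ∀ x : R, (∀ j, 2 ≤ j → LambdaOps.lam j x = 0) → ∀ k : Fin n,
      LambdaOps.lam ((k : ℕ) + 1) x = if (k : ℕ) = 0 then x else 0 := by
    intro x hx k
    split_ifs with hk
    · rw [hk]; exact LambdaOps.lam_one x
    · exact hx _ (by omega)
  have key := congrArg ρ hP.1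
  rw [Lam38.map_aevalZ] at key
  rw [hR.lam_mul n P hP]
  refine Eq.trans ?_ (key.trans ?_)
  · congr 2
    funext s
    rcases s with k | k
    · show LambdaOps.lam ((k : ℕ) + 1) a = aeval v (rename Sum.inl (esymm (Fin n) ℤ ((k : ℕ) + 1)))
      rw [aeval_rename, hlam a ha]
      exact (hes a k).symm
    · show LambdaOps.lam ((k : ℕ) + 1) b = aeval v (rename Sum.inr (esymm (Fin n) ℤ ((k : ℕ) + 1)))
      rw [aeval_rename, hlam b hb]
      exact (hes b k).symm
  · rw [mulGen, Lam38.map_mesymm, Multiset.map_map]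
    rw [Multiset.esymm, Multiset.sum_eq_zero]
    intro z hz
    obtain ⟨t, ht, rfl⟩ := Multiset.mem_map.1 hz
    obtain ⟨htle, htc⟩ := Multiset.mem_powersetCard.1 ht
    by_contra hne
    let g : Fin n × Fin n → R := fun ab =>
      ρ (MvPolynomial.X (Sum.inl ab.1) * MvPolynomial.X (Sum.inr ab.2))
    have hsub : t ≤ ((Finset.univ : Finset (Fin n × Fin n)).val.map g).filter (fun z => z ≠ 0) :=
      Multiset.le_filter.2 ⟨htle, fun z hz hz0 => hne (Multiset.prod_eq_zero (hz0 ▸ hz))⟩
    have hc := Multiset.card_le_card hsub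
    rw [htc, Multiset.filter_map, Multiset.card_map] at hc
    have h1 : ((Finset.univ : Finset (Fin n × Fin n)).val.filter ((fun z => z ≠ 0) ∘ g)).card ≤ 1 := by
      rw [← Finset.filter_val, Finset.card_val]
      refine Finset.card_le_one.2 fun p hp q hq => ?_
      have h0 : ∀ p : Fin n × Fin n, g p ≠ 0 → (p.1 : ℕ) = 0 ∧ (p.2 : ℕ) = 0 := fun p hp => by
        simp only [g, ρ, v, map_mul, aeval_X, Sum.elim_inl, Sum.elim_inr] at hp
        constructor
        · by_contra h; exact hp (by rw [if_neg h, zero_mul])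
        · by_contra h; exact hp (by rw [if_neg h, mul_zero])
      obtain ⟨p1, p2⟩ := h0 p (Finset.mem_filter.1 hp).2
      obtain ⟨q1, q2⟩ := h0 q (Finset.mem_filter.1 hq).2
      exact Prod.ext (Fin.ext (p1.trans q1.symm)) (Fin.ext (p2.trans q2.symm))
    omega

end Lines

section Universal

variable {m : ℕ}

/-- Each generator has γ-operations only in degree one. -/
abbrev D1 (m : ℕ) : Fin m → ℕ∞ := fun _ => 1

/-- The universal special ring on `m` line elements. -/
abbrev U (m : ℕ) : Type := MvPolynomial (Lam38.Var (D1 m)) ℤ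

/-- The universal line elements. -/
noncomputable def line (s : Fin m) : U m := Lam38.gen (D1 m) ℤ s + 1

theorem lam_gen (s : Fin m) (n : ℕ) :
    LambdaOps.lam (n + 1) (Lam38.gen (D1 m) ℤ s) = (-1 : U m) ^ n * Lam38.gen (D1 m) ℤ s := by
  induction n using Nat.strong_induction_on with
  | _ n ih =>
    rcases n with _ | n
    · rw [LambdaOps.lam_one, pow_zero, one_mul]
    · rw [Lam38.lam_succ_eq_gamma, Lam38.gamma_genZ, Lam38.c_eq_zero ℤ s (n + 1) (by
        show ¬ (((n + 1 : ℕ) : ℕ∞) < 1)
        exact not_lt.2 (by exact_mod_cast Nat.le_add_left 1 n))]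
      rw [Finset.sum_congr rfl fun j hj => by rw [ih j (Finset.mem_range.1 hj), ← mul_assoc]]
      rw [← Finset.sum_mul, zero_sub, ← neg_mul]
      congr 1
      have h : (∑ j ∈ range (n + 1 + 1), (-1 : U m) ^ j * ((n + 1).choose j : U m)) = 0 := by
        have := Int.alternating_sum_range_choose_of_ne (n := n + 1) (Nat.succ_ne_zero n)
        have := congrArg (Int.cast : ℤ → U m) this
        push_cast at this
        exact this
      rw [Finset.sum_range_succ, Nat.choose_self, Nat.cast_one, mul_one] at h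
      rw [Finset.sum_congr rfl fun j _ => mul_comm _ _]
      linear_combination -h

theorem lam_line (s : Fin m) (n : ℕ) (hn : 2 ≤ n) : LambdaOps.lam n (line s) = 0 := by
  obtain ⟨k, rfl⟩ : ∃ k, n = k + 1 + 1 := ⟨n - 2, by omega⟩
  rw [line, LambdaOps.lam_add, Finset.sum_range_succ, Finset.sum_range_succ, Finset.sum_eq_zero, zero_add]
  · rw [Nat.sub_self, LambdaOps.lam_zero, mul_one,
      show k + 1 + 1 - (k + 1) = 1 by omega, LambdaOps.lam_one, mul_one, lam_gen, lam_gen, pow_succ]
    ring
  · intro j hj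
    rw [Lam38.isSpecialZ.lam_one_eq_zero _ (by have := Finset.mem_range.1 hj; omega), mul_zero]

variable {L : Type v} [CommRing L] [LambdaOps L]

/-- The evaluation sending the universal lines to given elements. -/
noncomputable def evL (a : Fin m → L) : U m →ₐ[ℤ] L := aeval fun v => a v.s - 1

theorem evL_gen (a : Fin m → L) (s : Fin m) : evL a (Lam38.gen (D1 m) ℤ s) = a s - 1 := by
  rw [Lam38.gen, show Lam38.c (D1 m) ℤ s 1 = X ⟨s, 0, by simp⟩ from Lam38.c_var ℤ ⟨s, 0, by simp⟩, evL, aeval_X]

theorem evL_line (a : Fin m → L) (s : Fin m) : evL a (line s) = a s := by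
  rw [line, map_add, map_one, evL_gen, sub_add_cancel]

/-- Monomials in the lines span the universal ring. -/
theorem mem_closure_monomials (z : U m) :
    z ∈ AddSubgroup.closure (Submonoid.closure (Set.range (line (m := m))) : Set (U m)) := by
  rw [← Subring.mem_closure_iff]
  induction z using MvPolynomial.induction_on with
  | C r => rw [eq_intCast (C : ℤ →+* U m) r]; exact intCast_mem _ r
  | add p q hp hq => exact add_mem hp hq
  | mul_X p v hp =>
    refine mul_mem hp ?_
    obtain ⟨s, j, hj⟩ := v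
    obtain rfl : j = 0 := by
      have h' : (j : ℕ∞) < 1 := hj
      have : j < 1 := by exact_mod_cast h'
      omega
    rw [show (X ⟨s, 0, hj⟩ : U m) = line s - 1 by
      rw [line, add_sub_cancel_right, Lam38.gen]; exact (Lam38.c_var ℤ (⟨s, 0, hj⟩ : Lam38.Var (D1 m))).symm]
    exact sub_mem (Subring.subset_closure ⟨s, rfl⟩) (one_mem _)

variable {M : Submonoid L} (hM : ∀ a ∈ M, ∀ j, 2 ≤ j → LambdaOps.lam j a = 0)

include hM in
/-- Evaluation commutes with the operations. -/
theorem evL_lam (a : Fin m → L) (ha : ∀ s, a s ∈ M) (n : ℕ) (z : U m) :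
    evL a (LambdaOps.lam n z) = LambdaOps.lam n (evL a z) := by
  have key : PowerSeries.map (evL a).toRingHom (lamSeries z) = lamSeries (evL a z) := by
    induction mem_closure_monomials z using AddSubgroup.closure_induction with
    | mem w hw =>
      have hw' : evL a w ∈ M ∧ ∀ j, 2 ≤ j → LambdaOps.lam j w = 0 := by
        induction hw using Submonoid.closure_induction with
        | mem w hw =>
          obtain ⟨s, rfl⟩ := hw
          exact ⟨(evL_line a s).symm ▸ ha s, lam_line s⟩
        | one => exact ⟨(map_one (evL a)).symm ▸ one_mem M, Lam38.isSpecialZ.lam_one_eq_zero⟩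
        | mul x y _ _ hx hy =>
          exact ⟨(map_mul (evL a) x y).symm ▸ mul_mem hx.1 hy.1, lam_mul_line Lam38.isSpecialZ hx.2 hy.2⟩
      rw [Lambda37.lamSeries_eq_linear hw'.2, Lambda37.lamSeries_eq_linear (hM _ hw'.1), map_add, map_one,
        map_mul, PowerSeries.map_C, PowerSeries.map_X]
      rfl
    | zero => rw [map_zero, Lambda37.lamSeries_zero, Lambda37.lamSeries_zero, map_one]
    | add x y _ _ hx hy => rw [map_add, Lambda37.lamSeries_add, Lambda37.lamSeries_add, map_mul, hx, hy]
    | neg x _ hx =>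
      refine (Lambda37.lamSeries_isUnit (evL a x)).mul_right_cancel ?_
      rw [map_neg, ← Lambda37.lamSeries_add, neg_add_cancel, Lambda37.lamSeries_zero, ← hx, ← map_mul,
        ← Lambda37.lamSeries_add, neg_add_cancel, Lambda37.lamSeries_zero, map_one]
  have := congrArg (PowerSeries.coeff n) key
  simpa using this

end Universal

section Main

variable {L : Type v} [CommRing L] [LambdaOps L] {M : Submonoid L}
  (hM : ∀ a ∈ M, ∀ j, 2 ≤ j → LambdaOps.lam j a = 0)

theorem exists_list {x : L} (hx : x ∈ AddSubgroup.closure (M : Set L)) :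
    ∃ l : List L, (∀ a ∈ l, a ∈ M) ∧ x ∈ AddSubgroup.closure {a | a ∈ l} := by
  induction hx using AddSubgroup.closure_induction with
  | mem w hw => exact ⟨[w], fun a ha => by simp_all, AddSubgroup.subset_closure (by simp)⟩
  | zero => exact ⟨[], by simp, zero_mem _⟩
  | add x y _ _ hx hy =>
    obtain ⟨l, hl, hxl⟩ := hx
    obtain ⟨l', hl', hyl⟩ := hy
    exact ⟨l ++ l', fun a ha => (List.mem_append.1 ha).elim (hl a) (hl' a),
      add_mem (AddSubgroup.closure_mono (fun a ha => List.mem_append_left _ ha) hxl)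
        (AddSubgroup.closure_mono (fun a ha => List.mem_append_right _ ha) hyl)⟩
  | neg x _ hx =>
    obtain ⟨l, hl, hxl⟩ := hx
    exact ⟨l, hl, neg_mem hxl⟩

theorem exists_eval {x y : L} (hx : x ∈ AddSubgroup.closure (M : Set L))
    (hy : y ∈ AddSubgroup.closure (M : Set L)) :
    ∃ (m : ℕ) (a : Fin m → L) (X Y : U m), (∀ s, a s ∈ M) ∧ evL a X = x ∧ evL a Y = y := by
  obtain ⟨l, hl, hxl⟩ := exists_list hx
  obtain ⟨l', hl', hyl⟩ := exists_list hy
  let a : Fin (l ++ l').length → L := (l ++ l').get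
  have hle : AddSubgroup.closure {z | z ∈ l ++ l'} ≤ (evL a).toRingHom.toAddMonoidHom.range := by
    rw [AddSubgroup.closure_le]
    intro z hz
    obtain ⟨i, rfl⟩ := List.get_of_mem hz
    exact ⟨line i, evL_line a i⟩
  obtain ⟨X, hX⟩ := hle (AddSubgroup.closure_mono (fun a ha => List.mem_append_left _ ha) hxl)
  obtain ⟨Y, hY⟩ := hle (AddSubgroup.closure_mono (fun a ha => List.mem_append_right _ ha) hyl)
  refine ⟨_, a, X, Y, fun s => ?_, hX, hY⟩
  rcases List.mem_append.1 (List.get_mem (l ++ l') s) with h | h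
  · exact hl _ h
  · exact hl' _ h

include hM in
theorem lam_mul (n : ℕ) (P : MvPolynomial (Fin n ⊕ Fin n) ℤ) (hP : IsMulPoly n P) {x y : L}
    (hx : x ∈ AddSubgroup.closure (M : Set L)) (hy : y ∈ AddSubgroup.closure (M : Set L)) :
    LambdaOps.lam n (x * y) =
      aeval (Sum.elim (fun k : Fin n => LambdaOps.lam ((k : ℕ) + 1) x)
        (fun k : Fin n => LambdaOps.lam ((k : ℕ) + 1) y)) P := by
  obtain ⟨m, a, X, Y, ha, rfl, rfl⟩ := exists_eval hx hy
  rw [← map_mul, ← evL_lam hM a ha, Lam38.isSpecialZ.lam_mul n P hP, Lam38.map_aevalZ]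
  congr 2
  funext s
  rcases s with k | k <;> exact evL_lam hM a ha _ _

include hM in
theorem lam_lam (i j : ℕ) (Q : MvPolynomial (Fin (i * j)) ℤ) (hQ : IsCompPoly i j Q) {x : L}
    (hx : x ∈ AddSubgroup.closure (M : Set L)) :
    LambdaOps.lam j (LambdaOps.lam i x) = aeval (fun k : Fin (i * j) => LambdaOps.lam ((k : ℕ) + 1) x) Q := by
  obtain ⟨m, a, X, -, ha, rfl, -⟩ := exists_eval hx hx
  rw [← evL_lam hM a ha, ← evL_lam hM a ha, Lam38.isSpecialZ.lam_lam i j Q hQ, Lam38.map_aevalZ]
  congr 2
  exact funext fun k => evL_lam hM a ha _ _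

end Main

end Groth.Agent.KRR40.SpecialSpan
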