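import Groth.Agent.KRR40.SpecialPad
import Groth.Agent.KRR40.SpecialSpan
import Groth.Agent.PB46.Free
import Groth.Agent.S5729
import Groth.Agent.S4418
import Groth.Agent.Cyc90.Dev.KerRank
import Groth.Agent.Cyc90.Dev.BundleUniv
import Groth.Agent.KRR40.Taut

/-!
The splitting principle over a quasi-compact base, and the universal identities for the exterior power
operations on the ring of bundles.
-/

set_option autoImplicit false
set_option linter.style.haveILetI false
set_option backward.isDefEq.respectTransparency.types false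
set_option maxSynthPendingDepth 6

noncomputable section

universe v u

open CategoryTheory CategoryTheory.Limits AlgebraicGeometry LambdaRing MvPolynomial

namespace Groth.Agent.KRR40.SpecialSplit

open Groth.Agent SpecialPad

attribute [local instance] kvbRing kvbLambda

variable {X Y : Scheme.{u}}

/-- The span of the classes of modules of rank at most one. -/
def lines (X : Scheme.{u}) : Submonoid (SGA6.Kvb X) where
  carrier := {z | ∃ L, LE1 L ∧ z = KRR.cl X L}
  one_mem' := ⟨Coh.structureModule X, le1_of_rank_one (Mero90.isFinLocFreeOfRank_of_isInvertible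
    EGA73.isInvertible_structureModule), rfl⟩
  mul_mem' := by
    rintro _ _ ⟨L, hL, rfl⟩ ⟨L', hL', rfl⟩
    exact ⟨_, le1_tensor hL hL', mulK_cl hL.1 hL'.1⟩

abbrev linesSpan (X : Scheme.{u}) : AddSubgroup (SGA6.Kvb X) := AddSubgroup.closure (lines X : Set (SGA6.Kvb X))

lemma cl_mem_span {L : X.Modules} (h : LE1 L) : KRR.cl X L ∈ linesSpan X :=
  AddSubgroup.subset_closure ⟨L, h, rfl⟩

theorem lam_lines (a : SGA6.Kvb X) (ha : a ∈ lines X) (j : ℕ) (hj : 2 ≤ j) : LambdaOps.lam j a = 0 := by
  obtain ⟨L, hL, rfl⟩ := ha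
  haveI := Props58.LocFree.isQuasicoherent_of_isFinLocFree hL.1
  obtain ⟨L', hL'⟩ := FBase64.ExtPowExists.exists_isExtPow (E := L) (p := j)
  show lamK j (KRR.cl X L) = 0
  rw [lamK_cl j hL.1, lamCl_eq hL.1 hL']
  exact K0Proj46.cl_isZero (isZero_extPow hL hj hL')

lemma pullK_comp {Z : Scheme.{u}} (f : Z ⟶ Y) (g : Y ⟶ X) (z : SGA6.Kvb X) :
    pullK (f ≫ g) z = pullK f (pullK g z) :=
  DFunLike.congr_fun (hom_ext_cl (g := pullK (f ≫ g)) (g' := (pullK f).comp (pullK g)) fun F hF => by
    show _ = pullK f (pullK g _)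
    rw [pullK_cl _ hF, pullK_cl g hF, pullK_cl f (vb_pullback g hF)]
    exact (Kvb46.cl_iso ((Scheme.Modules.pullbackComp f g).app F) (vb_pullback _ (vb_pullback _ hF))).symm) z

lemma pullK_id (z : SGA6.Kvb X) : pullK (𝟙 X) z = z :=
  DFunLike.congr_fun (hom_ext_cl (g := pullK (𝟙 X)) (g' := AddMonoidHom.id _) fun F hF => by
    rw [pullK_cl _ hF]
    exact Kvb46.cl_iso ((Scheme.Modules.pullbackId X).app F) (vb_pullback _ hF)) z

lemma pullK_mem_span (f : Y ⟶ X) {z : SGA6.Kvb X} (hz : z ∈ linesSpan X) : pullK f z ∈ linesSpan Y := by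
  induction hz using AddSubgroup.closure_induction with
  | mem w hw =>
    obtain ⟨L, hL, rfl⟩ := hw
    rw [pullK_cl f hL.1]
    exact cl_mem_span (le1_pullback f hL)
  | zero => rw [map_zero]; exact zero_mem _
  | add a b _ _ ha hb => rw [map_add]; exact add_mem ha hb
  | neg a _ ha => rw [map_neg]; exact neg_mem ha

/-- The inverse image as a ring map. -/
def pullRing (f : Y ⟶ X) : SGA6.Kvb X →+* SGA6.Kvb Y :=
  { pullK f with
    map_one' := (pullK_cl f vb_str).trans
      (Kvb46.cl_iso (PicLoc.pullbackStructureIso f) (vb_pullback f vb_str))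
    map_mul' := fun a b => DFunLike.congr_fun (DFunLike.congr_fun (addHom_ext
      (g := (AddMonoidHom.compHom (pullK f)).comp mulK) (g' := (mulK.comp (pullK f)).flip.comp (pullK f) |>.flip)
      fun E hE => addHom_ext fun F hF => by
        show pullK f (mulK (KRR.cl X E) (KRR.cl X F)) = mulK (pullK f (KRR.cl X E)) (pullK f (KRR.cl X F))
        rw [mulK_cl hE hF, pullK_cl f hE, pullK_cl f hF, pullK_cl f (Kvb46.isFinLocFree_tensor hE hF),
          mulK_cl (vb_pullback f hE) (vb_pullback f hF)]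
        exact Kvb46.cl_iso (TwTens96.pullTensIso f E F) (vb_pullback f (Kvb46.isFinLocFree_tensor hE hF))) a) b }

lemma pullRing_apply (f : Y ⟶ X) (z : SGA6.Kvb X) : pullRing f z = pullK f z := rfl

/-- Generation by classes. -/
theorem mem_closure_cl (z : SGA6.Kvb X) :
    z ∈ AddSubgroup.closure {w | ∃ E, FlatMod.IsFinLocFree E ∧ w = KRR.cl X E} := by
  obtain ⟨w, rfl⟩ := QuotientAddGroup.mk_surjective z
  induction w using FreeAbelianGroup.induction_on with
  | zero => exact zero_mem _
  | of E => exact AddSubgroup.subset_closure ⟨E.1, E.2, (K0Res3.cls_eq (P := KRR.vbP X) E.2).symm⟩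
  | neg w hw => exact neg_mem hw
  | add a b ha hb => exact add_mem ha hb

/-- A ring map carrying exterior powers of classes to exterior powers commutes with the operations. -/
theorem lam_of_cl {K : Type v} [CommRing K] [LambdaOps K] (h : SGA6.Kvb X →+* K)
    (hcl : ∀ (i : ℕ) (E L : X.Modules), FlatMod.IsFinLocFree E → FlatMod.IsFinLocFree L →
      ExtPow.IsExtPow i E L → LambdaOps.lam i (h (KRR.cl X E)) = h (KRR.cl X L)) (i : ℕ) (z : SGA6.Kvb X) :
    h (LambdaOps.lam i z) = LambdaOps.lam i (h z) := by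
  have key : PowerSeries.map h (lamSeries z) = lamSeries (h z) := by
    induction mem_closure_cl z using AddSubgroup.closure_induction with
    | mem w hw =>
      obtain ⟨E, hE, rfl⟩ := hw
      ext j
      haveI := Props58.LocFree.isQuasicoherent_of_isFinLocFree hE
      obtain ⟨L, hv, hL⟩ := exists_ext E hE j
      rw [PowerSeries.coeff_map, Lambda37.coeff_lamSeries, Lambda37.coeff_lamSeries, hcl j E L hE hv hL]
      show h (lamK j (KRR.cl X E)) = _
      rw [lamK_cl j hE, lamCl_eq hE hL]
    | zero => rw [map_zero, Lambda37.lamSeries_zero, Lambda37.lamSeries_zero, map_one]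
    | add x y _ _ hx hy => rw [map_add, Lambda37.lamSeries_add, Lambda37.lamSeries_add, map_mul, hx, hy]
    | neg x _ hx =>
      refine (Lambda37.lamSeries_isUnit (h x)).mul_right_cancel ?_
      rw [map_neg, ← Lambda37.lamSeries_add, neg_add_cancel, Lambda37.lamSeries_zero, ← hx, ← map_mul,
        ← Lambda37.lamSeries_add, neg_add_cancel, Lambda37.lamSeries_zero, map_one]
  simpa using congrArg (PowerSeries.coeff i) key

theorem pullRing_lam (f : Y ⟶ X) (i : ℕ) (z : SGA6.Kvb X) :
    pullRing f (LambdaOps.lam i z) = LambdaOps.lam i (pullRing f z) := by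
  refine lam_of_cl (pullRing f) (fun j E L hE hL hp => ?_) i z
  show lamK j (pullK f (KRR.cl X E)) = pullK f (KRR.cl X L)
  haveI := Props58.LocFree.isQuasicoherent_of_isFinLocFree hE
  rw [pullK_cl f hE, pullK_cl f hL, lamK_cl j (vb_pullback f hE)]
  exact lamCl_eq (vb_pullback f hE) (Om3.isExtPow_pullback f hp)

/-- One projective bundle. -/
theorem exists_step [CompactSpace X] {r : ℕ} {E : X.Modules} (hE : FlatMod.IsFinLocFreeOfRank (r + 1) E) :
    ∃ (P : Scheme.{u}) (_ : CompactSpace P) (π : P ⟶ X) (O1 K : P.Modules),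
      Function.Injective (pullK π) ∧ FlatMod.IsFinLocFreeOfRank 1 O1 ∧ FlatMod.IsFinLocFreeOfRank r K ∧
        pullK π (KRR.cl X E) = KRR.cl P K + KRR.cl P O1 := by
  have hlf : FlatMod.IsFinLocFree E := vb_of_rank hE
  have hq : Coh.IsQCoh E := Props58.LocFree.isQuasicoherent_of_isFinLocFree hlf
  obtain ⟨𝒮, j, hj, P, π, chart, hP, O, lam, hO⟩ := EGAProj74.exists_projBundle hq
  obtain ⟨φ, hφ⟩ := EGAProj74.exists_canonical hq hj hO hP
  have hinv : PicF.IsInvertible O :=
    EGAProj74.isInvertible_of_isGenDegOne hO (EGAProj74.isGenDegOne_grSym hq hj)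
  have hG : Grass.IsGrass π E 1 O
      (((Scheme.Modules.pullbackPushforwardAdjunction π).homEquiv E O).symm φ) :=
    { rank := Mero90.isFinLocFreeOfRank_of_isInvertible hinv
      epi := EGAProj74.epi_canonical hq hj hO hφ
      univ := fun T g L hL s hs => by
        haveI := hs
        have h := EGAProj74.existsUnique_of_epi hq hj hP hO hφ g L (Cyc90.Dev.isInvertible_of_rank_one hL) s
        simpa only [Grass.quotBC, Category.assoc] using h }
  have hproj : RelProj.IsProjective π := (S5729.result π).2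
    ⟨E, 𝒮, j, P, π, chart, 𝟙 P, hq, Props58.LocFree.isFiniteType_of_isFinLocFree hlf, hj, hP,
      inferInstance, Category.id_comp _⟩
  haveI : IsProper π := (S4418.result π hproj).2
  haveI : CompactSpace ↥P := QuasiCompact.compactSpace_of_compactSpace π
  have hPB := hG.isProjBundle
  obtain ⟨Oi, -, hOi⟩ := An92.InvMod.exists_inverse hinv
  let B := PB46.ofProjBundle hE hPB hOi
  let τ : PB46.Taut B := PB46.tautOfProjBundle hE hPB hOi
  have hpl : ∀ c, PB46.PL B c = pullK π c := fun c =>
    DFunLike.congr_fun (Kvb46.hom_ext_vb (g := PB46.PL B) (g' := pullK π) fun N hN => by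
      rw [PB46.PL_cl hN]
      exact (pullK_cl π hN).symm) c
  refine ⟨P, inferInstance, π, O,
    kernel (((Scheme.Modules.pullbackPushforwardAdjunction π).homEquiv E O).symm φ), fun a b h => ?_,
    hPB.invertible, ?_, ?_⟩
  · have key : ∀ c : SGA6.Kvb X, (fun x : Fin (r + 1) → SGA6.Kvb X =>
        ∑ i : Fin (r + 1), PB46.TW B ((i : ℕ) : ℤ) (PB46.PL B (x i))) (Pi.single 0 c) = pullK π c := fun c => by
      dsimp only
      rw [Finset.sum_eq_single 0 (fun i _ hi => by rw [Pi.single_eq_of_ne hi, map_zero, map_zero])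
        (fun h => absurd (Finset.mem_univ _) h), Pi.single_eq_same, Fin.val_zero, Int.natCast_zero, PB46.TW_zero,
        hpl]
    simpa using congrFun (τ.bijective_pos.1 ((key a).trans (h.trans (key b).symm))) 0
  · haveI := hPB.epi
    exact Cyc90.Dev.isFinLocFreeOfRank_kernel (finLocFreeOfRank_pullback π hE) hinv _
  · haveI := hPB.epi
    have hS : (ShortComplex.mk (kernel.ι (((Scheme.Modules.pullbackPushforwardAdjunction π).homEquiv E O).symm φ))
        (((Scheme.Modules.pullbackPushforwardAdjunction π).homEquiv E O).symm φ) (kernel.condition _)).ShortExact :=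
      { exact := ShortComplex.exact_of_f_is_kernel _ (kernelIsKernel _) }
    rw [pullK_cl π hlf]
    exact Kvb46.cl_add _ hS
      (vb_of_rank (Cyc90.Dev.isFinLocFreeOfRank_kernel (finLocFreeOfRank_pullback π hE) hinv _))
      (vb_pullback π hlf) (vb_of_rank hPB.invertible)

/-- Splitting of a module of constant rank. -/
theorem exists_split_rank : ∀ (r : ℕ) (X : Scheme.{u}) [CompactSpace X] (E : X.Modules),
    FlatMod.IsFinLocFreeOfRank r E → ∃ (X' : Scheme.{u}) (_ : CompactSpace X') (f : X' ⟶ X),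
      Function.Injective (pullK f) ∧ pullK f (KRR.cl X E) ∈ linesSpan X' := by
  intro r
  induction r with
  | zero =>
    intro X _ E hE
    refine ⟨X, inferInstance, 𝟙 X, fun a b h => by rwa [pullK_id, pullK_id] at h, ?_⟩
    rw [pullK_id, show KRR.cl X E = 0 from K0Proj46.cl_isZero (isZero_of_rank_zero hE)]
    exact zero_mem _
  | succ r ih =>
    intro X _ E hE
    obtain ⟨P, _, π, O1, K, hinj, hO, hK, hsum⟩ := exists_step hE
    obtain ⟨X', _, f, hf, hmem⟩ := ih P K hK
    refine ⟨X', inferInstance, f ≫ π, fun a b h => hinj (hf (by rwa [← pullK_comp, ← pullK_comp])), ?_⟩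
    rw [pullK_comp, hsum, map_add]
    exact add_mem hmem (pullK_mem_span f (cl_mem_span (le1_of_rank_one hO)))

/-- Simultaneous splitting. -/
theorem exists_split : ∀ (n : ℕ) (X : Scheme.{u}) [CompactSpace X] (l : Fin n → X.Modules),
    (∀ i, FlatMod.IsFinLocFree (l i)) → ∃ (X' : Scheme.{u}) (f : X' ⟶ X),
      Function.Injective (pullK f) ∧ ∀ i, pullK f (KRR.cl X (l i)) ∈ linesSpan X' := by
  intro n
  induction n with
  | zero =>
    intro X _ l _
    exact ⟨X, 𝟙 X, fun a b h => by rwa [pullK_id, pullK_id] at h, fun i => i.elim0⟩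
  | succ n ih =>
    intro X _ l hl
    obtain ⟨N, hN⟩ := exists_rankIn (hl 0)
    obtain ⟨E', ls, hE', hls, he⟩ := exists_pad N (m := 0) (by omega) hN
    obtain ⟨X₁, _, f₁, hf₁, hm₁⟩ := exists_split_rank N X E' hE'
    obtain ⟨X', f, hf, hm⟩ := ih X₁ (fun i => (Scheme.Modules.pullback f₁).obj (l i.succ))
      fun i => vb_pullback f₁ (hl _)
    have h0 : pullK f₁ (KRR.cl X (l 0)) ∈ linesSpan X₁ := by
      rw [show KRR.cl X (l 0) = KRR.cl X E' - (ls.map fun L => KRR.cl X L).sum by rw [he, add_sub_cancel_right],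
        map_sub]
      refine sub_mem hm₁ (pullK_mem_span f₁ (list_sum_mem fun w hw => ?_))
      obtain ⟨L, hL, rfl⟩ := List.mem_map.1 hw
      exact cl_mem_span (hls L hL)
    refine ⟨X', f ≫ f₁, fun a b h => hf₁ (hf (by rwa [← pullK_comp, ← pullK_comp])), fun i => ?_⟩
    induction i using Fin.cases with
    | zero => rw [pullK_comp]; exact pullK_mem_span f h0
    | succ i => rw [pullK_comp, pullK_cl f₁ (hl _)]; exact hm i

theorem closure_mono_list {s t : List X.Modules} (h : ∀ E, E ∈ s → E ∈ t) {z : SGA6.Kvb X}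
    (hz : z ∈ AddSubgroup.closure {w : SGA6.Kvb X | ∃ E ∈ s, w = KRR.cl X E}) :
    z ∈ AddSubgroup.closure {w : SGA6.Kvb X | ∃ E ∈ t, w = KRR.cl X E} :=
  AddSubgroup.closure_mono (fun w hw => by obtain ⟨E, hE, e⟩ := hw; exact ⟨E, h E hE, e⟩) hz

theorem exists_detect [CompactSpace X] (x y : SGA6.Kvb X) :
    ∃ (X' : Scheme.{u}) (f : X' ⟶ X), Function.Injective (pullRing f) ∧
      pullRing f x ∈ linesSpan X' ∧ pullRing f y ∈ linesSpan X' := by
  have key : ∀ z : SGA6.Kvb X, ∃ s : List X.Modules, (∀ E ∈ s, FlatMod.IsFinLocFree E) ∧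
      z ∈ AddSubgroup.closure {w | ∃ E ∈ s, w = KRR.cl X E} := fun z => by
    induction mem_closure_cl z using AddSubgroup.closure_induction with
    | mem w hw =>
      obtain ⟨E, hE, rfl⟩ := hw
      exact ⟨[E], by simpa using hE, AddSubgroup.subset_closure ⟨E, by simp, rfl⟩⟩
    | zero => exact ⟨[], by simp, zero_mem _⟩
    | add a b _ _ ha hb =>
      obtain ⟨s, hs, has⟩ := ha
      obtain ⟨t, ht, hbt⟩ := hb
      exact ⟨s ++ t, fun E hE => (List.mem_append.1 hE).elim (hs E) (ht E),
        add_mem (closure_mono_list (fun E => List.mem_append_left _) has)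
          (closure_mono_list (fun E => List.mem_append_right _) hbt)⟩
    | neg a _ ha =>
      obtain ⟨s, hs, has⟩ := ha
      exact ⟨s, hs, neg_mem has⟩
  obtain ⟨s, hs, hxs⟩ := key x
  obtain ⟨t, ht, hyt⟩ := key y
  have hst : ∀ i, FlatMod.IsFinLocFree ((s ++ t).get i) := fun i =>
    (List.mem_append.1 (List.get_mem (s ++ t) i)).elim (hs _) (ht _)
  obtain ⟨X', f, hf, hm⟩ := exists_split _ X (fun i => (s ++ t).get i) hst
  have hle : AddSubgroup.closure {w | ∃ E ∈ s ++ t, w = KRR.cl X E} ≤ (linesSpan X').comap (pullK f) := by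
    rw [AddSubgroup.closure_le]
    rintro _ ⟨E, hE, rfl⟩
    obtain ⟨i, rfl⟩ := List.get_of_mem hE
    exact hm i
  exact ⟨X', f, hf, hle (closure_mono_list (fun E => List.mem_append_left _) hxs),
    hle (closure_mono_list (fun E => List.mem_append_right _) hyt)⟩

variable (X) in
theorem isSpecial_kvb [CompactSpace X] : IsSpecial (SGA6.Kvb X) where
  lam_one_eq_zero n hn := lam_lines 1 (one_mem _) n hn
  lam_mul n P hP x y := by
    obtain ⟨X', f, hf, hx, hy⟩ := exists_detect x y
    refine hf ?_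
    rw [pullRing_lam, map_mul, SpecialSpan.lam_mul (lam_lines (X := X')) n P hP hx hy, Lam38.map_aevalZ]
    congr 2
    funext s
    rcases s with k | k <;> exact (pullRing_lam f _ _).symm
  lam_lam i j Q hQ x := by
    obtain ⟨X', f, hf, hx, -⟩ := exists_detect x x
    refine hf ?_
    rw [pullRing_lam, pullRing_lam, SpecialSpan.lam_lam (lam_lines (X := X')) i j Q hQ hx, Lam38.map_aevalZ]
    congr 2
    exact funext fun k => (pullRing_lam f _ _).symm

/-- Transport to a ring with the same classes. -/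
theorem isSpecial_of_model [CompactSpace X] {K : Type v} [CommRing K] [LambdaOps K] (φ : SGA6.Kvb X →+ K)
    (hφ : Function.Bijective φ) (h1 : φ (KRR.cl X (Coh.structureModule X)) = 1)
    (hmul : ∀ E F : X.Modules, FlatMod.IsFinLocFree E → FlatMod.IsFinLocFree F →
      φ (KRR.cl X E) * φ (KRR.cl X F) = φ (KRR.cl X (((DCoh.tensorBi (X := X)).obj E).obj F)))
    (hlam : ∀ (i : ℕ) (E L : X.Modules), FlatMod.IsFinLocFree E → FlatMod.IsFinLocFree L →
      ExtPow.IsExtPow i E L → LambdaOps.lam i (φ (KRR.cl X E)) = φ (KRR.cl X L)) :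
    IsSpecial K := by
  let h : SGA6.Kvb X →+* K :=
    { φ with
      map_one' := h1
      map_mul' := fun a b => DFunLike.congr_fun (DFunLike.congr_fun (addHom_ext
        (g := (AddMonoidHom.compHom φ).comp mulK) (g' := (AddMonoidHom.mul.comp φ).flip.comp φ |>.flip)
        fun E hE => addHom_ext fun F hF => by
          show φ (mulK (KRR.cl X E) (KRR.cl X F)) = φ (KRR.cl X E) * φ (KRR.cl X F)
          rw [hmul E F hE hF, mulK_cl hE hF]
          rfl) a) b }
  have hl : ∀ (i : ℕ) (z : SGA6.Kvb X), h (LambdaOps.lam i z) = LambdaOps.lam i (h z) :=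
    lam_of_cl h hlam
  have hs := isSpecial_kvb X
  refine ⟨fun n hn => ?_, fun n P hP x y => ?_, fun i j Q hQ x => ?_⟩
  · rw [← map_one h, ← hl, hs.lam_one_eq_zero n hn, map_zero]
  · obtain ⟨a, rfl⟩ := hφ.2 x
    obtain ⟨b, rfl⟩ := hφ.2 y
    show LambdaOps.lam n (h a * h b) = aeval (Sum.elim (fun k : Fin n => LambdaOps.lam ((k : ℕ) + 1) (h a))
      (fun k : Fin n => LambdaOps.lam ((k : ℕ) + 1) (h b))) P
    rw [← map_mul, ← hl, hs.lam_mul n P hP, Lam38.map_aevalZ]
    congr 2
    funext s
    rcases s with k | k <;> exact hl _ _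
  · obtain ⟨a, rfl⟩ := hφ.2 x
    show LambdaOps.lam j (LambdaOps.lam i (h a)) = aeval (fun k : Fin (i * j) => LambdaOps.lam ((k : ℕ) + 1) (h a)) Q
    rw [← hl, ← hl, hs.lam_lam i j Q hQ, Lam38.map_aevalZ]
    congr 2
    exact funext fun k => hl _ _

end Groth.Agent.KRR40.SpecialSplit
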