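import Groth.Agent.KRR40.Splitting

/-!
The splitting principle for models of the rings of bundles.
-/

set_option autoImplicit false
set_option linter.style.haveILetI false
set_option backward.isDefEq.respectTransparency.types false

noncomputable section

universe v u

open CategoryTheory CategoryTheory.Limits AlgebraicGeometry LambdaRing

namespace Groth.Agent.KRR40

attribute [local instance] kvbRing kvbLambda

variable (hfree : FreeHyp.{u})

include hfree in
theorem splitting_property (X : Scheme.{u}) [IsNoetherian X] [ConnectedSpace ↥X]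
    (K : Type v) [CommRing K] [LambdaOps K] (P : PosStructure K) (φ : SGA6.Kvb X →+ K)
    (hK : KRR.IsModel X K P φ) (m : ℕ) (E : X.Modules) (hE : FlatMod.IsFinLocFreeOfRank m E) :
    ∃ (X' : Scheme.{u}) (_ : IsNoetherian X') (_ : ConnectedSpace ↥X') (f : X' ⟶ X)
      (K' : Type (u + 1)) (_ : CommRing K') (_ : LambdaOps K') (P' : PosStructure K')
      (φ' : SGA6.Kvb X' →+ K') (_ : KRR.IsModel X' K' P' φ') (g : K →+ K') (_ : KRR.IsPull f φ φ' g),
      Function.Injective g ∧ (∀ k : ℕ, (gammaFiltration P' k).comap g = gammaFiltration P k) ∧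
      ∃ L : Fin m → X'.Modules, (∀ j, FlatMod.IsFinLocFreeOfRank 1 (L j)) ∧
        g (φ (KRR.cl X E)) = ∑ j, φ' (KRR.cl X' (L j)) := by
  obtain ⟨X', _, _, f, L, hinj, hfil, hL, hsum⟩ := exists_split hfree m X E hE
  let g : K →+ SGA6.Kvb X' := (pullR f).toAddMonoidHom.comp (modelEquiv hK).symm.toAddMonoidHom
  have hgφ : ∀ z, g (φ z) = pullR f z := fun z => by
    show pullR f ((modelEquiv hK).symm (φ z)) = _
    rw [← modelEquiv_apply hK, RingEquiv.symm_apply_apply]
  refine ⟨X', inferInstance, inferInstance, f, SGA6.Kvb X', inferInstance, inferInstance, kvbPos X',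
    AddMonoidHom.id _, kvb_isModel X', g, fun F hF => (hgφ _).trans (pullK_cl f hF),
    hinj.comp (modelEquiv hK).symm.injective, fun k => ?_, L, hL, (hgφ _).trans hsum⟩
  ext x
  rw [AddSubgroup.mem_comap, ← gammaFiltration_model hK k x]
  show pullR f ((modelEquiv hK).symm x) ∈ _ ↔ _
  refine ⟨hfil (fun Y _ _ => hasSplitting_model hfree Y _ (kvbPos Y) _ (kvb_isModel Y)) k _,
    map_mem_gammaFiltration (pullR f) (kvb_pull f).1 (kvb_pull f).2 k⟩

end Groth.Agent.KRR40
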