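import Groth.Agent.TorMod7.Basic
import Mathlib.RingTheory.Regular.RegularSequence
import Groth.Agent.RegImm10.RegSection

/-!
Tor independence along regular sequences.
-/

set_option autoImplicit false
set_option backward.isDefEq.respectTransparency.types false
set_option linter.style.haveILetI false

noncomputable section

universe u

open CategoryTheory CategoryTheory.Limits MonoidalCategory RingTheory.Sequence
open Groth.Agent.TorMod7
open scoped TensorProduct

namespace Groth.Agent.KRR40

variable {A : Type u} [CommRing A] (B : ModuleCat.{u} A)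

/-- No higher `Tor` with `B`. -/
def TI (N : ModuleCat.{u} A) : Prop :=
  ∀ i : ℕ, IsZero (((Tor (ModuleCat.{u} A) (i + 1)).obj B).obj N)

variable {B}

lemma TI.of_iso {M N : ModuleCat.{u} A} (e : M ≅ N) (h : TI B M) : TI B N := fun i =>
  (h i).of_iso (((Tor (ModuleCat.{u} A) (i + 1)).obj B).mapIso e.symm)

lemma ti_of_projective (N : ModuleCat.{u} A) [Projective N] : TI B N := fun i =>
  ((tensoringLeft (ModuleCat.{u} A)).obj B).isZero_leftDerived_obj_projective_succ i N

lemma ti_of_isZero {N : ModuleCat.{u} A} (h : IsZero N) : TI B N :=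
  haveI : Projective N := ⟨fun {_ _} f e _ => ⟨0, h.eq_of_src _ _⟩⟩
  ti_of_projective N

lemma injective_lTensor_of_ti (S : SES (ModuleCat.{u} A)) (hP : Projective S.1.X₂) (h : TI B S.1.X₃) :
    Function.Injective (S.1.f.hom.lTensor B) :=
  (isZero_tor_one_iff B S hP).1 (h 0)

lemma ti_X₁ (S : SES (ModuleCat.{u} A)) (hP : Projective S.1.X₂) (h : TI B S.1.X₃) : TI B S.1.X₁ := fun i =>
  ShortComplex.Exact.isZero_of_both_zeros (exact₁ ((tensoringLeft (ModuleCat.{u} A)).obj B) S (i + 1))
    ((h (i + 1)).eq_of_src _ _)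
    ((((tensoringLeft (ModuleCat.{u} A)).obj B).isZero_leftDerived_obj_projective_succ i S.1.X₂).eq_of_tgt _ _)

lemma ti_X₂ (S : SES (ModuleCat.{u} A)) (h₁ : TI B S.1.X₁) (h₃ : TI B S.1.X₃) : TI B S.1.X₂ := fun i =>
  ShortComplex.Exact.isZero_of_both_zeros (exact₂ ((tensoringLeft (ModuleCat.{u} A)).obj B) S (i + 1))
    ((h₁ i).eq_of_src _ _) ((h₃ i).eq_of_tgt _ _)

lemma ti_X₃ (S : SES (ModuleCat.{u} A)) (h₁ : TI B S.1.X₁) (h₂ : TI B S.1.X₂)
    (hf : Function.Injective (S.1.f.hom.lTensor B)) : TI B S.1.X₃ := fun i => by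
  cases i with
  | succ i =>
    exact ShortComplex.Exact.isZero_of_both_zeros (exact₃ ((tensoringLeft (ModuleCat.{u} A)).obj B) S (i + 1))
      ((h₂ (i + 1)).eq_of_src _ _) ((h₁ i).eq_of_tgt _ _)
  | zero =>
    refine ShortComplex.Exact.isZero_of_both_zeros (exact₃ ((tensoringLeft (ModuleCat.{u} A)).obj B) S 0)
      ((h₂ 0).eq_of_src _ _) ?_
    show leftDerivedδ _ S 0 = 0
    haveI : Mono ((((tensoringLeft (ModuleCat.{u} A)).obj B).leftDerived 0).map S.1.f) :=
      (mono_leftDerived_zero_iff B S.1.f).2 hf
    rw [← cancel_mono ((((tensoringLeft (ModuleCat.{u} A)).obj B).leftDerived 0).map S.1.f),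
      δ_comp_map_f, zero_comp]

/-- A regular sequence on `A` which is weakly regular on `B` has no higher `Tor`. -/
theorem ti_quotient (rs : List A) (hA : IsWeaklyRegular A rs) (hB : IsWeaklyRegular B rs) :
    TI B (ModuleCat.of A (A ⧸ Ideal.ofList rs)) := by
  induction rs using List.reverseRecOn with
  | nil =>
    rw [Ideal.ofList_nil]
    haveI : Module.Free A (A ⧸ (⊥ : Ideal A)) :=
      Module.Free.of_equiv (Submodule.quotEquivOfEqBot (⊥ : Ideal A) rfl).symm
    haveI : Projective (ModuleCat.of A (A ⧸ (⊥ : Ideal A))) :=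
      (IsProjective.iff_projective (R := A) (P := A ⧸ (⊥ : Ideal A))).1 inferInstance
    exact ti_of_projective _
  | append_singleton l a ih =>
    rw [isWeaklyRegular_append_iff, isWeaklyRegular_singleton_iff] at hA hB
    specialize ih hA.1 hB.1
    let J := Ideal.ofList l
    have hJ : J ≤ Ideal.ofList (l ++ [a]) := by rw [Ideal.ofList_append]; exact le_sup_left
    have ha : IsSMulRegular (A ⧸ J) a := by
      intro x y hxy
      let e := Submodule.quotEquivOfEq (J • ⊤ : Submodule A A) J (by simp)
      apply e.symm.injective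
      exact hA.2 (by simpa using congrArg e.symm hxy)
    let μ : (A ⧸ J) →ₗ[A] (A ⧸ J) := LinearMap.lsmul A (A ⧸ J) a
    let π : (A ⧸ J) →ₗ[A] (A ⧸ Ideal.ofList (l ++ [a])) := Submodule.mapQ _ _ LinearMap.id hJ
    have w : π ∘ₗ μ = 0 := by
      ext
      show π (a • Submodule.Quotient.mk _) = 0
      rw [map_smul]
      refine (Submodule.Quotient.mk_eq_zero _).2 ?_
      rw [Ideal.ofList_append]
      show a * (1 : A) ∈ _
      exact Ideal.mem_sup_right (Ideal.mul_mem_right _ _ (Ideal.subset_span (by simp)))
    have hS : (ShortComplex.mk (ModuleCat.ofHom μ) (ModuleCat.ofHom π) (ModuleCat.hom_ext w)).ShortExact :=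
      { exact := by
          rw [ShortComplex.moduleCat_exact_iff]
          intro x hx
          obtain ⟨x, rfl⟩ := Submodule.Quotient.mk_surjective _ x
          have hx' : x ∈ Ideal.ofList (l ++ [a]) := (Submodule.Quotient.mk_eq_zero _).1 hx
          rw [Ideal.ofList_append, Ideal.ofList_singleton] at hx'
          obtain ⟨j, hj, c, hc, rfl⟩ := Submodule.mem_sup.1 hx'
          obtain ⟨c, rfl⟩ := Ideal.mem_span_singleton'.1 hc
          refine ⟨Submodule.Quotient.mk c, (Submodule.Quotient.eq _).2 ?_⟩
          rw [show a • c - (j + c * a) = -j by rw [smul_eq_mul]; ring]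
          exact neg_mem hj
        mono_f := (ModuleCat.mono_iff_injective _).2 ha
        epi_g := (ModuleCat.epi_iff_surjective _).2 fun x => by
          obtain ⟨x, rfl⟩ := Submodule.Quotient.mk_surjective _ x
          exact ⟨Submodule.Quotient.mk x, rfl⟩ }
    refine ti_X₃ ⟨_, hS⟩ ih ih ?_
    show Function.Injective (μ.lTensor B)
    let e := TensorProduct.tensorQuotEquivQuotSMul B J
    have he : ∀ z, e (μ.lTensor B z) = a • e z := fun z => by
      rw [← map_smul]
      congr 1
      induction z using TensorProduct.induction_on with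
      | zero => simp
      | tmul b x => simp [μ, TensorProduct.tmul_smul]
      | add z z' hz hz' => rw [map_add, hz, hz', smul_add]
    intro z z' h
    exact e.injective (hB.2 ((he z).symm.trans ((congrArg e h).trans (he z'))))

lemma ti_pi (M : Type u) [AddCommGroup M] [Module A M] (h : TI B (ModuleCat.of A M)) :
    ∀ k : ℕ, TI B (ModuleCat.of A (Fin k → M))
  | 0 => ti_of_isZero (ModuleCat.isZero_of_subsingleton _)
  | k + 1 => by
    have hk := ti_pi M h k
    have hS : (ShortComplex.mk (biprod.inl : ModuleCat.of A M ⟶ ModuleCat.of A M ⊞ ModuleCat.of A (Fin k → M))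
        biprod.snd biprod.inl_snd).ShortExact :=
      ShortComplex.Splitting.shortExact { r := biprod.fst, s := biprod.inr }
    exact TI.of_iso (ModuleCat.biprodIsoProd (ModuleCat.of A M) (ModuleCat.of A (Fin k → M)) ≪≫
      (Fin.consLinearEquiv A (fun _ : Fin (k + 1) => M)).toModuleIso) (ti_X₂ ⟨_, hS⟩ h hk)

/-- The rank of a free base change along a surjection of local rings counts generators. -/
theorem spanFinrank_of_isBaseChange {R S M N : Type u} [CommRing R] [IsLocalRing R] [CommRing S] [Nontrivial S]
    [Algebra R S] [AddCommGroup M] [Module R M] [Module.Finite R M] [AddCommGroup N] [Module R N] [Module S N]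
    [IsScalarTower R S N] (hs : Function.Surjective (algebraMap R S)) {β : M →ₗ[R] N} (hβ : IsBaseChange S β)
    {d : ℕ} (b : Module.Basis (Fin d) S N) : (⊤ : Submodule R M).spanFinrank = d := by
  haveI : IsLocalRing S := IsLocalRing.of_surjective' (algebraMap R S) hs
  have hsurj : Function.Surjective β := by
    intro z
    induction z using hβ.inductionOn with
    | zero => exact ⟨0, map_zero _⟩
    | tmul v => exact ⟨v, rfl⟩
    | smul c w hw =>
      obtain ⟨v, rfl⟩ := hw
      obtain ⟨r, rfl⟩ := hs c
      exact ⟨r • v, (β.map_smul r v).trans (algebraMap_smul _ r _).symm⟩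
    | add w w' hw hw' =>
      obtain ⟨v, rfl⟩ := hw
      obtain ⟨v', rfl⟩ := hw'
      exact ⟨v + v', map_add _ _ _⟩
  choose m hm using fun k => hsurj (b k)
  apply le_antisymm
  · refine le_trans (le_of_eq (congrArg Submodule.spanFinrank ?_))
      ((Submodule.spanFinrank_span_le_ncard_of_finite (Set.finite_range m)).trans
        ((Nat.card_coe_set_eq _).symm.trans_le ((Finite.card_range_le m).trans_eq (Nat.card_fin d))))
    refine (top_le_iff.1 ?_).symm
    refine Submodule.le_of_le_smul_of_le_jacobson_bot (I := RingHom.ker (algebraMap R S)) Module.Finite.fg_top ?_ ?_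
    · rw [IsLocalRing.jacobson_eq_maximalIdeal ⊥ bot_ne_top]
      exact IsLocalRing.le_maximalIdeal (RingHom.ker_ne_top _)
    intro x _
    choose r hr using fun k => hs (b.repr (β x) k)
    have hk : β (x - ∑ k, r k • m k) = 0 := by
      simp only [map_sub, map_sum, map_smul, hm, ← algebraMap_smul S (r _), hr, b.sum_repr, sub_self]
    rw [← add_sub_cancel (∑ k, r k • m k) x]
    refine Submodule.add_mem_sup (Submodule.sum_mem _ fun k _ => Submodule.smul_mem _ _ (Submodule.subset_span ⟨k, rfl⟩)) ?_
    exact RegImm10.RegSection.mem_ker_smul_of_isBaseChange hs hβ hk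
  · obtain ⟨s, hs', hspan⟩ := (Module.Finite.fg_top (R := R) (M := M)).exists_span_finset_card_eq_spanFinrank
    rw [← hs']
    have htop : Submodule.span S ((fun x => β x) '' (s : Set M)) = ⊤ := by
      rw [eq_top_iff]
      rintro z -
      obtain ⟨v, rfl⟩ := hsurj z
      have hv : v ∈ Submodule.span R (s : Set M) := by rw [hspan]; trivial
      refine (Submodule.span_le_restrictScalars R S _) ?_
      rw [← Submodule.map_span]
      exact ⟨v, hv, rfl⟩
    haveI := Module.Finite.of_basis b
    have h := finrank_le_of_span_eq_top (R := S) (v := fun x : s => β x.1) (by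
      rw [← htop, Set.range_comp' β Subtype.val]
      simp)
    rw [Module.finrank_eq_card_basis b, Fintype.card_fin] at h
    simpa using h

end Groth.Agent.KRR40
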