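import Groth.Agent.KRR40.TorInd
import Groth.Agent.KRR40.PushCl
import Groth.Agent.KRR40.Pull
import Groth.Agent.Div89.Comap
import Groth.Agent.FMK72.BaseChange
import Groth.Agent.CAlg9.RegSeq.Minimal
import Groth.Agent.Curves2.IdealFrame
import Groth.Agent.S0611
import Groth.Agent.Omega57.Diag
import Groth.Agent.KRR40.Model

/-!
Inverse images of resolvable modules under Tor independence.
-/

set_option autoImplicit false
set_option backward.isDefEq.respectTransparency.types false
set_option linter.style.haveILetI false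
set_option maxSynthPendingDepth 6

noncomputable section

universe v u

open CategoryTheory CategoryTheory.Limits AlgebraicGeometry
open Groth.Agent.DCK91 Groth.Agent.QC70
open scoped TensorProduct

namespace Groth.Agent.KRR40

section general

variable {X Y : Scheme.{u}} (f : X ⟶ Y)

/-- The stalk of the source as a module over the stalk of the target. -/
def stB (x : X) : ModuleCat.{u} (Y.presheaf.stalk (f x)) :=
  (ModuleCat.restrictScalars (f.stalkMap x).hom).obj (ModuleCat.of _ (X.presheaf.stalk x))

/-- Stalkwise Tor independence. -/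
def TIP (M : Y.Modules) : Prop := ∀ x : X, TI (stB f x) ((SP (f x)).obj M)

variable {f}

lemma tip_X₁ {S : ShortComplex Y.Modules} (hS : S.ShortExact) (h₂ : FlatMod.IsFinLocFree S.X₂)
    (h₃ : TIP f S.X₃) : TIP f S.X₁ := fun x => by
  haveI : Projective (S.map (SP (f x))).X₂ :=
    (projective_iff_hasProjectiveDimensionLE_zero _).mpr (pd_zero_of_isFinLocFree h₂ (f x))
  exact ti_X₁ ⟨_, hS.map_of_exact (SP (f x))⟩ inferInstance (h₃ x)

/-- Pull-back keeps short exact sequences ending in a Tor-independent module exact. -/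
theorem shortExact_pullback_tip {S : ShortComplex Y.Modules} (hS : S.ShortExact)
    (h₂ : FlatMod.IsFinLocFree S.X₂) (h₃ : TIP f S.X₃) : (S.map (Scheme.Modules.pullback f)).ShortExact := by
  refine shortExact_of_stalks _ fun x => ?_
  have hy := hS.map_of_exact (SP (f x))
  haveI : Projective (S.map (SP (f x))).X₂ :=
    (projective_iff_hasProjectiveDimensionLE_zero _).mpr (pd_zero_of_isFinLocFree h₂ (f x))
  haveI : (extF f x).Additive := (ModuleCat.extendRestrictScalarsAdj.{u, u, u} (f.stalkMap x).hom).left_adjoint_additive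
  haveI := (ModuleCat.extendRestrictScalarsAdj.{u, u, u} (f.stalkMap x).hom).leftAdjoint_preservesColimits
  have hinj := injective_lTensor_of_ti ⟨_, hy⟩ inferInstance (h₃ x)
  have h2 : ((S.map (SP (f x))).map (extF f x)).ShortExact :=
    { exact := ((S.map (SP (f x))).map (extF f x)).exact_of_g_is_cokernel
        (CokernelCofork.mapIsColimit _ hy.gIsCokernel (extF f x))
      mono_f := (ModuleCat.mono_iff_injective _).2 hinj
      epi_g := by haveI := hy.epi_g; exact inferInstanceAs (Epi ((extF f x).map (S.map (SP (f x))).g)) }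
  exact ShortComplex.shortExact_of_iso (S.mapNatIso (pullStalkIso f x)) h2

variable (f) [IsLocallyNoetherian X] [IsLocallyNoetherian Y] [CompactSpace Y]

/-- The pull-back of the class of a Tor-independent module. -/
theorem pullK_of_tip (hY : KRR.HasEnoughLocFree Y) : ∀ (d : ℕ) (M : Y.Modules), Coh.IsCoh M → PD d M → TIP f M →
    PC X ((Scheme.Modules.pullback f).obj M) ∧
      ∀ z : SGA6.Kvb Y, toP z = clP Y M → toP (pullK f z) = clP X ((Scheme.Modules.pullback f).obj M) := by
  intro d
  induction d with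
  | zero =>
    intro M hc hd _
    have hv : FlatMod.IsFinLocFree M := vb_iff.mpr ⟨hc, hd⟩
    refine ⟨pc_of_vb (vb_pullback f hv), fun z hz => ?_⟩
    rw [(bijective_toP hY).1 (hz.trans (toP_cl hv).symm), pullK_cl f hv, toP_cl (vb_pullback f hv)]
  | succ d ih =>
    intro M hc hd ht
    obtain ⟨E, p, hE, hp⟩ := hY M hc
    have hS := K0Res3.epiSeq_shortExact p
    have hKc := isCoh_X₁ hS (isCoh_of_vb hE) hc
    have hKd := pd_X₁_pred hS (pd_zero_of_isFinLocFree hE) hd
    obtain ⟨hKP, hK⟩ := ih _ hKc hKd (tip_X₁ hS hE ht)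
    have hS' := shortExact_pullback_tip hS hE ht
    have hv := vb_pullback f hE
    have hP := pc_X₃ hS' hKP (pc_of_vb hv)
    refine ⟨hP, fun z hz => ?_⟩
    obtain ⟨zK, hzK⟩ := (bijective_toP hY).2 (clP Y (kernel p))
    have h3 : clP Y E = clP Y (kernel p) + clP Y M :=
      K0Res3.cls_add (P := PC Y) _ hS ⟨hKc, _, hKd⟩ (pc_of_vb hE) ⟨hc, _, hd⟩
    have h4 : clP X ((Scheme.Modules.pullback f).obj E) = clP X ((Scheme.Modules.pullback f).obj (kernel p)) +
        clP X ((Scheme.Modules.pullback f).obj M) := K0Res3.cls_add (P := PC X) _ hS' hKP (pc_of_vb hv) hP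
    have e : z = KRR.cl Y E - zK := (bijective_toP hY).1 (by
      rw [map_sub, toP_cl hE, hzK, hz, h3]
      exact (add_sub_cancel_left _ _).symm)
    rw [e, map_sub, map_sub, pullK_cl f hE, toP_cl hv, hK zK hzK, h4]
    exact add_sub_cancel_left _ _

end general

section stalk

variable {X Y : Scheme.{u}} (F : X ⟶ Y) [IsClosedImmersion F]

/-- The stalks of the ideal module are the ideals of the stalks. -/
theorem exists_stalk_idealMod (p : X) : ∃ e : (ClSub.idealMod F.ker).presheaf.stalk (F p) ≃ₗ[Y.presheaf.stalk (F p)]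
    ↥(RingHom.ker (F.stalkMap p).hom), True := by
  obtain ⟨U, hxU⟩ := Div89.exists_affine_mem (F p)
  let ι := ClSub.idealModι F.ker
  let O := Coh.structureModule Y
  let g : (ClSub.idealMod F.ker).presheaf.stalk (F p) →ₗ[Y.presheaf.stalk (F p)] Y.presheaf.stalk (F p) :=
    (unitStalkEquiv (F p)).symm.toLinearMap ∘ₗ stalkLinear ι (F p)
  have hg : Function.Injective g := by
    haveI : Mono ι := equalizer.ι_mono
    exact (unitStalkEquiv (F p)).symm.injective.comp (injective_stalkMapM_of_mono ι (F p))
  have hgerm : ∀ m, g (germM _ U.1 (F p) hxU m) = Y.presheaf.germ U.1 (F p) hxU (OmegaSh.idealSect F.ker U.1 m) :=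
    fun m => (unitStalkEquiv (F p)).injective (((unitStalkEquiv (F p)).apply_symm_apply _).trans
      ((stalkMapM_germ ι hxU m).trans (unitStalkEquiv_germ hxU _).symm))
  have hrange : LinearMap.range g = (RingHom.ker (F.stalkMap p).hom : Submodule _ _) := by
    haveI := Omega57.isQuasicoherent_idealMod F.ker
    have hloc : IsLocAt (ClSub.idealMod F.ker) U.1 := isLocAt_of_isQuasicoherent _ U.2
    rw [FlatMor68.FlatInfNbhd.ker_stalkMap_closedImmersion, Div89.stalkIdeal_eq _ U _ hxU]
    apply le_antisymm
    · rintro _ ⟨v, rfl⟩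
      obtain ⟨a, m, ha, ham⟩ := stalk_exists_smul hloc U.2 hxU v
      refine (Ideal.mul_unit_mem_iff_mem _ (isUnit_germ ha)).1 ?_
      rw [mul_comm, ← smul_eq_mul, ← g.map_smul, ham, hgerm]
      exact Ideal.mem_map_of_mem _ (Curves2.idealSect_mem_ideal F.ker U m)
    · refine Ideal.map_le_iff_le_comap.2 fun r hr => ?_
      obtain ⟨m, rfl⟩ := Curves2.exists_idealSect_of_mem F.ker U hr
      exact ⟨_, hgerm m⟩
  exact ⟨(LinearEquiv.ofInjective g hg).trans (LinearEquiv.ofEq _ _ hrange), trivial⟩

/-- The ideal of a closed immersion with conormal module of rank `d` needs `d` generators. -/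
theorem spanFinrank_ker_stalkMap [IsLocallyNoetherian Y] {d : ℕ}
    (hd : FlatMod.IsFinLocFreeOfRank d (Omega.conormal F)) (p : X) :
    (RingHom.ker (F.stalkMap p).hom).spanFinrank = d := by
  obtain ⟨e, -⟩ := exists_stalk_idealMod F p
  haveI : Module.Finite (Y.presheaf.stalk (F p)) ↥(RingHom.ker (F.stalkMap p).hom) :=
    Module.Finite.iff_fg.2 (IsNoetherian.noetherian _)
  haveI := Module.Finite.equiv e.symm
  letI := (F.stalkMap p).hom.toAlgebra
  letI := Module.compHom (((Scheme.Modules.pullback F).obj (ClSub.idealMod F.ker)).presheaf.stalk p) (F.stalkMap p).hom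
  haveI : IsScalarTower (Y.presheaf.stalk (F p)) (X.presheaf.stalk p)
      (((Scheme.Modules.pullback F).obj (ClSub.idealMod F.ker)).presheaf.stalk p) :=
    IsScalarTower.of_algebraMap_smul fun r e => rfl
  have hv : FlatMod.IsFinLocFree (Omega.conormal F) := vb_of_rank hd
  haveI : Module.Free (X.presheaf.stalk p) ((Omega.conormal F).presheaf.stalk p) :=
    Props58.LocFree.free_stalk_of_isFinLocFree hv p
  haveI : (Omega.conormal F).IsFiniteType := Props58.LocFree.isFiniteType_of_isFinLocFree hv
  haveI : Module.Finite (X.presheaf.stalk p) ((Omega.conormal F).presheaf.stalk p) :=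
    Props58.LocFree.finite_stalk_of_isFiniteType p
  let b := (Module.finBasis (X.presheaf.stalk p) ((Omega.conormal F).presheaf.stalk p)).reindex
    (finCongr (rkAt_eq p hd))
  have h := spanFinrank_of_isBaseChange (F.stalkMap_surjective p) (isBaseChange_pullη F (ClSub.idealMod F.ker) p) b
  rw [← h, ← Submodule.spanFinrank_top (RingHom.ker (F.stalkMap p).hom)]
  rw [← Submodule.spanFinrank_map_eq_of_injective e.toLinearMap (p := ⊤) e.injective, Submodule.map_top,
    LinearEquiv.range]

/-- A regular immersion is cut out by a regular sequence of the expected length in each local ring. -/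
theorem exists_regular_stalk [IsLocallyNoetherian Y] (hF : Mor2.IsRegularClosedImmersion F) {d : ℕ}
    (hd : FlatMod.IsFinLocFreeOfRank d (Omega.conormal F)) (p : X) :
    ∃ a : Fin d → Y.presheaf.stalk (F p), RingTheory.Sequence.IsRegular (Y.presheaf.stalk (F p)) (List.ofFn a) ∧
      Ideal.span (Set.range a) = RingHom.ker (F.stalkMap p).hom := by
  have hreg : CInt.IsRegularIdeal (RingHom.ker (F.stalkMap p).hom) := by
    obtain ⟨U, hU, hzU, rs, hrs, hker⟩ := hF.2 p
    let W : Y.affineOpens := ⟨U, hU⟩
    have : IsNoetherianRing Γ(Y, W.1) := IsLocallyNoetherian.component_noetherian W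
    have hne : RingHom.ker (F.stalkMap p).hom ≠ ⊤ := RingHom.ker_ne_top _
    rw [FlatMor68.FlatInfNbhd.ker_stalkMap_closedImmersion, Div89.stalkIdeal_eq _ W _ hzU] at hne ⊢
    let : Algebra Γ(Y, W.1) (Y.presheaf.stalk (F p)) := Div89.stalkAlg W.1 (F p) hzU
    have := Div89.isLocalization_stalk W (F p) hzU
    have := Div89.primeAt_isPrime W (F p) hzU
    exact CAlg9.CIT.regular_map_localization (B := Γ(Y, W.1)) (I := F.ker.ideal W) (rs := rs) hrs hker.symm
      (Div89.primeAt W (F p) hzU).primeCompl (Y.presheaf.stalk (F p)) hne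
  obtain ⟨rs, hrs, hI⟩ := hreg
  have hI' : Ideal.span (Set.range rs.get) = RingHom.ker (F.stalkMap p).hom := by
    rw [← hI, Set.range_list_get]
  have hlen : rs.length = d := by
    rw [← spanFinrank_ker_stalkMap F hd p, ← hI', CAlg9.RegSeq.spanFinrank_eq rs.get (by rwa [List.ofFn_get])]
  subst hlen
  exact ⟨rs.get, by rwa [List.ofFn_get], hI'⟩

end stalk

section square

variable {X Y P M : Scheme.{u}} {F : P ⟶ M} {φ : Y ⟶ M} {f : X ⟶ Y} {ψ : X ⟶ P}
  [IsLocallyNoetherian M] [IsLocallyNoetherian Y]

/-- Direct images along `F` are Tor independent of `φ`. -/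
theorem tip_pushforward (hsq : IsPullback f ψ φ F) (hF : Mor2.IsRegularClosedImmersion F)
    (hf : Mor2.IsRegularClosedImmersion f) {d : ℕ} (hcF : FlatMod.IsFinLocFreeOfRank d (Omega.conormal F))
    (hcf : FlatMod.IsFinLocFreeOfRank d (Omega.conormal f)) {E : P.Modules} (hE : FlatMod.IsFinLocFree E) :
    TIP φ ((Scheme.Modules.pushforward F).obj E) := by
  haveI := hF.1
  haveI := hf.1
  intro x
  by_cases hy : φ x ∈ Set.range F
  swap
  · haveI : Subsingleton ((SP (φ x)).obj ((Scheme.Modules.pushforward F).obj E)) :=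
      subsingleton_stalk_pushforward F E hy
    exact ti_of_isZero (ModuleCat.isZero_of_subsingleton _)
  obtain ⟨z, rfl⟩ : x ∈ Set.range f := by
    rw [← hsq.isoPullback_hom_fst, Scheme.Hom.comp_base, TopCat.coe_comp, Set.range_comp,
      Set.range_eq_univ.mpr hsq.isoPullback.hom.surjective, Set.image_univ, Scheme.Pullback.range_fst]
    exact hy
  have hker : f.ker = F.ker.comap φ := by
    conv_lhs => rw [← hsq.isoPullback_hom_fst]
    rw [Scheme.Hom.ker_comp_of_isIso, Scheme.IdealSheafData.ker_fst_of_isClosedImmersion]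
  obtain ⟨p, hp⟩ : ∃ p : P, F p = φ (f z) := hy
  have hJ : RingHom.ker (f.stalkMap z).hom = (Div89.stalkIdeal F.ker (φ (f z))).map (φ.stalkMap (f z)).hom := by
    rw [FlatMor68.FlatInfNbhd.ker_stalkMap_closedImmersion, hker, Div89.stalkIdeal_comap]
  obtain ⟨b, hb, hbI⟩ := exists_regular_stalk f hf hcf z
  -- the data at the point `φ (f z) = F p`
  have key : ∀ (q : M), F p = q → ∀ (B : ModuleCat.{u} (M.presheaf.stalk q)),
      (∀ a : Fin d → M.presheaf.stalk q, RingTheory.Sequence.IsRegular (M.presheaf.stalk q) (List.ofFn a) →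
        Ideal.span (Set.range a) = Div89.stalkIdeal F.ker q →
          RingTheory.Sequence.IsWeaklyRegular B (List.ofFn a)) →
      TI B ((SP q).obj ((Scheme.Modules.pushforward F).obj E)) := by
    rintro q rfl B hB
    obtain ⟨a, ha, haI⟩ := exists_regular_stalk F hF hcF p
    rw [← FlatMor68.FlatInfNbhd.ker_stalkMap_closedImmersion] at hB
    have h0 := ti_quotient (B := B) _ ha.toIsWeaklyRegular (hB a ha haI)
    let R := M.presheaf.stalk (F p)
    let S := P.presheaf.stalk p
    letI : Algebra R S := (F.stalkMap p).hom.toAlgebra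
    letI : Module R (E.presheaf.stalk p) := Module.compHom _ (F.stalkMap p).hom
    haveI : IsScalarTower R S (E.presheaf.stalk p) := IsScalarTower.of_algebraMap_smul fun _ _ => rfl
    haveI : Module.Free S (E.presheaf.stalk p) := Props58.LocFree.free_stalk_of_isFinLocFree hE p
    haveI : E.IsFiniteType := Props58.LocFree.isFiniteType_of_isFinLocFree hE
    haveI : Module.Finite S (E.presheaf.stalk p) := Props58.LocFree.finite_stalk_of_isFiniteType p
    let e₁ : ((SP (F p)).obj ((Scheme.Modules.pushforward F).obj E)) ≃ₗ[R] E.presheaf.stalk p :=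
      { Equiv.ofBijective _ (bijective_pushStalk F E p) with
        map_add' := map_add _
        map_smul' := fun r e => pushStalk_smul F E p r e }
    let bb := Module.finBasis S (E.presheaf.stalk p)
    have hI : Ideal.ofList (List.ofFn a) = RingHom.ker (F.stalkMap p).hom := by
      rw [← haI, Ideal.ofList]
      congr 1
      ext z
      simp [List.mem_ofFn]
    let e₂ : (R ⧸ Ideal.ofList (List.ofFn a)) ≃ₗ[R] S :=
      (Submodule.quotEquivOfEq _ _ hI).trans
        (Ideal.quotientKerAlgEquivOfSurjective (f := Algebra.ofId R S) (F.stalkMap_surjective p)).toLinearEquiv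
    let e : (Fin (Module.finrank S (E.presheaf.stalk p)) → R ⧸ Ideal.ofList (List.ofFn a)) ≃ₗ[R]
        ((SP (F p)).obj ((Scheme.Modules.pushforward F).obj E)) :=
      (LinearEquiv.piCongrRight fun _ => e₂).trans ((bb.equivFun.symm.restrictScalars R).trans e₁.symm)
    exact TI.of_iso e.toModuleIso (ti_pi _ h0 _)
  refine key _ hp _ fun a ha haI => ?_
  letI := (φ.stalkMap (f z)).hom.toAlgebra
  show RingTheory.Sequence.IsWeaklyRegular (Y.presheaf.stalk (f z)) (List.ofFn a)
  rw [← RingTheory.Sequence.isWeaklyRegular_map_algebraMap_iff (Y.presheaf.stalk (f z)), List.map_ofFn]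
  refine (Groth.Agent.S0611.result b _ hb ?_).toIsWeaklyRegular
  rw [hbI, hJ, ← haI, Ideal.map_span, Set.range_comp]
  rfl

end square

end Groth.Agent.KRR40
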